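import Cfsg.Agent.OddHalf.D5.SixAut.ZeroEnd_m3
import Cfsg.Agent.OddHalf.SpTwoN.KappaKill
import Cfsg.Agent.OddHalf.D5.SixAut.FusEight_mg_m3
import Cfsg.Agent.OddHalf.D4.Spor.MTwentyFour_m3
import Cfsg.Agent.OddHalf.F4.EndOut_m3
import Cfsg.Agent.StdSz.Env
import Mathlib.GroupTheory.Nilpotent
import Cfsg.Agent.StdSz.SzMaps
import Cfsg.Agent.StdSz.FormAlg
import Mathlib.GroupTheory.PGroup
import Mathlib.GroupTheory.QuotientGroup.Basic
import Mathlib.LinearAlgebra.Basis.VectorSpace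
import Mathlib.Algebra.Polynomial.Roots
import Cfsg.Agent.OddHalf.D4.CommConj
import Mathlib.FieldTheory.Galois.Basic
import Mathlib.FieldTheory.Finite.GaloisField
import Mathlib.GroupTheory.Sylow
import Mathlib
import Cfsg.Agent.OddHalf.D4.SpFourEnd_m3
import Cfsg.Agent.StandardComponent.FiRedVec_mg_m3
import Cfsg.Agent.StdO8.Gen_m3
import Cfsg.Agent.UGT.Parity_m3
import Cfsg.Agent.S0243
import Cfsg.Agent.OddHalf.D7F4.Adapted_m3
import Cfsg.Agent.Lib.LocalCore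
import Cfsg.Agent.OddHalf.MM.Main_m3
import Cfsg.Agent.OddHalf.SpN.OutDefs_m3
import Cfsg.Agent.StdRank2.UTFour_m3
import Cfsg.Agent.TitsThree.StdData
import Cfsg.Agent.S0765
import Cfsg.Agent.OddHalf.D7Out.TransGen_m3
import Cfsg.Agent.OddHalf.D6.Cut_m3
import Cfsg.Agent.OddHalf.D9.EEight.CountsF_m3
import Cfsg.Agent.ClassicalGeometry.PSUAutMain
import Cfsg.Agent.S0752
import Cfsg.Agent.S0245
import Cfsg.Agent.OddHalf.D8.MainE_m3
import Cfsg.Agent.Omega.TwoF.RowM12_m3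
import Cfsg.Agent.OddHalf.Small.Sp_m3
import Cfsg.Agent.OddHalf.D6.QThree.NIB.Two_mg_m3
import Cfsg.Agent.Lib.NormalAbelian
import Cfsg.Agent.FastGrp
import Cfsg.Agent.Prune
set_option linter.all false

section
prune_inst 0x7fb0edf82fb829dedfff7e7fa6d4cffc39901fffa6dff94bbfe029ef0bdf030009c52b850de000fe0ec2621410b87803f97eeeffe26bdc7ffffd5df45ffbee4fe5f6bd08519688340fbc0ff703e0778e7f3fffffffffffffffffffffffffffbeffbfffffffff

-- part: OddHalf/SpTwoN/RowTwo
section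
prune_inst 0x4c12038044162120000180092b1001c42da000502004804007d21080005cefc62ad03a821c9a00f13481a884420350068110000900200000000200000411901a0900252061340a10406008f810080000000000000000000000000000000041004000000000
set_option linter.all false
open scoped Cfsg.Agent.FastGrp

-- merged: Cfsg.Agent.OddHalf.SpTwo.ShortSp
section

/-!
# The unipotent radical of the stabilizer of a totally isotropic line

`AU D U` : pointwise stabilizer of `U^⊥`; `FU D U` : pointwise stabilizer of `U`.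
-/

set_option autoImplicit false
set_option linter.unusedSimpArgs false
set_option linter.unusedSectionVars false

open scoped commutatorElement

namespace Cfsg.Agent.OddHalf.SpTwo

open Cfsg.Agent.StandardComponent.SpTwo

variable {X V : Type*} [Group X] [AddCommGroup V] [Module (ZMod 2) V] (D : SpData X V)

/-- pointwise stabilizer of `U` -/
def FU (U : Submodule (ZMod 2) V) : Subgroup X where
  carrier := {g | ∀ u ∈ U, D.ρ g u = u}
  one_mem' := fun u _ => D.ρ_one u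
  mul_mem' := fun {a b} ha hb u hu => by rw [D.ρ_mul, hb u hu, ha u hu]
  inv_mem' := fun {a} ha u hu => by
    have := D.ρ_inv_apply a u
    rwa [ha u hu] at this

/-- pointwise stabilizer of `U^⊥` -/
def AU (U : Submodule (ZMod 2) V) : Subgroup X := FU D (perp D U)

theorem FU_le_PU {U : Submodule (ZMod 2) V} : FU D U ≤ PU D U := by
  intro g hg u
  refine ⟨fun hu => ?_, fun hu => by rw [hg u hu]; exact hu⟩
  have h1 := (inv_mem hg : g⁻¹ ∈ FU D U) _ hu
  rw [D.ρ_inv_apply] at h1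
  rw [h1]; exact hu

theorem QU_le_FU {U : Submodule (ZMod 2) V} : QU D U ≤ FU D U := fun _ hg => hg.1

theorem AU_le_QU {U : Submodule (ZMod 2) V} (hU : U ≤ perp D U) : AU D U ≤ QU D U := by
  intro g hg
  refine ⟨fun u hu => hg u (hU hu), fun x hx => ?_⟩
  rw [hg x hx, aa]; exact zero_mem _

theorem AU_apply [Finite V] {U : Submodule (ZMod 2) V} {g : X} (hg : g ∈ AU D U) (x : V) :
    D.ρ g x + x ∈ U := by
  apply mem_of_perp D
  intro z hz
  have h1 := D.inv g z x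
  rw [hg z hz] at h1
  rw [map_add, h1, z2_add]

theorem FU_apply {U : Submodule (ZMod 2) V} {g : X} (hg : g ∈ FU D U) (x : V) :
    D.ρ g x + x ∈ perp D U := by
  intro u hu
  have h1 := D.inv g x u
  rw [hg u hu] at h1
  rw [B_add, h1, z2_add]

/-- `A_U` commutes with the pointwise stabilizer of `U` -/
theorem AU_comm [Finite V] {U : Submodule (ZMod 2) V} {a m : X} (ha : a ∈ AU D U) (hm : m ∈ FU D U) :
    a * m = m * a := by
  apply D.ext_iff
  intro x
  rw [D.ρ_mul, D.ρ_mul]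
  have h1 : D.ρ a x = x + (D.ρ a x + x) := by rw [add_comm (D.ρ a x), aac]
  have h2 : D.ρ m x = x + (D.ρ m x + x) := by rw [add_comm (D.ρ m x), aac]
  have h3 : D.ρ a (D.ρ m x) = D.ρ a x + (D.ρ m x + x) := by
    nth_rewrite 1 [h2]
    rw [map_add, ha _ (FU_apply D hm x)]
  have h4 : D.ρ m (D.ρ a x) = D.ρ m x + (D.ρ a x + x) := by
    nth_rewrite 1 [h1]
    rw [map_add, hm _ (AU_apply D ha x)]
  rw [h3, h4]
  abel

theorem AU_sq [Finite V] {U : Submodule (ZMod 2) V} (hU : U ≤ perp D U) {a : X} (ha : a ∈ AU D U) :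
    a * a = 1 := by
  apply D.ext_iff
  intro x
  have h1 : D.ρ a x = x + (D.ρ a x + x) := by rw [add_comm (D.ρ a x), aac]
  rw [D.ρ_mul, D.ρ_one]
  nth_rewrite 1 [h1]
  rw [map_add, ha _ (hU (AU_apply D ha x)), add_comm (D.ρ a x) x, ← add_assoc, add_comm (D.ρ a x) x,
    aab]

theorem AU_conj {U : Submodule (ZMod 2) V} {g x : X} (hg : g ∈ PU D U) (hx : x ∈ AU D U) :
    g * x * g⁻¹ ∈ AU D U := by
  intro y hy
  rw [D.ρ_mul, D.ρ_mul, hx _ (PU_perp D (inv_mem hg) hy), D.ρ_apply_inv]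

theorem τ_mem_AU {U : Submodule (ZMod 2) V} {u : V} (hu : u ∈ U) : D.τ u ∈ AU D U := by
  intro x hx
  rw [D.hτ, hx u hu, zero_smul, add_zero]

/-! ### lines -/

variable {D}

/-- basis of a t.i. line -/
structure IsLn (D : SpData X V) (v w : V) : Prop where
  hv : v ≠ 0
  hw : w ∉ ln v
  hvw : D.B v w = 0

namespace IsLn

variable {v w : V} (h : IsLn D v w)
include h

theorem hwv : D.B w v = 0 := by rw [D.symm]; exact h.hvw

theorem hv' : v ∉ ln w := by
  rw [mem_ln]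
  rintro (h1 | h1)
  · exact h.hv h1
  · exact h.hw (by rw [h1]; exact self_mem_ln _)

theorem hw0 : w ≠ 0 := ne_zero_of_notMem h.hw

theorem symm : IsLn D w v := ⟨h.hw0, h.hv', h.hwv⟩

theorem ti : pl v w ≤ perp D (pl v w) := pl_ti D h.hvw

theorem pl_symm : pl w v = pl v w := pl_comm w v

theorem add_ne : v + w ≠ 0 := fun h1 => h.hw (by rw [← eq_of_add _ _ h1]; exact self_mem_ln v)

theorem add_notMem : v + w ∉ ln v := fun h1 => h.hw (by
  have := add_mem (self_mem_ln v) h1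
  rwa [aac] at this)

theorem of_mem {a b : V} (ha : a ∈ pl v w) (hb : b ∈ pl v w) (ha0 : a ≠ 0) (hab : b ∉ ln a) :
    IsLn D a b := ⟨ha0, hab, h.ti ha b hb⟩

theorem pl_eq_of_mem {a b : V} (ha : a ∈ pl v w) (hb : b ∈ pl v w) (ha0 : a ≠ 0) (hab : b ∉ ln a) :
    pl a b = pl v w := by
  apply le_antisymm
  · intro x hx
    rcases mem_pl.1 hx with rfl | rfl | rfl | rfl
    · exact zero_mem _
    · exact ha
    · exact hb
    · exact add_mem ha hb
  · intro x hx
    have hb0 : b ≠ 0 := ne_zero_of_notMem hab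
    have hne : b ≠ a := fun h => hab (by rw [h]; exact self_mem_ln a)
    rw [mem_pl] at hx ha hb ⊢
    rcases hx with hx | hx | hx | hx <;> rcases ha with ha | ha | ha | ha <;>
      rcases hb with hb | hb | hb | hb <;>
      [(exact absurd ha ha0); (exact absurd ha ha0); (exact absurd ha ha0); (exact absurd ha ha0); (exact absurd hb hb0);
       (exact absurd (hb.trans ha.symm) hne); ((rw [hx, ha, hb]; left; rfl)); ((rw [hx, ha, hb]; left; rfl)); (exact absurd hb hb0);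
       ((rw [hx, ha, hb]; left; rfl)); (exact absurd (hb.trans ha.symm) hne); ((rw [hx, ha, hb]; left; rfl)); (exact absurd hb hb0);
       ((rw [hx, ha, hb]; left; rfl)); ((rw [hx, ha, hb]; left; rfl)); (exact absurd (hb.trans ha.symm) hne); (exact absurd ha ha0); (exact absurd ha ha0);
       (exact absurd ha ha0); (exact absurd ha ha0); (exact absurd hb hb0); (exact absurd (hb.trans ha.symm) hne); ((rw [hx, ha, hb]; right; left; rfl));
       ((rw [hx, ha, hb]; right; left; rfl)); (exact absurd hb hb0); ((rw [hx, ha, hb]; right; right; left; rfl)); (exact absurd (hb.trans ha.symm) hne);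
       ((rw [hx, ha, hb]; right; right; right; rw [add_comm v w, aac])); (exact absurd hb hb0); ((rw [hx, ha, hb]; right; right; left; rfl));
       ((rw [hx, ha, hb]; right; right; right; rw [aab])); (exact absurd (hb.trans ha.symm) hne); (exact absurd ha ha0); (exact absurd ha ha0);
       (exact absurd ha ha0); (exact absurd ha ha0); (exact absurd hb hb0); (exact absurd (hb.trans ha.symm) hne);
       ((rw [hx, ha, hb]; right; right; left; rfl)); ((rw [hx, ha, hb]; right; right; right; exact (aac _ _).symm)); (exact absurd hb hb0);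
       ((rw [hx, ha, hb]; right; left; rfl)); (exact absurd (hb.trans ha.symm) hne); ((rw [hx, ha, hb]; right; left; rfl)); (exact absurd hb hb0);
       ((rw [hx, ha, hb]; right; right; right; rw [add_comm v w, aab])); ((rw [hx, ha, hb]; right; right; left; rfl)); (exact absurd (hb.trans ha.symm) hne);
       (exact absurd ha ha0); (exact absurd ha ha0); (exact absurd ha ha0); (exact absurd ha ha0); (exact absurd hb hb0);
       (exact absurd (hb.trans ha.symm) hne); ((rw [hx, ha, hb]; right; right; right; rfl)); ((rw [hx, ha, hb]; right; right; left; rfl));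
       (exact absurd hb hb0); ((rw [hx, ha, hb]; right; right; right; exact add_comm _ _)); (exact absurd (hb.trans ha.symm) hne);
       ((rw [hx, ha, hb]; right; right; left; rfl)); (exact absurd hb hb0); ((rw [hx, ha, hb]; right; left; rfl)); ((rw [hx, ha, hb]; right; left; rfl));
       (exact absurd (hb.trans ha.symm) hne)]

theorem q_symm : q D w v 0 = q D v w 0 := by
  apply q_pl D h.hvw (right_mem_pl v w) (left_mem_pl v w) h.hw0 h.hv'

theorem q_of_mem {a b : V} (ha : a ∈ pl v w) (hb : b ∈ pl v w) (ha0 : a ≠ 0) (hab : b ∉ ln a) :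
    q D a b 0 = q D v w 0 := q_pl D h.hvw ha hb ha0 hab

/-- dual basis -/
theorem exists_dual [Finite V] : ∃ v' w' : V, D.B v' v = 1 ∧ D.B v' w = 0 ∧ D.B w' v = 0 ∧ D.B w' w = 1 := by
  obtain ⟨w', hw', hww⟩ := sep D h.hw
  obtain ⟨v', hv', hvv⟩ := sep D h.hv'
  exact ⟨v', w', hvv, (mem_perp_ln D).1 hv', (mem_perp_ln D).1 hw', hww⟩

theorem ext_dual {v' w' : V} (h1 : D.B v' v = 1) (h2 : D.B v' w = 0) (h3 : D.B w' v = 0) (h4 : D.B w' w = 1)
    {g k : X} (h0 : ∀ z ∈ perp D (pl v w), D.ρ g z = D.ρ k z) (hv : D.ρ g v' = D.ρ k v')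
    (hw : D.ρ g w' = D.ρ k w') : g = k := by
  apply D.ext_iff
  intro x
  have hz : x + D.B x v • v' + D.B x w • w' ∈ perp D (pl v w) := by
    rw [mem_perp_pl]
    constructor
    · rw [B_add, B_add, map_smul, LinearMap.smul_apply, map_smul, LinearMap.smul_apply, h1, h3, smul_zero,
        add_zero, smul_eq_mul, mul_one, z2_add]
    · rw [B_add, B_add, map_smul, LinearMap.smul_apply, map_smul, LinearMap.smul_apply, h2, h4, smul_zero,
        add_zero, smul_eq_mul, mul_one, z2_add]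
  have h5 := h0 _ hz
  rw [map_add, map_add, map_add, map_add, map_smul, map_smul, map_smul, map_smul, hv, hw] at h5
  exact add_right_cancel (add_right_cancel h5)

/-- `q v x e ∈ Q_ℓ` -/
theorem qv_mem {x : V} (hx : x ∈ perp D (pl v w)) (e : ZMod 2) : q D v x e ∈ QU D (pl v w) :=
  q_left_mem_QU_pl D h.hw h.hvw hx e

theorem qw_mem {x : V} (hx : x ∈ perp D (pl v w)) (e : ZMod 2) : q D w x e ∈ QU D (pl v w) :=
  q_mem_QU_pl D h.hw h.hvw hx e

/-- powers of `s` -/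
theorem sp_mem (f : ZMod 2) : q D v (f • w) 0 ∈ AU D (pl v w) := by
  intro x hx
  rw [mem_perp_pl] at hx
  have h1 : D.B (f • w) v = 0 := by rw [map_smul, LinearMap.smul_apply, h.hwv, smul_zero]
  rw [q_apply D h1, hx.1, map_smul, hx.2]; simp

theorem ac_mem (a b c : ZMod 2) : q D v (b • w) a * q D w 0 c ∈ AU D (pl v w) := by
  have hz : ∀ (u : V) (c : ZMod 2), u ∈ pl v w → q D u 0 c ∈ AU D (pl v w) := by
    intro u c hu
    rcases z2 c with rfl | rfl
    · rw [q_zero]; exact one_mem _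
    · rw [q_zero_one]; exact τ_mem_AU D hu
  have h1 : D.B (b • w) v = 0 := by rw [map_smul, LinearMap.smul_apply, h.hwv, smul_zero]
  have h2 : q D v (b • w) a = q D v (b • w) 0 * q D v 0 a := by
    rw [q_mul D h1 (B_zero D v), map_zero]; simp
  rw [h2]
  exact mul_mem (mul_mem (h.sp_mem b) (hz v a (left_mem_pl v w))) (hz w c (right_mem_pl v w))

/-- the elements of `A_ℓ` -/
theorem mem_AU_pl [Finite V] {g : X} (hg : g ∈ AU D (pl v w)) :
    ∃ a b c : ZMod 2, g = q D v (b • w) a * q D w 0 c := by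
  obtain ⟨v', w', h1, h2, h3, h4⟩ := h.exists_dual
  have hvv' : D.B v v' = 1 := by rw [D.symm]; exact h1
  have hwv' : D.B w v' = 0 := by rw [D.symm]; exact h2
  have hvw' : D.B v w' = 0 := by rw [D.symm]; exact h3
  have hww' : D.B w w' = 1 := by rw [D.symm]; exact h4
  have key : ∀ x ∈ pl v w, ∃ a b : ZMod 2, x = a • v + b • w := by
    intro x hx
    rcases mem_pl.1 hx with rfl | rfl | rfl | rfl
    · exact ⟨0, 0, by simp⟩
    · exact ⟨1, 0, by simp⟩
    · exact ⟨0, 1, by simp⟩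
    · exact ⟨1, 1, by simp⟩
  obtain ⟨a, b, hab⟩ := key _ (AU_apply D hg v')
  obtain ⟨b', c, hbc⟩ := key _ (AU_apply D hg w')
  have e1 : D.ρ g v' = v' + (a • v + b • w) := by rw [← hab, add_comm (D.ρ g v'), aac]
  have e2 : D.ρ g w' = w' + (b' • v + c • w) := by rw [← hbc, add_comm (D.ρ g w'), aac]
  have hbb : b' = b := by
    have h5 := D.inv g v' w'
    rw [e1, e2] at h5
    simp only [map_add, LinearMap.add_apply, map_smul, LinearMap.smul_apply, smul_eq_mul, D.alt, h1, h2, h3, h4,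
      hvv', hwv', hvw', hww', h.hvw, h.hwv, mul_zero, add_zero, zero_add, mul_one] at h5
    have fin : ∀ k b b' : ZMod 2, k + b + b' = k → b' = b := by decide
    exact fin _ _ _ h5
  subst hbb
  refine ⟨a, b', c, ?_⟩
  have hbv : D.B (b' • w) v = 0 := by rw [map_smul, LinearMap.smul_apply, h.hwv, smul_zero]
  apply h.ext_dual h1 h2 h3 h4
  · intro z hz
    rw [hg z hz, h.ac_mem a b' c z hz]
  · rw [e1, D.ρ_mul, q_apply D (B_zero D w), q_apply D hbv, h2]
    simp only [map_zero, zero_smul, mul_zero, add_zero, map_smul, h2, h1, smul_eq_mul, mul_one, one_smul, zero_add]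
    abel
  · rw [e2, D.ρ_mul, q_apply D (B_zero D w), q_apply D hbv, h4]
    simp only [map_zero, zero_smul, mul_zero, add_zero, map_smul, h4, h3, smul_eq_mul, mul_one, one_smul, zero_add,
      B_add, LinearMap.smul_apply, LinearMap.add_apply, h.hwv, D.alt, map_add]
    abel

/-- the elements of `Q_ℓ` -/
theorem mem_QU_pl [Finite V] {g : X} (hg : g ∈ QU D (pl v w)) :
    ∃ a b, a ∈ perp D (pl v w) ∧ b ∈ perp D (pl v w) ∧ ∃ k ∈ AU D (pl v w), g = q D v a 0 * q D w b 0 * k := by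
  obtain ⟨v', w', h1, h2, h3, h4⟩ := h.exists_dual
  have hmem : ∀ u, D.ρ g⁻¹ u + u ∈ perp D (pl v w) := fun u =>
    FU_apply D (inv_mem (QU_le_FU D hg)) u
  refine ⟨D.ρ g⁻¹ v' + v', D.ρ g⁻¹ w' + w', hmem v', hmem w', _, ?_,
    (mul_inv_cancel_left (q D v (D.ρ g⁻¹ v' + v') 0 * q D w (D.ρ g⁻¹ w' + w') 0) g).symm⟩
  set a := D.ρ g⁻¹ v' + v' with ha
  set b := D.ρ g⁻¹ w' + w' with hb
  have hva : D.B a v = 0 := ((mem_perp_pl D).1 (hmem v')).1
  have hvb : D.B b w = 0 := ((mem_perp_pl D).1 (hmem w')).2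
  -- coefficients of `ρ g z + z`
  have key : ∀ x ∈ pl v w, x = D.B x v' • v + D.B x w' • w := by
    intro x hx
    have hvv' : D.B v v' = 1 := by rw [D.symm]; exact h1
    have hwv' : D.B w v' = 0 := by rw [D.symm]; exact h2
    have hvw' : D.B v w' = 0 := by rw [D.symm]; exact h3
    have hww' : D.B w w' = 1 := by rw [D.symm]; exact h4
    rcases mem_pl.1 hx with rfl | rfl | rfl | rfl
    · rw [B_zero, B_zero]; simp
    · rw [hvv', hvw']; simp
    · rw [hwv', hww']; simp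
    · rw [B_add, B_add, hvv', hvw', hwv', hww']; simp
  have hB : ∀ z u, D.B (D.ρ g z + z) u = D.B z (D.ρ g⁻¹ u + u) := by
    intro z u
    rw [B_add, D.inv_left, map_add]
  intro z hz
  have hgz : D.ρ g z = z + (D.B z a • v + D.B z b • w) := by
    have h5 := key _ (hg.2 z hz)
    rw [hB, hB] at h5
    rw [← h5, add_comm (D.ρ g z), aac]
  have hz' := (mem_perp_pl D).1 hz
  have hk : D.ρ (q D v a 0 * q D w b 0) z = z + (D.B z a • v + D.B z b • w) := by
    rw [D.ρ_mul, q_apply D hvb, q_apply D hva]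
    have hwa : D.B w a = 0 := by rw [D.symm]; exact ((mem_perp_pl D).1 (hmem v')).2
    simp only [map_add, LinearMap.add_apply, map_smul, LinearMap.smul_apply, hz'.1, hz'.2, hwa, h.hwv, smul_zero,
      zero_smul, mul_zero, add_zero, zero_add]
    abel
  rw [D.ρ_mul, hgz, ← hk, D.ρ_inv_apply]

/-- commutators in `Q_ℓ` -/
theorem conj_qv {x y : V} (hx : x ∈ perp D (pl v w)) (hy : y ∈ perp D (pl v w)) (e e' : ZMod 2) :
    q D w y e' * q D v x e * (q D w y e')⁻¹ = q D v x e * q D v (D.B x y • w) 0 := by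
  have hx' := (mem_perp_pl D).1 hx
  have hy' := (mem_perp_pl D).1 hy
  have hvy : D.B v y = 0 := by rw [D.symm]; exact hy'.1
  have h1 : D.ρ (q D w y e') v = v := by rw [q_apply D hy'.2, hvy, h.hvw]; simp
  have h2 : D.ρ (q D w y e') x = x + D.B x y • w := by rw [q_apply D hy'.2, hx'.2]; simp
  have h3 : D.B (D.B x y • w) v = 0 := by rw [map_smul, LinearMap.smul_apply, h.hwv, smul_zero]
  rw [q_conj, h1, h2, q_mul D hx'.1 h3, map_smul, hx'.2]; simp

/-- the centralizer of `Q_ℓ` -/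
theorem mem_AU_of_commute [Finite V] {g : X} (hgv : g * D.τ v = D.τ v * g) (hgw : g * D.τ w = D.τ w * g)
    (h1 : ∀ x ∈ perp D (pl v w), g * q D v x 0 = q D v x 0 * g)
    (h2 : ∀ x ∈ perp D (pl v w), g * q D w x 0 = q D w x 0 * g) : g ∈ AU D (pl v w) := by
  intro x hx
  have hx' := (mem_perp_pl D).1 hx
  have e1 := (commute_τ_iff D).1 hgv
  have e2 := (commute_τ_iff D).1 hgw
  have h3 : D.ρ g x + x ∈ ln v := by
    have h4 := q_conj D g (v := v) (u := x) 0
    rw [h1 x hx, mul_inv_cancel_right, e1] at h4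
    have h5 : D.B (D.ρ g x) v = 0 := by rw [← e1, D.inv, hx'.1]
    exact (q_inj D h.hv h5 hx'.1 h4.symm).1
  have h3' : D.ρ g x + x ∈ ln w := by
    have h4 := q_conj D g (v := w) (u := x) 0
    rw [h2 x hx, mul_inv_cancel_right, e2] at h4
    have h5 : D.B (D.ρ g x) w = 0 := by rw [← e2, D.inv, hx'.2]
    exact (q_inj D h.hw0 h5 hx'.2 h4.symm).1
  rcases mem_ln.1 h3 with h4 | h4
  · exact eq_of_add _ _ h4
  · rw [h4] at h3'
    exact absurd h3' h.hv'

/-- `s_{v+w,x} = s_{v,x} s_{w,x}` -/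
theorem q_add {x : V} (hx : x ∈ perp D (pl v w)) : q D (v + w) x 0 = q D v x 0 * q D w x 0 := by
  have hx' := (mem_perp_pl D).1 hx
  have h1 : D.B x (v + w) = 0 := by rw [map_add, hx'.1, hx'.2, add_zero]
  have hwx : D.B w x = 0 := by rw [D.symm]; exact hx'.2
  apply D.ext_iff
  intro z
  apply ext_B D
  intro y
  rw [D.ρ_mul, q_apply D h1, q_apply D hx'.2, q_apply D hx'.1]
  simp only [map_add, LinearMap.add_apply, map_smul, LinearMap.smul_apply, smul_eq_mul, D.alt, h.hwv, hwx, hx'.1]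
  generalize D.B z x = a1
  generalize D.B z v = a2
  generalize D.B z w = a3
  generalize D.B z y = a4
  generalize D.B v y = a5
  generalize D.B w y = a6
  generalize D.B x y = a7
  revert a1 a2 a3 a4 a5 a6 a7
  decide

end IsLn

end Cfsg.Agent.OddHalf.SpTwo

end

-- merged: Cfsg.Agent.OddHalf.SpTwo.Short
section

/-!
# Existence of `y_ℓ` (short roots), first part

`g` with `t ↦ t s_ℓ`, `s_ℓ ↦ s_ℓ` normalises `Q_ℓ` and `A_ℓ`, and can be chosen to centralise `A_ℓ`.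
-/

set_option autoImplicit false
set_option linter.unusedSimpArgs false
set_option linter.unusedSectionVars false

open scoped commutatorElement

namespace Cfsg.Agent.OddHalf.SpTwo

open Cfsg.Agent.StandardComponent.SpTwo
open Cfsg.Agent.OddHalf.SpTwoN

section Sp

variable {X V : Type*} [Group X] [AddCommGroup V] [Module (ZMod 2) V] {D : SpData X V}

/-- a common neighbour in `A^⊥` -/
theorem exists_neighbour' [Finite V] (D : SpData X V) {A : Submodule (ZMod 2) V} {w w' : V} (hw : w ∉ A)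
    (hw' : w' ∉ A) : ∃ y ∈ perp D A, D.B w y = 1 ∧ D.B y w' = 1 := by
  obtain ⟨y1, hy1, h1⟩ := sep D hw
  obtain ⟨y2, hy2, h2⟩ := sep D hw'
  rcases z2 (D.B y1 w') with h3 | h3
  · rcases z2 (D.B y2 w) with h4 | h4
    · refine ⟨y1 + y2, add_mem hy1 hy2, ?_, ?_⟩
      · rw [D.symm, B_add, h1, h4, add_zero]
      · rw [B_add, h2, h3, zero_add]
    · exact ⟨y2, hy2, by rw [D.symm]; exact h4, h2⟩
  · exact ⟨y1, hy1, by rw [D.symm]; exact h1, h3⟩

/-- transitivity on the vectors of `A^⊥` outside `A` -/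
theorem trans_perp [Finite V] (D : SpData X V) {A : Submodule (ZMod 2) V} {w w' : V} (hw : w ∉ A)
    (hw' : w' ∉ A) (h : w ∈ perp D A) (h' : w' ∈ perp D A) :
    ∃ g ∈ TG D (perp D A : Set V), D.ρ g w = w' := by
  have key : ∀ a b : V, D.B a b = 1 → D.ρ (D.τ (a + b)) a = b := by
    intro a b h
    rw [D.hτ, map_add, D.alt, h, zero_add, one_smul, aac]
  obtain ⟨y, hy, h1, h2⟩ := exists_neighbour' D hw hw'
  refine ⟨D.τ (y + w') * D.τ (w + y), mul_mem (τ_mem_TG D (add_mem hy h')) (τ_mem_TG D (add_mem h hy)), ?_⟩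
  rw [D.ρ_mul, key _ _ h1, key _ _ h2]

namespace IsLn

variable {v w : V} (h : IsLn D v w)
include h

theorem sp_one : q D v ((1 : ZMod 2) • w) 0 = q D v w 0 := by rw [one_smul]

theorem s_ne_one [Finite V] : q D v w 0 ≠ 1 := by
  intro h1
  rw [← q_zero D v] at h1
  have := (q_inj D h.hv h.hwv (B_zero D v) h1).1
  rw [add_zero] at this
  exact h.hw this

theorem sp_add (e e' : ZMod 2) : q D v (e • w) 0 * q D v (e' • w) 0 = q D v ((e + e') • w) 0 := by
  have h1 : ∀ f : ZMod 2, D.B (f • w) v = 0 := fun f => by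
    rw [map_smul, LinearMap.smul_apply, h.hwv, smul_zero]
  rw [q_mul D (h1 e) (h1 e'), ← add_smul, map_smul, map_smul, LinearMap.smul_apply, D.alt]; simp

theorem sp_inj [Finite V] {e e' : ZMod 2} (h1 : q D v (e • w) 0 = q D v (e' • w) 0) : e = e' := by
  have h2 : ∀ f : ZMod 2, D.B (f • w) v = 0 := fun f => by
    rw [map_smul, LinearMap.smul_apply, h.hwv, smul_zero]
  have h3 := (q_inj D h.hv (h2 e) (h2 e') h1).1
  rw [← add_smul] at h3
  rcases z2 (e + e') with h4 | h4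
  · exact eq_of_add _ _ h4
  · rw [h4, one_smul] at h3; exact absurd h3 h.hw

/-- `τ a τ b = τ (a+b) s` for different nonzero vectors of the line -/
theorem ττ {a b : V} (ha : a ∈ pl v w) (hb : b ∈ pl v w) (ha0 : a ≠ 0) (hab : b ∉ ln a) :
    D.τ a * D.τ b = D.τ (a + b) * q D v w 0 := by
  have h1 := h.q_of_mem ha hb ha0 hab
  have h2 : D.B a b = 0 := h.ti ha b hb
  have h3 : D.τ (a + b) * (D.τ a * D.τ b) = D.τ a * D.τ b * D.τ (a + b) := by
    have e1 : D.τ (a + b) * D.τ a = D.τ a * D.τ (a + b) := D.τ_commute (by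
      rw [B_add, D.alt, D.symm, h2, add_zero])
    have e2 : D.τ (a + b) * D.τ b = D.τ b * D.τ (a + b) := D.τ_commute (by
      rw [B_add, D.alt, h2, add_zero])
    rw [← mul_assoc, e1, mul_assoc, e2, mul_assoc]
  rw [← h1, q, zero_smul, D.τ_zero, mul_one, ← h3, ← mul_assoc, D.τ_sq, one_mul]

theorem τ_sp_inj [Finite V] {a b : V} (ha : a ∈ pl v w) (hb : b ∈ pl v w) (ha0 : a ≠ 0) (hb0 : b ≠ 0)
    {e e' : ZMod 2} (h1 : D.τ a * q D v (e • w) 0 = D.τ b * q D v (e' • w) 0) : a = b ∧ e = e' := by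
  have hsp : ∀ f : ZMod 2, q D v (f • w) 0 * q D v (f • w) 0 = 1 := by
    intro f
    rw [h.sp_add, z2_add, zero_smul, q_zero]
  have h2 : D.τ b * D.τ a = q D v ((e' + e) • w) 0 := by
    rw [← h.sp_add]
    calc D.τ b * D.τ a = D.τ b * (D.τ a * q D v (e • w) 0) * q D v (e • w) 0 := by
          rw [mul_assoc, mul_assoc, hsp, mul_one]
      _ = _ := by rw [h1, ← mul_assoc, D.τ_sq, one_mul]
  by_cases hab : a = b
  · refine ⟨hab, ?_⟩
    rw [hab, D.τ_sq, ← q_zero D v, ← zero_smul (ZMod 2) w] at h2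
    have := h.sp_inj h2
    exact (eq_of_add _ _ this.symm).symm
  · exfalso
    have hab' : a ∉ ln b := notMem_ln ha0 hab
    have h3 := h.ττ hb ha hb0 hab'
    rw [h2] at h3
    rcases z2 (e' + e) with h4 | h4
    · rw [h4, zero_smul, q_zero] at h3
      -- `τ (b + a) = s`
      have h5 : D.τ b * D.τ a = 1 := by rw [h2, h4, zero_smul, q_zero]
      have h6 : D.τ b = D.τ a := by rw [← D.τ_inv a]; exact eq_inv_of_mul_eq_one_left h5
      exact hab (D.τ_injective h6).symm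
    · rw [h4, one_smul] at h3
      have h5 : D.τ (b + a) = 1 := by
        have := h3.symm
        exact mul_eq_right.1 this
      exact hab (eq_of_add _ _ (D.τ_eq_one h5)).symm

/-- cases for the elements of `A_ℓ` -/
theorem AU_cases [Finite V] {a : X} (ha : a ∈ AU D (pl v w)) :
    (∃ e : ZMod 2, a = q D v (e • w) 0) ∨
      ∃ u ∈ pl v w, u ≠ 0 ∧ ∃ e : ZMod 2, a = D.τ u * q D v (e • w) 0 := by
  obtain ⟨α, b, c, rfl⟩ := h.mem_AU_pl ha
  have h1 : D.B (b • w) v = 0 := by rw [map_smul, LinearMap.smul_apply, h.hwv, smul_zero]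
  have h2 : q D v (b • w) α = q D v 0 α * q D v (b • w) 0 := by
    rw [q_mul D (B_zero D v) h1, B_zero]; simp
  have hcw : q D v (b • w) 0 * D.τ w = D.τ w * q D v (b • w) 0 :=
    AU_comm D (h.sp_mem b) (QU_le_FU D (AU_le_QU D h.ti (τ_mem_AU D (right_mem_pl v w))))
  rcases z2 α with rfl | rfl <;> rcases z2 c with rfl | rfl
  · left
    refine ⟨b, ?_⟩
    rw [q_zero, mul_one]
  · right
    refine ⟨w, right_mem_pl v w, h.hw0, b, ?_⟩
    rw [q_zero_one, hcw]
  · right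
    refine ⟨v, left_mem_pl v w, h.hv, b, ?_⟩
    rw [q_zero, mul_one, h2, q_zero_one]
  · right
    refine ⟨v + w, add_mem (left_mem_pl v w) (right_mem_pl v w), h.add_ne, 1 + b, ?_⟩
    rw [h2, q_zero_one, q_zero_one, mul_assoc, hcw, ← mul_assoc,
      h.ττ (left_mem_pl v w) (right_mem_pl v w) h.hv h.hw, mul_assoc, ← h.sp_one, h.sp_add]

/-- `q v x e` for `x` in the line -/
theorem q_mem_AU {x : V} (hx : x ∈ pl v w) (e : ZMod 2) : q D v x e ∈ AU D (pl v w) := by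
  intro z hz
  rw [mem_perp_pl] at hz
  have hxv : D.B x v = 0 := h.ti hx v (left_mem_pl v w)
  have h1 : D.B z x = 0 := (mem_perp_pl D).2 hz x hx
  rw [q_apply D hxv, hz.1, h1]; simp

/-- `q v x 0` depends on `x` modulo the line, up to `A_ℓ` -/
theorem q_mod {x x' : V} (hx : x ∈ perp D (pl v w)) (hxx : x + x' ∈ pl v w) (e : ZMod 2) :
    ∃ a ∈ AU D (pl v w), q D v x' e = q D v x e * a := by
  have hx' := (mem_perp_pl D).1 hx
  have h1 : D.B (x + x') v = 0 := h.ti hxx v (left_mem_pl v w)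
  refine ⟨q D v (x + x') 0, h.q_mem_AU hxx 0, ?_⟩
  rw [q_mul D hx'.1 h1, aac, add_zero, hx (x + x') hxx, add_zero]

/-- converse -/
theorem mem_of_q_eq [Finite V] {x x' : V} (hx : x ∈ perp D (pl v w)) (hx' : x' ∈ perp D (pl v w))
    {e e' : ZMod 2} {a a' : X} (ha : a ∈ AU D (pl v w)) (ha' : a' ∈ AU D (pl v w))
    (h1 : q D v x e * a = q D v x' e' * a') : x + x' ∈ pl v w := by
  apply mem_of_perp D
  intro z hz
  have h2 := (ρ_eq D).1 h1 z
  have hz' := (mem_perp_pl D).1 hz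
  have hxv := ((mem_perp_pl D).1 hx).1
  have hxv' := ((mem_perp_pl D).1 hx').1
  rw [D.ρ_mul, D.ρ_mul, ha z hz, ha' z hz, q_apply D hxv, q_apply D hxv', hz'.1] at h2
  simp only [mul_zero, zero_smul, add_zero] at h2
  have h3 := add_left_cancel h2
  rw [map_add]
  rcases z2 (D.B z x + D.B z x') with h4 | h4
  · exact h4
  · exfalso
    have h5 : (D.B z x + D.B z x') • v = 0 := by rw [add_smul, h3, aa]
    rw [h4, one_smul] at h5
    exact h.hv h5

/-- elements of `Q_ℓ` acting as `⟨v⟩` on `ℓ^⊥` -/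
theorem XU_struct [Finite V] {p : X} (hp : p ∈ QU D (pl v w))
    (hp' : ∀ z ∈ perp D (pl v w), D.ρ p z + z ∈ ln v) :
    ∃ x ∈ perp D (pl v w), ∃ a ∈ AU D (pl v w), p = q D v x 0 * a := by
  obtain ⟨a, b, ha, hb, k, hk, rfl⟩ := h.mem_QU_pl hp
  refine ⟨a, ha, q D w b 0 * k, ?_, by rw [mul_assoc]⟩
  have hbl : b ∈ pl v w := by
    apply mem_of_perp D
    intro z hz
    have h1 := hp' z hz
    have hz' := (mem_perp_pl D).1 hz
    have ha' := (mem_perp_pl D).1 ha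
    have hb' := (mem_perp_pl D).1 hb
    have hwa : D.B w a = 0 := by rw [D.symm]; exact ha'.2
    rw [D.ρ_mul, D.ρ_mul, hk z hz, q_apply D hb'.2, q_apply D ha'.1] at h1
    simp only [map_add, LinearMap.add_apply, map_smul, LinearMap.smul_apply, hz'.1, hz'.2, hwa, h.hwv, smul_zero,
      zero_smul, mul_zero, add_zero, zero_add] at h1
    have e1 : z + D.B z b • w + D.B z a • v + z = D.B z b • w + D.B z a • v + (z + z) := by abel
    rw [e1, aa, add_zero] at h1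
    rcases z2 (D.B z b) with h2 | h2
    · exact h2
    · exfalso
      rw [h2, one_smul] at h1
      have h3 := add_mem h1 (Submodule.smul_mem _ (D.B z a) (self_mem_ln v))
      rw [aab] at h3
      exact h.hw h3
  have h2 := h.symm.q_mem_AU (by rw [h.pl_symm]; exact hbl) 0
  rw [h.pl_symm] at h2
  exact mul_mem h2 hk

end IsLn

end Sp

/-! ### contexts -/

variable {G V : Type*} [Group G] [AddCommGroup V] [Module (ZMod 2) V] {C : Ctx G V}
variable {v w : V} {g : G}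

theorem nrm_pl (h : IsLn C.S v w) (ht : g * C.t * g⁻¹ = C.t * (q C.S v w 0 : C.L))
    (hs : g * (q C.S v w 0 : C.L) * g⁻¹ = (q C.S v w 0 : C.L)) : Nrm C (pl v w) (q C.S v w 0) g := by
  have hfinV := C.finV
  exact ⟨fun x => commute_s_iff C.S h.hv h.hw h.hvw, q_sq C.S h.hwv 0, ht, hs⟩

theorem Nrm.symm_pl (h : IsLn C.S v w) (H : Nrm C (pl v w) (q C.S v w 0) g) :
    Nrm C (pl w v) (q C.S w v 0) g := by
  rw [h.pl_symm, h.q_symm]; exact H

theorem Nrm.of_mem_pl (h : IsLn C.S v w) (H : Nrm C (pl v w) (q C.S v w 0) g) {a b : V} (ha : a ∈ pl v w)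
    (hb : b ∈ pl v w) (ha0 : a ≠ 0) (hab : b ∉ ln a) : Nrm C (pl a b) (q C.S a b 0) g := by
  rw [h.pl_eq_of_mem ha hb ha0 hab, h.q_of_mem ha hb ha0 hab]; exact H

theorem triv_pl (h : IsLn C.S v w) : Nrm.Triv C (pl v w) := by
  have hfinV := C.finV
  intro N hN hNn x hx x0 hx0 hxx
  let N' : Subgroup C.L :=
    { carrier := {y | y ∈ PU C.S (pl v w) ∧ ((y : G) ∈ N ∨ C.t * (y : G) ∈ N)}
      one_mem' := ⟨one_mem _, Or.inl (one_mem _)⟩
      mul_mem' := by
        rintro a b ⟨ha, ha'⟩ ⟨hb, hb'⟩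
        refine ⟨mul_mem ha hb, ?_⟩
        rcases ha' with ha' | ha' <;> rcases hb' with hb' | hb'
        · left; exact mul_mem ha' hb'
        · right
          have := mul_mem ha' hb'
          rwa [← mul_assoc, t_comm, mul_assoc] at this
        · right
          have := mul_mem ha' hb'
          rwa [mul_assoc] at this
        · left
          have := mul_mem ha' hb'
          rwa [← t_comm, tt_mid] at this
      inv_mem' := by
        rintro a ⟨ha, ha'⟩
        refine ⟨inv_mem ha, ?_⟩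
        rcases ha' with ha' | ha'
        · left; exact inv_mem ha'
        · right
          have := inv_mem ha'
          rw [mul_inv_rev, C.t_inv] at this
          have h2 := t_comm C a⁻¹
          change C.t * ((a⁻¹ : C.L) : G) ∈ N
          rw [← h2]; exact this }
  have hN'p : IsPGroup 2 N' := by
    rintro ⟨y, hy, hy'⟩
    have hc : Commute C.t (y : G) := (t_comm C y).symm
    have : ∃ k, (y : G) ^ 2 ^ (k + 1) = 1 := by
      rcases hy' with hy' | hy'
      · obtain ⟨k, hk⟩ := hN ⟨_, hy'⟩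
        have hk' : (y : G) ^ 2 ^ k = 1 := congrArg Subtype.val hk
        exact ⟨k, by rw [pow_succ 2, pow_mul, hk', one_pow]⟩
      · obtain ⟨k, hk⟩ := hN ⟨_, hy'⟩
        have hk' : (C.t * (y : G)) ^ 2 ^ k = 1 := congrArg Subtype.val hk
        refine ⟨k, ?_⟩
        have h1 : (C.t * (y : G)) ^ 2 ^ (k + 1) = 1 := by rw [pow_succ 2, pow_mul, hk', one_pow]
        rw [hc.mul_pow] at h1
        have h2 : C.t ^ 2 ^ (k + 1) = 1 := by
          rw [pow_succ 2, mul_comm, pow_mul, pow_two, C.tt, one_pow]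
        rwa [h2, one_mul] at h1
    obtain ⟨k, hk⟩ := this
    exact ⟨k + 1, Subtype.ext (Subtype.ext hk)⟩
  obtain ⟨u, hu, hu0, hfix⟩ := exists_fixed_quot hN'p (C.S.ρ.comp N'.subtype) ⊥ (pl v w)
    (by
      rw [bot_lt_iff_ne_bot]
      intro h1
      have := left_mem_pl v w
      rw [h1, Submodule.mem_bot] at this
      exact h.hv this)
    (fun s x hx => by
      rw [Submodule.mem_bot] at hx ⊢
      rw [hx]; exact map_zero _)
    (fun s x hx => (s.2.1 x).2 hx)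
  have hu0' : u ≠ 0 := fun h1 => hu0 (by rw [h1]; exact zero_mem _)
  have hfix' : ∀ y ∈ N', C.S.ρ y u = u := by
    intro y hy
    have := hfix ⟨y, hy⟩
    rw [Submodule.mem_bot] at this
    exact eq_of_add _ _ this
  have hx0N : x0 ∈ N' := by
    refine ⟨hx0, ?_⟩
    rcases hxx with rfl | rfl
    · left; exact hx
    · right; exact hx
  intro u' hu'
  by_cases h0 : u' = 0
  · rw [h0, map_zero]
  by_cases h1 : u' = u
  · rw [h1]; exact hfix' x0 hx0N
  have hul : u' ∉ ln u := notMem_ln h0 h1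
  obtain ⟨m, hm, hmu, -⟩ := exists_swap C.S hu0' hul (h.ti hu u' hu')
  rw [h.pl_eq_of_mem hu hu' hu0' hul] at hm
  have h2 : m⁻¹ * x0 * m ∈ N' := by
    have hmi : m⁻¹ ∈ PU C.S (pl v w) := inv_mem hm
    refine ⟨mul_mem (mul_mem hmi hx0) hm, ?_⟩
    rcases hx0N.2 with h3 | h3
    · left
      have := hNn _ hmi _ h3
      change (m : G)⁻¹ * x0 * ((m : G)⁻¹)⁻¹ ∈ N at this
      rw [inv_inv] at this
      exact this
    · right
      have := hNn _ hmi _ h3
      change (m : G)⁻¹ * (C.t * x0) * ((m : G)⁻¹)⁻¹ ∈ N at this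
      rw [inv_inv] at this
      have e1 : (m : G)⁻¹ * (C.t * x0) * m = C.t * ((m : G)⁻¹ * x0 * m) := by
        have := t_comm C m⁻¹
        have h4 : (m : G)⁻¹ * C.t = C.t * (m : G)⁻¹ := this
        rw [← mul_assoc, h4]; group
      rw [e1] at this
      exact this
  have h3 := hfix' _ h2
  rw [C.S.ρ_mul, C.S.ρ_mul, hmu] at h3
  have h4 := congrArg (C.S.ρ m) h3
  rwa [C.S.ρ_apply_inv, hmu] at h4

theorem qv_mem_QF (h : IsLn C.S v w) (H : Nrm C (pl v w) (q C.S v w 0) g) {x : V} (hx : x ∈ perp C.S (pl v w))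
    (e : ZMod 2) : q C.S v x e ∈ H.QF := by
  have hfinV := C.finV
  have h256 := C.cardV
  -- vectors outside the line
  have h1 : ∀ y ∈ perp C.S (pl v w), y ∉ pl v w → q C.S v y 1 ∈ H.QF := by
    intro y hy hyl
    obtain ⟨u, hu, huy⟩ := sep C.S hyl
    have hu' := (mem_perp_pl C.S).1 hu
    have hy' := (mem_perp_pl C.S).1 hy
    have h2 := H.commutator_mem_QF h.ti (triv_pl h) (h.qv_mem hu 0) (τ_mem_PU C.S hy)
    rw [q_inv C.S hu'.1, C.S.τ_inv] at h2
    have h3 : q C.S v u 0 * (C.S.τ y * q C.S v u 0 * C.S.τ y) = q C.S v y 1 := by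
      have := q_comm_τ C.S hy'.1 hu'.1 (0 : ZMod 2)
      rw [huy, one_smul] at this
      rw [← this]; simp only [mul_assoc]
    rwa [h3] at h2
  obtain ⟨y, hy, hyl⟩ := room C.S h256 (A := pl v w) (A' := pl v w) (by
    have := finrank_pl_le v w; omega)
  obtain ⟨y', hy', hyl'⟩ := room C.S h256 (A := pl v w ⊔ ln y) (A' := pl v w ⊔ ln y) (by
    have := finrank_pl_le v w
    have := finrank_sup_ln_le (pl v w) y
    omega)
  rw [mem_perp_sup, mem_perp_ln] at hy'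
  have hyl'' : y' ∉ pl v w := fun h2 => hyl' (Submodule.mem_sup_left h2)
  have hyy : y + y' ∉ pl v w := fun h2 => hyl' (mem_sup_ln.2 (Or.inr (by rw [add_comm]; exact h2)))
  have hyv := ((mem_perp_pl C.S).1 hy).1
  have hyv' := ((mem_perp_pl C.S).1 hy'.1).1
  have h0 : q C.S v 0 1 ∈ H.QF := by
    have e1 : q C.S v 0 1 = q C.S v y 1 * q C.S v y' 1 * q C.S v (y + y') 1 := by
      rw [q_mul C.S hyv hyv', q_mul C.S (by rw [B_add, hyv, hyv', add_zero])
        (by rw [B_add, hyv, hyv', add_zero]), aa, C.S.alt, C.S.symm y y', hy'.2]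
      have : (1 : ZMod 2) + 1 + 0 + 1 + 0 = 1 := by decide
      rw [this]
    rw [e1]
    exact mul_mem (mul_mem (h1 y hy hyl) (h1 y' hy'.1 hyl'')) (h1 _ (add_mem hy hy'.1) hyy)
  have h0' : ∀ f : ZMod 2, q C.S v 0 f ∈ H.QF := by
    intro f
    rcases z2 f with rfl | rfl
    · rw [q_zero]; exact one_mem _
    · exact h0
  have h2 : ∀ y ∈ perp C.S (pl v w), y ∉ pl v w → ∀ f : ZMod 2, q C.S v y f ∈ H.QF := by
    intro y hy hyl f
    have e1 : q C.S v y f = q C.S v y 1 * q C.S v 0 (1 + f) := by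
      rw [q_mul C.S ((mem_perp_pl C.S).1 hy).1 (B_zero C.S v), map_zero]
      simp only [add_zero]
      rw [z2_add']
    rw [e1]; exact mul_mem (h1 y hy hyl) (h0' _)
  by_cases hxl : x ∈ pl v w
  · have hxv := ((mem_perp_pl C.S).1 hx).1
    have e1 : q C.S v x e = q C.S v (x + y) e * q C.S v y 0 := by
      have hyx : C.S.B x y = 0 := by rw [C.S.symm]; exact hy x hxl
      rw [q_mul C.S (by rw [B_add, hxv, hyv, add_zero]) hyv, aab, B_add, C.S.alt, hyx]; simp
    rw [e1]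
    refine mul_mem (h2 _ (add_mem hx hy) (fun h3 => hyl ?_) e) (h2 y hy hyl 0)
    have := add_mem hxl h3
    rwa [aac] at this
  · exact h2 x hx hxl e

theorem exists_QF (h : IsLn C.S v w) (H : Nrm C (pl v w) (q C.S v w 0) g) {x : C.L}
    (hx : x ∈ QU C.S (pl v w)) : ∃ y ∈ QU C.S (pl v w), g * (x : G) * g⁻¹ = (y : G) := by
  have hfinV := C.finV
  have hv : ∀ a ∈ perp C.S (pl v w), ∀ e, q C.S v a e ∈ H.QF := fun a ha e => qv_mem_QF h H ha e
  have hw : ∀ a ∈ perp C.S (pl v w), ∀ e, q C.S w a e ∈ H.QF := by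
    intro a ha e
    have H' := H.symm_pl h
    have h1 := qv_mem_QF h.symm H' (x := a) (by rw [h.pl_symm]; exact ha) e
    obtain ⟨h2, y, hy, hy'⟩ := h1
    rw [h.pl_symm] at h2 hy
    exact ⟨h2, y, hy, hy'⟩
  obtain ⟨a, b, ha, hb, k, hk, rfl⟩ := h.mem_QU_pl hx
  obtain ⟨α, b', c, rfl⟩ := h.mem_AU_pl hk
  have h1 : q C.S v a 0 * q C.S w b 0 * (q C.S v (b' • w) α * q C.S w 0 c) ∈ H.QF :=
    mul_mem (mul_mem (hv a ha 0) (hw b hb 0)) (mul_mem
      (hv _ (Submodule.smul_mem _ _ (h.ti (right_mem_pl v w))) α) (hw 0 (zero_mem _) c))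
  exact h1.2

/-- `g` normalises `A_ℓ` -/
theorem exists_AU (h : IsLn C.S v w) (H : Nrm C (pl v w) (q C.S v w 0) g) {x : C.L}
    (hx : x ∈ AU C.S (pl v w)) : ∃ y ∈ AU C.S (pl v w), g * (x : G) * g⁻¹ = (y : G) := by
  have hfinV := C.finV
  obtain ⟨y, hy, hy'⟩ := exists_QF h H (AU_le_QU C.S h.ti hx)
  refine ⟨y, ?_, hy'⟩
  have key : ∀ r ∈ QU C.S (pl v w), y * r = r * y := by
    intro r hr
    obtain ⟨r', hr', hrr⟩ := exists_QF h H.inv hr
    rw [inv_inv] at hrr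
    have h1 : x * r' = r' * x := AU_comm C.S hx (QU_le_FU C.S hr')
    have h1' : (x : G) * r' = r' * x := congrArg Subtype.val h1
    have h2 : (r : G) = g * r' * g⁻¹ := by rw [← hrr]; group
    apply Subtype.ext
    change (y : G) * r = r * y
    rw [← hy', h2]
    calc g * x * g⁻¹ * (g * r' * g⁻¹) = g * (x * r') * g⁻¹ := by group
      _ = _ := by rw [h1']; group
  apply h.mem_AU_of_commute
  · exact key _ (AU_le_QU C.S h.ti (τ_mem_AU C.S (left_mem_pl v w)))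
  · exact key _ (AU_le_QU C.S h.ti (τ_mem_AU C.S (right_mem_pl v w)))
  · intro x hx; exact key _ (h.qv_mem hx 0)
  · intro x hx; exact key _ (h.qw_mem hx 0)

end Cfsg.Agent.OddHalf.SpTwo

end

-- merged: Cfsg.Agent.OddHalf.SpTwo.ShortA
section

/-!
# Existence of `y_ℓ` (short roots): `g` centralising `A_ℓ`
-/

set_option autoImplicit false
set_option linter.unusedSimpArgs false
set_option linter.unusedSectionVars false

open scoped commutatorElement

namespace Cfsg.Agent.OddHalf.SpTwo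

open Cfsg.Agent.StandardComponent.SpTwo
open Cfsg.Agent.OddHalf.SpTwoN

variable {G V : Type*} [Group G] [AddCommGroup V] [Module (ZMod 2) V] {C : Ctx G V}
variable {v w : V} {g : G}

theorem sp_conj (_h : IsLn C.S v w) (H : Nrm C (pl v w) (q C.S v w 0) g) (e : ZMod 2) :
    g * (q C.S v (e • w) 0 : C.L) * g⁻¹ = (q C.S v (e • w) 0 : C.L) := by
  rcases z2 e with rfl | rfl
  · rw [zero_smul, q_zero]
    change g * (1 : G) * g⁻¹ = 1
    group
  · rw [one_smul]; exact H.hz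

/-- the image of `τ a` -/
theorem exists_τ_image (h : IsLn C.S v w) (H : Nrm C (pl v w) (q C.S v w 0) g) {a : V} (ha : a ∈ pl v w)
    (ha0 : a ≠ 0) : ∃ b ∈ pl v w, b ≠ 0 ∧ ∃ e : ZMod 2,
      g * C.b a * g⁻¹ = ((C.S.τ b * q C.S v (e • w) 0 : C.L) : G) := by
  have hfinV := C.finV
  obtain ⟨y, hy, hy'⟩ := exists_AU h H (τ_mem_AU C.S ha)
  rcases h.AU_cases hy with ⟨e, rfl⟩ | ⟨b, hb, hb0, e, rfl⟩
  · exfalso
    have h1 := hy'.trans (sp_conj h H e).symm
    have h2 : ((C.S.τ a : C.L) : G) = (q C.S v (e • w) 0 : C.L) :=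
      mul_left_cancel (mul_right_cancel h1)
    have h3 : C.S.τ a = q C.S v (e • w) 0 := Subtype.ext h2
    rcases z2 e with rfl | rfl
    · rw [zero_smul, q_zero] at h3
      exact ha0 (C.S.τ_eq_one h3)
    · rw [one_smul] at h3
      -- `τ a = s`: write `s = q a b 0 = τ a τ b τ (a+b)`
      obtain ⟨b, hb, hab⟩ : ∃ b ∈ pl v w, b ∉ ln a := by
        by_cases h4 : v ∈ ln a
        · refine ⟨w, right_mem_pl v w, fun h5 => ?_⟩
          rcases mem_ln.1 h4 with h4 | h4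
          · exact h.hv h4
          · rw [← h4] at h5; exact h.hw h5
        · exact ⟨v, left_mem_pl v w, h4⟩
      have h4 := h.ττ ha hb ha0 hab
      rw [← h3] at h4
      have h5 : C.S.τ (a + b) * C.S.τ a = C.S.τ a * C.S.τ (a + b) := C.S.τ_commute (by
        rw [B_add, C.S.alt, h.ti hb a ha, add_zero])
      rw [h5] at h4
      have h6 := C.S.τ_injective (mul_left_cancel h4)
      exact ha0 (add_eq_right.1 h6.symm)
  · exact ⟨b, hb, hb0, e, hy'⟩

/-- `g` centralises `A_ℓ` -/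
structure NrmA (C : Ctx G V) (v w : V) (g : G) : Prop where
  ln : IsLn C.S v w
  nrm : Nrm C (pl v w) (q C.S v w 0) g
  cv : g * C.b v * g⁻¹ = C.b v
  cw : g * C.b w * g⁻¹ = C.b w

theorem exists_NrmA (h : IsLn C.S v w) (H : Nrm C (pl v w) (q C.S v w 0) g) : ∃ g', NrmA C v w g' := by
  have hfinV := C.finV
  obtain ⟨a, ha, ha0, e1, he1⟩ := exists_τ_image h H (left_mem_pl v w) h.hv
  obtain ⟨b, hb, hb0, e2, he2⟩ := exists_τ_image h H (right_mem_pl v w) h.hw0
  have hsq : ∀ f : ZMod 2, q C.S v (f • w) 0 * q C.S v (f • w) 0 = 1 := by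
    intro f
    rw [h.sp_add, z2_add, zero_smul, q_zero]
  -- `a ≠ b`
  have hab : b ∉ ln a := by
    apply notMem_ln hb0
    intro h1
    rw [h1] at he2
    have h2 : g * (C.S.τ v * C.S.τ w : C.L) * g⁻¹ = ((q C.S v ((e1 + e2) • w) 0 : C.L) : G) := by
      have e3 : (C.S.τ a * q C.S v (e1 • w) 0) * (C.S.τ a * q C.S v (e2 • w) 0) = q C.S v ((e1 + e2) • w) 0 := by
        have hc : q C.S v (e1 • w) 0 * C.S.τ a = C.S.τ a * q C.S v (e1 • w) 0 :=
          AU_comm C.S (h.sp_mem e1) (QU_le_FU C.S (AU_le_QU C.S h.ti (τ_mem_AU C.S ha)))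
        calc (C.S.τ a * q C.S v (e1 • w) 0) * (C.S.τ a * q C.S v (e2 • w) 0) =
            C.S.τ a * (q C.S v (e1 • w) 0 * C.S.τ a) * q C.S v (e2 • w) 0 := by simp only [mul_assoc]
          _ = (C.S.τ a * C.S.τ a) * (q C.S v (e1 • w) 0 * q C.S v (e2 • w) 0) := by
              rw [hc]; simp only [mul_assoc]
          _ = _ := by rw [C.S.τ_sq, one_mul, h.sp_add]
      rw [← e3]
      change g * (C.b v * C.b w) * g⁻¹ = ((C.S.τ a * q C.S v (e1 • w) 0 : C.L) : G) *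
        ((C.S.τ a * q C.S v (e2 • w) 0 : C.L) : G)
      rw [← he1, ← he2]; group
    rw [← sp_conj h H (e1 + e2)] at h2
    have h3 := mul_left_cancel (mul_right_cancel h2)
    have h4 : C.S.τ v * C.S.τ w = q C.S v ((e1 + e2) • w) 0 := Subtype.ext h3
    rw [h.ττ (left_mem_pl v w) (right_mem_pl v w) h.hv h.hw, ← h.sp_one] at h4
    have h5 : C.S.τ (v + w) = q C.S v ((e1 + e2 + 1) • w) 0 := by
      rw [← h.sp_add, ← h4, mul_assoc, hsq, mul_one]
    have h6 := exists_τ_image h H (add_mem (left_mem_pl v w) (right_mem_pl v w)) h.add_ne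
    obtain ⟨c, hc, hc0, e3, he3⟩ := h6
    have h7 : C.b (v + w) = (q C.S v ((e1 + e2 + 1) • w) 0 : C.L) := congrArg Subtype.val h5
    rw [h7, sp_conj h H] at he3
    have h8 : q C.S v ((e1 + e2 + 1) • w) 0 = C.S.τ c * q C.S v (e3 • w) 0 := Subtype.ext he3
    have h9 : C.S.τ c * q C.S v (e3 • w) 0 = C.S.τ (v + w) * q C.S v ((0 : ZMod 2) • w) 0 := by
      rw [← h8, h5, h.sp_add, add_zero]
    have h10 := h.τ_sp_inj hc (add_mem (left_mem_pl v w) (right_mem_pl v w)) hc0 h.add_ne h9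
    -- then `τ (v+w)` is a power of `s`
    have h11 : C.S.τ v * q C.S v ((0 : ZMod 2) • w) 0 = C.S.τ w * q C.S v ((e1 + e2) • w) 0 := by
      rw [zero_smul, q_zero, mul_one]
      have : C.S.τ v = C.S.τ w * (C.S.τ v * C.S.τ w) := by
        have hcm : C.S.τ v * C.S.τ w = C.S.τ w * C.S.τ v := C.S.τ_commute h.hvw
        rw [hcm, ← mul_assoc, C.S.τ_sq, one_mul]
      rw [this, h.ττ (left_mem_pl v w) (right_mem_pl v w) h.hv h.hw, ← h.sp_one, h4]
    have h12 := h.τ_sp_inj (left_mem_pl v w) (right_mem_pl v w) h.hv h.hw0 h11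
    exact h.hw (by rw [← h12.1]; exact self_mem_ln v)
  -- adjust
  obtain ⟨m, hmv, hmw⟩ := trans_pl C.S h.hv h.hw h.hvw ha0 hab (h.ti ha b hb)
  have hmP : m ∈ PU C.S (pl v w) := mem_PU_pl C.S (by rw [hmv]; exact ha) (by rw [hmw]; exact hb)
  have hmi : m⁻¹ ∈ PU C.S (pl v w) := inv_mem hmP
  have H1 : Nrm C (pl v w) (q C.S v w 0) ((m : G)⁻¹ * g) := H.mul_left hmi
  have hms : ∀ f : ZMod 2, m * q C.S v (f • w) 0 = q C.S v (f • w) 0 * m := by
    intro f
    rcases z2 f with rfl | rfl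
    · rw [zero_smul, q_zero, mul_one, one_mul]
    · rw [one_smul]; exact (H.cz m).2 hmP
  have himg : ∀ (x y : V) (f : ZMod 2), g * C.b x * g⁻¹ = ((C.S.τ y * q C.S v (f • w) 0 : C.L) : G) →
      C.S.ρ m x = y → ((m : G)⁻¹ * g) * C.b x * ((m : G)⁻¹ * g)⁻¹ = ((C.S.τ x * q C.S v (f • w) 0 : C.L) : G) := by
    intro x y f h1 h2
    have h3 : m⁻¹ * (C.S.τ y * q C.S v (f • w) 0) * m = C.S.τ x * q C.S v (f • w) 0 := by
      have h4 : m⁻¹ * C.S.τ y * m = C.S.τ x := by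
        rw [← h2, ← C.S.conj_τ]; group
      calc m⁻¹ * (C.S.τ y * q C.S v (f • w) 0) * m = m⁻¹ * C.S.τ y * (q C.S v (f • w) 0 * m) := by
            simp only [mul_assoc]
        _ = m⁻¹ * C.S.τ y * m * q C.S v (f • w) 0 := by rw [← hms]; simp only [mul_assoc]
        _ = _ := by rw [h4]
    rw [← h3]
    change _ = (m : G)⁻¹ * ((C.S.τ y * q C.S v (f • w) 0 : C.L) : G) * m
    rw [← h1]; group
  have i1 := himg v a e1 he1 hmv
  have i2 := himg w b e2 he2 hmw
  -- the image of `τ (v+w)`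
  have hcs : ∀ (a b : V) (f f' : ZMod 2), a ∈ pl v w → b ∈ pl v w →
      (C.S.τ a * q C.S v (f • w) 0) * (C.S.τ b * q C.S v (f' • w) 0) =
        C.S.τ a * C.S.τ b * q C.S v ((f + f') • w) 0 := by
    intro a b f f' ha hb
    have hc : q C.S v (f • w) 0 * C.S.τ b = C.S.τ b * q C.S v (f • w) 0 :=
      AU_comm C.S (h.sp_mem f) (QU_le_FU C.S (AU_le_QU C.S h.ti (τ_mem_AU C.S hb)))
    calc (C.S.τ a * q C.S v (f • w) 0) * (C.S.τ b * q C.S v (f' • w) 0) =
        C.S.τ a * (q C.S v (f • w) 0 * C.S.τ b) * q C.S v (f' • w) 0 := by simp only [mul_assoc]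
      _ = C.S.τ a * C.S.τ b * (q C.S v (f • w) 0 * q C.S v (f' • w) 0) := by rw [hc]; simp only [mul_assoc]
      _ = _ := by rw [h.sp_add]
  set k := (m : G)⁻¹ * g with hk
  have hs1 := sp_conj h H1 1
  have i3 : k * C.b (v + w) * k⁻¹ = ((C.S.τ (v + w) * q C.S v ((e1 + e2) • w) 0 : C.L) : G) := by
    have e3 : C.S.τ (v + w) = C.S.τ v * C.S.τ w * q C.S v ((1 : ZMod 2) • w) 0 := by
      rw [h.ττ (left_mem_pl v w) (right_mem_pl v w) h.hv h.hw, h.sp_one, mul_assoc,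
        q_sq C.S h.hwv, mul_one]
    have e4 : C.S.τ (v + w) * q C.S v ((e1 + e2) • w) 0 =
        (C.S.τ v * q C.S v (e1 • w) 0) * (C.S.τ w * q C.S v (e2 • w) 0) * q C.S v ((1 : ZMod 2) • w) 0 := by
      rw [hcs v w e1 e2 (left_mem_pl v w) (right_mem_pl v w), e3]
      have hc : q C.S v ((1 : ZMod 2) • w) 0 * q C.S v ((e1 + e2) • w) 0 =
          q C.S v ((e1 + e2) • w) 0 * q C.S v ((1 : ZMod 2) • w) 0 := by
        rw [h.sp_add, h.sp_add, add_comm]
      rw [mul_assoc _ (q C.S v ((1 : ZMod 2) • w) 0), hc, ← mul_assoc]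
    have e5 : C.b (v + w) = C.b v * C.b w * (q C.S v ((1 : ZMod 2) • w) 0 : C.L) := congrArg Subtype.val e3
    rw [e4, e5]
    change k * (C.b v * C.b w * (q C.S v ((1 : ZMod 2) • w) 0 : C.L)) * k⁻¹ =
      ((C.S.τ v * q C.S v (e1 • w) 0 : C.L) : G) * ((C.S.τ w * q C.S v (e2 • w) 0 : C.L) : G) *
        ((q C.S v ((1 : ZMod 2) • w) 0 : C.L) : G)
    rw [← i1, ← i2, ← hs1]
    have : k⁻¹ * (k * ((q C.S v ((1 : ZMod 2) • w) 0 : C.L) : G) * k⁻¹) * k =
      ((q C.S v ((1 : ZMod 2) • w) 0 : C.L) : G) := by group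
    rw [hs1] at this
    rw [hs1]
    calc k * (C.b v * C.b w * (q C.S v ((1 : ZMod 2) • w) 0 : C.L)) * k⁻¹ =
        k * C.b v * k⁻¹ * (k * C.b w * k⁻¹) * (k * (q C.S v ((1 : ZMod 2) • w) 0 : C.L) * k⁻¹) := by group
      _ = _ := by rw [hs1]
  -- equivariance
  have heq : ∀ b ∈ pl v w, b ∉ ln v → ∀ f : ZMod 2,
      k * C.b b * k⁻¹ = ((C.S.τ b * q C.S v (f • w) 0 : C.L) : G) → f = e1 := by
    intro b hb hbl f hf
    obtain ⟨n, hn, hnv, hnb⟩ := exists_swap C.S h.hv hbl (h.ti (left_mem_pl v w) b hb)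
    rw [h.pl_eq_of_mem (left_mem_pl v w) hb h.hv hbl] at hn
    obtain ⟨n', hn', hnn⟩ := H1.exists_PU hn
    have h1 := conj_lift C hnn (C.S.τ v * q C.S v (e1 • w) 0)
    rw [← i1] at h1
    have h2 : k * (n : G) * k⁻¹ * (k * C.b v * k⁻¹) * (k * (n : G) * k⁻¹)⁻¹ = k * C.b b * k⁻¹ := by
      have h3 : (n : G) * C.b v * (n : G)⁻¹ = C.b b := by rw [C.b_conj, hnv]
      rw [← h3]; group
    rw [h2, hf] at h1
    have h3 : C.S.τ b * q C.S v (f • w) 0 = n' * (C.S.τ v * q C.S v (e1 • w) 0) * n'⁻¹ := Subtype.ext h1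
    have h4 : n' * (C.S.τ v * q C.S v (e1 • w) 0) * n'⁻¹ = C.S.τ (C.S.ρ n' v) * q C.S v (e1 • w) 0 := by
      have h5 : n' * q C.S v (e1 • w) 0 = q C.S v (e1 • w) 0 * n' := by
        rcases z2 e1 with h6 | h6
        · rw [h6, zero_smul, q_zero, mul_one, one_mul]
        · rw [h6, one_smul]; exact (H.cz n').2 hn'
      rw [← C.S.conj_τ]
      calc n' * (C.S.τ v * q C.S v (e1 • w) 0) * n'⁻¹ =
          n' * C.S.τ v * n'⁻¹ * (n' * q C.S v (e1 • w) 0) * n'⁻¹ := by group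
        _ = _ := by rw [h5]; group
    rw [h4] at h3
    have hnv0 : C.S.ρ n' v ≠ 0 := by
      intro h5
      rw [← map_zero (C.S.ρ n')] at h5
      exact h.hv (C.S.ρ_inj n' h5)
    exact (h.τ_sp_inj hb ((hn' v).2 (left_mem_pl v w)) (ne_zero_of_notMem hbl) hnv0 h3).2
  have f1 := heq w (right_mem_pl v w) h.hw e2 i2
  have f2 := heq (v + w) (add_mem (left_mem_pl v w) (right_mem_pl v w)) h.add_notMem (e1 + e2) i3
  have f3 : e1 = 0 := by
    rw [f1, z2_add] at f2; exact f2.symm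
  rw [f1, f3] at i2
  rw [f3] at i1
  rw [zero_smul, q_zero, mul_one] at i1 i2
  exact ⟨k, h, H1, i1, i2⟩

end Cfsg.Agent.OddHalf.SpTwo

end

-- merged: Cfsg.Agent.OddHalf.SpTwo.ShortX
section

/-!
# Existence of `y_ℓ` (short roots): the action on `Q_ℓ / A_ℓ`

If `g` centralises `A_ℓ` then `g s_{λ,x} g⁻¹ ∈ s_{λ,f x} A_ℓ` with an isometry `f` of `ℓ^⊥/ℓ`.
-/

set_option autoImplicit false
set_option linter.unusedSimpArgs false
set_option linter.unusedSectionVars false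

open scoped commutatorElement

namespace Cfsg.Agent.OddHalf.SpTwo

open Cfsg.Agent.StandardComponent.SpTwo
open Cfsg.Agent.OddHalf.SpTwoN

theorem q_act {X V : Type*} [Group X] [AddCommGroup V] [Module (ZMod 2) V] (D : SpData X V) {v x z : V}
    (hx : D.B x v = 0) (hz : D.B z v = 0) (e : ZMod 2) : D.ρ (q D v x e) z = z + D.B z x • v := by
  rw [q_apply D hx, hz]; simp

variable {G V : Type*} [Group G] [AddCommGroup V] [Module (ZMod 2) V] {C : Ctx G V}
variable {v w : V} {g : G}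

namespace NrmA

theorem comm_AU (hN : NrmA C v w g) {a : C.L} (ha : a ∈ AU C.S (pl v w)) : g * (a : G) * g⁻¹ = a := by
  have hfinV := C.finV
  obtain ⟨α, b, c, rfl⟩ := hN.ln.mem_AU_pl ha
  have h1 : C.S.B (b • w) v = 0 := by rw [map_smul, LinearMap.smul_apply, hN.ln.hwv, smul_zero]
  have h2 : q C.S v (b • w) α = q C.S v 0 α * q C.S v (b • w) 0 := by
    rw [q_mul C.S (B_zero C.S v) h1, B_zero]; simp
  have e1 : g * (q C.S v 0 α : C.L) * g⁻¹ = (q C.S v 0 α : C.L) := by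
    rcases z2 α with rfl | rfl
    · rw [q_zero]
      change g * (1 : G) * g⁻¹ = 1
      group
    · rw [q_zero_one]; exact hN.cv
  have e2 : g * (q C.S w 0 c : C.L) * g⁻¹ = (q C.S w 0 c : C.L) := by
    rcases z2 c with rfl | rfl
    · rw [q_zero]
      change g * (1 : G) * g⁻¹ = 1
      group
    · rw [q_zero_one]; exact hN.cw
  have e3 := sp_conj hN.ln hN.nrm b
  rw [h2]
  change g * (((q C.S v 0 α : C.L) : G) * (q C.S v (b • w) 0 : C.L) * (q C.S w 0 c : C.L)) * g⁻¹ =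
    ((q C.S v 0 α : C.L) : G) * (q C.S v (b • w) 0 : C.L) * (q C.S w 0 c : C.L)
  calc g * (((q C.S v 0 α : C.L) : G) * (q C.S v (b • w) 0 : C.L) * (q C.S w 0 c : C.L)) * g⁻¹ =
      (g * (q C.S v 0 α : C.L) * g⁻¹) * (g * (q C.S v (b • w) 0 : C.L) * g⁻¹) *
        (g * (q C.S w 0 c : C.L) * g⁻¹) := by group
    _ = _ := by rw [e1, e2, e3]

theorem comm_b (hN : NrmA C v w g) {a : V} (ha : a ∈ pl v w) : g * C.b a * g⁻¹ = C.b a :=
  hN.comm_AU (τ_mem_AU C.S ha)

theorem symm (hN : NrmA C v w g) : NrmA C w v g :=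
  ⟨hN.ln.symm, hN.nrm.symm_pl hN.ln, hN.cw, hN.cv⟩

theorem of_mem (hN : NrmA C v w g) {a b : V} (ha : a ∈ pl v w) (hb : b ∈ pl v w) (ha0 : a ≠ 0)
    (hab : b ∉ SpTwo.ln a) : NrmA C a b g :=
  ⟨hN.ln.of_mem ha hb ha0 hab, hN.nrm.of_mem_pl hN.ln ha hb ha0 hab, hN.comm_b ha, hN.comm_b hb⟩

theorem inv (hN : NrmA C v w g) : NrmA C v w g⁻¹ := by
  refine ⟨hN.ln, hN.nrm.inv, ?_, ?_⟩
  · rw [inv_inv]
    calc g⁻¹ * C.b v * g = g⁻¹ * (g * C.b v * g⁻¹) * g := by rw [hN.cv]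
      _ = _ := by group
  · rw [inv_inv]
    calc g⁻¹ * C.b w * g = g⁻¹ * (g * C.b w * g⁻¹) * g := by rw [hN.cw]
      _ = _ := by group

/-- the image of an element of the stabilizer acts on the line in the same way -/
theorem exists_PU (hN : NrmA C v w g) {m : C.L} (hm : m ∈ PU C.S (pl v w)) :
    ∃ k ∈ PU C.S (pl v w), (g * (m : G) * g⁻¹ = (k : G) ∨ g * (m : G) * g⁻¹ = C.t * (k : G)) ∧
      ∀ u ∈ pl v w, C.S.ρ k u = C.S.ρ m u := by
  obtain ⟨k, hk, hk'⟩ := hN.nrm.exists_PU hm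
  refine ⟨k, hk, hk', fun u hu => ?_⟩
  have h1 := conj_lift C hk' (C.S.τ u)
  have h2 : g * (m : G) * g⁻¹ * ((C.S.τ u : C.L) : G) * (g * (m : G) * g⁻¹)⁻¹ = (C.S.τ (C.S.ρ m u) : C.L) := by
    have e1 := hN.inv.comm_b hu
    rw [inv_inv] at e1
    have e2 := hN.comm_b ((hm u).2 hu)
    have e3 := C.b_conj m u
    calc g * (m : G) * g⁻¹ * C.b u * (g * (m : G) * g⁻¹)⁻¹ = g * (m * (g⁻¹ * C.b u * g) * (m : G)⁻¹) * g⁻¹ := by
          group
      _ = _ := by rw [e1, e3, e2]; rfl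
  rw [h2, C.S.conj_τ] at h1
  exact (C.S.τ_injective (Subtype.ext h1)).symm

/-- `g` normalises `X_v = {q v x e} A_ℓ` -/
theorem exists_X (hN : NrmA C v w g) {x : V} (hx : x ∈ perp C.S (pl v w)) :
    ∃ x' ∈ perp C.S (pl v w), ∃ a ∈ AU C.S (pl v w),
      g * (q C.S v x 0 : C.L) * g⁻¹ = ((q C.S v x' 0 * a : C.L) : G) := by
  have hfinV := C.finV
  have h := hN.ln
  have hx' := (mem_perp_pl C.S).1 hx
  obtain ⟨p, hp, hp'⟩ := exists_QF h hN.nrm (h.qv_mem hx 0)
  by_cases hX : ∀ z ∈ perp C.S (pl v w), C.S.ρ p z + z ∈ SpTwo.ln v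
  · obtain ⟨x', hx', a, ha, rfl⟩ := h.XU_struct hp hX
    exact ⟨x', hx', a, ha, hp'⟩
  exfalso
  have hX' := hX
  push Not at hX'
  obtain ⟨z0, hz0, hz0'⟩ := hX'
  have hxl : x ∉ pl v w := by
    intro hxl
    have h1 := hN.comm_AU (h.q_mem_AU hxl 0)
    have h2 : p = q C.S v x 0 := Subtype.ext (hp'.symm.trans h1)
    rw [h2, h.q_mem_AU hxl 0 z0 hz0, aa] at hz0'
    exact hz0' (zero_mem _)
  -- the element `m`
  obtain ⟨u, hu, huw⟩ := sep C.S h.hw
  rw [mem_perp_ln] at hu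
  have hvu : C.S.B v u = 0 := by rw [C.S.symm]; exact hu
  set m : C.L := q C.S v u 0 with hmdef
  have hmv : C.S.ρ m v = v := by rw [hmdef, q_apply C.S hu, hvu, C.S.alt]; simp
  have hmw : C.S.ρ m w = w + v := by rw [hmdef, q_apply C.S hu, h.hwv, C.S.symm w u, huw]; simp
  have hmm : m * m = 1 := q_sq C.S hu 0
  have hminv : m⁻¹ = m := q_inv C.S hu 0
  have hmP : m ∈ PU C.S (pl v w) := mem_PU_pl C.S (by rw [hmv]; exact left_mem_pl v w)
    (by rw [hmw]; exact add_mem (right_mem_pl v w) (left_mem_pl v w))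
  have hmz : ∀ z ∈ perp C.S (pl v w), C.S.ρ m z + z ∈ SpTwo.ln v := by
    intro z hz
    rw [hmdef, q_act C.S hu ((mem_perp_pl C.S).1 hz).1]
    have : z + C.S.B z u • v + z = C.S.B z u • v + (z + z) := by abel
    rw [this, aa, add_zero]
    exact Submodule.smul_mem _ _ (self_mem_ln v)
  obtain ⟨m0, hm0, hm0', hm0u⟩ := hN.inv.exists_PU hmP
  rw [inv_inv] at hm0'
  have hm0v : C.S.ρ m0 v = v := by rw [hm0u v (left_mem_pl v w), hmv]
  set p1 := p * (m * p⁻¹ * m⁻¹) with hp1def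
  have hp1 : p1 ∈ QU C.S (pl v w) := mul_mem hp (QU_conj C.S hmP (inv_mem hp))
  set x1 := x + C.S.ρ m0 x with hx1def
  have hm0x : C.S.ρ m0 x ∈ perp C.S (pl v w) := PU_perp C.S hm0 hx
  have hx1 : x1 ∈ perp C.S (pl v w) := add_mem hx hm0x
  have hx1' := (mem_perp_pl C.S).1 hx1
  set e1 := C.S.B x (C.S.ρ m0 x) with he1
  have hr : q C.S v x 0 * (m0 * (q C.S v x 0)⁻¹ * m0⁻¹) = q C.S v x1 e1 := by
    rw [q_inv C.S hx'.1, q_conj, hm0v, q_mul C.S hx'.1 ((mem_perp_pl C.S).1 hm0x).1]; simp [hx1def, he1]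
  have hΦr : g * (q C.S v x1 e1 : C.L) * g⁻¹ = (p1 : G) := by
    rw [← hr]
    have h1 := conj_lift C hm0' (q C.S v x 0)⁻¹
    change g * (((q C.S v x 0 : C.L) : G) * ((m0 * (q C.S v x 0)⁻¹ * m0⁻¹ : C.L) : G)) * g⁻¹ =
      (p : G) * ((m : G) * (p : G)⁻¹ * (m : G)⁻¹)
    rw [← h1, ← hp']
    change g * (((q C.S v x 0 : C.L) : G) * (g⁻¹ * (m : G) * g * ((q C.S v x 0 : C.L) : G)⁻¹ *
      (g⁻¹ * (m : G) * g)⁻¹)) * g⁻¹ = _
    group
  have hact : ∀ z ∈ perp C.S (pl v w), C.S.ρ p1 z + z = (C.S.ρ p z + z) + C.S.ρ m (C.S.ρ p z + z) := by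
    intro z hz
    set l := C.S.ρ p z + z with hl
    have hll : l ∈ pl v w := hp.2 z hz
    have hpz : C.S.ρ p z = z + l := by rw [hl, add_comm (C.S.ρ p z), aac]
    have hpiz : C.S.ρ p⁻¹ z = z + l := by
      have h1 : C.S.ρ p (z + l) = z := by
        rw [map_add, hpz, hp.1 l hll, aab]
      have h2 := congrArg (C.S.ρ p⁻¹) h1
      rw [C.S.ρ_inv_apply] at h2
      exact h2.symm
    set μ := C.S.ρ m z + z with hμ
    have hμl : μ ∈ pl v w := by rw [pl_eq]; exact Submodule.mem_sup_left (hmz z hz)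
    have hmz' : C.S.ρ m z = z + μ := by rw [hμ, add_comm (C.S.ρ m z), aac]
    have hmμ : C.S.ρ m μ = μ := by
      rcases mem_ln.1 (hmz z hz) with h1 | h1 <;> rw [← hμ] at h1
      · rw [h1]; exact map_zero _
      · rw [h1, hmv]
    have hpi := inv_mem hp
    have hpim : C.S.ρ p⁻¹ μ = μ := hpi.1 μ hμl
    have hml : C.S.ρ m l ∈ pl v w := (hmP l).2 hll
    have s1 : C.S.ρ p⁻¹ (C.S.ρ m z) = z + l + μ := by rw [hmz', map_add, hpiz, hpim]
    have s2 : C.S.ρ m (z + l + μ) = z + C.S.ρ m l := by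
      rw [map_add, map_add, hmz', hmμ]
      have : z + μ + C.S.ρ m l + μ = z + C.S.ρ m l + (μ + μ) := by abel
      rw [this, aa, add_zero]
    have s3 : C.S.ρ p (z + C.S.ρ m l) = z + l + C.S.ρ m l := by rw [map_add, hpz, hp.1 _ hml]
    rw [hp1def, hminv, C.S.ρ_mul, C.S.ρ_mul, C.S.ρ_mul, s1, s2, s3]
    have e0 : z + l + C.S.ρ m l + z = l + C.S.ρ m l + (z + z) := by abel
    rw [e0, aa, add_zero]
  have hlm : ∀ l ∈ pl v w, l + C.S.ρ m l ∈ SpTwo.ln v ∧ (l ∉ SpTwo.ln v → l + C.S.ρ m l = v) := by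
    intro l hl
    rcases mem_pl.1 hl with rfl | rfl | rfl | rfl
    · rw [map_zero, add_zero]
      exact ⟨zero_mem _, fun h1 => absurd (zero_mem _) h1⟩
    · rw [hmv, aa]
      exact ⟨zero_mem _, fun h1 => absurd (self_mem_ln _) h1⟩
    · rw [hmw, aac]
      exact ⟨self_mem_ln v, fun _ => rfl⟩
    · rw [map_add, hmv, hmw]
      have : v + w + (v + (w + v)) = v + (v + v) + (w + w) := by abel
      rw [this, aa, aa, add_zero, add_zero]
      exact ⟨self_mem_ln v, fun _ => rfl⟩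
  have hp1z0 : C.S.ρ p1 z0 + z0 = v := by
    rw [hact z0 hz0]
    exact (hlm _ (hp.2 z0 hz0)).2 hz0'
  have hx1l : x1 ∉ pl v w := by
    intro hx1l
    have h1 := hN.comm_AU (h.q_mem_AU hx1l e1)
    have h2 : p1 = q C.S v x1 e1 := Subtype.ext (hΦr.symm.trans h1)
    rw [h2, h.q_mem_AU hx1l e1 z0 hz0, aa] at hp1z0
    exact h.hv hp1z0.symm
  obtain ⟨k, hk, hkx⟩ := trans_perp C.S hx1l hxl hx1 hx
  have hkP : k ∈ PU C.S (pl v w) := TG_le_PU C.S hk
  have hkv : C.S.ρ k v = v := TG_fix C.S hk (left_mem_pl v w)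
  obtain ⟨k0, hk0, hk0', hk0u⟩ := hN.exists_PU hkP
  have hk0v : C.S.ρ k0 v = v := by rw [hk0u v (left_mem_pl v w), hkv]
  have h0 : g * (q C.S v 0 e1 : C.L) * g⁻¹ = (q C.S v 0 e1 : C.L) :=
    hN.comm_AU (h.q_mem_AU (zero_mem _) e1)
  have hqx : k * (q C.S v x1 e1 * q C.S v 0 e1) * k⁻¹ = q C.S v x 0 := by
    have e0 : q C.S v x1 e1 * q C.S v 0 e1 = q C.S v x1 0 := by
      rw [q_mul C.S hx1'.1 (B_zero C.S v), map_zero, add_zero, z2_add]; simp
    rw [e0, q_conj, hkv, hkx]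
  have hpk : p = k0 * (p1 * q C.S v 0 e1) * k0⁻¹ := by
    apply Subtype.ext
    rw [← hp', ← hqx]
    have h1 := conj_lift C hk0' (p1 * q C.S v 0 e1)
    rw [← h1]
    change g * ((k : G) * (((q C.S v x1 e1 : C.L) : G) * (q C.S v 0 e1 : C.L)) * (k : G)⁻¹) * g⁻¹ =
      g * (k : G) * g⁻¹ * ((p1 : G) * (q C.S v 0 e1 : C.L)) * (g * (k : G) * g⁻¹)⁻¹
    rw [← hΦr]
    calc g * ((k : G) * (((q C.S v x1 e1 : C.L) : G) * (q C.S v 0 e1 : C.L)) * (k : G)⁻¹) * g⁻¹ =
        g * (k : G) * g⁻¹ * ((g * (q C.S v x1 e1 : C.L) * g⁻¹) * (g * (q C.S v 0 e1 : C.L) * g⁻¹)) *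
          (g * (k : G) * g⁻¹)⁻¹ := by group
      _ = _ := by rw [h0]
  apply hX
  intro z hz
  have hk0i : k0⁻¹ ∈ PU C.S (pl v w) := inv_mem hk0
  set z' := C.S.ρ k0⁻¹ z with hz'
  have hz'P : z' ∈ perp C.S (pl v w) := PU_perp C.S hk0i hz
  have h1 : C.S.ρ p1 z' + z' ∈ SpTwo.ln v := by
    rw [hact z' hz'P]
    exact (hlm _ (hp.2 z' hz'P)).1
  have h2 : C.S.ρ p1 z' = z' + (C.S.ρ p1 z' + z') := by rw [add_comm (C.S.ρ p1 z'), aac]
  have h3 : C.S.ρ k0 (C.S.ρ p1 z' + z') = C.S.ρ p1 z' + z' := by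
    rcases mem_ln.1 h1 with h4 | h4
    · rw [h4]; exact map_zero _
    · rw [h4, hk0v]
  have h4 : C.S.ρ k0 z' = z := C.S.ρ_apply_inv k0 z
  have hq0 : C.S.ρ (q C.S v 0 e1) z' = z' := by
    rw [q_act C.S (B_zero C.S v) ((mem_perp_pl C.S).1 hz'P).1, map_zero, zero_smul, add_zero]
  rw [hpk, C.S.ρ_mul, C.S.ρ_mul, C.S.ρ_mul, ← hz', hq0, h2, map_add, h4, h3]
  have e0 : z + (C.S.ρ p1 z' + z') + z = (C.S.ρ p1 z' + z') + (z + z) := by abel
  rw [e0, aa, add_zero]
  exact h1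

/-- the common isometry -/
theorem exists_fx (hN : NrmA C v w g) {x : V} (hx : x ∈ perp C.S (pl v w)) :
    ∃ x' ∈ perp C.S (pl v w), (∃ a ∈ AU C.S (pl v w),
      g * (q C.S v x 0 : C.L) * g⁻¹ = ((q C.S v x' 0 * a : C.L) : G)) ∧
      ∃ a ∈ AU C.S (pl v w), g * (q C.S w x 0 : C.L) * g⁻¹ = ((q C.S w x' 0 * a : C.L) : G) := by
  have hfinV := C.finV
  have h := hN.ln
  obtain ⟨x1, hx1, a1, ha1, he1⟩ := hN.exists_X hx
  have hxs : x ∈ perp C.S (pl w v) := by rw [h.pl_symm]; exact hx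
  obtain ⟨x2, hx2, a2, ha2, he2⟩ := hN.symm.exists_X hxs
  rw [h.pl_symm] at hx2 ha2
  have hvwm : v + w ∈ pl v w := add_mem (left_mem_pl v w) (right_mem_pl v w)
  have hw3 : w ∉ SpTwo.ln (v + w) := by
    intro h1
    rcases mem_ln.1 h1 with h1 | h1
    · exact h.hw0 h1
    · exact h.hv (add_eq_right.1 h1.symm)
  have hpl3 := h.pl_eq_of_mem hvwm (right_mem_pl v w) h.add_ne hw3
  obtain ⟨x3, hx3, a3, ha3, he3⟩ := (hN.of_mem hvwm (right_mem_pl v w) h.add_ne hw3).exists_X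
    (x := x) (by rw [hpl3]; exact hx)
  rw [hpl3] at hx3 ha3
  rw [h.q_add hx] at he3
  have he : q C.S v x1 0 * a1 * (q C.S w x2 0 * a2) = q C.S v x3 0 * q C.S w x3 0 * a3 := by
    rw [← h.q_add hx3]
    apply Subtype.ext
    rw [← he3]
    change ((q C.S v x1 0 * a1 : C.L) : G) * ((q C.S w x2 0 * a2 : C.L) : G) =
      g * (((q C.S v x 0 : C.L) : G) * (q C.S w x 0 : C.L)) * g⁻¹
    rw [← he1, ← he2]; group
  have hx1' := (mem_perp_pl C.S).1 hx1
  have hx2' := (mem_perp_pl C.S).1 hx2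
  have hx3' := (mem_perp_pl C.S).1 hx3
  have hwx1 : C.S.B w x1 = 0 := by rw [C.S.symm]; exact hx1'.2
  have hwx3 : C.S.B w x3 = 0 := by rw [C.S.symm]; exact hx3'.2
  have key : ∀ z ∈ perp C.S (pl v w), C.S.B z x1 • v + C.S.B z x2 • w = C.S.B z x3 • v + C.S.B z x3 • w := by
    intro z hz
    have hz' := (mem_perp_pl C.S).1 hz
    have h1 := (ρ_eq C.S).1 he z
    have e1 : C.S.ρ a1 (z + C.S.B z x2 • w) = z + C.S.B z x2 • w :=
      ha1 _ (add_mem hz (Submodule.smul_mem _ _ (h.ti (right_mem_pl v w))))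
    rw [C.S.ρ_mul, C.S.ρ_mul, C.S.ρ_mul, C.S.ρ_mul, C.S.ρ_mul, ha2 z hz, ha3 z hz, q_act C.S hx2'.2 hz'.2,
      q_act C.S hx3'.2 hz'.2, e1, q_act C.S hx1'.1 (by rw [B_add, hz'.1, map_smul, LinearMap.smul_apply,
        h.hwv, smul_zero, add_zero]), q_act C.S hx3'.1 (by rw [B_add, hz'.1, map_smul, LinearMap.smul_apply,
        h.hwv, smul_zero, add_zero])] at h1
    simp only [B_add, map_smul, LinearMap.smul_apply, hwx1, hwx3, smul_zero, add_zero] at h1
    rw [add_assoc, add_assoc] at h1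
    have h2 := add_left_cancel h1
    rw [add_comm, h2, add_comm]
  have hind : ∀ a b c d : ZMod 2, a • v + b • w = c • v + d • w → a = c ∧ b = d := by
    intro a b c d h1
    obtain ⟨v', w', d1, d2, d3, d4⟩ := h.exists_dual
    have k1 := congrArg (fun z => C.S.B v' z) h1
    have k2 := congrArg (fun z => C.S.B w' z) h1
    simp only [map_add, map_smul, d1, d2, d3, d4, smul_eq_mul, mul_one, mul_zero, add_zero, zero_add] at k1 k2
    exact ⟨k1, k2⟩
  have h12 : x2 + x1 ∈ pl v w := by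
    apply mem_of_perp C.S
    intro z hz
    obtain ⟨h1, h2⟩ := hind _ _ _ _ (key z hz)
    rw [map_add, h1, h2, z2_add]
  have h12' : x2 + x1 ∈ pl w v := by rw [h.pl_symm]; exact h12
  obtain ⟨a, ha, hax⟩ := h.symm.q_mod (x := x1) (x' := x2) (by rw [h.pl_symm]; exact hx1)
    (by rw [add_comm]; exact h12') 0
  rw [h.pl_symm] at ha
  refine ⟨x1, hx1, ⟨a1, ha1, he1⟩, a * a2, mul_mem ha ha2, ?_⟩
  rw [he2, hax, mul_assoc]

theorem exists_p (hN : NrmA C v w g) : ∃ p ∈ TG C.S (perp C.S (pl v w) : Set V),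
    ∀ x ∈ perp C.S (pl v w), (∃ a ∈ AU C.S (pl v w),
      ((p : G)⁻¹ * g) * (q C.S v x 0 : C.L) * ((p : G)⁻¹ * g)⁻¹ = ((q C.S v x 0 * a : C.L) : G)) ∧
      ∃ a ∈ AU C.S (pl v w),
        ((p : G)⁻¹ * g) * (q C.S w x 0 : C.L) * ((p : G)⁻¹ * g)⁻¹ = ((q C.S w x 0 * a : C.L) : G) := by
  have hfinV := C.finV
  have h := hN.ln
  have h0 : ∀ x, x ∈ perp C.S (pl v w) → ∃ x', x' ∈ perp C.S (pl v w) ∧ (∃ a ∈ AU C.S (pl v w),
      g * (q C.S v x 0 : C.L) * g⁻¹ = ((q C.S v x' 0 * a : C.L) : G)) ∧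
      ∃ a ∈ AU C.S (pl v w), g * (q C.S w x 0 : C.L) * g⁻¹ = ((q C.S w x' 0 * a : C.L) : G) := by
    intro x hx
    obtain ⟨x', hx', h1⟩ := hN.exists_fx hx
    exact ⟨x', hx', h1⟩
  choose! f hfP hfv hfw using h0
  have hAF : ∀ a ∈ AU C.S (pl v w), ∀ y ∈ QU C.S (pl v w), a * y = y * a :=
    fun a ha y hy => AU_comm C.S ha (QU_le_FU C.S hy)
  -- additivity
  have hadd : ∀ x ∈ perp C.S (pl v w), ∀ y ∈ perp C.S (pl v w), f (x + y) + (f x + f y) ∈ pl v w := by
    intro x hx y hy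
    obtain ⟨a1, ha1, h1⟩ := hfv x hx
    obtain ⟨a2, ha2, h2⟩ := hfv y hy
    obtain ⟨a3, ha3, h3⟩ := hfv (x + y) (add_mem hx hy)
    have hx' := (mem_perp_pl C.S).1 hx
    have hy' := (mem_perp_pl C.S).1 hy
    have hfx := (mem_perp_pl C.S).1 (hfP x hx)
    have hfy := (mem_perp_pl C.S).1 (hfP y hy)
    have e1 : q C.S v (x + y) 0 = q C.S v x 0 * q C.S v y 0 * q C.S v 0 (C.S.B x y) := by
      rw [q_mul C.S hx'.1 hy'.1, q_mul C.S (by rw [B_add, hx'.1, hy'.1, add_zero]) (B_zero C.S v), map_zero]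
      simp [z2_add]
    have h0 : g * (q C.S v 0 (C.S.B x y) : C.L) * g⁻¹ = (q C.S v 0 (C.S.B x y) : C.L) :=
      hN.comm_AU (h.q_mem_AU (zero_mem _) _)
    have e2 : q C.S v (f (x + y)) 0 * a3 =
        (q C.S v (f x) 0 * a1) * (q C.S v (f y) 0 * a2) * q C.S v 0 (C.S.B x y) := by
      apply Subtype.ext
      rw [← h3, e1]
      change g * (((q C.S v x 0 : C.L) : G) * (q C.S v y 0 : C.L) * (q C.S v 0 (C.S.B x y) : C.L)) * g⁻¹ =
        ((q C.S v (f x) 0 * a1 : C.L) : G) * ((q C.S v (f y) 0 * a2 : C.L) : G) *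
          ((q C.S v 0 (C.S.B x y) : C.L) : G)
      rw [← h1, ← h2]
      calc g * (((q C.S v x 0 : C.L) : G) * (q C.S v y 0 : C.L) * (q C.S v 0 (C.S.B x y) : C.L)) * g⁻¹ =
          g * (q C.S v x 0 : C.L) * g⁻¹ * (g * (q C.S v y 0 : C.L) * g⁻¹) *
            (g * (q C.S v 0 (C.S.B x y) : C.L) * g⁻¹) := by group
        _ = _ := by rw [h0]
    have e3 : (q C.S v (f x) 0 * a1) * (q C.S v (f y) 0 * a2) * q C.S v 0 (C.S.B x y) =
        q C.S v (f x + f y) (C.S.B (f x) (f y)) * (a1 * a2 * q C.S v 0 (C.S.B x y)) := by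
      have : a1 * q C.S v (f y) 0 = q C.S v (f y) 0 * a1 := hAF a1 ha1 _ (h.qv_mem (hfP y hy) 0)
      calc (q C.S v (f x) 0 * a1) * (q C.S v (f y) 0 * a2) * q C.S v 0 (C.S.B x y) =
          q C.S v (f x) 0 * (a1 * q C.S v (f y) 0) * a2 * q C.S v 0 (C.S.B x y) := by simp only [mul_assoc]
        _ = q C.S v (f x) 0 * q C.S v (f y) 0 * (a1 * a2 * q C.S v 0 (C.S.B x y)) := by
            rw [this]; simp only [mul_assoc]
        _ = _ := by rw [q_mul C.S hfx.1 hfy.1]; simp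
    rw [e3] at e2
    exact h.mem_of_q_eq (hfP _ (add_mem hx hy)) (add_mem (hfP x hx) (hfP y hy)) ha3
      (mul_mem (mul_mem ha1 ha2) (h.q_mem_AU (zero_mem _) _)) e2
  have hln : ∀ x ∈ pl v w, f x ∈ pl v w := by
    intro x hx
    obtain ⟨a1, ha1, h1⟩ := hfv x (h.ti hx)
    rw [hN.comm_AU (h.q_mem_AU hx 0)] at h1
    have h2 : q C.S v x 0 * 1 = q C.S v (f x) 0 * a1 := by rw [mul_one]; exact Subtype.ext h1
    have h3 := h.mem_of_q_eq (h.ti hx) (hfP x (h.ti hx)) (one_mem _) ha1 h2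
    have := add_mem hx h3
    rwa [aac] at this
  have hiso : ∀ x ∈ perp C.S (pl v w), ∀ y ∈ perp C.S (pl v w), C.S.B (f x) (f y) = C.S.B x y := by
    intro x hx y hy
    obtain ⟨a1, ha1, h1⟩ := hfv x hx
    obtain ⟨a2, ha2, h2⟩ := hfw y hy
    have c1 := h.conj_qv hx hy 0 0
    have c2 := h.conj_qv (hfP x hx) (hfP y hy) 0 0
    have h0 := sp_conj h hN.nrm (C.S.B x y)
    -- conjugate the first relation
    have e1 : (q C.S w (f y) 0 * a2) * (q C.S v (f x) 0 * a1) * (q C.S w (f y) 0 * a2)⁻¹ =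
        (q C.S v (f x) 0 * a1) * q C.S v (C.S.B x y • w) 0 := by
      apply Subtype.ext
      change ((q C.S w (f y) 0 * a2 : C.L) : G) * ((q C.S v (f x) 0 * a1 : C.L) : G) *
        ((q C.S w (f y) 0 * a2 : C.L) : G)⁻¹ = ((q C.S v (f x) 0 * a1 : C.L) : G) *
          ((q C.S v (C.S.B x y • w) 0 : C.L) : G)
      rw [← h1, ← h2]
      have c1' : ((q C.S w y 0 : C.L) : G) * (q C.S v x 0 : C.L) * ((q C.S w y 0 : C.L) : G)⁻¹ =
        ((q C.S v x 0 : C.L) : G) * (q C.S v (C.S.B x y • w) 0 : C.L) := congrArg Subtype.val c1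
      calc g * (q C.S w y 0 : C.L) * g⁻¹ * (g * (q C.S v x 0 : C.L) * g⁻¹) * (g * (q C.S w y 0 : C.L) * g⁻¹)⁻¹ =
          g * (((q C.S w y 0 : C.L) : G) * (q C.S v x 0 : C.L) * ((q C.S w y 0 : C.L) : G)⁻¹) * g⁻¹ := by group
        _ = g * (q C.S v x 0 : C.L) * g⁻¹ * (g * (q C.S v (C.S.B x y • w) 0 : C.L) * g⁻¹) := by
            rw [c1']; group
        _ = _ := by rw [h0]
    have ha2c : ∀ r ∈ QU C.S (pl v w), a2 * r = r * a2 := fun r hr => hAF a2 ha2 r hr
    have e2 : (q C.S w (f y) 0 * a2) * (q C.S v (f x) 0 * a1) * (q C.S w (f y) 0 * a2)⁻¹ =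
        q C.S w (f y) 0 * q C.S v (f x) 0 * (q C.S w (f y) 0)⁻¹ * a1 := by
      have k1 : a2 * (q C.S v (f x) 0 * a1) * a2⁻¹ = q C.S v (f x) 0 * a1 := by
        rw [ha2c _ (mul_mem (h.qv_mem (hfP x hx) 0) (AU_le_QU C.S h.ti ha1)), mul_inv_cancel_right]
      have k2 : a1 * (q C.S w (f y) 0)⁻¹ = (q C.S w (f y) 0)⁻¹ * a1 :=
        hAF a1 ha1 _ (inv_mem (h.qw_mem (hfP y hy) 0))
      calc (q C.S w (f y) 0 * a2) * (q C.S v (f x) 0 * a1) * (q C.S w (f y) 0 * a2)⁻¹ =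
          q C.S w (f y) 0 * (a2 * (q C.S v (f x) 0 * a1) * a2⁻¹) * (q C.S w (f y) 0)⁻¹ := by group
        _ = q C.S w (f y) 0 * q C.S v (f x) 0 * (a1 * (q C.S w (f y) 0)⁻¹) := by
            rw [k1]; simp only [mul_assoc]
        _ = _ := by rw [k2]; simp only [mul_assoc]
    rw [e2, c2] at e1
    have k3 : a1 * q C.S v (C.S.B x y • w) 0 = q C.S v (C.S.B x y • w) 0 * a1 :=
      hAF a1 ha1 _ (AU_le_QU C.S h.ti (h.sp_mem _))
    rw [mul_assoc, mul_assoc, mul_left_cancel_iff, k3] at e1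
    exact h.sp_inj (mul_right_cancel e1)
  obtain ⟨p, hp, hpf⟩ := gen C.S h.ti f hfP hln hadd hiso
  refine ⟨p, hp, fun x hx => ?_⟩
  have hpi : p⁻¹ ∈ TG C.S (perp C.S (pl v w) : Set V) := inv_mem hp
  have hpP := TG_le_PU C.S hpi
  have hpv : C.S.ρ p⁻¹ v = v := TG_fix C.S hpi (left_mem_pl v w)
  have hpw : C.S.ρ p⁻¹ w = w := TG_fix C.S hpi (right_mem_pl v w)
  have h3 : x + C.S.ρ p⁻¹ (f x) ∈ pl v w := by
    have h5 := (hpP _).2 (hpf x hx)
    rwa [map_add, C.S.ρ_inv_apply] at h5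
  constructor
  · obtain ⟨a, ha, h1⟩ := hfv x hx
    obtain ⟨a', ha', h2⟩ := h.q_mod hx h3 0
    refine ⟨a' * (p⁻¹ * a * p⁻¹⁻¹), mul_mem ha' (AU_conj C.S hpP ha), ?_⟩
    have e1 : ((p : G)⁻¹ * g) * (q C.S v x 0 : C.L) * ((p : G)⁻¹ * g)⁻¹ =
        (p : G)⁻¹ * (g * (q C.S v x 0 : C.L) * g⁻¹) * p := by group
    rw [e1, h1]
    have e2 : p⁻¹ * (q C.S v (f x) 0 * a) * p = q C.S v x 0 * (a' * (p⁻¹ * a * p⁻¹⁻¹)) := by
      rw [← mul_assoc (q C.S v x 0), ← h2]
      have := q_conj C.S p⁻¹ (v := v) (u := f x) 0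
      rw [hpv] at this
      rw [← this]; group
    exact congrArg Subtype.val e2
  · obtain ⟨a, ha, h1⟩ := hfw x hx
    obtain ⟨a', ha', h2⟩ := h.symm.q_mod (x := x) (by rw [h.pl_symm]; exact hx)
      (by rw [h.pl_symm]; exact h3) 0
    rw [h.pl_symm] at ha'
    refine ⟨a' * (p⁻¹ * a * p⁻¹⁻¹), mul_mem ha' (AU_conj C.S hpP ha), ?_⟩
    have e1 : ((p : G)⁻¹ * g) * (q C.S w x 0 : C.L) * ((p : G)⁻¹ * g)⁻¹ =
        (p : G)⁻¹ * (g * (q C.S w x 0 : C.L) * g⁻¹) * p := by group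
    rw [e1, h1]
    have e2 : p⁻¹ * (q C.S w (f x) 0 * a) * p = q C.S w x 0 * (a' * (p⁻¹ * a * p⁻¹⁻¹)) := by
      rw [← mul_assoc (q C.S w x 0), ← h2]
      have := q_conj C.S p⁻¹ (v := w) (u := f x) 0
      rw [hpw] at this
      rw [← this]; group
    exact congrArg Subtype.val e2

end NrmA

end Cfsg.Agent.OddHalf.SpTwo

end

-- merged: Cfsg.Agent.OddHalf.SpTwo.ShortB
section

/-!
# Existence of `y_ℓ` (short roots): an element `g` centralising `Q_ℓ`
-/

set_option autoImplicit false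
set_option linter.unusedSimpArgs false
set_option linter.unusedSectionVars false

open scoped commutatorElement

namespace Cfsg.Agent.OddHalf.SpTwo

open Cfsg.Agent.StandardComponent.SpTwo
open Cfsg.Agent.OddHalf.SpTwoN

variable {G V : Type*} [Group G] [AddCommGroup V] [Module (ZMod 2) V] {C : Ctx G V}
variable {v w : V} {g : G}

/-- `g` is trivial on `A_ℓ` and on `Q_ℓ / A_ℓ` -/
structure NrmB (C : Ctx G V) (v w : V) (g : G) : Prop where
  a : NrmA C v w g
  bv : ∀ x ∈ perp C.S (pl v w), ∃ a ∈ AU C.S (pl v w),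
    g * (q C.S v x 0 : C.L) * g⁻¹ = ((q C.S v x 0 * a : C.L) : G)
  bw : ∀ x ∈ perp C.S (pl v w), ∃ a ∈ AU C.S (pl v w),
    g * (q C.S w x 0 : C.L) * g⁻¹ = ((q C.S w x 0 * a : C.L) : G)

theorem NrmA.exists_NrmB (hN : NrmA C v w g) : ∃ g', NrmB C v w g' := by
  obtain ⟨p, hp, hpx⟩ := hN.exists_p
  have hpi : p⁻¹ ∈ TG C.S (perp C.S (pl v w) : Set V) := inv_mem hp
  have hcb : ∀ a ∈ pl v w, ((p : G)⁻¹ * g) * C.b a * ((p : G)⁻¹ * g)⁻¹ = C.b a := by
    intro a ha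
    have h1 : (p : G)⁻¹ * C.b a * p = C.b a := by
      have h2 := C.b_conj p⁻¹ a
      rw [TG_fix C.S hpi ha] at h2
      change (p : G)⁻¹ * C.b a * ((p : G)⁻¹)⁻¹ = _ at h2
      rwa [inv_inv] at h2
    calc ((p : G)⁻¹ * g) * C.b a * ((p : G)⁻¹ * g)⁻¹ = (p : G)⁻¹ * (g * C.b a * g⁻¹) * p := by group
      _ = _ := by rw [hN.comm_b ha, h1]
  refine ⟨(p : G)⁻¹ * g, ⟨hN.ln, hN.nrm.mul_left (TG_le_PU C.S hpi), hcb v (left_mem_pl v w),
    hcb w (right_mem_pl v w)⟩, fun x hx => (hpx x hx).1, fun x hx => (hpx x hx).2⟩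

namespace NrmB

theorem symm (hB : NrmB C v w g) : NrmB C w v g := by
  refine ⟨hB.a.symm, ?_, ?_⟩
  · rw [hB.a.ln.pl_symm]; exact hB.bw
  · rw [hB.a.ln.pl_symm]; exact hB.bv

/-- the image of an element of the pointwise stabilizer of the line -/
theorem exists_r (hB : NrmB C v w g) {m : C.L} (hm : m ∈ FU C.S (pl v w)) :
    ∃ r ∈ QU C.S (pl v w), g * (m : G) * g⁻¹ = ((r * m : C.L) : G) ∨
      g * (m : G) * g⁻¹ = C.t * ((r * m : C.L) : G) := by
  have hfinV := C.finV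
  have h := hB.a.ln
  obtain ⟨k, hk, hk', hku⟩ := hB.a.exists_PU (FU_le_PU C.S hm)
  have hkF : ∀ u ∈ pl v w, C.S.ρ k u = u := fun u hu => by rw [hku u hu, hm u hu]
  have hmi : m⁻¹ ∈ FU C.S (pl v w) := inv_mem hm
  refine ⟨k * m⁻¹, ⟨fun u hu => ?_, fun z hz => ?_⟩, by rw [inv_mul_cancel_right]; exact hk'⟩
  · rw [C.S.ρ_mul, hmi u hu, hkF u hu]
  · set z' := C.S.ρ m⁻¹ z with hz'
    have hz'P : z' ∈ perp C.S (pl v w) := PU_perp C.S (FU_le_PU C.S hmi) hz
    have hmz : C.S.ρ m z' = z := C.S.ρ_apply_inv m z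
    obtain ⟨a, ha, hav⟩ := hB.bv z' hz'P
    obtain ⟨a', ha', hav'⟩ := hB.bv z hz
    have haa : a * a = 1 := AU_sq C.S h.ti ha
    have hga := hB.a.comm_AU ha
    -- `g⁻¹ q g = q a`
    have h1 : g⁻¹ * (q C.S v z' 0 : C.L) * g = ((q C.S v z' 0 * a : C.L) : G) := by
      have h2 : g * ((q C.S v z' 0 * a : C.L) : G) * g⁻¹ = (q C.S v z' 0 : C.L) := by
        change g * (((q C.S v z' 0 : C.L) : G) * (a : G)) * g⁻¹ = _
        have haaG : (a : G) * a = 1 := congrArg Subtype.val haa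
        calc g * (((q C.S v z' 0 : C.L) : G) * (a : G)) * g⁻¹ =
            g * (q C.S v z' 0 : C.L) * g⁻¹ * (g * (a : G) * g⁻¹) := by group
          _ = ((q C.S v z' 0 : C.L) : G) * (a * a) := by
              rw [hga, hav]
              change ((q C.S v z' 0 : C.L) : G) * (a : G) * (a : G) = _
              group
          _ = _ := by rw [haaG, mul_one]
      rw [← h2]; group
    have h2 := conj_lift C hk' (q C.S v z' 0)
    have hkv : C.S.ρ k v = v := hkF v (left_mem_pl v w)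
    have hmv : C.S.ρ m v = v := hm v (left_mem_pl v w)
    have h3 : k * q C.S v z' 0 * k⁻¹ = q C.S v (C.S.ρ k z') 0 := by rw [q_conj, hkv]
    rw [h3] at h2
    have h4 : m * (q C.S v z' 0 * a) * m⁻¹ = q C.S v z 0 * a := by
      have h5 : m * q C.S v z' 0 * m⁻¹ = q C.S v z 0 := by rw [q_conj, hmv, hmz]
      have h6 : m * a * m⁻¹ = a := by rw [← AU_comm C.S ha hm, mul_inv_cancel_right]
      calc m * (q C.S v z' 0 * a) * m⁻¹ = (m * q C.S v z' 0 * m⁻¹) * (m * a * m⁻¹) := by group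
        _ = _ := by rw [h5, h6]
    have h4' : (m : G) * ((q C.S v z' 0 * a : C.L) : G) * (m : G)⁻¹ = ((q C.S v z 0 * a : C.L) : G) :=
      congrArg Subtype.val h4
    have h5 : g * (m : G) * g⁻¹ * ((q C.S v z' 0 : C.L) : G) * (g * (m : G) * g⁻¹)⁻¹ =
        ((q C.S v z 0 * (a' * a) : C.L) : G) := by
      calc g * (m : G) * g⁻¹ * ((q C.S v z' 0 : C.L) : G) * (g * (m : G) * g⁻¹)⁻¹ =
          g * ((m : G) * (g⁻¹ * (q C.S v z' 0 : C.L) * g) * (m : G)⁻¹) * g⁻¹ := by group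
        _ = g * (((q C.S v z 0 : C.L) : G) * (a : G)) * g⁻¹ := by rw [h1, h4']; rfl
        _ = g * (q C.S v z 0 : C.L) * g⁻¹ * (g * (a : G) * g⁻¹) := by group
        _ = ((q C.S v z 0 * a' : C.L) : G) * (a : G) := by rw [hav', hga]
        _ = _ := by rw [← mul_assoc]; rfl
    rw [h5] at h2
    have h6 : q C.S v z 0 * (a' * a) = q C.S v (C.S.ρ k z') 0 * 1 := by
      rw [mul_one]; exact Subtype.ext h2
    have h7 := h.mem_of_q_eq hz (PU_perp C.S hk hz'P) (mul_mem ha' ha) (one_mem _) h6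
    rw [C.S.ρ_mul, add_comm]
    exact h7

/-- the elements `a` are powers of `s` -/
theorem exists_e (hB : NrmB C v w g) {x : V} (hx : x ∈ perp C.S (pl v w)) :
    ∃ e : ZMod 2, g * (q C.S v x 0 : C.L) * g⁻¹ = ((q C.S v x 0 * q C.S v (e • w) 0 : C.L) : G) := by
  have hfinV := C.finV
  have h := hB.a.ln
  by_cases hxl : x ∈ pl v w
  · refine ⟨0, ?_⟩
    rw [zero_smul, q_zero, mul_one]
    exact hB.a.comm_AU (h.q_mem_AU hxl 0)
  obtain ⟨u, hu, hux⟩ := sep C.S hxl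
  have hx' := (mem_perp_pl C.S).1 hx
  have hu' := (mem_perp_pl C.S).1 hu
  have hτF : C.S.τ x ∈ FU C.S (pl v w) := by
    intro y hy
    rw [C.S.hτ, C.S.symm, hx y hy, zero_smul, add_zero]
  obtain ⟨r, hr, hr'⟩ := hB.exists_r hτF
  obtain ⟨a, ha, hau⟩ := hB.bv u hu
  have haa : a * a = 1 := AU_sq C.S h.ti ha
  have hq1 : q C.S v x 1 = q C.S v u 0 * (C.S.τ x * q C.S v u 0 * (C.S.τ x)⁻¹) := by
    have := q_comm_τ C.S hx'.1 hu'.1 (0 : ZMod 2)
    rw [hux, one_smul] at this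
    rw [← this, C.S.τ_inv]; simp only [mul_assoc]
  have h1 := conj_lift C hr' (q C.S v u 0 * a)
  -- compute in `L`
  set μ := C.S.ρ r (u + x) + (u + x) with hμ
  have hμl : μ ∈ pl v w := hr.2 _ (add_mem hu hx)
  have hrux : C.S.ρ r (u + x) = u + x + μ := by rw [hμ, add_comm (C.S.ρ r (u + x)), aac]
  have hrv : C.S.ρ r v = v := hr.1 v (left_mem_pl v w)
  have haF : ∀ m ∈ FU C.S (pl v w), m * a * m⁻¹ = a := by
    intro m hm
    rw [← AU_comm C.S ha hm, mul_inv_cancel_right]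
  have h2 : r * C.S.τ x * (q C.S v u 0 * a) * (r * C.S.τ x)⁻¹ = q C.S v (u + x + μ) 0 * a := by
    have e1 : C.S.τ x * q C.S v u 0 * (C.S.τ x)⁻¹ = q C.S v (u + x) 0 := by
      rw [C.S.τ_inv, τ_conj_q C.S hx'.1, hux, one_smul]
    have e2 : r * q C.S v (u + x) 0 * r⁻¹ = q C.S v (u + x + μ) 0 := by
      rw [q_conj, hrv, hrux]
    have e3 := haF (r * C.S.τ x) (mul_mem (QU_le_FU C.S hr) hτF)
    calc r * C.S.τ x * (q C.S v u 0 * a) * (r * C.S.τ x)⁻¹ =
        r * (C.S.τ x * q C.S v u 0 * (C.S.τ x)⁻¹) * r⁻¹ * (r * C.S.τ x * a * (r * C.S.τ x)⁻¹) := by group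
      _ = _ := by rw [e3, e1, e2]
  rw [h2] at h1
  have hΦ1 : g * (q C.S v x 1 : C.L) * g⁻¹ =
      ((q C.S v u 0 * a * (q C.S v (u + x + μ) 0 * a) : C.L) : G) := by
    rw [hq1]
    change g * (((q C.S v u 0 : C.L) : G) * (((C.S.τ x : C.L) : G) * (q C.S v u 0 : C.L) *
      ((C.S.τ x : C.L) : G)⁻¹)) * g⁻¹ = ((q C.S v u 0 * a : C.L) : G) *
        ((q C.S v (u + x + μ) 0 * a : C.L) : G)
    rw [← h1, ← hau]; group
  have huμ : C.S.B u μ = 0 := hu μ hμl
  have hvμ : C.S.B μ v = 0 := h.ti hμl v (left_mem_pl v w)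
  have hsum : C.S.B (u + x + μ) v = 0 := by rw [B_add, B_add, hu'.1, hx'.1, hvμ, add_zero, add_zero]
  have h3 : q C.S v u 0 * a * (q C.S v (u + x + μ) 0 * a) = q C.S v x 1 * q C.S v μ 0 := by
    have e1 : a * q C.S v (u + x + μ) 0 = q C.S v (u + x + μ) 0 * a :=
      AU_comm C.S ha (QU_le_FU C.S (h.qv_mem (add_mem (add_mem hu hx) (h.ti hμl)) 0))
    have e2 : q C.S v u 0 * q C.S v (u + x + μ) 0 = q C.S v (x + μ) 1 := by
      rw [q_mul C.S hu'.1 hsum]
      have e3 : u + (u + x + μ) = x + μ := by rw [add_assoc, aac]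
      have e4 : C.S.B u (u + x + μ) = 1 := by
        rw [map_add, map_add, C.S.alt, hux, huμ, zero_add, add_zero]
      rw [e3, e4]; simp
    have e5 : q C.S v x 1 * q C.S v μ 0 = q C.S v (x + μ) 1 := by
      rw [q_mul C.S hx'.1 hvμ, hx μ hμl]; simp
    rw [e5, ← e2]
    calc q C.S v u 0 * a * (q C.S v (u + x + μ) 0 * a) = q C.S v u 0 * (a * q C.S v (u + x + μ) 0) * a := by
          simp only [mul_assoc]
      _ = q C.S v u 0 * q C.S v (u + x + μ) 0 * (a * a) := by rw [e1]; simp only [mul_assoc]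
      _ = _ := by rw [haa, mul_one]
  have h4 : ∃ e : ZMod 2, q C.S v μ 0 = q C.S v (e • w) 0 := by
    rcases mem_pl.1 hμl with h5 | h5 | h5 | h5
    · exact ⟨0, by rw [h5, zero_smul]⟩
    · exact ⟨0, by rw [h5, zero_smul, q_self]⟩
    · exact ⟨1, by rw [h5, one_smul]⟩
    · exact ⟨1, by rw [h5, one_smul, add_comm v w, q_add_self C.S h.hwv]⟩
  obtain ⟨e, he⟩ := h4
  refine ⟨e, ?_⟩
  have h5 : q C.S v x 0 = q C.S v x 1 * q C.S v 0 1 := by
    rw [q_mul C.S hx'.1 (B_zero C.S v), map_zero, z2_add]; simp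
  have h6 : g * (q C.S v 0 1 : C.L) * g⁻¹ = (q C.S v 0 1 : C.L) :=
    hB.a.comm_AU (h.q_mem_AU (zero_mem _) 1)
  have h7 : q C.S v x 0 * q C.S v (e • w) 0 = q C.S v x 1 * q C.S v μ 0 * q C.S v 0 1 := by
    have e1 : q C.S v 0 1 * q C.S v (e • w) 0 = q C.S v (e • w) 0 * q C.S v 0 1 :=
      q_comm C.S (B_zero C.S v) (by rw [map_smul, LinearMap.smul_apply, h.hwv, smul_zero]) _ _
    rw [h5, he, mul_assoc, e1]; simp only [mul_assoc]
  rw [h7, ← h3]
  nth_rewrite 1 [h5]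
  calc g * (((q C.S v x 1 : C.L) : G) * (q C.S v 0 1 : C.L)) * g⁻¹ =
      g * (q C.S v x 1 : C.L) * g⁻¹ * (g * (q C.S v 0 1 : C.L) * g⁻¹) := by group
    _ = _ := by rw [hΦ1, h6]; rfl

theorem exists_z (hB : NrmB C v w g) : ∃ z ∈ perp C.S (pl v w), ∀ x ∈ perp C.S (pl v w),
    g * (q C.S v x 0 : C.L) * g⁻¹ = ((q C.S v x 0 * q C.S v (C.S.B x z • w) 0 : C.L) : G) := by
  have hfinV := C.finV
  have h := hB.a.ln
  have h0 : ∀ x, x ∈ perp C.S (pl v w) → ∃ e : ZMod 2,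
      g * (q C.S v x 0 : C.L) * g⁻¹ = ((q C.S v x 0 * q C.S v (e • w) 0 : C.L) : G) :=
    fun x hx => hB.exists_e hx
  choose! e he using h0
  have huniq : ∀ x ∈ perp C.S (pl v w), ∀ c : ZMod 2,
      g * (q C.S v x 0 : C.L) * g⁻¹ = ((q C.S v x 0 * q C.S v (c • w) 0 : C.L) : G) → e x = c := by
    intro x hx c hc
    have h1 : q C.S v x 0 * q C.S v (e x • w) 0 = q C.S v x 0 * q C.S v (c • w) 0 :=
      Subtype.ext ((he x hx).symm.trans hc)
    exact h.sp_inj (mul_left_cancel h1)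
  have hadd : ∀ x ∈ perp C.S (pl v w), ∀ y ∈ perp C.S (pl v w), e (x + y) = e x + e y := by
    intro x hx y hy
    apply huniq _ (add_mem hx hy)
    have hx' := (mem_perp_pl C.S).1 hx
    have hy' := (mem_perp_pl C.S).1 hy
    have e1 : q C.S v (x + y) 0 = q C.S v x 0 * q C.S v y 0 * q C.S v 0 (C.S.B x y) := by
      rw [q_mul C.S hx'.1 hy'.1, q_mul C.S (by rw [B_add, hx'.1, hy'.1, add_zero]) (B_zero C.S v), map_zero]
      simp [z2_add]
    have h0 : g * (q C.S v 0 (C.S.B x y) : C.L) * g⁻¹ = (q C.S v 0 (C.S.B x y) : C.L) :=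
      hB.a.comm_AU (h.q_mem_AU (zero_mem _) _)
    have hsm : ∀ c : ZMod 2, C.S.B (c • w) v = 0 := fun c => by
      rw [map_smul, LinearMap.smul_apply, h.hwv, smul_zero]
    have e2 : q C.S v x 0 * q C.S v (e x • w) 0 * (q C.S v y 0 * q C.S v (e y • w) 0) *
        q C.S v 0 (C.S.B x y) = q C.S v x 0 * q C.S v y 0 * q C.S v 0 (C.S.B x y) *
          q C.S v ((e x + e y) • w) 0 := by
      rw [← h.sp_add]
      have c1 : q C.S v (e x • w) 0 * q C.S v y 0 = q C.S v y 0 * q C.S v (e x • w) 0 :=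
        q_comm C.S (hsm _) hy'.1 _ _
      have c2 : q C.S v (e x • w) 0 * q C.S v (e y • w) 0 * q C.S v 0 (C.S.B x y) =
          q C.S v 0 (C.S.B x y) * (q C.S v (e x • w) 0 * q C.S v (e y • w) 0) := by
        rw [h.sp_add, q_comm C.S (hsm _) (B_zero C.S v)]
      calc q C.S v x 0 * q C.S v (e x • w) 0 * (q C.S v y 0 * q C.S v (e y • w) 0) *
          q C.S v 0 (C.S.B x y) = q C.S v x 0 * (q C.S v (e x • w) 0 * q C.S v y 0) *
            (q C.S v (e y • w) 0 * q C.S v 0 (C.S.B x y)) := by simp only [mul_assoc]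
        _ = q C.S v x 0 * q C.S v y 0 * (q C.S v (e x • w) 0 * q C.S v (e y • w) 0 *
            q C.S v 0 (C.S.B x y)) := by rw [c1]; simp only [mul_assoc]
        _ = _ := by rw [c2]; simp only [mul_assoc]
    rw [e1, ← e2]
    change g * (((q C.S v x 0 : C.L) : G) * (q C.S v y 0 : C.L) * (q C.S v 0 (C.S.B x y) : C.L)) * g⁻¹ =
      ((q C.S v x 0 * q C.S v (e x • w) 0 : C.L) : G) * ((q C.S v y 0 * q C.S v (e y • w) 0 : C.L) : G) *
        ((q C.S v 0 (C.S.B x y) : C.L) : G)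
    rw [← he x hx, ← he y hy]
    calc g * (((q C.S v x 0 : C.L) : G) * (q C.S v y 0 : C.L) * (q C.S v 0 (C.S.B x y) : C.L)) * g⁻¹ =
        g * (q C.S v x 0 : C.L) * g⁻¹ * (g * (q C.S v y 0 : C.L) * g⁻¹) *
          (g * (q C.S v 0 (C.S.B x y) : C.L) * g⁻¹) := by group
      _ = _ := by rw [h0]
  have hln : ∀ x ∈ pl v w, e x = 0 := by
    intro x hx
    apply huniq _ (h.ti hx)
    rw [zero_smul, q_zero, mul_one]
    exact hB.a.comm_AU (h.q_mem_AU hx 0)
  let f : perp C.S (pl v w) →ₗ[ZMod 2] ZMod 2 :=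
    { toFun := fun x => e x
      map_add' := fun x y => hadd x x.2 y y.2
      map_smul' := by
        intro c x
        rcases z2 c with rfl | rfl
        · simp [hln 0 (zero_mem _)]
        · simp }
  obtain ⟨z, hz⟩ := B_surj_on C.S (perp C.S (pl v w)) f
  have hzP : z ∈ perp C.S (pl v w) := by
    intro u hu
    have := hz ⟨u, h.ti hu⟩
    change C.S.B z u = e u at this
    rw [this, hln u hu]
  refine ⟨z, hzP, fun x hx => ?_⟩
  have := hz ⟨x, hx⟩
  change C.S.B z x = e x at this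
  rw [C.S.symm, this]
  exact he x hx

end NrmB

/-- `g` centralises `Q_ℓ` -/
structure NrmC (C : Ctx G V) (v w : V) (g : G) : Prop where
  a : NrmA C v w g
  c : ∀ x ∈ QU C.S (pl v w), g * (x : G) * g⁻¹ = (x : G)

theorem NrmB.exists_NrmC (hB : NrmB C v w g) : ∃ g', NrmC C v w g' := by
  have hfinV := C.finV
  have h := hB.a.ln
  obtain ⟨zv, hzv, hgv⟩ := hB.exists_z
  obtain ⟨zw, hzw, hgw⟩ := hB.symm.exists_z
  rw [h.pl_symm] at hzw hgw
  set c : C.L := q C.S w zv 0 * q C.S v zw 0 with hc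
  have hcQ : c ∈ QU C.S (pl v w) := mul_mem (h.qw_mem hzv 0) (h.qv_mem hzw 0)
  have hcA : ∀ a ∈ AU C.S (pl v w), c * a * c⁻¹ = a := by
    intro a ha
    rw [← AU_comm C.S ha (QU_le_FU C.S hcQ), mul_inv_cancel_right]
  have hsp2 : ∀ e : ZMod 2, q C.S v (e • w) 0 * q C.S v (e • w) 0 = 1 := by
    intro e
    rw [h.sp_add, z2_add, zero_smul, q_zero]
  have hspw : ∀ e : ZMod 2, q C.S w (e • v) 0 = q C.S v (e • w) 0 := by
    intro e
    rcases z2 e with rfl | rfl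
    · rw [zero_smul, zero_smul, q_zero, q_zero]
    · rw [one_smul, one_smul, h.q_symm]
  -- conjugation by `c`
  have hcv : ∀ x ∈ perp C.S (pl v w), c * q C.S v x 0 * c⁻¹ = q C.S v x 0 * q C.S v (C.S.B x zv • w) 0 := by
    intro x hx
    have hx' := (mem_perp_pl C.S).1 hx
    have e1 : q C.S v zw 0 * q C.S v x 0 * (q C.S v zw 0)⁻¹ = q C.S v x 0 := by
      rw [q_comm C.S ((mem_perp_pl C.S).1 hzw).1 hx'.1, mul_inv_cancel_right]
    have e2 := h.conj_qv hx hzv 0 0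
    calc c * q C.S v x 0 * c⁻¹ = q C.S w zv 0 * (q C.S v zw 0 * q C.S v x 0 * (q C.S v zw 0)⁻¹) *
        (q C.S w zv 0)⁻¹ := by rw [hc]; group
      _ = _ := by rw [e1, e2]
  have hcw : ∀ x ∈ perp C.S (pl v w), c * q C.S w x 0 * c⁻¹ = q C.S w x 0 * q C.S w (C.S.B x zw • v) 0 := by
    intro x hx
    have hx' := (mem_perp_pl C.S).1 hx
    have e2 := h.symm.conj_qv (x := x) (y := zw) (by rw [h.pl_symm]; exact hx) (by rw [h.pl_symm]; exact hzw) 0 0
    have e3 : q C.S w zv 0 * (q C.S w x 0 * q C.S w (C.S.B x zw • v) 0) * (q C.S w zv 0)⁻¹ =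
        q C.S w x 0 * q C.S w (C.S.B x zw • v) 0 := by
      have c1 : q C.S w zv 0 * q C.S w x 0 = q C.S w x 0 * q C.S w zv 0 :=
        q_comm C.S ((mem_perp_pl C.S).1 hzv).2 hx'.2 _ _
      have c2 : q C.S w zv 0 * q C.S w (C.S.B x zw • v) 0 = q C.S w (C.S.B x zw • v) 0 * q C.S w zv 0 :=
        q_comm C.S ((mem_perp_pl C.S).1 hzv).2 (by
          rw [map_smul, LinearMap.smul_apply, h.hvw, smul_zero]) _ _
      rw [← mul_assoc (q C.S w zv 0), c1, mul_assoc (q C.S w x 0), c2, ← mul_assoc, mul_inv_cancel_right]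
    calc c * q C.S w x 0 * c⁻¹ = q C.S w zv 0 * (q C.S v zw 0 * q C.S w x 0 * (q C.S v zw 0)⁻¹) *
        (q C.S w zv 0)⁻¹ := by rw [hc]; group
      _ = _ := by rw [e2, e3]
  have hgA : ∀ a ∈ AU C.S (pl v w), ((c : G) * g) * (a : G) * ((c : G) * g)⁻¹ = (a : G) := by
    intro a ha
    have h1 := hB.a.comm_AU ha
    have h2 : (c : G) * (a : G) * (c : G)⁻¹ = (a : G) := congrArg Subtype.val (hcA a ha)
    calc ((c : G) * g) * (a : G) * ((c : G) * g)⁻¹ = (c : G) * (g * (a : G) * g⁻¹) * (c : G)⁻¹ := by group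
      _ = _ := by rw [h1, h2]
  have hkv : ∀ x ∈ perp C.S (pl v w),
      ((c : G) * g) * (q C.S v x 0 : C.L) * ((c : G) * g)⁻¹ = (q C.S v x 0 : C.L) := by
    intro x hx
    have h2 : c * (q C.S v x 0 * q C.S v (C.S.B x zv • w) 0) * c⁻¹ = q C.S v x 0 := by
      have h3 := hcA _ (h.sp_mem (C.S.B x zv))
      calc c * (q C.S v x 0 * q C.S v (C.S.B x zv • w) 0) * c⁻¹ =
          (c * q C.S v x 0 * c⁻¹) * (c * q C.S v (C.S.B x zv • w) 0 * c⁻¹) := by group
        _ = _ := by rw [h3, hcv x hx, mul_assoc, hsp2, mul_one]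
    have h2' : (c : G) * ((q C.S v x 0 * q C.S v (C.S.B x zv • w) 0 : C.L) : G) * (c : G)⁻¹ =
      (q C.S v x 0 : C.L) := congrArg Subtype.val h2
    calc ((c : G) * g) * (q C.S v x 0 : C.L) * ((c : G) * g)⁻¹ =
        (c : G) * (g * (q C.S v x 0 : C.L) * g⁻¹) * (c : G)⁻¹ := by group
      _ = _ := by rw [hgv x hx, h2']
  have hkw : ∀ x ∈ perp C.S (pl v w),
      ((c : G) * g) * (q C.S w x 0 : C.L) * ((c : G) * g)⁻¹ = (q C.S w x 0 : C.L) := by
    intro x hx
    have h2 : c * (q C.S w x 0 * q C.S w (C.S.B x zw • v) 0) * c⁻¹ = q C.S w x 0 := by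
      have h3 := hcA _ (h.sp_mem (C.S.B x zw))
      rw [← hspw] at h3
      calc c * (q C.S w x 0 * q C.S w (C.S.B x zw • v) 0) * c⁻¹ =
          (c * q C.S w x 0 * c⁻¹) * (c * q C.S w (C.S.B x zw • v) 0 * c⁻¹) := by group
        _ = _ := by rw [h3, hcw x hx, mul_assoc, hspw, hsp2, mul_one]
    have h2' : (c : G) * ((q C.S w x 0 * q C.S w (C.S.B x zw • v) 0 : C.L) : G) * (c : G)⁻¹ =
      (q C.S w x 0 : C.L) := congrArg Subtype.val h2
    calc ((c : G) * g) * (q C.S w x 0 : C.L) * ((c : G) * g)⁻¹ =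
        (c : G) * (g * (q C.S w x 0 : C.L) * g⁻¹) * (c : G)⁻¹ := by group
      _ = _ := by rw [hgw x hx, h2']
  refine ⟨(c : G) * g, ⟨h, hB.a.nrm.mul_left (QU_le_PU C.S hcQ), hgA _ (τ_mem_AU C.S (left_mem_pl v w)),
    hgA _ (τ_mem_AU C.S (right_mem_pl v w))⟩, ?_⟩
  intro x hx
  obtain ⟨a, b, ha, hb, k, hk, rfl⟩ := h.mem_QU_pl hx
  change ((c : G) * g) * (((q C.S v a 0 : C.L) : G) * (q C.S w b 0 : C.L) * (k : G)) * ((c : G) * g)⁻¹ =
    ((q C.S v a 0 : C.L) : G) * (q C.S w b 0 : C.L) * (k : G)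
  have e1 := hkv a ha
  have e2 := hkw b hb
  have e3 := hgA k hk
  generalize (c : G) * g = y at e1 e2 e3
  calc y * (((q C.S v a 0 : C.L) : G) * (q C.S w b 0 : C.L) * (k : G)) * y⁻¹ =
      (y * (q C.S v a 0 : C.L) * y⁻¹) * (y * (q C.S w b 0 : C.L) * y⁻¹) * (y * (k : G) * y⁻¹) := by group
    _ = _ := by rw [e1, e2, e3]

end Cfsg.Agent.OddHalf.SpTwo

end

-- merged: Cfsg.Agent.OddHalf.SpTwo.ShortD
section

/-!
# Existence of `y_ℓ` (short roots): an involution commuting with an element `d` of order 3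
-/

set_option autoImplicit false
set_option linter.unusedSimpArgs false
set_option linter.unusedSectionVars false

open scoped commutatorElement

namespace Cfsg.Agent.OddHalf.SpTwo

open Cfsg.Agent.StandardComponent.SpTwo
open Cfsg.Agent.OddHalf.SpTwoN

section Sp

variable {X V : Type*} [Group X] [AddCommGroup V] [Module (ZMod 2) V] {D : SpData X V}

/-- `a, b` with `(a,v) = 0`, `(a,w) = 1`, `(b,v) = 1`, `(b,w) = 0`, `(a,b) = 1`: then
`d = τ a τ b τ (v+a) τ (w+b)` has order 3 and permutes `v, w, v+w` cyclically. -/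
structure Dual (D : SpData X V) (v w a b : V) : Prop where
  av : D.B a v = 0
  aw : D.B a w = 1
  bv : D.B b v = 1
  bw : D.B b w = 0
  ab : D.B a b = 1

/-- the element of order 3 -/
def dd (D : SpData X V) (v w a b : V) : X := (D.τ a * D.τ b) * (D.τ (v + a) * D.τ (w + b))

theorem IsLn.exists_Dual [Finite V] {v w : V} (h : IsLn D v w) : ∃ a b, Dual D v w a b := by
  obtain ⟨v', w', h1, h2, h3, h4⟩ := h.exists_dual
  rcases z2 (D.B w' v') with h5 | h5
  · refine ⟨w' + v, v', ?_, ?_, h1, h2, ?_⟩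
    · rw [B_add, h3, D.alt, add_zero]
    · rw [B_add, h4, h.hvw, add_zero]
    · rw [B_add, h5, D.symm v v', h1, zero_add]
  · exact ⟨w', v', h3, h4, h1, h2, h5⟩

namespace Dual

variable {v w a b : V} (h : IsLn D v w) (hd : Dual D v w a b)

include h hd

theorem B1 : D.B (v + a) (w + b) = 1 := by
  have h1 : D.B v b = 1 := by rw [D.symm]; exact hd.bv
  rw [B_add, map_add, map_add, h.hvw, h1, hd.aw, hd.ab]; decide

theorem B2 : D.B a (v + a) = 0 := by rw [map_add, hd.av, D.alt, add_zero]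

theorem B3 : D.B a (w + b) = 0 := by rw [map_add, hd.aw, hd.ab]; decide

theorem B4 : D.B b (v + a) = 0 := by rw [map_add, hd.bv, D.symm, hd.ab]; decide

theorem B5 : D.B b (w + b) = 0 := by rw [map_add, hd.bw, D.alt, add_zero]

theorem comm : (D.τ a * D.τ b) * (D.τ (v + a) * D.τ (w + b)) =
    (D.τ (v + a) * D.τ (w + b)) * (D.τ a * D.τ b) := by
  have c1 : Commute (D.τ a) (D.τ (v + a)) := D.τ_commute (hd.B2 h)
  have c2 : Commute (D.τ a) (D.τ (w + b)) := D.τ_commute (hd.B3 h)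
  have c3 : Commute (D.τ b) (D.τ (v + a)) := D.τ_commute (hd.B4 h)
  have c4 : Commute (D.τ b) (D.τ (w + b)) := D.τ_commute (hd.B5 h)
  exact (((c1.mul_right c2).mul_left (c3.mul_right c4)) : Commute _ _)

theorem dd_three : dd D v w a b * dd D v w a b * dd D v w a b = 1 := by
  have h1 := ττ_three D hd.ab
  have h2 := ττ_three D (hd.B1 h)
  have hc := hd.comm h
  rw [dd]
  generalize D.τ a * D.τ b = x at *
  generalize D.τ (v + a) * D.τ (w + b) = y at *
  calc x * y * (x * y) * (x * y) = x * (y * x) * (y * x) * y := by simp only [mul_assoc]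
    _ = x * (x * y) * (x * y) * y := by rw [← hc]
    _ = x * x * (y * x) * (y * y) := by simp only [mul_assoc]
    _ = x * x * (x * y) * (y * y) := by rw [← hc]
    _ = (x * x * x) * (y * y * y) := by simp only [mul_assoc]
    _ = 1 := by rw [h1, h2, one_mul]

theorem dd_apply (x : V) : D.ρ (dd D v w a b) x =
    x + D.B x b • b + (D.B x a + D.B x b) • a + D.B x (w + b) • (w + b) +
      (D.B x (v + a) + D.B x (w + b)) • (v + a) := by
  have h1 := hd.B1 h
  have h2 := hd.B2 h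
  have h3 := hd.B3 h
  have h4 := hd.B4 h
  have h5 := hd.B5 h
  have h1' : D.B (w + b) (v + a) = 1 := by rw [D.symm]; exact h1
  have h3' : D.B (w + b) a = 0 := by rw [D.symm]; exact h3
  have h2' : D.B (v + a) a = 0 := by rw [D.symm]; exact h2
  have h4' : D.B (v + a) b = 0 := by rw [D.symm]; exact h4
  have h5' : D.B (w + b) b = 0 := by rw [D.symm]; exact h5
  have hba : D.B b a = 1 := by rw [D.symm]; exact hd.ab
  generalize hA : v + a = A at *
  generalize hB : w + b = B' at *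
  rw [dd, hA, hB, D.ρ_mul, D.ρ_mul, D.ρ_mul, D.hτ B' x, D.hτ A, D.hτ b, D.hτ a]
  apply ext_B D
  intro z
  simp only [map_add, LinearMap.add_apply, map_smul, LinearMap.smul_apply, smul_eq_mul, D.alt, h1', h3', h2', h4',
    h5', hba]
  generalize D.B x a = x1
  generalize D.B x b = x2
  generalize D.B x A = x3
  generalize D.B x B' = x4
  generalize D.B a z = z1
  generalize D.B b z = z2
  generalize D.B A z = z3
  generalize D.B B' z = z4
  generalize D.B x z = k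
  clear h1 h2 h3 h4 h5 h1' h3' h2' h4' h5' hba
  have key : ∀ x1 x2 x3 x4 : ZMod 2, ∀ z1 z2 z3 z4 k : ZMod 2, k + x4 * z4 + (x3 + x4 * 1) * z3 +
      (x2 + x4 * 0 + (x3 + x4 * 1) * 0) * z2 + (x1 + x4 * 0 + (x3 + x4 * 1) * 0 +
        (x2 + x4 * 0 + (x3 + x4 * 1) * 0) * 1) * z1 =
      k + x2 * z2 + (x1 + x2) * z1 + x4 * z4 + (x3 + x4) * z3 := by
    intro x1 x2 x3 x4 z1 z2 z3 z4 k
    ring
  exact key x1 x2 x3 x4 z1 z2 z3 z4 k

theorem dd_v : D.ρ (dd D v w a b) v = w := by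
  have h1 : D.B v b = 1 := by rw [D.symm]; exact hd.bv
  have h2 : D.B v a = 0 := by rw [D.symm]; exact hd.av
  rw [hd.dd_apply h, map_add, map_add, h.hvw, h1, h2, D.alt]
  simp only [zero_add, add_zero, one_smul]
  have : v + b + a + (w + b) + (v + a) = w + (v + v) + (b + b) + (a + a) := by abel
  rw [this, aa, aa, aa, add_zero, add_zero, add_zero]

theorem dd_w : D.ρ (dd D v w a b) w = v + w := by
  have h1 : D.B w b = 0 := by rw [D.symm]; exact hd.bw
  have h2 : D.B w a = 1 := by rw [D.symm]; exact hd.aw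
  rw [hd.dd_apply h, map_add, map_add, h.hwv, h1, h2, D.alt]
  simp only [zero_add, add_zero, one_smul, zero_smul]
  have : w + a + (v + a) = v + w + (a + a) := by abel
  rw [this, aa, add_zero]

theorem dd_vw : D.ρ (dd D v w a b) (v + w) = v := by
  rw [map_add, hd.dd_v h, hd.dd_w h, add_comm v w, aac]

theorem dd_mem [Finite V] : dd D v w a b ∈ PU D (pl v w) := by
  apply mem_PU_pl
  · rw [hd.dd_v h]; exact right_mem_pl v w
  · rw [hd.dd_w h]; exact add_mem (left_mem_pl v w) (right_mem_pl v w)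

theorem dd_ne {u : V} (hu : u ∈ pl v w) (hu0 : u ≠ 0) : D.ρ (dd D v w a b) u ≠ u := by
  intro h1
  rcases mem_pl.1 hu with rfl | rfl | rfl | rfl
  · exact hu0 rfl
  · rw [hd.dd_v h] at h1
    exact h.hw (by rw [h1]; exact self_mem_ln _)
  · rw [hd.dd_w h] at h1
    exact h.hv (add_eq_right.1 h1)
  · rw [hd.dd_vw h] at h1
    exact h.hw0 (add_eq_left.1 h1.symm)

end Dual

/-- elements of `A_ℓ` commuting with an element without fixed vectors on `ℓ` -/
theorem IsLn.sp_of_commute [Finite V] {v w : V} (h : IsLn D v w) {m a : X} (hm : m ∈ PU D (pl v w))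
    (hm0 : ∀ u ∈ pl v w, u ≠ 0 → D.ρ m u ≠ u) (ha : a ∈ AU D (pl v w)) (hc : m * a = a * m) :
    ∃ e : ZMod 2, a = q D v (e • w) 0 := by
  rcases h.AU_cases ha with h1 | ⟨u, hu, hu0, e, rfl⟩
  · exact h1
  · exfalso
    have hms : m * q D v (e • w) 0 * m⁻¹ = q D v (e • w) 0 := by
      rcases z2 e with rfl | rfl
      · rw [zero_smul, q_zero]; group
      · rw [one_smul, (commute_s_iff D h.hv h.hw h.hvw).2 hm, mul_inv_cancel_right]
    have h2 : m * (D.τ u * q D v (e • w) 0) * m⁻¹ = D.τ u * q D v (e • w) 0 := by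
      rw [hc, mul_inv_cancel_right]
    have h3 : m * (D.τ u * q D v (e • w) 0) * m⁻¹ = D.τ (D.ρ m u) * q D v (e • w) 0 := by
      calc m * (D.τ u * q D v (e • w) 0) * m⁻¹ = (m * D.τ u * m⁻¹) * (m * q D v (e • w) 0 * m⁻¹) := by group
        _ = _ := by rw [hms, D.conj_τ]
    rw [h2] at h3
    exact hm0 u hu hu0 (D.τ_injective (mul_right_cancel h3)).symm

end Sp

variable {G V : Type*} [Group G] [AddCommGroup V] [Module (ZMod 2) V] {C : Ctx G V}
variable {v w : V} {g : G}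

/-- first version of `y_ℓ` -/
structure IsPre (C : Ctx G V) (v w : V) (y : G) : Prop where
  ln : IsLn C.S v w
  sq : y * y = 1
  conj_t : y * C.t * y = C.t * (q C.S v w 0 : C.L)
  comm : ∀ x ∈ QU C.S (pl v w), y * (x : G) = (x : G) * y

namespace NrmC

theorem comm (hC : NrmC C v w g) {x : C.L} (hx : x ∈ QU C.S (pl v w)) : g * (x : G) = (x : G) * g :=
  mul_inv_eq_iff_eq_mul.1 (hC.c x hx)

/-- image of an element of the stabilizer of the line -/
theorem exists_a (hC : NrmC C v w g) {m : C.L} (hm : m ∈ PU C.S (pl v w)) :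
    ∃ a ∈ AU C.S (pl v w), g * (m : G) * g⁻¹ = ((a * m : C.L) : G) ∨
      g * (m : G) * g⁻¹ = C.t * ((a * m : C.L) : G) := by
  have hfinV := C.finV
  have h := hC.a.ln
  obtain ⟨k, hk, hk'⟩ := hC.a.nrm.exists_PU hm
  have key : ∀ x ∈ QU C.S (pl v w), (k * m⁻¹) * x = x * (k * m⁻¹) := by
    intro x hx
    have hmi : m⁻¹ ∈ PU C.S (pl v w) := inv_mem hm
    set x' := m⁻¹ * x * m with hx'
    have hx'Q : x' ∈ QU C.S (pl v w) := by
      have := QU_conj C.S hmi hx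
      rwa [inv_inv] at this
    have h1 := conj_lift C hk' x'
    have h2 := hC.c x' hx'Q
    have h2' : g⁻¹ * (x' : G) * g = (x' : G) := by
      calc g⁻¹ * (x' : G) * g = g⁻¹ * (g * (x' : G) * g⁻¹) * g := by rw [h2]
        _ = _ := by group
    have h3 : (m : G) * (x' : G) * (m : G)⁻¹ = (x : G) := by
      rw [hx']
      change (m : G) * ((m : G)⁻¹ * x * m) * (m : G)⁻¹ = x
      group
    have h4 : g * (m : G) * g⁻¹ * (x' : G) * (g * (m : G) * g⁻¹)⁻¹ = (x : G) := by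
      calc g * (m : G) * g⁻¹ * (x' : G) * (g * (m : G) * g⁻¹)⁻¹ =
          g * ((m : G) * (g⁻¹ * (x' : G) * g) * (m : G)⁻¹) * g⁻¹ := by group
        _ = _ := by rw [h2', h3, hC.c x hx]
    rw [h4] at h1
    have h5 : x = k * x' * k⁻¹ := Subtype.ext h1
    have h6 : (k * m⁻¹) * x * (k * m⁻¹)⁻¹ = x := by
      calc (k * m⁻¹) * x * (k * m⁻¹)⁻¹ = k * (m⁻¹ * x * m) * k⁻¹ := by group
        _ = _ := by rw [← hx', ← h5]
    exact mul_inv_eq_iff_eq_mul.1 h6
  refine ⟨k * m⁻¹, ?_, by rw [inv_mul_cancel_right]; exact hk'⟩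
  apply h.mem_AU_of_commute
  · exact key _ (AU_le_QU C.S h.ti (τ_mem_AU C.S (left_mem_pl v w)))
  · exact key _ (AU_le_QU C.S h.ti (τ_mem_AU C.S (right_mem_pl v w)))
  · intro x hx; exact key _ (h.qv_mem hx 0)
  · intro x hx; exact key _ (h.qw_mem hx 0)

theorem mul_AU (hC : NrmC C v w g) {a : C.L} (ha : a ∈ AU C.S (pl v w)) : NrmC C v w ((a : G) * g) := by
  have hfinV := C.finV
  have h := hC.a.ln
  have key : ∀ x ∈ QU C.S (pl v w), ((a : G) * g) * (x : G) * ((a : G) * g)⁻¹ = (x : G) := by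
    intro x hx
    have h1 : a * x * a⁻¹ = x := by rw [AU_comm C.S ha (QU_le_FU C.S hx), mul_inv_cancel_right]
    have h1' : (a : G) * (x : G) * (a : G)⁻¹ = (x : G) := congrArg Subtype.val h1
    calc ((a : G) * g) * (x : G) * ((a : G) * g)⁻¹ = (a : G) * (g * (x : G) * g⁻¹) * (a : G)⁻¹ := by group
      _ = _ := by rw [hC.c x hx, h1']
  refine ⟨⟨h, hC.a.nrm.mul_left (QU_le_PU C.S (AU_le_QU C.S h.ti ha)), ?_, ?_⟩, key⟩
  · exact key _ (AU_le_QU C.S h.ti (τ_mem_AU C.S (left_mem_pl v w)))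
  · exact key _ (AU_le_QU C.S h.ti (τ_mem_AU C.S (right_mem_pl v w)))

end NrmC

theorem cube_t (C : Ctx G V) (x : C.L) : C.t * (x : G) * (C.t * (x : G)) * (C.t * (x : G)) =
    C.t * ((x * x * x : C.L) : G) := by
  have hX := t_comm C x
  calc C.t * (x : G) * (C.t * (x : G)) * (C.t * (x : G)) =
      C.t * ((x : G) * C.t) * ((x : G) * C.t) * x := by simp only [mul_assoc]
    _ = C.t * (C.t * (x : G)) * (C.t * (x : G)) * x := by rw [hX]
    _ = (C.t * C.t) * ((x : G) * C.t) * ((x : G) * x) := by simp only [mul_assoc]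
    _ = C.t * (x : G) * ((x : G) * x) := by rw [C.tt, one_mul, hX]
    _ = C.t * ((x : G) * x * x) := by simp only [mul_assoc]

/-- **existence of the first version of `y_ℓ`**, commuting with an element of order 3 -/
theorem exists_pre (hC : NrmC C v w g) {a b : V} (hd : Dual C.S v w a b) :
    ∃ y, IsPre C v w y ∧ y * (dd C.S v w a b : C.L) = (dd C.S v w a b : C.L) * y := by
  have hfinV := C.finV
  have h := hC.a.ln
  set d := dd C.S v w a b with hddef
  have hdP : d ∈ PU C.S (pl v w) := hd.dd_mem h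
  have hd3 : d * d * d = 1 := hd.dd_three h
  obtain ⟨k, hk, hk'⟩ := hC.exists_a hdP
  have hd3' : (d : G) * d * d = 1 := congrArg Subtype.val hd3
  have hkd : g * (d : G) * g⁻¹ = ((k * d : C.L) : G) := by
    rcases hk' with hk' | hk'
    · exact hk'
    · exfalso
      have h1 : g * (d : G) * g⁻¹ * (g * (d : G) * g⁻¹) * (g * (d : G) * g⁻¹) = 1 := by
        calc g * (d : G) * g⁻¹ * (g * (d : G) * g⁻¹) * (g * (d : G) * g⁻¹) = g * ((d : G) * d * d) * g⁻¹ := by
              group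
          _ = 1 := by rw [hd3']; group
      rw [hk'] at h1
      have h2 : C.t * ((k * d : C.L) : G) * (C.t * ((k * d : C.L) : G)) * (C.t * ((k * d : C.L) : G)) =
          C.t * (((k * d) * (k * d) * (k * d) : C.L) : G) := cube_t C (k * d)
      rw [h2] at h1
      exact ne_t_mul C 1 _ h1.symm
  -- the norm condition
  have hnorm : k * (d * k * d⁻¹) * (d * d * k * (d * d)⁻¹) = 1 := by
    have h1 : (k * d) * (k * d) * (k * d) = 1 := by
      apply Subtype.ext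
      change ((k * d : C.L) : G) * ((k * d : C.L) : G) * ((k * d : C.L) : G) = 1
      rw [← hkd]
      calc g * (d : G) * g⁻¹ * (g * (d : G) * g⁻¹) * (g * (d : G) * g⁻¹) = g * ((d : G) * d * d) * g⁻¹ := by
            group
        _ = 1 := by rw [hd3']; group
    calc k * (d * k * d⁻¹) * (d * d * k * (d * d)⁻¹) = (k * d) * (k * d) * (k * d) * (d * d * d)⁻¹ := by group
      _ = 1 := by rw [h1, hd3]; group
  set c := d * k * d⁻¹ with hcdef
  have hcA : c ∈ AU C.S (pl v w) := AU_conj C.S hdP hk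
  have hkk : k * k = 1 := AU_sq C.S h.ti hk
  have hcc : c * c = 1 := AU_sq C.S h.ti hcA
  have hcd : c * (k * d) * c⁻¹ = d := by
    -- `d c⁻¹ d⁻¹ = (k c)⁻¹ ...`
    have h1 : d * c * d⁻¹ = d * d * k * (d * d)⁻¹ := by rw [hcdef]; group
    rw [← h1] at hnorm
    have h2 : d * c * d⁻¹ = (k * c)⁻¹ := (inv_eq_of_mul_eq_one_right hnorm).symm
    have hck : c * k = k * c := AU_comm C.S hcA (QU_le_FU C.S (AU_le_QU C.S h.ti hk))
    calc c * (k * d) * c⁻¹ = c * k * (d * c * d⁻¹)⁻¹ * d := by group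
      _ = c * k * (k * c) * d := by rw [h2, inv_inv]
      _ = d := by
          rw [hck, mul_assoc k c, ← mul_assoc c k, hck, mul_assoc k c, hcc, mul_one, hkk, one_mul]
  have hC1 := hC.mul_AU hcA
  set y := (c : G) * g with hydef
  have hyd : y * (d : G) * y⁻¹ = (d : G) := by
    have h1 : (c : G) * ((k * d : C.L) : G) * (c : G)⁻¹ = (d : G) := congrArg Subtype.val hcd
    calc y * (d : G) * y⁻¹ = (c : G) * (g * (d : G) * g⁻¹) * (c : G)⁻¹ := by rw [hydef]; group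
      _ = _ := by rw [hkd, h1]
  have hydc : y * (d : G) = (d : G) * y := mul_inv_eq_iff_eq_mul.1 hyd
  -- `y²`
  have hs : ((q C.S v w 0 : C.L) : G) * (q C.S v w 0 : C.L) = 1 := congrArg Subtype.val (q_sq C.S h.hwv 0)
  have hyt := hC1.a.nrm.ht
  have hys := hC1.a.nrm.hz
  have h1 : y * y * C.t = C.t * (y * y) := by
    have : y * y * C.t * (y * y)⁻¹ = C.t := by
      calc y * y * C.t * (y * y)⁻¹ = y * (y * C.t * y⁻¹) * y⁻¹ := by group
        _ = y * (C.t * (q C.S v w 0 : C.L)) * y⁻¹ := by rw [hyt]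
        _ = (y * C.t * y⁻¹) * (y * (q C.S v w 0 : C.L) * y⁻¹) := by group
        _ = _ := by rw [hyt, hys, mul_assoc, hs, mul_one]
    exact mul_inv_eq_iff_eq_mul.1 this
  obtain ⟨r, hr⟩ := exists_lift C h1
  have hrA : r ∈ AU C.S (pl v w) := by
    have hcom : ∀ x ∈ QU C.S (pl v w), r * x = x * r := by
      intro x hx
      apply Subtype.ext
      change (r : G) * x = x * r
      have h2 : y * y * (x : G) = x * (y * y) := by
        rw [mul_assoc, hC1.comm hx, ← mul_assoc, hC1.comm hx, mul_assoc]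
      rcases hr with hr | hr
      · rwa [hr] at h2
      · rw [hr] at h2
        have h3 : C.t * ((r : G) * x) = C.t * (x * r) := by
          rw [← mul_assoc, h2, ← mul_assoc, t_comm, mul_assoc]
        exact mul_left_cancel h3
    apply h.mem_AU_of_commute
    · exact hcom _ (AU_le_QU C.S h.ti (τ_mem_AU C.S (left_mem_pl v w)))
    · exact hcom _ (AU_le_QU C.S h.ti (τ_mem_AU C.S (right_mem_pl v w)))
    · intro x hx; exact hcom _ (h.qv_mem hx 0)
    · intro x hx; exact hcom _ (h.qw_mem hx 0)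
  have hyr : y * (r : G) * y⁻¹ = r := hC1.c r (AU_le_QU C.S h.ti hrA)
  have hyy : y * y = r := by
    rcases hr with hr | hr
    · exact hr
    · exfalso
      have h2 : y * (C.t * (r : G)) * y⁻¹ = C.t * r := by rw [← hr]; group
      have h3 : y * (C.t * (r : G)) * y⁻¹ = C.t * (q C.S v w 0 : C.L) * r := by
        calc y * (C.t * (r : G)) * y⁻¹ = (y * C.t * y⁻¹) * (y * (r : G) * y⁻¹) := by group
          _ = _ := by rw [hyt, hyr]
      rw [h3] at h2
      have h4 := mul_left_cancel ((mul_right_cancel h2).trans (mul_one C.t).symm)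
      exact h.s_ne_one (Subtype.ext h4)
  have hrd : d * r = r * d := by
    apply Subtype.ext
    change (d : G) * r = r * d
    have h2 : (d : G) * (y * y) = y * y * d := by
      clear_value y
      rw [← mul_assoc, ← hydc, mul_assoc, ← hydc, mul_assoc]
    rw [hyy] at h2
    exact h2
  obtain ⟨e, he⟩ := h.sp_of_commute hdP (fun u hu hu0 => hd.dd_ne h hu hu0) hrA hrd
  have htx : ∀ x : C.L, C.t * (x : G) = x * C.t := fun x => (t_comm C x).symm
  rcases z2 e with he0 | he0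
  · rw [he, he0, zero_smul, q_zero] at hyy
    have hsq : y * y = 1 := hyy
    have hinv : y⁻¹ = y := inv_eq_of_mul_eq_one_right hsq
    rw [hinv] at hyt
    exact ⟨y, ⟨h, hsq, hyt, fun x hx => hC1.comm hx⟩, hydc⟩
  · rw [he, he0, one_smul] at hyy
    have h2 : y * C.t = C.t * (q C.S v w 0 : C.L) * y := mul_inv_eq_iff_eq_mul.1 hyt
    refine ⟨C.t * y, ⟨h, ?_, ?_, ?_⟩, ?_⟩
    · calc C.t * y * (C.t * y) = C.t * (y * C.t) * y := by group
        _ = C.t * C.t * (q C.S v w 0 : C.L) * (y * y) := by rw [h2]; group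
        _ = 1 := by rw [C.tt, hyy, one_mul, hs]
    · calc C.t * y * C.t * (C.t * y) = C.t * y * (C.t * C.t) * y := by group
        _ = C.t * (y * y) := by rw [C.tt]; group
        _ = _ := by rw [hyy]
    · intro x hx
      rw [mul_assoc, hC1.comm hx, ← mul_assoc, htx, mul_assoc]
    · rw [mul_assoc, hydc, ← mul_assoc, htx, mul_assoc]

end Cfsg.Agent.OddHalf.SpTwo

end

-- merged: Cfsg.Agent.OddHalf.SpTwo.ShortE
section

/-!
# `y_ℓ` (short roots) commutes with the transvections `b_x`, `x ∈ ℓ^⊥`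
-/

set_option autoImplicit false
set_option linter.unusedSimpArgs false
set_option linter.unusedSectionVars false

open scoped commutatorElement

namespace Cfsg.Agent.OddHalf.SpTwo

open Cfsg.Agent.StandardComponent.SpTwo
open Cfsg.Agent.OddHalf.SpTwoN

theorem ττ_mem_QU {X V : Type*} [Group X] [AddCommGroup V] [Module (ZMod 2) V] (D : SpData X V)
    {U : Submodule (ZMod 2) V} (hU : U ≤ perp D U) {x μ : V} (hx : x ∈ perp D U) (hμ : μ ∈ U) :
    D.τ (x + μ) * D.τ x ∈ QU D U := by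
  have hx0 : x + μ ∈ perp D U := add_mem hx (hU hμ)
  constructor
  · intro u hu
    have e1 : ∀ z ∈ perp D U, D.ρ (D.τ z) u = u := by
      intro z hz
      rw [D.hτ, D.symm, hz u hu, zero_smul, add_zero]
    rw [D.ρ_mul, e1 x hx, e1 _ hx0]
  · intro z hz
    have e2 : D.B (z + D.B z x • x) (x + μ) = D.B z x := by
      rw [B_add, map_smul, LinearMap.smul_apply, map_add, map_add, D.alt, hz μ hμ, hx μ hμ]; simp
    rw [D.ρ_mul, D.hτ x z, D.hτ, e2]
    rcases z2 (D.B z x) with h1 | h1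
    · rw [h1, zero_smul, zero_smul, add_zero, add_zero, aa]; exact zero_mem _
    · rw [h1, one_smul, one_smul]
      have : z + x + (x + μ) + z = μ + (z + z) + (x + x) := by abel
      rw [this, aa, aa, add_zero, add_zero]; exact hμ

variable {G V : Type*} [Group G] [AddCommGroup V] [Module (ZMod 2) V] {C : Ctx G V}
variable {v w : V} {g : G}

namespace IsPre

theorem comm_s {y : G} (hy : IsPre C v w y) : y * (q C.S v w 0 : C.L) = (q C.S v w 0 : C.L) * y := by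
  have := hy.comm _ (hy.ln.qv_mem (hy.ln.ti (right_mem_pl v w)) 0)
  exact this

theorem comm_sp {y : G} (hy : IsPre C v w y) (e : ZMod 2) :
    y * (q C.S v (e • w) 0 : C.L) = (q C.S v (e • w) 0 : C.L) * y :=
  hy.comm _ (AU_le_QU C.S hy.ln.ti (hy.ln.sp_mem e))

theorem inv_eq {y : G} (hy : IsPre C v w y) : y⁻¹ = y := inv_eq_of_mul_eq_one_right hy.sq

/-- two versions of `y_ℓ` differ by an element of `A_ℓ` -/
theorem unique {y y' : G} (hy : IsPre C v w y) (hy' : IsPre C v w y') :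
    ∃ a ∈ AU C.S (pl v w), y' = y * (a : G) := by
  have hfinV := C.finV
  have h := hy.ln
  have hs : ((q C.S v w 0 : C.L) : G) * (q C.S v w 0 : C.L) = 1 := congrArg Subtype.val (q_sq C.S h.hwv 0)
  have h1 : y * C.t = C.t * (q C.S v w 0 : C.L) * y := by
    calc y * C.t = y * C.t * (y * y) := by rw [hy.sq, mul_one]
      _ = (y * C.t * y) * y := by group
      _ = _ := by rw [hy.conj_t]
  have h1' : y' * C.t = C.t * (q C.S v w 0 : C.L) * y' := by
    calc y' * C.t = y' * C.t * (y' * y') := by rw [hy'.sq, mul_one]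
      _ = (y' * C.t * y') * y' := by group
      _ = _ := by rw [hy'.conj_t]
  have h2 : y * y' * C.t = C.t * (y * y') := by
    calc y * y' * C.t = y * (y' * C.t) := by group
      _ = (y * C.t) * (q C.S v w 0 : C.L) * y' := by rw [h1']; group
      _ = C.t * (q C.S v w 0 : C.L) * (y * (q C.S v w 0 : C.L)) * y' := by rw [h1]; group
      _ = C.t * ((q C.S v w 0 : C.L) * (q C.S v w 0 : C.L)) * (y * y') := by rw [hy.comm_s]; group
      _ = _ := by rw [hs, mul_one]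
  obtain ⟨r, hr⟩ := exists_lift C h2
  have hcomm : ∀ x ∈ QU C.S (pl v w), r * x = x * r := by
    intro x hx
    apply Subtype.ext
    change (r : G) * x = x * r
    have h3 : y * y' * (x : G) = x * (y * y') := by
      rw [mul_assoc, hy'.comm x hx, ← mul_assoc, hy.comm x hx, mul_assoc]
    rcases hr with hr | hr
    · rwa [hr] at h3
    · rw [hr] at h3
      have h4 : C.t * ((r : G) * x) = C.t * (x * r) := by
        rw [← mul_assoc, h3, ← mul_assoc, t_comm, mul_assoc]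
      exact mul_left_cancel h4
  have hrA : r ∈ AU C.S (pl v w) := by
    apply h.mem_AU_of_commute
    · exact hcomm _ (AU_le_QU C.S h.ti (τ_mem_AU C.S (left_mem_pl v w)))
    · exact hcomm _ (AU_le_QU C.S h.ti (τ_mem_AU C.S (right_mem_pl v w)))
    · intro x hx; exact hcomm _ (h.qv_mem hx 0)
    · intro x hx; exact hcomm _ (h.qw_mem hx 0)
  have hyy : y' = y * (y * y') := by rw [← mul_assoc, hy.sq, one_mul]
  rcases hr with hr | hr
  · exact ⟨r, hrA, by rw [← hr]; exact hyy⟩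
  · exfalso
    have hrr : (r : G) * r = 1 := congrArg Subtype.val (AU_sq C.S h.ti hrA)
    have hyr : y * (r : G) = r * y := hy.comm r (AU_le_QU C.S h.ti hrA)
    have h5 : y' = y * C.t * r := by rw [hyy, hr, mul_assoc]
    have h6 : y' * y' = (q C.S v w 0 : C.L) := by
      calc y' * y' = y * C.t * r * (y * C.t * r) := by rw [← h5]
        _ = y * C.t * ((r : G) * y) * C.t * r := by group
        _ = y * C.t * y * ((r : G) * C.t) * r := by rw [← hyr]; group
        _ = (y * C.t * y) * (C.t * r) * r := by rw [t_comm]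
        _ = C.t * ((q C.S v w 0 : C.L) * C.t) * (r * r) := by rw [hy.conj_t]; group
        _ = (C.t * C.t) * (q C.S v w 0 : C.L) * (r * r) := by rw [t_comm]; group
        _ = _ := by rw [C.tt, hrr, one_mul, mul_one]
    rw [hy'.sq] at h6
    exact h.s_ne_one (Subtype.ext h6.symm)

theorem conj_PU {y : G} (hy : IsPre C v w y) {m : C.L} (hm : m ∈ PU C.S (pl v w)) :
    IsPre C v w ((m : G) * y * (m : G)⁻¹) := by
  have hfinV := C.finV
  have h := hy.ln
  have hms : m * q C.S v w 0 * m⁻¹ = q C.S v w 0 := by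
    rw [(commute_s_iff C.S h.hv h.hw h.hvw).2 hm, mul_inv_cancel_right]
  have hms' : (m : G) * (q C.S v w 0 : C.L) * (m : G)⁻¹ = (q C.S v w 0 : C.L) := congrArg Subtype.val hms
  have hmt : (m : G)⁻¹ * C.t * m = C.t := by
    rw [mul_assoc, ← t_comm, ← mul_assoc, inv_mul_cancel, one_mul]
  refine ⟨h, ?_, ?_, ?_⟩
  · calc (m : G) * y * (m : G)⁻¹ * ((m : G) * y * (m : G)⁻¹) = m * (y * y) * (m : G)⁻¹ := by group
      _ = 1 := by rw [hy.sq]; group
  · calc (m : G) * y * (m : G)⁻¹ * C.t * ((m : G) * y * (m : G)⁻¹) =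
        m * (y * ((m : G)⁻¹ * C.t * m) * y) * (m : G)⁻¹ := by group
      _ = (m : G) * C.t * (q C.S v w 0 : C.L) * (m : G)⁻¹ := by rw [hmt, hy.conj_t]; group
      _ = C.t * ((m : G) * (q C.S v w 0 : C.L) * (m : G)⁻¹) := by rw [t_comm]; group
      _ = _ := by rw [hms']
  · intro x hx
    have hx' : m⁻¹ * x * m ∈ QU C.S (pl v w) := by
      have := QU_conj C.S (inv_mem hm) hx
      rwa [inv_inv] at this
    have h1 := hy.comm _ hx'
    have h2 : y * ((m : G)⁻¹ * x * m) = ((m : G)⁻¹ * x * m) * y := h1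
    calc (m : G) * y * (m : G)⁻¹ * x = m * (y * ((m : G)⁻¹ * x * m)) * (m : G)⁻¹ := by group
      _ = m * (((m : G)⁻¹ * x * m) * y) * (m : G)⁻¹ := by rw [h2]
      _ = _ := by group

/-- the action of the transvections `b_x`, `x ∈ ℓ^⊥` -/
theorem exists_e {y : G} (hy : IsPre C v w y) {a b : V} (hd : Dual C.S v w a b)
    (hyd : y * (dd C.S v w a b : C.L) = (dd C.S v w a b : C.L) * y) {x : V} (hx : x ∈ perp C.S (pl v w)) :
    ∃ e : ZMod 2, C.b x * y * C.b x = y * (q C.S v (e • w) 0 : C.L) := by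
  have hfinV := C.finV
  have h := hy.ln
  have hdP := hd.dd_mem h
  -- vectors orthogonal to the dual basis
  have key : ∀ x0 ∈ perp C.S (pl v w), C.S.B x0 a = 0 → C.S.B x0 b = 0 →
      ∃ e : ZMod 2, C.b x0 * y * C.b x0 = y * (q C.S v (e • w) 0 : C.L) := by
    intro x0 hx0 h1 h2
    have hx0' := (mem_perp_pl C.S).1 hx0
    have hP : C.S.τ x0 ∈ PU C.S (pl v w) := τ_mem_PU C.S hx0
    have h3 := hy.conj_PU hP
    obtain ⟨r, hr, hr'⟩ := hy.unique h3
    have e1 : ((C.S.τ x0 : C.L) : G) = C.b x0 := rfl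
    have e2 : (C.b x0)⁻¹ = C.b x0 := by
      rw [← e1, ← Subgroup.coe_inv, C.S.τ_inv]
    rw [e1, e2] at hr'
    -- `d` commutes with `b x0`
    have c1 : Commute (C.S.τ x0) (C.S.τ a) := C.S.τ_commute h1
    have c2 : Commute (C.S.τ x0) (C.S.τ b) := C.S.τ_commute h2
    have c3 : Commute (C.S.τ x0) (C.S.τ (v + a)) := C.S.τ_commute (by rw [map_add, hx0'.1, h1, add_zero])
    have c4 : Commute (C.S.τ x0) (C.S.τ (w + b)) := C.S.τ_commute (by rw [map_add, hx0'.2, h2, add_zero])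
    have c5 : Commute (C.S.τ x0) (dd C.S v w a b) := (c1.mul_right c2).mul_right (c3.mul_right c4)
    have c6 : C.b x0 * (dd C.S v w a b : C.L) = (dd C.S v w a b : C.L) * C.b x0 :=
      congrArg Subtype.val c5.eq
    have c7 : dd C.S v w a b * r = r * dd C.S v w a b := by
      apply Subtype.ext
      change ((dd C.S v w a b : C.L) : G) * r = r * (dd C.S v w a b : C.L)
      have h4 : (r : G) = y * (C.b x0 * y * C.b x0) := by
        rw [hr', ← mul_assoc, hy.sq, one_mul]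
      generalize ((dd C.S v w a b : C.L) : G) = d at *
      rw [h4]
      have k1 : Commute d y := hyd.symm
      have k2 : Commute d (C.b x0) := c6.symm
      exact (k1.mul_right ((k2.mul_right k1).mul_right k2)).eq
    obtain ⟨e, he⟩ := h.sp_of_commute hdP (fun u hu hu0 => hd.dd_ne h hu hu0) hr c7
    exact ⟨e, by rw [hr', he]⟩
  have hx' := (mem_perp_pl C.S).1 hx
  set μ := C.S.B x b • v + C.S.B x a • w with hμ
  have hμl : μ ∈ pl v w :=
    add_mem (Submodule.smul_mem _ _ (left_mem_pl v w)) (Submodule.smul_mem _ _ (right_mem_pl v w))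
  have hva : C.S.B v a = 0 := by rw [C.S.symm]; exact hd.av
  have hwa : C.S.B w a = 1 := by rw [C.S.symm]; exact hd.aw
  have hvb : C.S.B v b = 1 := by rw [C.S.symm]; exact hd.bv
  have hwb : C.S.B w b = 0 := by rw [C.S.symm]; exact hd.bw
  have hx0 : x + μ ∈ perp C.S (pl v w) := add_mem hx (h.ti hμl)
  obtain ⟨e, he⟩ := key (x + μ) hx0 (by
      rw [B_add, hμ, B_add, map_smul, map_smul, LinearMap.smul_apply, LinearMap.smul_apply, hva, hwa,
        smul_zero, zero_add, smul_eq_mul, mul_one, z2_add]) (by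
      rw [B_add, hμ, B_add, map_smul, map_smul, LinearMap.smul_apply, LinearMap.smul_apply, hvb, hwb,
        smul_zero, add_zero, smul_eq_mul, mul_one, z2_add])
  refine ⟨e, ?_⟩
  -- `τ (x + μ) τ x ∈ Q_ℓ`
  have hrQ := ττ_mem_QU C.S h.ti hx hμl
  have h1 := hy.comm _ hrQ
  have h2 : y * (C.b (x + μ) * C.b x) = (C.b (x + μ) * C.b x) * y := h1
  have hbb : ∀ u : V, C.b u * C.b u = 1 := fun u => congrArg Subtype.val (C.S.τ_sq u)
  have hpp := hbb (x + μ)
  generalize C.b (x + μ) = p at *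
  calc C.b x * y * C.b x = p * (p * C.b x * y) * C.b x := by
        rw [mul_assoc p (C.b x) y, ← mul_assoc p p, hpp, one_mul]
    _ = p * (y * (p * C.b x)) * C.b x := by rw [h2]
    _ = (p * y * p) * (C.b x * C.b x) := by group
    _ = _ := by rw [he, hbb, mul_one]

end IsPre

/-- second version of `y_ℓ` -/
structure IsPre2 (C : Ctx G V) (v w : V) (y : G) : Prop where
  pre : IsPre C v w y
  e : ∀ x ∈ perp C.S (pl v w), ∃ e : ZMod 2, C.b x * y * C.b x = y * (q C.S v (e • w) 0 : C.L)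

theorem b_sq (C : Ctx G V) (u : V) : C.b u * C.b u = 1 := congrArg Subtype.val (C.S.τ_sq u)

theorem ln_le_pl {V : Type*} [AddCommGroup V] [Module (ZMod 2) V] {v w x : V} (hx : x ∈ SpTwo.ln v) :
    x ∈ pl v w := by
  rcases mem_ln.1 hx with rfl | rfl
  · exact zero_mem _
  · exact left_mem_pl _ _

/-- the product of a transvection and `s` is not a transvection -/
theorem no_τ [Finite V] {X : Type*} [Group X] (D : SpData X V) (h : IsLn D v w) {x z : V}
    (hx : x ∈ perp D (pl v w)) (hxl : x ∉ pl v w) {e2 e3 : ZMod 2}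
    (h1 : D.τ x * q D v (e2 • w) 0 * q D v (e3 • (x + w)) 0 = D.τ z) : e2 = 0 := by
  have hx' := (mem_perp_pl D).1 hx
  have hvx : D.B v x = 0 := by rw [D.symm]; exact hx'.1
  have hwx : D.B w x = 0 := by rw [D.symm]; exact hx'.2
  have hxv : x ∉ SpTwo.ln v := fun h1 => hxl (ln_le_pl h1)
  rcases z2 e2 with h2 | h2
  · exact h2
  exfalso
  have hxwv : D.B (x + w) v = 0 := by rw [B_add, hx'.1, h.hwv, add_zero]
  rcases z2 e3 with h3 | h3
  · rw [h2, h3, one_smul, zero_smul, q_zero, mul_one] at h1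
    -- `τ x s_{v,w}`
    have hwpl : w ∉ pl v x := by
      intro h4
      rcases mem_pl.1 h4 with h5 | h5 | h5 | h5
      · exact h.hw0 h5
      · exact h.hw (by rw [h5]; exact self_mem_ln _)
      · exact hxl (by rw [← h5]; exact right_mem_pl _ _)
      · refine hxl ?_
        have : x = v + w := by rw [h5, aac]
        rw [this]; exact add_mem (left_mem_pl _ _) (right_mem_pl _ _)
    obtain ⟨y, hy, hyw⟩ := sep D hwpl
    have hy' := (mem_perp_pl D).1 hy
    have e1 := (ρ_eq D).1 h1 y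
    rw [D.ρ_mul, q_act D h.hwv hy'.1, hyw, one_smul, D.hτ, B_add, hy'.2, hvx, add_zero, zero_smul,
      add_zero, D.hτ] at e1
    have e2 := add_left_cancel e1
    have hzv : z = v := by
      rcases z2 (D.B y z) with h4 | h4
      · rw [h4, zero_smul] at e2; exact absurd e2 h.hv
      · rw [h4, one_smul] at e2; exact e2.symm
    obtain ⟨y', hy', hyx⟩ := sep D hxl
    have hy'' := (mem_perp_pl D).1 hy'
    have e3 := (ρ_eq D).1 h1 y'
    rw [D.ρ_mul, q_act D h.hwv hy''.1, hy''.2, zero_smul, add_zero, D.hτ, hyx, one_smul, hzv, D.hτ,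
      hy''.1, zero_smul] at e3
    exact hxl (by rw [add_left_cancel e3]; exact zero_mem _)
  · rw [h2, h3, one_smul, one_smul, mul_assoc, q_mul D h.hwv hxwv, map_add, hwx, D.alt] at h1
    have e1 : w + (x + w) = x := by
      have : w + (x + w) = x + (w + w) := by abel
      rw [this, aa, add_zero]
    rw [e1] at h1
    have e2 : q D v x (0 + 0 + (0 + 0)) = D.τ x * (D.τ v * D.τ (v + x)) := by
      have : D.τ v * D.τ x = D.τ x * D.τ v := D.τ_commute hvx
      rw [add_zero, add_zero, q, zero_smul, D.τ_zero, mul_one, this, mul_assoc]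
    rw [e2, ← mul_assoc, D.τ_sq, one_mul] at h1
    refine ττ_ne_τ D h.hv (fun h4 => hxv ?_) (by rw [B_add, D.alt, hx'.1, add_zero]) h1
    have := add_mem (self_mem_ln v) h4
    rwa [aac] at this

/-- **`θ = 0`**: `y_ℓ` commutes with `b_x`, `x ∈ ℓ^⊥` -/
theorem IsPre2.comm_b (hall : ∀ a b : V, IsLn C.S a b → ∃ y, IsPre2 C a b y) {y : G}
    (hy : IsPre2 C v w y) {x : V} (hx : x ∈ perp C.S (pl v w)) : y * C.b x = C.b x * y := by
  have hfinV := C.finV
  have h := hy.pre.ln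
  have hx' := (mem_perp_pl C.S).1 hx
  by_cases hxl : x ∈ pl v w
  · exact hy.pre.comm _ (AU_le_QU C.S h.ti (τ_mem_AU C.S hxl))
  obtain ⟨e2, he2⟩ := hy.e x hx
  -- the three lines
  have hvx : C.S.B v x = 0 := by rw [C.S.symm]; exact hx'.1
  have hwx : C.S.B w x = 0 := by rw [C.S.symm]; exact hx'.2
  have hxv : x ∉ SpTwo.ln v := fun h1 => hxl (ln_le_pl h1)
  have hL1 : IsLn C.S v x := ⟨h.hv, hxv, hvx⟩
  have hL3 : IsLn C.S v (x + w) := by
    refine ⟨h.hv, fun h1 => hxl ?_, by rw [map_add, hvx, h.hvw, add_zero]⟩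
    have h2 := add_mem (ln_le_pl (w := w) h1) (right_mem_pl v w)
    rwa [add_assoc, aa, add_zero] at h2
  obtain ⟨y1, hy1⟩ := hall v x hL1
  obtain ⟨y3, hy3⟩ := hall v (x + w) hL3
  have hx3 : x ∈ perp C.S (pl v (x + w)) := (mem_perp_pl C.S).2 ⟨hx'.1, by
    rw [map_add, C.S.alt, hx'.2, add_zero]⟩
  obtain ⟨e3, he3⟩ := hy3.e x hx3
  have hxwv : C.S.B (x + w) v = 0 := by rw [B_add, hx'.1, h.hwv, add_zero]
  have hxww : C.S.B (x + w) w = 0 := by rw [B_add, hx'.2, C.S.alt, add_zero]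
  have hxwx : C.S.B (x + w) x = 0 := by rw [B_add, hwx, C.S.alt, add_zero]
  have hw1 : w ∈ perp C.S (pl v x) := (mem_perp_pl C.S).2 ⟨h.hwv, hwx⟩
  have hxw1 : x + w ∈ perp C.S (pl v x) := (mem_perp_pl C.S).2 ⟨hxwv, hxwx⟩
  have hxw2 : x + w ∈ perp C.S (pl v w) := (mem_perp_pl C.S).2 ⟨hxwv, hxww⟩
  -- commutations
  have c12 : ∀ f : ZMod 2, y1 * (q C.S v (f • w) 0 : C.L) = (q C.S v (f • w) 0 : C.L) * y1 := fun f =>
    hy1.pre.comm _ (hL1.qv_mem (Submodule.smul_mem _ _ hw1) 0)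
  have c13 : ∀ f : ZMod 2, y1 * (q C.S v (f • (x + w)) 0 : C.L) = (q C.S v (f • (x + w)) 0 : C.L) * y1 :=
    fun f => hy1.pre.comm _ (hL1.qv_mem (Submodule.smul_mem _ _ hxw1) 0)
  have c23 : ∀ f : ZMod 2, y * (q C.S v (f • (x + w)) 0 : C.L) = (q C.S v (f • (x + w)) 0 : C.L) * y :=
    fun f => hy.pre.comm _ (h.qv_mem (Submodule.smul_mem _ _ hxw2) 0)
  have c22 := fun f => hy.pre.comm_sp f
  have c33 := fun f => hy3.pre.comm_sp f
  have c1b : y1 * C.b x = C.b x * y1 :=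
    hy1.pre.comm _ (AU_le_QU C.S hL1.ti (τ_mem_AU C.S (right_mem_pl v x)))
  have m2 : y * C.b x = C.b x * ((q C.S v (e2 • w) 0 : C.L) * y) := by
    calc y * C.b x = C.b x * (C.b x * y * C.b x) := by
          rw [← mul_assoc, ← mul_assoc, b_sq, one_mul]
      _ = _ := by rw [he2, c22]
  have m3 : y3 * C.b x = C.b x * ((q C.S v (e3 • (x + w)) 0 : C.L) * y3) := by
    calc y3 * C.b x = C.b x * (C.b x * y3 * C.b x) := by
          rw [← mul_assoc, ← mul_assoc, b_sq, one_mul]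
      _ = _ := by rw [he3, c33]
  -- the product
  have t1 : y1 * C.t = C.t * (q C.S v x 0 : C.L) * y1 := by
    calc y1 * C.t = y1 * C.t * (y1 * y1) := by rw [hy1.pre.sq, mul_one]
      _ = (y1 * C.t * y1) * y1 := by group
      _ = _ := by rw [hy1.pre.conj_t]
  have t2 : y * C.t = C.t * (q C.S v w 0 : C.L) * y := by
    calc y * C.t = y * C.t * (y * y) := by rw [hy.pre.sq, mul_one]
      _ = (y * C.t * y) * y := by group
      _ = _ := by rw [hy.pre.conj_t]
  have t3 : y3 * C.t = C.t * (q C.S v (x + w) 0 : C.L) * y3 := by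
    calc y3 * C.t = y3 * C.t * (y3 * y3) := by rw [hy3.pre.sq, mul_one]
      _ = (y3 * C.t * y3) * y3 := by group
      _ = _ := by rw [hy3.pre.conj_t]
  have hsss : ((q C.S v x 0 : C.L) : G) * ((q C.S v w 0 : C.L) * (q C.S v (x + w) 0 : C.L)) = 1 := by
    have : q C.S v x 0 * (q C.S v w 0 * q C.S v (x + w) 0) = 1 := by
      rw [q_mul C.S h.hwv hxwv, map_add, hwx, C.S.alt, q_mul C.S hx'.1 (by
        rw [B_add, h.hwv, hxwv, add_zero])]
      have e1 : x + (w + (x + w)) = 0 := by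
        have : x + (w + (x + w)) = (x + x) + (w + w) := by abel
        rw [this, aa, aa, add_zero]
      rw [e1, map_add, map_add, hx'.2, C.S.alt]
      simp only [add_zero]
      exact q_zero C.S v
    exact congrArg Subtype.val this
  have c12' := c12 1
  have c13' := c13 1
  have c23' := c23 1
  rw [one_smul] at c12' c13' c23'
  have hπt : y1 * y * y3 * C.t = C.t * (y1 * y * y3) := by
    have hc2 := c12 e2
    have hc3 := c13 e3
    clear m2 m3 he2 he3 hc2 hc3 c1b c12 c13 c23 c22 c33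
    generalize ((q C.S v x 0 : C.L) : G) = s1 at *
    generalize ((q C.S v w 0 : C.L) : G) = s2 at *
    generalize ((q C.S v (x + w) 0 : C.L) : G) = s3 at *
    calc y1 * y * y3 * C.t = y1 * (y * (y3 * C.t)) := by group
      _ = y1 * ((y * C.t) * s3 * y3) := by rw [t3]; group
      _ = y1 * (C.t * s2 * (y * s3) * y3) := by rw [t2]; group
      _ = (y1 * C.t) * s2 * s3 * (y * y3) := by rw [c23']; group
      _ = C.t * s1 * (y1 * s2) * s3 * (y * y3) := by rw [t1]; group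
      _ = C.t * s1 * s2 * (y1 * s3) * (y * y3) := by rw [c12']; group
      _ = C.t * (s1 * (s2 * s3)) * (y1 * y * y3) := by rw [c13']; group
      _ = _ := by rw [hsss, mul_one]
  obtain ⟨r, hr⟩ := exists_lift C hπt
  have hπb : y1 * y * y3 * C.b x = (C.b x * (q C.S v (e2 • w) 0 : C.L) * (q C.S v (e3 • (x + w)) 0 : C.L)) *
      (y1 * y * y3) := by
    have hc2 := c12 e2
    have hc3 := c13 e3
    have hc4 := c23 e3
    clear c12 c13 c23 c22 c33 he2 he3
    generalize ((q C.S v (e2 • w) 0 : C.L) : G) = s2 at *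
    generalize ((q C.S v (e3 • (x + w)) 0 : C.L) : G) = s3 at *
    calc y1 * y * y3 * C.b x = y1 * (y * (y3 * C.b x)) := by group
      _ = y1 * ((y * C.b x) * (s3 * y3)) := by rw [m3]; group
      _ = (y1 * C.b x) * (s2 * (y * s3) * y3) := by rw [m2]; group
      _ = C.b x * (y1 * s2) * (s3 * y * y3) := by rw [c1b, hc4]; group
      _ = C.b x * s2 * (y1 * s3) * (y * y3) := by rw [hc2]; group
      _ = _ := by rw [hc3]; group
  have h4 := conj_lift C hr (C.S.τ x)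
  have h5 : y1 * y * y3 * C.b x * (y1 * y * y3)⁻¹ = ((r * C.S.τ x * r⁻¹ : C.L) : G) := h4
  rw [hπb, mul_inv_cancel_right] at h5
  have h6 : C.S.τ x * q C.S v (e2 • w) 0 * q C.S v (e3 • (x + w)) 0 = C.S.τ (C.S.ρ r x) := by
    rw [← C.S.conj_τ]
    exact Subtype.ext h5
  have h7 := no_τ C.S h hx hxl h6
  rw [m2, h7, zero_smul, q_zero]
  change C.b x * (1 * y) = _
  rw [one_mul]

end Cfsg.Agent.OddHalf.SpTwo

end

-- merged: Cfsg.Agent.OddHalf.SpTwo.ShortOut
section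

/-!
# Output for short roots: `y_ℓ` for every totally isotropic line
-/

set_option autoImplicit false
set_option linter.unusedSimpArgs false
set_option linter.unusedSectionVars false

open scoped commutatorElement

namespace Cfsg.Agent.OddHalf.SpTwo

open Cfsg.Agent.StandardComponent.SpTwo
open Cfsg.Agent.OddHalf.SpTwoN

section Sp

variable {X V : Type*} [Group X] [AddCommGroup V] [Module (ZMod 2) V] {D : SpData X V}

theorem mem_FU_pl {v w : V} {m : X} (hv : D.ρ m v = v) (hw : D.ρ m w = w) : m ∈ FU D (pl v w) := by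
  intro u hu
  rcases mem_pl.1 hu with rfl | rfl | rfl | rfl
  · rw [map_zero]
  · exact hv
  · exact hw
  · rw [map_add, hv, hw]

/-- the pointwise stabiliser is generated by transvections and the unipotent radical -/
theorem exists_TG_QU [Finite V] {U : Submodule (ZMod 2) V} (hU : U ≤ perp D U) {m : X} (hm : m ∈ FU D U) :
    ∃ p ∈ TG D (perp D U : Set V), p⁻¹ * m ∈ QU D U := by
  have hmP := FU_le_PU D hm
  obtain ⟨p, hp, hpx⟩ := gen D hU (fun x => D.ρ m x) (fun x hx => PU_perp D hmP hx)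
    (fun x hx => by rw [hm x hx]; exact hx)
    (fun x _ y _ => by rw [map_add, aa]; exact zero_mem _) (fun x _ y _ => D.inv m x y)
  have hpU : ∀ u ∈ U, D.ρ p⁻¹ u = u := fun u hu => TG_fix D (inv_mem hp) hu
  refine ⟨p, hp, fun u hu => by rw [D.ρ_mul, hm u hu, hpU u hu], fun x hx => ?_⟩
  have h1 := hpx x hx
  have h2 : D.ρ (p⁻¹ * m) x + x = D.ρ p⁻¹ (D.ρ p x + D.ρ m x) := by
    rw [map_add, D.ρ_inv_apply, D.ρ_mul, add_comm]
  rw [h2, hpU _ h1]
  exact h1

theorem IsLn.map {v w : V} (h : IsLn D v w) (m : X) : IsLn D (D.ρ m v) (D.ρ m w) := by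
  refine ⟨fun h1 => h.hv (D.ρ_inj m (by rw [h1, map_zero])), fun h1 => ?_, by rw [D.inv]; exact h.hvw⟩
  rcases mem_ln.1 h1 with h2 | h2
  · exact h.hw0 (D.ρ_inj m (by rw [h2, map_zero]))
  · exact h.hw (by rw [D.ρ_inj m h2]; exact self_mem_ln v)

theorem map_pl {v w u : V} (m : X) (hu : u ∈ pl v w) : D.ρ m u ∈ pl (D.ρ m v) (D.ρ m w) := by
  rcases mem_pl.1 hu with rfl | rfl | rfl | rfl
  · rw [map_zero]; exact zero_mem _
  · exact left_mem_pl _ _
  · exact right_mem_pl _ _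
  · rw [map_add]; exact add_mem (left_mem_pl _ _) (right_mem_pl _ _)

/-- a 3-cycle on a line -/
theorem three_cases {v w : V} (hv0 : v ≠ 0) (hw0 : w ≠ 0) (hvw : v + w ≠ 0) {m : X} (hm : m ∈ PU D (pl v w))
    (hm0 : ∀ u ∈ pl v w, u ≠ 0 → D.ρ m u ≠ u) :
    (D.ρ m v = w ∧ D.ρ m w = v + w) ∨ (D.ρ m v = v + w ∧ D.ρ m w = v) := by
  have h0 : ∀ u : V, u ≠ 0 → D.ρ m u ≠ 0 := fun u hu h1 => hu (D.ρ_inj m (by rw [h1, map_zero]))
  have e1 := mem_pl.1 ((hm v).2 (left_mem_pl v w))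
  have e2 := mem_pl.1 ((hm w).2 (right_mem_pl v w))
  have e3 := hm0 v (left_mem_pl v w) hv0
  have e4 := hm0 w (right_mem_pl v w) hw0
  have e5 := hm0 (v + w) (add_mem (left_mem_pl v w) (right_mem_pl v w)) hvw
  rcases e1 with e1 | e1 | e1 | e1
  · exact absurd e1 (h0 v hv0)
  · exact absurd e1 e3
  · rcases e2 with e2 | e2 | e2 | e2
    · exact absurd e2 (h0 w hw0)
    · exfalso
      rw [map_add, e1, e2] at e5
      exact e5 (add_comm w v)
    · exact absurd e2 e4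
    · exact Or.inl ⟨e1, e2⟩
  · rcases e2 with e2 | e2 | e2 | e2
    · exact absurd e2 (h0 w hw0)
    · exact Or.inr ⟨e1, e2⟩
    · exact absurd e2 e4
    · exfalso
      have : v = w := D.ρ_inj m (by rw [e1, e2])
      exact hvw (by rw [this, aa])

end Sp

variable {G V : Type*} [Group G] [AddCommGroup V] [Module (ZMod 2) V] {C : Ctx G V}
variable {v w : V} {g : G}

/-- **the output for short roots** -/
structure IsX (C : Ctx G V) (v w : V) (y : G) : Prop where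
  ln : IsLn C.S v w
  sq : y * y = 1
  conj_t : y * C.t * y = C.t * (q C.S v w 0 : C.L)
  comm : ∀ m ∈ FU C.S (pl v w), y * (m : G) = (m : G) * y
  comm3 : ∀ m ∈ PU C.S (pl v w), (∀ u ∈ pl v w, u ≠ 0 → C.S.ρ m u ≠ u) → y * (m : G) = (m : G) * y

theorem IsPre.isX {y : G} (hy : IsPre C v w y) {a b : V} (hd : Dual C.S v w a b)
    (hyd : y * (dd C.S v w a b : C.L) = (dd C.S v w a b : C.L) * y)
    (hb : ∀ x ∈ perp C.S (pl v w), y * C.b x = C.b x * y) : IsX C v w y := by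
  have hfinV := C.finV
  have h := hy.ln
  have hTG : ∀ p ∈ TG C.S (perp C.S (pl v w) : Set V), y * (p : G) = (p : G) * y := by
    intro p hp
    induction hp using Subgroup.closure_induction with
    | mem p hp =>
      obtain ⟨x, hx, rfl⟩ := hp
      exact hb x hx
    | one =>
      change y * 1 = 1 * y
      rw [mul_one, one_mul]
    | mul p p' _ _ h1 h2 =>
      change y * ((p : G) * p') = (p * p') * y
      rw [← mul_assoc, h1, mul_assoc, h2, mul_assoc]
    | inv p _ h1 =>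
      change y * (p : G)⁻¹ = (p : G)⁻¹ * y
      have : Commute y (p : G) := h1
      exact this.inv_right.eq
  have hF : ∀ m ∈ FU C.S (pl v w), y * (m : G) = (m : G) * y := by
    intro m hm
    obtain ⟨p, hp, hpm⟩ := exists_TG_QU h.ti hm
    have h1 := hTG p hp
    have h2 := hy.comm _ hpm
    have h3 : (m : G) = p * ((p : G)⁻¹ * m) := by group
    have h4 : y * ((p : G)⁻¹ * m) = ((p : G)⁻¹ * m) * y := h2
    calc y * (m : G) = y * p * ((p : G)⁻¹ * m) := by group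
      _ = p * (y * ((p : G)⁻¹ * m)) := by rw [h1]; group
      _ = _ := by rw [h4]; group
  refine ⟨h, hy.sq, hy.conj_t, hF, ?_⟩
  intro m hm hm0
  have hdv := hd.dd_v h
  have hdw := hd.dd_w h
  have hdvw := hd.dd_vw h
  generalize dd C.S v w a b = d at *
  have c1 : Commute y (d : G) := hyd
  rcases three_cases h.hv h.hw0 h.add_ne hm hm0 with ⟨h1, h2⟩ | ⟨h1, h2⟩
  · have h3 : d⁻¹ * m ∈ FU C.S (pl v w) := by
      apply mem_FU_pl
      · rw [C.S.ρ_mul, h1]
        apply C.S.ρ_inj d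
        rw [C.S.ρ_apply_inv, hdv]
      · rw [C.S.ρ_mul, h2]
        apply C.S.ρ_inj d
        rw [C.S.ρ_apply_inv, hdw]
    have c2 : Commute y ((d⁻¹ * m : C.L) : G) := hF _ h3
    have c3 := c1.mul_right c2
    have e : (d : G) * ((d⁻¹ * m : C.L) : G) = m := by
      change (d : G) * ((d : G)⁻¹ * m) = m
      group
    rw [e] at c3
    exact c3.eq
  · have h3 : d * m ∈ FU C.S (pl v w) := by
      apply mem_FU_pl
      · rw [C.S.ρ_mul, h1, hdvw]
      · rw [C.S.ρ_mul, h2, hdv]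
    have c2 : Commute y ((d * m : C.L) : G) := hF _ h3
    have c3 := c1.inv_right.mul_right c2
    have e : (d : G)⁻¹ * ((d * m : C.L) : G) = m := by
      change (d : G)⁻¹ * ((d : G) * m) = m
      group
    rw [e] at c3
    exact c3.eq

/-- **existence of `y_ℓ`** for every totally isotropic line -/
theorem exists_x [Finite G] (C : Ctx G V)
    (hs : ∃ g v w, IsLn C.S v w ∧ g * C.t * g⁻¹ = C.t * (q C.S v w 0 : C.L)) (h : IsLn C.S v w) :
    ∃ y, IsX C v w y := by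
  have hfinV := C.finV
  obtain ⟨g, v', w', h', hg⟩ := hs
  have hpre : ∀ a b : V, IsLn C.S a b → ∃ y c d, IsPre2 C a b y ∧ Dual C.S a b c d ∧
      y * (dd C.S a b c d : C.L) = (dd C.S a b c d : C.L) * y := by
    intro a b hab
    obtain ⟨n, hn, hn'⟩ := start_short C h'.hv h'.hvw h'.hw ⟨g, hg⟩ hab.hv hab.hvw hab.hw
    obtain ⟨n1, hn1⟩ := exists_NrmA hab (nrm_pl hab hn hn')
    obtain ⟨n2, hn2⟩ := hn1.exists_NrmB
    obtain ⟨n3, hn3⟩ := hn2.exists_NrmC
    obtain ⟨c, d, hd⟩ := hab.exists_Dual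
    obtain ⟨y, hy, hyd⟩ := exists_pre hn3 hd
    exact ⟨y, c, d, ⟨hy, fun x hx => hy.exists_e hd hyd hx⟩, hd, hyd⟩
  obtain ⟨y, c, d, hy, hd, hyd⟩ := hpre v w h
  exact ⟨y, hy.pre.isX hd hyd fun x hx => hy.comm_b (fun a b hab => by
    obtain ⟨y', _, _, hy', _, _⟩ := hpre a b hab
    exact ⟨y', hy'⟩) hx⟩

namespace IsX

theorem pre {y : G} (hy : IsX C v w y) : IsPre C v w y :=
  ⟨hy.ln, hy.sq, hy.conj_t, fun x hx => hy.comm x (QU_le_FU C.S hx)⟩

theorem comm_b {y : G} (hy : IsX C v w y) {x : V} (hx : x ∈ perp C.S (pl v w)) : y * C.b x = C.b x * y :=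
  hy.comm _ fun u hu => by rw [C.S.hτ, C.S.symm, hx u hu, zero_smul, add_zero]

theorem unique {y y' : G} (hy : IsX C v w y) (hy' : IsX C v w y') :
    ∃ e : ZMod 2, y' = y * (q C.S v (e • w) 0 : C.L) := by
  have hfinV := C.finV
  have h := hy.ln
  obtain ⟨a, ha, haa⟩ := hy.pre.unique hy'.pre
  obtain ⟨c, d, hd⟩ := h.exists_Dual
  have hdP := hd.dd_mem h
  have hd0 : ∀ u ∈ pl v w, u ≠ 0 → C.S.ρ (dd C.S v w c d) u ≠ u := fun u hu hu0 => hd.dd_ne h hu hu0
  have k1 : Commute y ((dd C.S v w c d : C.L) : G) := hy.comm3 _ hdP hd0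
  have k2 : Commute y' ((dd C.S v w c d : C.L) : G) := hy'.comm3 _ hdP hd0
  have h4 : (a : G) = y * y' := by rw [haa, ← mul_assoc, hy.sq, one_mul]
  have c7 : dd C.S v w c d * a = a * dd C.S v w c d := by
    apply Subtype.ext
    change ((dd C.S v w c d : C.L) : G) * a = a * (dd C.S v w c d : C.L)
    rw [h4]
    exact (k1.symm.mul_right k2.symm).eq
  obtain ⟨e, he⟩ := h.sp_of_commute hdP hd0 ha c7
  exact ⟨e, by rw [haa, he]⟩

theorem of_mem {y : G} (hy : IsX C v w y) {a b : V} (ha : a ∈ pl v w) (hb : b ∈ pl v w) (ha0 : a ≠ 0)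
    (hab : b ∉ SpTwo.ln a) : IsX C a b y := by
  have h1 := hy.ln.pl_eq_of_mem ha hb ha0 hab
  have h2 := hy.ln.q_of_mem ha hb ha0 hab
  refine ⟨hy.ln.of_mem ha hb ha0 hab, hy.sq, by rw [h2]; exact hy.conj_t, ?_, ?_⟩
  · rw [h1]; exact hy.comm
  · rw [h1]; exact hy.comm3

theorem conj_L {y : G} (hy : IsX C v w y) (m : C.L) :
    IsX C (C.S.ρ m v) (C.S.ρ m w) ((m : G) * y * (m : G)⁻¹) := by
  have hfinV := C.finV
  have h := hy.ln
  have hms' : (m : G) * (q C.S v w 0 : C.L) * (m : G)⁻¹ = (q C.S (C.S.ρ m v) (C.S.ρ m w) 0 : C.L) :=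
    congrArg Subtype.val (q_conj C.S m 0)
  have hmt : (m : G)⁻¹ * C.t * m = C.t := by
    rw [mul_assoc, ← t_comm, ← mul_assoc, inv_mul_cancel, one_mul]
  have hcomm : ∀ x : C.L, y * ((m⁻¹ * x * m : C.L) : G) = ((m⁻¹ * x * m : C.L) : G) * y →
      (m : G) * y * (m : G)⁻¹ * (x : G) = (x : G) * ((m : G) * y * (m : G)⁻¹) := by
    intro x h2
    have h2' : y * ((m : G)⁻¹ * x * m) = ((m : G)⁻¹ * x * m) * y := h2
    calc (m : G) * y * (m : G)⁻¹ * x = m * (y * ((m : G)⁻¹ * x * m)) * (m : G)⁻¹ := by group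
      _ = m * (((m : G)⁻¹ * x * m) * y) * (m : G)⁻¹ := by rw [h2']
      _ = _ := by group
  have hmul : ∀ (x : C.L) (u : V), C.S.ρ (m⁻¹ * x * m) u = C.S.ρ m⁻¹ (C.S.ρ x (C.S.ρ m u)) := by
    intro x u
    rw [C.S.ρ_mul, C.S.ρ_mul]
  refine ⟨h.map m, ?_, ?_, ?_, ?_⟩
  · calc (m : G) * y * (m : G)⁻¹ * ((m : G) * y * (m : G)⁻¹) = m * (y * y) * (m : G)⁻¹ := by group
      _ = 1 := by rw [hy.sq]; group
  · calc (m : G) * y * (m : G)⁻¹ * C.t * ((m : G) * y * (m : G)⁻¹) =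
        m * (y * ((m : G)⁻¹ * C.t * m) * y) * (m : G)⁻¹ := by group
      _ = (m : G) * C.t * (q C.S v w 0 : C.L) * (m : G)⁻¹ := by rw [hmt, hy.conj_t]; group
      _ = C.t * ((m : G) * (q C.S v w 0 : C.L) * (m : G)⁻¹) := by rw [t_comm]; group
      _ = _ := by rw [hms']
  · intro x hx
    apply hcomm
    apply hy.comm
    apply mem_FU_pl
    · rw [hmul, hx _ (left_mem_pl _ _), C.S.ρ_inv_apply]
    · rw [hmul, hx _ (right_mem_pl _ _), C.S.ρ_inv_apply]
  · intro x hx hx0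
    apply hcomm
    have hback : ∀ u ∈ pl (C.S.ρ m v) (C.S.ρ m w), C.S.ρ m⁻¹ u ∈ pl v w := by
      intro u hu
      have := map_pl (D := C.S) m⁻¹ hu
      rwa [C.S.ρ_inv_apply, C.S.ρ_inv_apply] at this
    apply hy.comm3
    · apply mem_PU_pl
      · rw [hmul]; exact hback _ ((hx _).2 (left_mem_pl _ _))
      · rw [hmul]; exact hback _ ((hx _).2 (right_mem_pl _ _))
    · intro u hu hu0 h1
      refine hx0 _ (map_pl m hu) (fun h2 => hu0 (C.S.ρ_inj m (by rw [h2, map_zero]))) ?_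
      apply C.S.ρ_inj m⁻¹
      rw [C.S.ρ_inv_apply, ← hmul, h1]

end IsX

end Cfsg.Agent.OddHalf.SpTwo

end

-- merged: Cfsg.Agent.OddHalf.SpTwo.AsmShort
section

/-!
# The input `short` of the assembly (`SpTwoN.Asm.Inputs`)
-/

set_option autoImplicit false

namespace Cfsg.Agent.OddHalf.SpTwo

open Cfsg.Agent.StandardComponent.SpTwo
open Cfsg.Agent.OddHalf.SpTwoN Cfsg.Agent.OddHalf.SpTwoN.LBStart

theorem sg_eq_q {X V : Type*} [Group X] [AddCommGroup V] [Module (ZMod 2) V] (D : SpData X V) (u v : V) :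
    Words.sg D u v = q D u v 0 := by
  rw [Words.sg, q, zero_smul, D.τ_zero, mul_one]

theorem short_of_PQ {G V : Type*} [Group G] [Finite G] [AddCommGroup V] [Module (ZMod 2) V] (C : Ctx G V)
    (h0 : PQ C 0) {u w : V} (huw : C.S.B u w = 0) (hu : u ≠ 0) (hw : w ≠ 0) (hne : u ≠ w) :
    ∃ y : G, y * y = 1 ∧ y * C.t * y = C.t * ((Words.sg C.S u w : C.L) : G) ∧
      ∀ e, C.S.B u e = 0 → C.S.B w e = 0 → y * C.b e = C.b e * y := by
  have hln : IsLn C.S u w := by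
    refine ⟨hu, fun h1 => ?_, huw⟩
    rcases mem_ln.1 h1 with h2 | h2
    · exact hw h2
    · exact hne h2.symm
  obtain ⟨g, hg⟩ := h0 u w hu huw hln.hw
  obtain ⟨y, hy⟩ := exists_x C ⟨g, u, w, hln, hg.symm⟩ hln
  refine ⟨y, hy.sq, ?_, fun e h1 h2 => ?_⟩
  · rw [sg_eq_q]; exact hy.conj_t
  · exact hy.comm_b ((mem_perp_pl C.S).2 ⟨by rw [C.S.symm]; exact h1, by rw [C.S.symm]; exact h2⟩)

end Cfsg.Agent.OddHalf.SpTwo

end

-- merged: Cfsg.Agent.OddHalf.SpTwo.EndCOCtx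
section

/-!
# `Sp₂ₙ(2)`, pattern `(C, O)` on `SpTwoN.Ctx`

The input `co` of `SpTwoN.Asm.Inputs`.
-/

set_option autoImplicit false

namespace Cfsg.Agent.OddHalf.SpTwo.EndCOCtx

open Cfsg.Agent.StandardComponent.SpTwo
open Cfsg.Agent.OddHalf.SpTwoN
open Cfsg.Agent.OddHalf.SpTwo.EndCC

variable {G V : Type*} [Group G] [AddCommGroup V] [Module (ZMod 2) V]

/-- the context without the conditions on `V` -/
def loc (C : Ctx G V) : EndCC.Loc G V where
  t := C.t
  tt := C.tt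
  L := C.L
  S := C.S
  cent := C.cent
  tL := C.tL

theorem eqv {C : Ctx G V} {y : V → G} (Y : YBase C y) (h : Asm.CO C y) : EndCO.Loc.Eqv (loc C) y where
  Y u _ := by
    refine ⟨Y.sq u, ?_, ?_⟩
    · change y u * C.t * y u = C.t * C.b u
      have h1 := Y.conj_t u
      calc y u * C.t * y u = (C.t * C.t) * y u * C.t * y u := by rw [C.tt, one_mul]
        _ = C.t * (C.t * y u * C.t) * y u := by group
        _ = C.t * C.b u * (y u * y u) := by rw [h1]; group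
        _ = _ := by rw [Y.sq, mul_one]
    · intro x hx hxb
      exact Y.comm_L (((loc C).commute_iff ⟨x, hx⟩ u).1 hxb)
  eqv x u _ := Y.equiv x u
  br u v huv := by
    obtain ⟨hu, hv, hne, hB⟩ := huv
    have h1 := h u v hu hv hne hB
    change y u * y v = C.b (u + v) * (y v * y u)
    rw [← h1]
    calc y u * y v = y u * y v * (y u * (y v * y v) * y u) := by rw [Y.sq, mul_one, Y.sq, mul_one]
      _ = _ := by group

/-- the pattern `(C, O)` -/
theorem exists_hom [Finite G] {C : Ctx G V} {y : V → G} (Y : YBase C y) (h : Asm.CO C y) :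
    ∃ m : G →* ℤˣ, m C.t = -1 := by
  have := C.finV
  exact EndCO.Loc.exists_hom (eqv Y h) C.cardV

end Cfsg.Agent.OddHalf.SpTwo.EndCOCtx

end

-- merged: Cfsg.Agent.OddHalf.SpTwoN.RowTwo
section

/-!
# The row `K = Sp_2n(2)`, `n ≥ 4`

`inputs`: the inputs of the assembly; `false_of_psp`: no standard `K ≃* PSp m F`, `|F| = 2`, `m ≥ 4`.
-/

set_option autoImplicit false

namespace Cfsg.Agent.OddHalf.SpTwoN.RowTwo

open Cfsg Cfsg.Agent.OddHalf

universe u

theorem inputs : Asm.Inputs.{u} where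
  short _ _ _ _ _ _ C h0 _ _ huw hu hw hne := SpTwo.short_of_PQ C h0 huw hu hw hne
  kappa _ _ _ _ _ _ C hL h0 _ :=
    KappaKill.kappa C (fun _ _ huw hu hw hne => SpTwo.short_of_PQ C h0 huw hu hw hne) hL
  co _ _ _ _ _ _ _ _ Y h := SpTwo.EndCOCtx.exists_hom Y h

/-- **The row.** -/
theorem false_of_psp {G : Type u} [Group G] (C₀ : Iface.Ctx G) {K : Subgroup G} (S : Iface.Std G K)
    (hcyc : Iface.Cyc K) {m : ℕ} (hm : 4 ≤ m) {F : Type*} [Field F] [Fintype F] (hF : Fintype.card F = 2)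
    (e : K ≃* PSp m F) : False :=
  Asm.false_of_inputs inputs C₀ S hcyc hm hF e

end Cfsg.Agent.OddHalf.SpTwoN.RowTwo

end

private theorem dce_9ae98c8382e2 : _root_.True := by
  try have : _root_.True := by simp only [_root_.Cfsg.Agent.OddHalf.SpTwo.dd.eq_1]
  exact _root_.True.intro
end

-- part: OddHalf/D4/Sz/End
section
prune_inst 0x401200800484010000000009001001c46ce000190000004008c010c0004882e400400802085800001480a000400340008110000800000000000200000011800801008100400400000000086010004000000000000000000000000000000000004000000000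
set_option linter.all false
open scoped Cfsg.Agent.FastGrp

-- merged: Cfsg.Agent.OddHalf.D4.Sz.LocB
section

/-!
# ODD, D4, `K = Sz(q)`, `q ≥ 32`, case (b): the members

`g ∈ N(T) - N(K)`, `Q ^ g ≤ Q Z`: `Q` is elementary abelian, `Q ^ g = {r * p 0 (f r)}`, `Z# ∩ C(K ^ x) = 1` for all `x`, and
for `x ∈ N(T)`, `Q ^ x = {r * p 0 (c * f r)}` for some `c ∈ F`.
-/

set_option autoImplicit false
set_option linter.unusedSectionVars false

namespace Cfsg.Agent.OddHalf.D4.Sz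

open Subgroup Cfsg.Agent.OddHalf.D4 Cfsg.Agent.OddHalf.D4.Basic Cfsg.Agent.OddHalf.D4.Sz.PairDefs
open Cfsg.Agent.OddHalf.D4.CommConj (cj mem_cj cj_mul card_cj cj_eq_of_mem_normalizer mem_normalizer_of_cj_eq
  mem_cj_mul)
open Cfsg.Agent.TwoFusion.StronglyEmbeddedBasic (orderOf_eq_two_of_mul_self)

/-- the form of a commutator of `S_K` is nondegenerate -/
theorem form_zero {F : Type*} [Field F] [Fintype F] [CharP F 2] {m : ℕ} (hm : 2 ≤ m)
    (hF : Fintype.card F = 2 ^ (2 * m + 1)) {a : F}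
    (h : ∀ c : F, a ^ (2 ^ (m + 1)) * c + c ^ (2 ^ (m + 1)) * a = 0) : a = 0 := by
  by_contra ha
  obtain ⟨g, hg0, hg, -⟩ := Cfsg.Agent.StdSz.EquivMaps.exists_gen hF
  have e1 := h (a * g)
  have e2 : a ^ (1 + 2 ^ (m + 1)) * (g ^ (2 ^ (m + 1)) + g) = 0 := by rw [← e1]; ring
  have e3 := (mul_eq_zero.mp e2).resolve_left (pow_ne_zero _ ha)
  have e5 : g ^ (2 ^ (m + 1)) = g := by
    have := eq_neg_of_add_eq_zero_left e3
    rwa [CharTwo.neg_eq] at this
  rcases Cfsg.Agent.StdSz.FormAlg.eq_of_th_eq hF e5 with e6 | e6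
  · exact hg0 e6
  · have e7 : g ^ 1 = g ^ 0 := by rw [pow_one, pow_zero, e6]
    rw [hg] at e7
    have h4 : 2 ^ 3 ≤ 2 ^ (2 * m + 1) := Nat.pow_le_pow_right (by norm_num) (by omega)
    have := Nat.ModEq.eq_of_lt_of_lt e7 (by omega) (by omega)
    omega

variable {G : Type*} [Group G] {F : Type*} [Field F] [Fintype F] {m : ℕ} {K : Subgroup G}
  {D : KFr F m K} {Q T : Subgroup G} {g : G}

variable (D Q T g) in
/-- case (b): `Q ^ g ≤ Q Z` -/
structure CaseB : Prop extends Mv D Q T g where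
  cB : ∀ r ∈ Q, ∃ s ∈ Q, ∃ b, g * r * g⁻¹ = s * D.p 0 b

namespace Mv

variable [Finite G] [CharP F 2]

/-- `Q ∩ Q ^ g = 1` -/
theorem eq_one (M : Mv D Q T g) {x : G} (hx : x ∈ Q) (hgx : g * x * g⁻¹ ∈ Q) : x = 1 := by
  by_contra hx1
  obtain ⟨n, hn⟩ := CommConj.exists_pow_involution M.base.sylQ.two hx hx1
  apply M.gM
  refine M.tight.tight g (x ^ n) (M.base.sylQ.le (pow_mem hx n)) hn ?_
  rw [← conj_pow]
  exact pow_mem (M.base.sylQ.le hgx) n

/-- the involutions of `Q`: elements commuting with them normalize `K` -/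
theorem mem_norm (M : Mv D Q T g) {r x : G} (hr : r ∈ Q) (hr2 : r * r = 1) (hr1 : r ≠ 1) (hx : x * r = r * x) :
    x ∈ normalizer (K : Set G) :=
  M.tight.mem (M.base.sylQ.le hr) (orderOf_eq_two_of_mul_self hr2 hr1) hx

end Mv

namespace CaseB

variable [Finite G] [CharP F 2]

/-- `Q` is abelian -/
theorem comm_Q (M : CaseB D Q T g) {r s : G} (hr : r ∈ Q) (hs : s ∈ Q) : r * s = s * r := by
  obtain ⟨r', hr', b, hb⟩ := M.cB r hr
  obtain ⟨s', hs', c, hc⟩ := M.cB s hs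
  have h1 : g * (r * s * r⁻¹ * s⁻¹) * g⁻¹ = r' * s' * r'⁻¹ * s'⁻¹ := by
    calc g * (r * s * r⁻¹ * s⁻¹) * g⁻¹ = (g * r * g⁻¹) * (g * s * g⁻¹) * (g * r * g⁻¹)⁻¹ * (g * s * g⁻¹)⁻¹ := by
          group
      _ = (r' * D.p 0 b) * (s' * D.p 0 c) * (r' * D.p 0 b)⁻¹ * (s' * D.p 0 c)⁻¹ := by rw [hb, hc]
      _ = r' * (D.p 0 b * s') * (D.p 0 c * (D.p 0 b)⁻¹) * r'⁻¹ * ((D.p 0 c)⁻¹ * s'⁻¹) := by group
      _ = r' * (s' * D.p 0 b) * (D.p 0 c * (D.p 0 b)⁻¹) * r'⁻¹ * (s'⁻¹ * (D.p 0 c)⁻¹) := by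
          rw [← M.base.comm hs', D.z_inv c, ← M.base.comm (inv_mem hs')]
      _ = r' * s' * ((D.p 0 b * D.p 0 c) * (D.p 0 b)⁻¹) * r'⁻¹ * (s'⁻¹ * (D.p 0 c)⁻¹) := by group
      _ = r' * s' * ((D.p 0 c * D.p 0 b) * (D.p 0 b)⁻¹) * r'⁻¹ * (s'⁻¹ * (D.p 0 c)⁻¹) := by rw [D.z_comm b 0 c]
      _ = r' * s' * (D.p 0 c * (r'⁻¹ * s'⁻¹)) * (D.p 0 c)⁻¹ := by group
      _ = r' * s' * ((r'⁻¹ * s'⁻¹) * D.p 0 c) * (D.p 0 c)⁻¹ := by
          rw [← M.base.comm (mul_mem (inv_mem hr') (inv_mem hs'))]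
      _ = _ := by group
  have h2 := M.toMv.eq_one (mul_mem (mul_mem (mul_mem hr hs) (inv_mem hr)) (inv_mem hs))
    (by rw [h1]; exact mul_mem (mul_mem (mul_mem hr' hs') (inv_mem hr')) (inv_mem hs'))
  calc r * s = (r * s * r⁻¹ * s⁻¹) * (s * r) := by group
    _ = s * r := by rw [h2, one_mul]

/-- `Q` is elementary abelian -/
theorem sq_Q (M : CaseB D Q T g) {r : G} (hr : r ∈ Q) : r * r = 1 := by
  obtain ⟨s, hs, b, hb⟩ := M.cB r hr
  apply M.toMv.eq_one (mul_mem hr hr)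
  have h1 : g * (r * r) * g⁻¹ = s * s := by
    calc g * (r * r) * g⁻¹ = (g * r * g⁻¹) * (g * r * g⁻¹) := by group
      _ = s * D.p 0 b * (s * D.p 0 b) := by rw [hb]
      _ = s * (D.p 0 b * s) * D.p 0 b := by group
      _ = s * (s * D.p 0 b) * D.p 0 b := by rw [← M.base.comm hs]
      _ = s * s * (D.p 0 b * D.p 0 b) := by group
      _ = s * s := by rw [D.z_self, mul_one]
  rw [h1]
  exact mul_mem hs hs

theorem inv_Q (M : CaseB D Q T g) {r : G} (hr : r ∈ Q) : r⁻¹ = r := inv_eq_of_mul_eq_one_left (M.sq_Q hr)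

theorem conj_mem {x : G} (hx : x ∈ normalizer (T : Set G)) {t : G} (ht : t ∈ T) : x * t * x⁻¹ ∈ T :=
  (mem_normalizer_iff.mp hx t).mp ht

theorem conj_mem' {x : G} (hx : x ∈ normalizer (T : Set G)) {t : G} (ht : t ∈ T) : x⁻¹ * t * x ∈ T := by
  have := conj_mem (inv_mem hx) ht
  rwa [inv_inv] at this

/-- commutators of `T` lie in `Z` -/
theorem comm_T (M : CaseB D Q T g) {s t : G} (hs : s ∈ T) (ht : t ∈ T) : ∃ b, s * t * s⁻¹ * t⁻¹ = D.p 0 b := by
  obtain ⟨q, hq, a, b, rfl⟩ := (M.base.mem s).mp hs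
  obtain ⟨r, hr, c, d, rfl⟩ := (M.base.mem t).mp ht
  refine ⟨a ^ (2 ^ (m + 1)) * c + c ^ (2 ^ (m + 1)) * a, ?_⟩
  rw [← D.p_comm a b c d]
  have h1 := M.base.comm hq c d
  have h2 := M.base.comm hr a b
  have h3 := M.base.comm (inv_mem hq) c d
  have h4 := M.comm_Q hq hr
  calc q * D.p a b * (r * D.p c d) * (q * D.p a b)⁻¹ * (r * D.p c d)⁻¹
      = q * (D.p a b * r) * D.p c d * (D.p a b)⁻¹ * q⁻¹ * (D.p c d)⁻¹ * r⁻¹ := by group
    _ = q * (r * D.p a b) * D.p c d * (D.p a b)⁻¹ * q⁻¹ * (D.p c d)⁻¹ * r⁻¹ := by rw [h2]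
    _ = (q * r) * (D.p a b * D.p c d * (D.p a b)⁻¹) * (D.p c d * q)⁻¹ * r⁻¹ := by group
    _ = (r * q) * (D.p a b * D.p c d * (D.p a b)⁻¹) * (q * D.p c d)⁻¹ * r⁻¹ := by rw [← h1, h4]
    _ = r * (q * (D.p a b * D.p c d * (D.p a b)⁻¹ * (D.p c d)⁻¹) * q⁻¹) * r⁻¹ := by group
    _ = _ := by
      rw [D.p_comm, M.base.comm hq, mul_inv_cancel_right, M.base.comm hr, mul_inv_cancel_right]

/-- `Z` is normalized by `N(T)` -/
theorem norm_Z (M : CaseB D Q T g) {x : G} (hx : x ∈ normalizer (T : Set G)) (b : F) :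
    ∃ b', x * D.p 0 b * x⁻¹ = D.p 0 b' := by
  obtain ⟨a, c, hac⟩ := D.exists_comm b
  have h1 := conj_mem hx (M.base.p_mem a 0)
  have h2 := conj_mem hx (M.base.p_mem c 0)
  obtain ⟨b', hb'⟩ := M.comm_T h1 h2
  refine ⟨b', ?_⟩
  rw [← hb', ← hac]
  group

/-- the elements of `T` commuting with `T` -/
theorem central (M : CaseB D Q T g) {x : G} (hx : x ∈ T) (h : ∀ t ∈ T, x * t = t * x) :
    ∃ r ∈ Q, ∃ b, x = r * D.p 0 b := by
  obtain ⟨r, hr, a, b, rfl⟩ := (M.base.mem x).mp hx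
  refine ⟨r, hr, b, ?_⟩
  have ha : a = 0 := by
    apply form_zero D.hm D.hF
    intro c
    have h1 := h _ (M.base.p_mem c 0)
    have h2 : D.p a b * D.p c 0 * (D.p a b)⁻¹ * (D.p c 0)⁻¹ = 1 := by
      have h3 := M.base.comm hr c 0
      have h4 : r * (D.p a b * D.p c 0) = r * (D.p c 0 * D.p a b) := by
        calc r * (D.p a b * D.p c 0) = r * D.p a b * D.p c 0 := by group
          _ = D.p c 0 * (r * D.p a b) := h1
          _ = (D.p c 0 * r) * D.p a b := by group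
          _ = r * (D.p c 0 * D.p a b) := by rw [← h3]; group
      rw [mul_left_cancel h4]; group
    rw [D.p_comm, ← D.p_zero] at h2
    exact D.z_inj h2
  rw [ha]

theorem central' (M : CaseB D Q T g) {r : G} (hr : r ∈ Q) (b : F) {t : G} (ht : t ∈ T) :
    r * D.p 0 b * t = t * (r * D.p 0 b) := by
  obtain ⟨q, hq, a, c, rfl⟩ := (M.base.mem t).mp ht
  have h1 := M.base.comm hq 0 b
  have h2 := M.base.comm hr a c
  calc r * D.p 0 b * (q * D.p a c) = r * (D.p 0 b * q) * D.p a c := by group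
    _ = r * (q * D.p 0 b) * D.p a c := by rw [h1]
    _ = (r * q) * (D.p 0 b * D.p a c) := by group
    _ = (q * r) * (D.p a c * D.p 0 b) := by rw [M.comm_Q hr hq, D.z_comm]
    _ = q * (r * D.p a c) * D.p 0 b := by group
    _ = q * (D.p a c * r) * D.p 0 b := by rw [h2]
    _ = _ := by group

/-- `V = Q Z` is normalized by `N(T)` -/
theorem norm_V (M : CaseB D Q T g) {x : G} (hx : x ∈ normalizer (T : Set G)) {r : G} (hr : r ∈ Q) (b : F) :
    ∃ s ∈ Q, ∃ c, x * (r * D.p 0 b) * x⁻¹ = s * D.p 0 c := by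
  have hrT : r * D.p 0 b ∈ T := mul_mem (M.base.Q_le hr) (M.base.p_mem 0 b)
  apply M.central (conj_mem hx hrT)
  intro t ht
  have h1 := M.central' hr b (conj_mem' hx ht)
  calc x * (r * D.p 0 b) * x⁻¹ * t = x * (r * D.p 0 b * (x⁻¹ * t * x)) * x⁻¹ := by group
    _ = x * (x⁻¹ * t * x * (r * D.p 0 b)) * x⁻¹ := by rw [h1]
    _ = _ := by group

theorem norm_Q' (M : CaseB D Q T g) {x : G} (hx : x ∈ normalizer (T : Set G)) {r : G} (hr : r ∈ Q) :
    ∃ s ∈ Q, ∃ c, x * r * x⁻¹ = s * D.p 0 c := by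
  obtain ⟨s, hs, c, h⟩ := M.norm_V hx hr 0
  rw [D.p_zero, mul_one] at h
  exact ⟨s, hs, c, h⟩

/-- `Z ∩ Q = 1` -/
theorem z_Q (M : CaseB D Q T g) {b : F} (h : D.p 0 b ∈ centralizer (K : Set G)) : b = 0 := by
  have h1 := D.cen _ (D.p_mem 0 b) h
  rw [← D.p_zero] at h1
  exact D.z_inj h1

/-- (PL): no involution of `Z` centralizes a conjugate of `K` -/
theorem PL (M : CaseB D Q T g) {x : G} {b : F} (h : D.p 0 b ∈ cj x (centralizer (K : Set G))) : b = 0 := by
  by_contra hb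
  have hz1 : D.p 0 b ≠ 1 := by
    rw [← D.p_zero]
    exact fun h => hb (D.z_inj h)
  have hz2 : orderOf (D.p 0 b) = 2 := orderOf_eq_two_of_mul_self (D.z_self b) hz1
  have ht := M.tight.cj x
  rw [← centralizer_cj] at h
  have hTN : T ≤ normalizer ((cj x K : Subgroup G) : Set G) := fun t ht' =>
    ht.mem h hz2 (M.base.z_cent ht' b)
  have hS : IsSyl (cj x T) (normalizer ((cj x K : Subgroup G) : Set G)) := by
    rw [normalizer_cj]
    exact M.base.sylT.cj x
  have hS2 : IsSyl T (normalizer ((cj x K : Subgroup G) : Set G)) :=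
    hS.of_card M.base.sylT.two hTN (by rw [card_cj])
  obtain ⟨μ, hμ, hμT⟩ := hS2.exists_cj hS
  -- `x' = μ x`
  have hx' : μ * x ∈ normalizer (T : Set G) := by
    apply mem_normalizer_of_cj_eq
    rw [cj_mul, hμT]
  have hK' : cj (μ * x) K = cj x K := by
    rw [cj_mul]
    exact cj_eq_of_mem_normalizer hμ
  rw [← hK', centralizer_cj, mem_cj] at h
  obtain ⟨b', hb'⟩ := M.norm_Z (inv_mem hx') b
  rw [inv_inv] at hb'
  rw [hb'] at h
  have h0 := M.z_Q h
  rw [h0, D.p_zero] at hb'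
  apply hz1
  calc D.p 0 b = (μ * x) * ((μ * x)⁻¹ * D.p 0 b * (μ * x)) * (μ * x)⁻¹ := by group
    _ = 1 := by rw [hb']; group

theorem PL' (M : CaseB D Q T g) {x : G} {b : F} (h : D.p 0 b ∈ cj x Q) : b = 0 :=
  M.PL (x := x) (map_mono M.base.sylQ.le h)

/-- for `s ∈ Q` some `s p 0 b` is in `Q ^ g` -/
theorem exists_f (M : CaseB D Q T g) {s : G} (hs : s ∈ Q) : ∃ b, s * D.p 0 b ∈ cj g Q := by
  choose! σ hσ using M.cB
  have hinj : Function.Injective (fun r : Q => (⟨σ r, (hσ r r.2).1⟩ : Q)) := by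
    intro r s hrs
    have h1 : σ r = σ s := congrArg Subtype.val hrs
    obtain ⟨h2, b, hb⟩ := hσ r r.2
    obtain ⟨h3, c, hc⟩ := hσ s s.2
    -- `g (r s⁻¹) g⁻¹ = p 0 (b + c)`
    have h4 : g * ((r : G) * (s : G)⁻¹) * g⁻¹ = D.p 0 (b + c) := by
      calc g * ((r : G) * (s : G)⁻¹) * g⁻¹ = (g * r * g⁻¹) * (g * s * g⁻¹)⁻¹ := by group
        _ = (σ r * D.p 0 b) * (σ s * D.p 0 c)⁻¹ := by rw [hb, hc]
        _ = σ r * (D.p 0 b * (D.p 0 c)⁻¹) * (σ s)⁻¹ := by group
        _ = σ r * D.p 0 (b + c) * (σ s)⁻¹ := by rw [D.z_inv, D.z_mul]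
        _ = σ r * (σ s)⁻¹ * D.p 0 (b + c) := by rw [mul_assoc, ← M.base.comm (inv_mem h3)]; group
        _ = D.p 0 (b + c) := by rw [h1]; group
    have h5 : b + c = 0 := M.PL' (x := g) (by
      rw [← h4]
      exact mem_cj_mul (mul_mem r.2 (inv_mem s.2)))
    rw [h5, D.p_zero] at h4
    have h6 : (r : G) * (s : G)⁻¹ = 1 := by
      calc (r : G) * (s : G)⁻¹ = g⁻¹ * (g * ((r : G) * (s : G)⁻¹) * g⁻¹) * g := by group
        _ = 1 := by rw [h4]; group
    exact Subtype.ext (mul_inv_eq_one.mp h6)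
  obtain ⟨r, hr⟩ := (Finite.injective_iff_surjective.mp hinj) ⟨s, hs⟩
  have h1 : σ r = s := congrArg Subtype.val hr
  obtain ⟨h2, b, hb⟩ := hσ r r.2
  refine ⟨b, ?_⟩
  rw [← h1, ← hb]
  exact mem_cj_mul r.2

open Classical in
variable (D Q g) in
/-- `Q ^ g = {s * p 0 (f s)}` -/
noncomputable def fB (s : G) : F := if h : ∃ b, s * D.p 0 b ∈ cj g Q then h.choose else 0

theorem fB_mem (M : CaseB D Q T g) {s : G} (hs : s ∈ Q) : s * D.p 0 (fB D Q g s) ∈ cj g Q := by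
  classical
  have h := M.exists_f hs
  have e : fB D Q g s = h.choose := by unfold fB; exact dif_pos h
  rw [e]
  exact h.choose_spec

theorem fB_eq (M : CaseB D Q T g) {s : G} (hs : s ∈ Q) {b : F} (h : s * D.p 0 b ∈ cj g Q) : fB D Q g s = b := by
  have h1 := M.fB_mem hs
  have h2 : D.p 0 (fB D Q g s + b) ∈ cj g Q := by
    have h3 := mul_mem (inv_mem h1) h
    have e : (s * D.p 0 (fB D Q g s))⁻¹ * (s * D.p 0 b) = D.p 0 (fB D Q g s + b) := by
      rw [← D.z_mul, mul_inv_rev, D.z_inv]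
      group
    rwa [e] at h3
  have h3 := eq_neg_of_add_eq_zero_left (M.PL' h2)
  rwa [CharTwo.neg_eq] at h3

theorem fB_mul (M : CaseB D Q T g) {r s : G} (hr : r ∈ Q) (hs : s ∈ Q) :
    fB D Q g (r * s) = fB D Q g r + fB D Q g s := by
  apply M.fB_eq (mul_mem hr hs)
  have h1 := mul_mem (M.fB_mem hr) (M.fB_mem hs)
  have e : r * D.p 0 (fB D Q g r) * (s * D.p 0 (fB D Q g s)) = r * s * D.p 0 (fB D Q g r + fB D Q g s) := by
    rw [← D.z_mul]
    calc r * D.p 0 (fB D Q g r) * (s * D.p 0 (fB D Q g s))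
        = r * (D.p 0 (fB D Q g r) * s) * D.p 0 (fB D Q g s) := by group
      _ = r * (s * D.p 0 (fB D Q g r)) * D.p 0 (fB D Q g s) := by rw [← M.base.comm hs]
      _ = _ := by group
  rwa [e] at h1

theorem fB_inj (M : CaseB D Q T g) {r : G} (hr : r ∈ Q) (h : fB D Q g r = 0) : r = 1 := by
  have h1 := M.fB_mem hr
  rw [h, D.p_zero, mul_one, mem_cj] at h1
  have h2 := M.toMv.eq_one h1 (by
    have e : g * (g⁻¹ * r * g) * g⁻¹ = r := by group
    rw [e]; exact hr)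
  calc r = g * (g⁻¹ * r * g) * g⁻¹ := by group
    _ = 1 := by rw [h2]; group

theorem mem_cjg (M : CaseB D Q T g) {v : G} : v ∈ cj g Q ↔ ∃ r ∈ Q, v = r * D.p 0 (fB D Q g r) := by
  constructor
  · intro hv
    obtain ⟨r, hr, b, hb⟩ := M.cB _ (mem_cj.mp hv)
    have e : g * (g⁻¹ * v * g) * g⁻¹ = v := by group
    rw [e] at hb
    refine ⟨r, hr, ?_⟩
    rw [M.fB_eq hr (b := b) (by rw [← hb]; exact hv)]
    exact hb
  · rintro ⟨r, hr, rfl⟩
    exact M.fB_mem hr

/-- `h l ∈ N(T)` -/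
theorem h_T (M : CaseB D Q T g) (l : Fˣ) : D.h l ∈ normalizer (T : Set G) := by
  apply mem_normalizer_fintype
  intro t ht
  obtain ⟨q, hq, a, b, rfl⟩ := (M.base.mem t).mp ht
  apply (M.base.mem _).mpr
  refine ⟨q, hq, l * a, (l : F) ^ (1 + 2 ^ (m + 1)) * b, ?_⟩
  have h1 := D.h_comm_of_cent (M.base.sylQ.le hq) l
  calc D.h l * (q * D.p a b) * (D.h l)⁻¹ = (D.h l * q) * D.p a b * (D.h l)⁻¹ := by group
    _ = (q * D.h l) * D.p a b * (D.h l)⁻¹ := by rw [h1]
    _ = q * (D.h l * D.p a b * (D.h l)⁻¹) := by group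
    _ = _ := by rw [D.h_p]

theorem h_z (l : Fˣ) (b : F) : D.h l * D.p 0 b * (D.h l)⁻¹ = D.p 0 ((l : F) ^ (1 + 2 ^ (m + 1)) * b) := by
  rw [D.h_p, mul_zero]

/-- conjugates of the graph by `h l` -/
theorem mem_cjh (M : CaseB D Q T g) (l : Fˣ) {v : G} :
    v ∈ cj (D.h l * g) Q ↔ ∃ r ∈ Q, v = r * D.p 0 ((l : F) ^ (1 + 2 ^ (m + 1)) * fB D Q g r) := by
  rw [cj_mul, mem_cj, M.mem_cjg]
  constructor
  · rintro ⟨r, hr, h⟩
    refine ⟨r, hr, ?_⟩
    have h1 := D.h_comm_of_cent (M.base.sylQ.le hr) l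
    calc v = D.h l * ((D.h l)⁻¹ * v * D.h l) * (D.h l)⁻¹ := by group
      _ = (D.h l * r) * D.p 0 (fB D Q g r) * (D.h l)⁻¹ := by rw [h]; group
      _ = r * (D.h l * D.p 0 (fB D Q g r) * (D.h l)⁻¹) := by rw [h1]; group
      _ = _ := by rw [h_z]
  · rintro ⟨r, hr, h⟩
    refine ⟨r, hr, ?_⟩
    have h1 := D.h_comm_of_cent (M.base.sylQ.le hr) l
    rw [← h_z] at h
    calc (D.h l)⁻¹ * v * D.h l = (D.h l)⁻¹ * (r * D.h l) * D.p 0 (fB D Q g r) := by rw [h]; group
      _ = (D.h l)⁻¹ * (D.h l * r) * D.p 0 (fB D Q g r) := by rw [← h1]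
      _ = _ := by group

/-- every graph is a member -/
theorem exists_graph (M : CaseB D Q T g) (c : F) : ∃ y ∈ normalizer (T : Set G), ∀ v, v ∈ cj y Q ↔
    ∃ r ∈ Q, v = r * D.p 0 (c * fB D Q g r) := by
  by_cases hc : c = 0
  · refine ⟨1, one_mem _, fun v => ?_⟩
    rw [mem_cj, inv_one, one_mul, mul_one, hc]
    constructor
    · intro hv
      exact ⟨v, hv, by rw [zero_mul, D.p_zero, mul_one]⟩
    · rintro ⟨r, hr, rfl⟩
      rw [zero_mul, D.p_zero, mul_one]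
      exact hr
  · obtain ⟨l, hl⟩ := D.exists_norm_unit hc
    refine ⟨D.h l * g, mul_mem (M.h_T l) M.gT, fun v => ?_⟩
    rw [M.mem_cjh, hl]

/-- elements of `N(T) ∩ N(K)` normalize `Q` -/
theorem norm_QM (M : CaseB D Q T g) {μ : G} (h1 : μ ∈ normalizer (T : Set G)) (h2 : μ ∈ normalizer (K : Set G)) :
    cj μ Q = Q := by
  have h3 : ∀ {ν : G}, ν ∈ normalizer (T : Set G) → ν ∈ normalizer (K : Set G) → ∀ q ∈ Q, ν * q * ν⁻¹ ∈ Q := by
    intro ν h1 h2 q hq
    rw [M.base.mem_Q_iff (conj_mem h1 (M.base.Q_le hq))]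
    exact norm_cent h2 (M.base.sylQ.le hq)
  apply cj_eq_of_mem_normalizer
  exact mem_normalizer_fintype fun q hq => h3 h1 h2 q hq

/-- **the members** -/
theorem members (M : CaseB D Q T g) {x : G} (hx : x ∈ normalizer (T : Set G)) :
    ∃ c : F, ∀ v, v ∈ cj x Q ↔ ∃ r ∈ Q, v = r * D.p 0 (c * fB D Q g r) := by
  obtain ⟨r1, hr1, -, -, -, -, hr1', -, -⟩ := M.two
  obtain ⟨s, hs, b, hb⟩ := M.norm_Q' hx hr1
  have hs1 : s ≠ 1 := by
    rintro rfl
    rw [one_mul] at hb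
    have h1 : b = 0 := M.PL' (x := x) (by rw [← hb]; exact mem_cj_mul hr1)
    rw [h1, D.p_zero] at hb
    apply hr1'
    calc r1 = x⁻¹ * (x * r1 * x⁻¹) * x := by group
      _ = 1 := by rw [hb]; group
  have hfs : fB D Q g s ≠ 0 := fun h => hs1 (M.fB_inj hs h)
  obtain ⟨y, hy, hyQ⟩ := M.exists_graph (b / fB D Q g s)
  refine ⟨b / fB D Q g s, fun v => ?_⟩
  rw [← hyQ]
  have hv : x * r1 * x⁻¹ ∈ cj y Q := by
    rw [hyQ]
    exact ⟨s, hs, by rw [hb, div_mul_cancel₀ _ hfs]⟩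
  have hμ : y⁻¹ * x ∈ normalizer (K : Set G) := by
    have hr2 := orderOf_eq_two_of_mul_self (M.sq_Q hr1) hr1'
    apply M.tight.tight (y⁻¹ * x) r1 (M.base.sylQ.le hr1) hr2
    have h1 := mem_cj.mp hv
    have e : y⁻¹ * x * r1 * (y⁻¹ * x)⁻¹ = y⁻¹ * (x * r1 * x⁻¹) * y := by group
    rw [e]
    exact M.base.sylQ.le h1
  have h2 := M.norm_QM (mul_mem (inv_mem hy) hx) hμ
  have h3 : cj x Q = cj y Q := by
    have e : x = y * (y⁻¹ * x) := by group
    rw [e, cj_mul, h2]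
  rw [h3]

end CaseB

end Cfsg.Agent.OddHalf.D4.Sz

end

-- merged: Cfsg.Agent.OddHalf.D4.Sz.LocC
section

/-!
# ODD, D4, `K = Sz(q)`, `q ≥ 32`, case (b): the groups `N₀`, `E`, `E₁`, `T₁`
-/

set_option autoImplicit false
set_option linter.unusedSectionVars false

namespace Cfsg.Agent.OddHalf.D4.Sz

open Subgroup Cfsg.Agent.OddHalf.D4 Cfsg.Agent.OddHalf.D4.Basic Cfsg.Agent.OddHalf.D4.Sz.PairDefs
open Cfsg.Agent.OddHalf.D4.CommConj (cj mem_cj cj_mul card_cj cj_eq_of_mem_normalizer mem_normalizer_of_cj_eq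
  mem_cj_mul)
open Cfsg.Agent.TwoFusion.StronglyEmbeddedBasic (orderOf_eq_two_of_mul_self)

/-- if the elements of odd order are central then the 2-elements form a subgroup -/
theorem exists_two_part {X : Type*} [Group X] [Finite X] (h : ∀ x : X, Odd (orderOf x) → x ∈ center X) :
    ∃ T : Subgroup X, IsPGroup 2 T ∧ ∀ x, x ∈ T ↔ ∃ k : ℕ, x ^ 2 ^ k = 1 := by
  have h2 : Fact (Nat.Prime 2) := ⟨Nat.prime_two⟩
  have hq : IsPGroup 2 (X ⧸ center X) := by
    intro x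
    obtain ⟨x, rfl⟩ := QuotientGroup.mk_surjective x
    obtain ⟨i, j, hij, hodd, k, hk⟩ := Cfsg.Agent.StdSz.Env.exists_decomp x
    refine ⟨k, ?_⟩
    have h1 : (QuotientGroup.mk x : X ⧸ center X) = QuotientGroup.mk (x ^ j) := by
      rw [QuotientGroup.eq]
      have h3 : (x ^ i)⁻¹ ∈ center X := inv_mem (h _ hodd)
      have e : x⁻¹ * x ^ j = (x ^ i)⁻¹ := by
        apply eq_inv_of_mul_eq_one_left
        have h4 : x ^ j * x ^ i = x := by rw [← _root_.pow_add, add_comm, _root_.pow_add, ← hij]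
        calc x⁻¹ * x ^ j * x ^ i = x⁻¹ * (x ^ j * x ^ i) := by group
          _ = 1 := by rw [h4]; group
      rw [e]; exact h3
    rw [h1, ← QuotientGroup.mk_pow, hk, QuotientGroup.mk_one]
  have hnil : Group.IsNilpotent (X ⧸ center X) := hq.isNilpotent
  have hnil2 : Group.IsNilpotent X := Group.of_quotient_center_nilpotent hnil
  have hnorm := (isNilpotent_of_finite_tfae (G := X)).out 0 3 |>.mp hnil2
  obtain ⟨S⟩ : Nonempty (Sylow 2 X) := inferInstance
  have hS : (S : Subgroup X).Normal := hnorm 2 h2 S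
  refine ⟨S, S.2, fun x => ⟨fun hx => ?_, fun hx => ?_⟩⟩
  · obtain ⟨k, hk⟩ := S.2 ⟨x, hx⟩
    exact ⟨k, by simpa only [_root_.SubmonoidClass.mk_pow, _root_.OneMemClass.coe_one] using congrArg Subtype.val hk⟩
  · obtain ⟨k, hk⟩ := hx
    have h3 : IsPGroup 2 (zpowers x) := by
      rintro ⟨y, n, rfl⟩
      refine ⟨k, Subtype.ext ?_⟩
      show (x ^ n) ^ 2 ^ k = 1
      rw [← zpow_natCast, ← zpow_mul, mul_comm, zpow_mul, zpow_natCast, hk, one_zpow]
    obtain ⟨S', hS'⟩ := h3.exists_le_sylow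
    obtain ⟨y, hy⟩ := MulAction.exists_smul_eq X S S'
    have h4 : S = S' := by
      rw [← hy]
      apply Sylow.ext
      rw [Sylow.coe_subgroup_smul]
      ext z
      rw [Subgroup.mem_pointwise_smul_iff_inv_smul_mem]
      constructor
      · intro hz
        have := hS.conj_mem z hz y⁻¹
        simpa only [_root_.MulAut.smul_def, _root_.MulAut.inv_apply, _root_.MulAut.conj_symm_apply, _root_.inv_inv] using this
      · intro hz
        have := hS.conj_mem _ hz y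
        simpa only [mul_assoc, _root_.MulAut.smul_def, _root_.MulAut.inv_apply, _root_.MulAut.conj_symm_apply, _root_.mul_inv_cancel_left, _root_.mul_inv_cancel, _root_.mul_one] using this
    rw [h4]
    exact hS' (mem_zpowers x)

variable {G : Type*} [Group G] {F : Type*} [Field F] [Fintype F] {m : ℕ} {K : Subgroup G}
  {D : KFr F m K} {Q T : Subgroup G} {g : G}

namespace CaseB

variable [Finite G] [CharP F 2]

/-- elements normalizing `T` and acting trivially on `V / Z` -/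
def N0 (M : CaseB D Q T g) : Subgroup G where
  carrier := {x | x ∈ normalizer (T : Set G) ∧ ∀ r ∈ Q, ∃ b, x * r * x⁻¹ = r * D.p 0 b}
  one_mem' := ⟨one_mem _, fun r _ => ⟨0, by rw [D.p_zero]; group⟩⟩
  mul_mem' := by
    rintro x y ⟨hx, hx2⟩ ⟨hy, hy2⟩
    refine ⟨mul_mem hx hy, fun r hr => ?_⟩
    obtain ⟨b, hb⟩ := hy2 r hr
    obtain ⟨c, hc⟩ := hx2 r hr
    obtain ⟨d, hd⟩ := M.norm_Z hx b
    refine ⟨c + d, ?_⟩
    calc x * y * r * (x * y)⁻¹ = x * (y * r * y⁻¹) * x⁻¹ := by group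
      _ = x * (r * D.p 0 b) * x⁻¹ := by rw [hb]
      _ = (x * r * x⁻¹) * (x * D.p 0 b * x⁻¹) := by group
      _ = r * (D.p 0 c * D.p 0 d) := by rw [hc, hd, mul_assoc]
      _ = _ := by rw [D.z_mul]
  inv_mem' := by
    rintro x ⟨hx, hx2⟩
    refine ⟨inv_mem hx, fun r hr => ?_⟩
    obtain ⟨b, hb⟩ := hx2 r hr
    obtain ⟨c, hc⟩ := M.norm_Z (inv_mem hx) b
    refine ⟨c, ?_⟩
    have h1 : r = (x⁻¹ * r * x⁻¹⁻¹) * D.p 0 c := by
      rw [← hc]
      calc r = x⁻¹ * (x * r * x⁻¹) * x := by group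
        _ = x⁻¹ * (r * D.p 0 b) * x := by rw [hb]
        _ = _ := by group
    calc x⁻¹ * r * x⁻¹⁻¹ = ((x⁻¹ * r * x⁻¹⁻¹) * D.p 0 c) * D.p 0 c := by
          rw [mul_assoc (x⁻¹ * r * x⁻¹⁻¹), D.z_self, mul_one]
      _ = r * D.p 0 c := by rw [← h1]

/-- `N₀` is normal in `N(T)` -/
theorem conj_N0 (M : CaseB D Q T g) {n x : G} (hn : n ∈ normalizer (T : Set G)) (hx : x ∈ M.N0) :
    n * x * n⁻¹ ∈ M.N0 := by
  refine ⟨mul_mem (mul_mem hn hx.1) (inv_mem hn), fun r hr => ?_⟩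
  obtain ⟨s, hs, b, hb⟩ := M.norm_Q' (inv_mem hn) hr
  rw [inv_inv] at hb
  obtain ⟨c, hc⟩ := hx.2 s hs
  obtain ⟨d, hd⟩ := M.norm_Z hx.1 b
  obtain ⟨e, he⟩ := M.norm_Z hn (c + d + b)
  refine ⟨e, ?_⟩
  have h1 : x * (n⁻¹ * r * n) * x⁻¹ = (n⁻¹ * r * n) * D.p 0 (c + d + b) := by
    rw [hb]
    calc x * (s * D.p 0 b) * x⁻¹ = (x * s * x⁻¹) * (x * D.p 0 b * x⁻¹) := by group
      _ = s * (D.p 0 c * D.p 0 d) := by rw [hc, hd, mul_assoc]
      _ = s * D.p 0 (b + (c + d + b)) := by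
          rw [D.z_mul]
          congr 2
          have := CharTwo.add_self_eq_zero b
          linear_combination -this
      _ = s * D.p 0 b * D.p 0 (c + d + b) := by rw [← D.z_mul, mul_assoc]
  calc n * x * n⁻¹ * r * (n * x * n⁻¹)⁻¹ = n * (x * (n⁻¹ * r * n) * x⁻¹) * n⁻¹ := by group
    _ = n * ((n⁻¹ * r * n) * D.p 0 (c + d + b)) * n⁻¹ := by rw [h1]
    _ = r * (n * D.p 0 (c + d + b) * n⁻¹) := by group
    _ = _ := by rw [he]

/-- elements of `N₀` act on `Q` as `r ↦ r * p 0 (c * f r)` -/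
theorem N0_act (M : CaseB D Q T g) {x : G} (hx : x ∈ M.N0) : ∃ c : F, ∀ r ∈ Q, x * r * x⁻¹ =
    r * D.p 0 (c * fB D Q g r) := by
  obtain ⟨c, hc⟩ := M.members hx.1
  refine ⟨c, fun r hr => ?_⟩
  obtain ⟨b, hb⟩ := hx.2 r hr
  obtain ⟨s, hs, h⟩ := (hc _).mp (mem_cj_mul hr)
  rw [hb] at h
  obtain ⟨h1, -, h2⟩ := M.base.uniq hr hs h
  rw [hb, h2, h1]

theorem h_N0 (M : CaseB D Q T g) (l : Fˣ) : D.h l ∈ M.N0 := by
  refine ⟨M.h_T l, fun r hr => ⟨0, ?_⟩⟩
  rw [D.h_comm_of_cent (M.base.sylQ.le hr) l, D.p_zero, mul_one, mul_inv_cancel_right]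

variable (D) in
/-- the torus, reparametrized -/
noncomputable def hh (c : Fˣ) : G := D.h (D.exists_norm_unit c.ne_zero).choose

omit [Finite G] in
theorem hh_z (c : Fˣ) (b : F) : hh D c * D.p 0 b * (hh D c)⁻¹ = D.p 0 (c * b) := by
  unfold hh
  rw [D.h_p, mul_zero, (D.exists_norm_unit c.ne_zero).choose_spec]

include D in
theorem q_ge : ∃ l : Fˣ, (l : F) ^ (1 + 2 ^ (m + 1)) ≠ 1 := by
  obtain ⟨g, hg0, hg, -⟩ := Cfsg.Agent.StdSz.EquivMaps.exists_gen D.hF
  refine ⟨Units.mk0 g hg0, fun h => ?_⟩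
  have h1 : g = 1 := D.norm_inj (by rw [one_pow]; exact h)
  have e7 : g ^ 1 = g ^ 0 := by rw [pow_one, pow_zero, h1]
  rw [hg] at e7
  have hm := D.hm
  have h4 : 2 ^ 3 ≤ 2 ^ (2 * m + 1) := Nat.pow_le_pow_right (by norm_num) (by omega)
  have := Nat.ModEq.eq_of_lt_of_lt e7 (by omega) (by omega)
  omega

theorem aff (M : CaseB D Q T g) : RkAff.Aff Q (fun b => D.p 0 b) (hh D) (fB D Q g) M.N0 where
  u_add a b := (D.z_mul a b).symm
  u_inj a b h := D.z_inj h
  comm r hr a := (M.base.comm hr 0 a).symm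
  disj a h := M.z_Q (M.base.sylQ.le h)
  h_u c a := hh_z c a
  h_R c r hr := D.h_comm_of_cent (M.base.sylQ.le hr) _
  h_N c := M.h_N0 _
  f_add r hr s hs := M.fB_mul hr hs
  f_inj r hr h := M.fB_inj hr h
  N_u x hx a := M.norm_Z hx.1 a
  N_R x hx := M.N0_act hx
  N_tr := by
    obtain ⟨l, hl⟩ := q_ge (D := D)
    obtain ⟨r, hr, -, -, -, -, hr1, -, -⟩ := M.two
    refine ⟨g * D.h l * g⁻¹, M.conj_N0 M.gT (M.h_N0 l), r, hr, fun h => ?_⟩
    -- `g h g⁻¹` centralizes `r * p 0 (f r)`, so `p 0 (f r)`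
    have h1 := M.fB_mem hr
    rw [mem_cj] at h1
    have h2 := D.h_comm_of_cent (M.base.sylQ.le h1) l
    have h3 : g * D.h l * g⁻¹ * (r * D.p 0 (fB D Q g r)) = r * D.p 0 (fB D Q g r) * (g * D.h l * g⁻¹) := by
      calc g * D.h l * g⁻¹ * (r * D.p 0 (fB D Q g r))
          = g * (D.h l * (g⁻¹ * (r * D.p 0 (fB D Q g r)) * g)) * g⁻¹ := by group
        _ = g * ((g⁻¹ * (r * D.p 0 (fB D Q g r)) * g) * D.h l) * g⁻¹ := by rw [h2]
        _ = _ := by group
    have h4 : g * D.h l * g⁻¹ * D.p 0 (fB D Q g r) = D.p 0 (fB D Q g r) * (g * D.h l * g⁻¹) := by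
      have e : r * (g * D.h l * g⁻¹ * D.p 0 (fB D Q g r)) = r * (D.p 0 (fB D Q g r) * (g * D.h l * g⁻¹)) := by
        calc r * (g * D.h l * g⁻¹ * D.p 0 (fB D Q g r)) = (r * (g * D.h l * g⁻¹)) * D.p 0 (fB D Q g r) := by group
          _ = (g * D.h l * g⁻¹ * r) * D.p 0 (fB D Q g r) := by rw [← h]
          _ = g * D.h l * g⁻¹ * (r * D.p 0 (fB D Q g r)) := by group
          _ = r * D.p 0 (fB D Q g r) * (g * D.h l * g⁻¹) := h3
          _ = _ := by group
      exact mul_left_cancel e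
    obtain ⟨b, hb⟩ := M.norm_Z (inv_mem M.gT) (fB D Q g r)
    rw [inv_inv] at hb
    have h5 : D.h l * D.p 0 b * (D.h l)⁻¹ = D.p 0 b := by
      rw [← hb]
      calc D.h l * (g⁻¹ * D.p 0 (fB D Q g r) * g) * (D.h l)⁻¹
          = g⁻¹ * (g * D.h l * g⁻¹ * D.p 0 (fB D Q g r)) * g * (D.h l)⁻¹ := by group
        _ = g⁻¹ * (D.p 0 (fB D Q g r) * (g * D.h l * g⁻¹)) * g * (D.h l)⁻¹ := by rw [h4]
        _ = _ := by group
    rw [h_z] at h5
    have h6 := D.z_inj h5
    have h7 : b = 0 := by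
      have h8 : ((l : F) ^ (1 + 2 ^ (m + 1)) - 1) * b = 0 := by linear_combination h6
      exact (mul_eq_zero.mp h8).resolve_left (sub_ne_zero.mpr hl)
    rw [h7, D.p_zero] at hb
    apply hr1
    apply M.fB_inj hr
    apply D.z_inj
    rw [D.p_zero]
    calc D.p 0 (fB D Q g r) = g * (g⁻¹ * D.p 0 (fB D Q g r) * g) * g⁻¹ := by group
      _ = 1 := by rw [hb]; group
  two := by
    obtain ⟨r, hr, s, hs, hr2, hs2, hr1, hs1, hrs⟩ := M.two
    refine ⟨r, hr, s, hs, fun h => hr1 (M.fB_inj hr h), fun h => hs1 (M.fB_inj hs h), fun h => hrs ?_⟩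
    have h1 : fB D Q g (r * s) = 0 := by rw [M.fB_mul hr hs, h, CharTwo.add_self_eq_zero]
    have h2 := M.fB_inj (mul_mem hr hs) h1
    have h3 := eq_inv_of_mul_eq_one_left h2
    rw [h3, M.inv_Q hs]

/-- `E` -/
def E (M : CaseB D Q T g) : Subgroup G where
  carrier := {x | x ∈ M.N0 ∧ ∀ b, x * D.p 0 b = D.p 0 b * x}
  one_mem' := ⟨one_mem _, fun b => by group⟩
  mul_mem' := by
    rintro x y ⟨hx, hx2⟩ ⟨hy, hy2⟩
    refine ⟨mul_mem hx hy, fun b => ?_⟩
    rw [mul_assoc, hy2, ← mul_assoc, hx2, mul_assoc]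
  inv_mem' := by
    rintro x ⟨hx, hx2⟩
    refine ⟨inv_mem hx, fun b => ?_⟩
    have := hx2 b
    calc x⁻¹ * D.p 0 b = x⁻¹ * (D.p 0 b * x) * x⁻¹ := by group
      _ = x⁻¹ * (x * D.p 0 b) * x⁻¹ := by rw [this]
      _ = _ := by group

theorem mem_E (M : CaseB D Q T g) {x : G} : x ∈ M.E ↔ x ∈ M.N0 ∧ ∀ b, x * D.p 0 b = D.p 0 b * x := Iff.rfl

/-- `E` is normal in `N(T)` -/
theorem conj_E (M : CaseB D Q T g) {n x : G} (hn : n ∈ normalizer (T : Set G)) (hx : x ∈ M.E) :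
    n * x * n⁻¹ ∈ M.E := by
  refine ⟨M.conj_N0 hn hx.1, fun b => ?_⟩
  obtain ⟨c, hc⟩ := M.norm_Z (inv_mem hn) b
  rw [inv_inv] at hc
  have h1 := hx.2 c
  rw [← hc] at h1
  calc n * x * n⁻¹ * D.p 0 b = n * (x * (n⁻¹ * D.p 0 b * n)) * n⁻¹ := by group
    _ = n * ((n⁻¹ * D.p 0 b * n) * x) * n⁻¹ := by rw [h1]
    _ = _ := by group

open Classical in
variable (D Q g) in
/-- the parameter `c` of an element acting as `r ↦ r * p 0 (c * f r)` -/
noncomputable def ac (x : G) : F :=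
  if h : ∃ c : F, ∀ r ∈ Q, x * r * x⁻¹ = r * D.p 0 (c * fB D Q g r) then h.choose else 0

theorem ac_spec (M : CaseB D Q T g) {x : G} (hx : x ∈ M.N0) {r : G} (hr : r ∈ Q) :
    x * r * x⁻¹ = r * D.p 0 (ac D Q g x * fB D Q g r) := by
  classical
  have h := M.N0_act hx
  have e : ac D Q g x = h.choose := by unfold ac; exact dif_pos h
  rw [e]
  exact h.choose_spec r hr

theorem ac_eq (M : CaseB D Q T g) {x : G} (hx : x ∈ M.N0) {c : F}
    (h : ∀ r ∈ Q, x * r * x⁻¹ = r * D.p 0 (c * fB D Q g r)) : ac D Q g x = c := by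
  obtain ⟨r, hr, -, -, -, -, hr1, -, -⟩ := M.two
  have h1 := M.ac_spec hx hr
  rw [h r hr] at h1
  have h2 := D.z_inj (mul_left_cancel h1)
  exact (mul_right_cancel₀ (fun h => hr1 (M.fB_inj hr h)) h2).symm

theorem ac_mul (M : CaseB D Q T g) {x y : G} (hx : x ∈ M.E) (hy : y ∈ M.E) :
    ac D Q g (x * y) = ac D Q g x + ac D Q g y := by
  apply M.ac_eq (mul_mem hx.1 hy.1)
  intro r hr
  calc x * y * r * (x * y)⁻¹ = x * (y * r * y⁻¹) * x⁻¹ := by group
    _ = x * (r * D.p 0 (ac D Q g y * fB D Q g r)) * x⁻¹ := by rw [M.ac_spec hy.1 hr]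
    _ = (x * r * x⁻¹) * (x * D.p 0 (ac D Q g y * fB D Q g r) * x⁻¹) := by group
    _ = (r * D.p 0 (ac D Q g x * fB D Q g r)) * D.p 0 (ac D Q g y * fB D Q g r) := by
        rw [M.ac_spec hx.1 hr, hx.2, mul_inv_cancel_right]
    _ = _ := by rw [mul_assoc, D.z_mul, add_mul]

theorem ac_one (M : CaseB D Q T g) : ac D Q g 1 = 0 := by
  have := M.ac_mul M.E.one_mem M.E.one_mem
  rw [mul_one] at this
  exact add_eq_left.mp this.symm

theorem ac_inv (M : CaseB D Q T g) {x : G} (hx : x ∈ M.E) : ac D Q g x⁻¹ = ac D Q g x := by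
  have h1 := M.ac_mul (inv_mem hx) hx
  rw [inv_mul_cancel, M.ac_one] at h1
  have h2 := eq_neg_of_add_eq_zero_left h1.symm
  rwa [CharTwo.neg_eq] at h2

theorem ac_pow (M : CaseB D Q T g) {x : G} (hx : x ∈ M.E) (n : ℕ) : ac D Q g (x ^ n) = n * ac D Q g x := by
  induction n with
  | zero => rw [pow_zero, M.ac_one, Nat.cast_zero, zero_mul]
  | succ n ih =>
    rw [pow_succ, M.ac_mul (pow_mem hx n) hx, ih]
    push_cast
    ring

theorem ac_zero (M : CaseB D Q T g) {x : G} (hx : x ∈ M.N0) (h : ac D Q g x = 0) {r : G} (hr : r ∈ Q) :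
    x * r = r * x := by
  have h1 := M.ac_spec hx hr
  rw [h, zero_mul, D.p_zero, mul_one] at h1
  exact mul_inv_eq_iff_eq_mul.mp h1

/-- `T ≤ E` -/
theorem T_E (M : CaseB D Q T g) {t : G} (ht : t ∈ T) : t ∈ M.E ∧ ac D Q g t = 0 := by
  have h1 : ∀ r ∈ Q, t * r * t⁻¹ = r := by
    intro r hr
    have := M.central' hr 0 ht
    rw [D.p_zero, mul_one] at this
    rw [← this, mul_inv_cancel_right]
  have h2 : t ∈ M.N0 := ⟨le_normalizer ht, fun r hr => ⟨0, by rw [D.p_zero, mul_one, h1 r hr]⟩⟩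
  refine ⟨⟨h2, fun b => M.base.z_cent ht b⟩, M.ac_eq h2 fun r hr => ?_⟩
  rw [zero_mul, D.p_zero, mul_one, h1 r hr]

theorem exists_E (M : CaseB D Q T g) (c : F) : ∃ x ∈ M.E, ac D Q g x = c := by
  obtain ⟨x, hx, h1, h2⟩ := M.aff.exists_transl_all c
  exact ⟨x, ⟨hx, h1⟩, M.ac_eq hx h2⟩

theorem ac_h (M : CaseB D Q T g) (l : Fˣ) {x : G} (hx : x ∈ M.E) :
    ac D Q g (D.h l * x * (D.h l)⁻¹) = (l : F) ^ (1 + 2 ^ (m + 1)) * ac D Q g x := by
  apply M.ac_eq (M.conj_N0 (M.h_T l) hx.1)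
  intro r hr
  have h1 := D.h_comm_of_cent (M.base.sylQ.le hr) l
  have h2 : (D.h l)⁻¹ * r * D.h l = r := by rw [mul_assoc, ← h1, inv_mul_cancel_left]
  have h3 : D.h l * r * (D.h l)⁻¹ = r := by rw [h1, mul_inv_cancel_right]
  calc D.h l * x * (D.h l)⁻¹ * r * (D.h l * x * (D.h l)⁻¹)⁻¹
      = D.h l * (x * ((D.h l)⁻¹ * r * D.h l) * x⁻¹) * (D.h l)⁻¹ := by group
    _ = D.h l * (r * D.p 0 (ac D Q g x * fB D Q g r)) * (D.h l)⁻¹ := by rw [h2, M.ac_spec hx.1 hr]
    _ = (D.h l * r * (D.h l)⁻¹) * (D.h l * D.p 0 (ac D Q g x * fB D Q g r) * (D.h l)⁻¹) := by group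
    _ = _ := by rw [h3, h_z, mul_assoc]

/-- the elements of odd order centralizing `V` -/
def Od (_ : CaseB D Q T g) (o : G) : Prop :=
  (∀ r ∈ Q, o * r = r * o) ∧ (∀ b, o * D.p 0 b = D.p 0 b * o) ∧ Odd (orderOf o)

theorem eq_one_of_pow {x : G} {n k : ℕ} (hn : Odd n) (h1 : x ^ n = 1) (h2 : x ^ 2 ^ k = 1) : x = 1 := by
  have h3 : orderOf x ∣ n := orderOf_dvd_of_pow_eq_one h1
  have h4 : orderOf x ∣ 2 ^ k := orderOf_dvd_of_pow_eq_one h2
  have h5 : Nat.Coprime n (2 ^ k) := (Nat.Coprime.pow_right k (Nat.coprime_two_right.mpr hn))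
  have h6 := Nat.dvd_gcd h3 h4
  rw [h5.gcd_eq_one] at h6
  exact orderOf_eq_one_iff.mp (Nat.dvd_one.mp h6)

theorem Od.norm {M : CaseB D Q T g} {o : G} (h : M.Od o) : o ∈ normalizer (K : Set G) := by
  obtain ⟨r, hr, -, -, hr2, -, hr1, -, -⟩ := M.two
  exact M.mem_norm hr hr2 hr1 (h.1 r hr)

/-- the odd elements centralize `K` -/
theorem Od.cent {M : CaseB D Q T g} {o : G} (h : M.Od o) : o ∈ centralizer (K : Set G) := by
  obtain ⟨c, hc, a, b, hab⟩ := D.cz o h.norm h.2.1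
  have hcom : Commute c (D.p a b) := D.comm_of_cent hc a b
  have h1 : o ^ orderOf o = 1 := pow_orderOf_eq_one o
  set n := orderOf o with hn
  rw [hab, hcom.mul_pow] at h1
  have h2 : D.p a b ^ n ∈ centralizer (K : Set G) := by
    have e : D.p a b ^ n = (c ^ n)⁻¹ := (inv_eq_of_mul_eq_one_right h1).symm
    rw [e]
    exact inv_mem (pow_mem hc n)
  have h3 := D.cen _ (pow_mem (D.p_mem a b) n) h2
  have h4 : D.p a b ^ 2 ^ 2 = 1 := by
    have : (2 : ℕ) ^ 2 = 2 * 2 := by norm_num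
    rw [this, pow_mul, pow_two (D.p a b), D.p_sq, pow_two, D.z_self]
  have h5 := eq_one_of_pow h.2.2 h3 h4
  rw [hab, h5, mul_one]
  exact hc

/-- `T` centralizes the odd elements -/
theorem Od.comm_T {M : CaseB D Q T g} {o : G} (h : M.Od o) {t : G} (ht : t ∈ T) : t * o = o * t := by
  obtain ⟨q, hq, a, b, rfl⟩ := (M.base.mem t).mp ht
  have h1 := h.1 q hq
  have h2 := D.comm_of_cent h.cent a b
  rw [mul_assoc, ← h2, ← mul_assoc, ← h1, mul_assoc]

theorem Od.conj {M : CaseB D Q T g} {o n : G} (h : M.Od o) (hn : n ∈ normalizer (T : Set G)) : M.Od (n * o * n⁻¹) := by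
  refine ⟨fun r hr => ?_, fun b => ?_, ?_⟩
  · obtain ⟨s, hs, b, hb⟩ := M.norm_Q' (inv_mem hn) hr
    rw [inv_inv] at hb
    have h1 : o * (n⁻¹ * r * n) = (n⁻¹ * r * n) * o := by
      rw [hb, ← mul_assoc, h.1 s hs, mul_assoc, h.2.1 b, ← mul_assoc]
    calc n * o * n⁻¹ * r = n * (o * (n⁻¹ * r * n)) * n⁻¹ := by group
      _ = n * ((n⁻¹ * r * n) * o) * n⁻¹ := by rw [h1]
      _ = _ := by group
  · obtain ⟨c, hc⟩ := M.norm_Z (inv_mem hn) b
    rw [inv_inv] at hc
    have h1 := h.2.1 c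
    rw [← hc] at h1
    calc n * o * n⁻¹ * D.p 0 b = n * (o * (n⁻¹ * D.p 0 b * n)) * n⁻¹ := by group
      _ = n * ((n⁻¹ * D.p 0 b * n) * o) * n⁻¹ := by rw [h1]
      _ = _ := by group
  · rw [Cfsg.Agent.TwoFusion.StronglyEmbeddedBasic.orderOf_conj]
    exact h.2.2

/-- `E₁` -/
def E1 (M : CaseB D Q T g) : Subgroup G where
  carrier := {x | x ∈ M.E ∧ ∀ o, M.Od o → x * o = o * x}
  one_mem' := ⟨one_mem _, fun o _ => by group⟩
  mul_mem' := by
    rintro x y ⟨hx, hx2⟩ ⟨hy, hy2⟩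
    refine ⟨mul_mem hx hy, fun o ho => ?_⟩
    rw [mul_assoc, hy2 o ho, ← mul_assoc, hx2 o ho, mul_assoc]
  inv_mem' := by
    rintro x ⟨hx, hx2⟩
    refine ⟨inv_mem hx, fun o ho => ?_⟩
    have := hx2 o ho
    calc x⁻¹ * o = x⁻¹ * (o * x) * x⁻¹ := by group
      _ = x⁻¹ * (x * o) * x⁻¹ := by rw [this]
      _ = _ := by group

theorem conj_E1 (M : CaseB D Q T g) {n x : G} (hn : n ∈ normalizer (T : Set G)) (hx : x ∈ M.E1) :
    n * x * n⁻¹ ∈ M.E1 := by
  refine ⟨M.conj_E hn hx.1, fun o ho => ?_⟩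
  have h1 := hx.2 _ (ho.conj (inv_mem hn))
  rw [inv_inv] at h1
  calc n * x * n⁻¹ * o = n * (x * (n⁻¹ * o * n)) * n⁻¹ := by group
    _ = n * ((n⁻¹ * o * n) * x) * n⁻¹ := by rw [h1]
    _ = _ := by group

/-- odd elements of `E` -/
theorem od_of_E (M : CaseB D Q T g) {x : G} (hx : x ∈ M.E) (ho : Odd (orderOf x)) : M.Od x := by
  have h1 := M.ac_pow hx (orderOf x)
  rw [pow_orderOf_eq_one, M.ac_one] at h1
  obtain ⟨k, hk⟩ := ho
  have h2 : ((orderOf x : ℕ) : F) = 1 := by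
    rw [hk]
    push_cast
    have : (2 : F) = 0 := CharTwo.two_eq_zero
    rw [this, zero_mul, zero_add]
  rw [h2, one_mul] at h1
  exact ⟨fun r hr => M.ac_zero hx.1 h1.symm hr, hx.2, ⟨k, hk⟩⟩

theorem exists_T1 (M : CaseB D Q T g) : ∃ T1 : Subgroup G, IsPGroup 2 T1 ∧
    ∀ x, x ∈ T1 ↔ x ∈ M.E1 ∧ ∃ k : ℕ, x ^ 2 ^ k = 1 := by
  obtain ⟨T0, hT0, h⟩ := exists_two_part (X := M.E1) (by
    intro x hx
    rw [mem_center_iff]
    intro y
    apply Subtype.ext
    have h1 := M.od_of_E x.2.1 (by rwa [Subgroup.orderOf_coe])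
    exact y.2.2 _ h1)
  refine ⟨T0.map M.E1.subtype, hT0.map _, fun x => ⟨?_, ?_⟩⟩
  · rintro ⟨y, hy, rfl⟩
    obtain ⟨k, hk⟩ := (h y).mp hy
    exact ⟨y.2, k, by simpa only [_root_.Subgroup.subtype_apply, _root_.SubmonoidClass.coe_pow, _root_.OneMemClass.coe_one] using congrArg Subtype.val hk⟩
  · rintro ⟨hx, k, hk⟩
    exact ⟨⟨x, hx⟩, (h _).mpr ⟨k, Subtype.ext hk⟩, rfl⟩

/-- `T₁` -/
noncomputable def T1 (M : CaseB D Q T g) : Subgroup G := M.exists_T1.choose

theorem T1_two (M : CaseB D Q T g) : IsPGroup 2 M.T1 := M.exists_T1.choose_spec.1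

theorem mem_T1 (M : CaseB D Q T g) {x : G} : x ∈ M.T1 ↔ x ∈ M.E1 ∧ ∃ k : ℕ, x ^ 2 ^ k = 1 :=
  M.exists_T1.choose_spec.2 x

/-- `T₁` is normal in `N(T)` -/
theorem conj_T1 (M : CaseB D Q T g) {n x : G} (hn : n ∈ normalizer (T : Set G)) (hx : x ∈ M.T1) :
    n * x * n⁻¹ ∈ M.T1 := by
  rw [mem_T1] at hx ⊢
  obtain ⟨h1, k, hk⟩ := hx
  refine ⟨M.conj_E1 hn h1, k, ?_⟩
  rw [conj_pow, hk]; group

/-- `T ≤ T₁` -/
theorem T_T1 (M : CaseB D Q T g) {t : G} (ht : t ∈ T) : t ∈ M.T1 := by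
  rw [mem_T1]
  refine ⟨⟨(M.T_E ht).1, fun o ho => ho.comm_T ht⟩, ?_⟩
  obtain ⟨k, hk⟩ := M.base.sylT.two ⟨t, ht⟩
  exact ⟨k, by simpa only [_root_.SubmonoidClass.mk_pow, _root_.OneMemClass.coe_one] using congrArg Subtype.val hk⟩

/-- `T₁` induces all translations -/
theorem T1_surj (M : CaseB D Q T g) (c : F) : ∃ x ∈ M.T1, ac D Q g x = c := by
  obtain ⟨l, hl⟩ := q_ge (D := D)
  set ν := (l : F) ^ (1 + 2 ^ (m + 1)) with hν
  have hν1 : 1 + ν ≠ 0 := by
    intro h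
    apply hl
    have := eq_neg_of_add_eq_zero_right h
    rwa [CharTwo.neg_eq] at this
  obtain ⟨e, he, hec⟩ := M.exists_E (c / (1 + ν))
  -- `x = [e, h]`
  have hhe : D.h l * e⁻¹ * (D.h l)⁻¹ ∈ M.E := M.conj_E (M.h_T l) (inv_mem he)
  have hx : e * (D.h l * e⁻¹ * (D.h l)⁻¹) ∈ M.E := mul_mem he hhe
  have hac : ac D Q g (e * (D.h l * e⁻¹ * (D.h l)⁻¹)) = c := by
    rw [M.ac_mul he hhe, M.ac_h l (inv_mem he), M.ac_inv he, hec, ← hν]
    field_simp
  have hx1 : e * (D.h l * e⁻¹ * (D.h l)⁻¹) ∈ M.E1 := by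
    refine ⟨hx, fun o ho => ?_⟩
    have h1 : D.h l * o = o * D.h l := D.h_comm_of_cent ho.cent l
    have ho2 := ho.conj (inv_mem he.1.1)
    rw [inv_inv] at ho2
    -- `h (e⁻¹ o' e) h⁻¹ = e⁻¹ o' e`
    have ho3 : M.Od ((D.h l)⁻¹ * o * D.h l) := by
      rw [mul_assoc, ← h1, inv_mul_cancel_left]; exact ho
    have h2 := D.h_comm_of_cent ho2.cent l
    calc e * (D.h l * e⁻¹ * (D.h l)⁻¹) * o = e * D.h l * e⁻¹ * ((D.h l)⁻¹ * o) := by group
      _ = e * D.h l * e⁻¹ * (o * (D.h l)⁻¹) := by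
        have e1 : (D.h l)⁻¹ * o = o * (D.h l)⁻¹ := by
          calc (D.h l)⁻¹ * o = (D.h l)⁻¹ * (o * D.h l) * (D.h l)⁻¹ := by group
            _ = (D.h l)⁻¹ * (D.h l * o) * (D.h l)⁻¹ := by rw [h1]
            _ = _ := by group
        rw [e1]
      _ = e * (D.h l * (e⁻¹ * o * e)) * e⁻¹ * (D.h l)⁻¹ := by group
      _ = e * ((e⁻¹ * o * e) * D.h l) * e⁻¹ * (D.h l)⁻¹ := by rw [h2]
      _ = _ := by group
  set x := e * (D.h l * e⁻¹ * (D.h l)⁻¹) with hxd
  obtain ⟨i, j, hij, hodd, k, hk⟩ := Cfsg.Agent.StdSz.Env.exists_decomp x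
  have hi : ac D Q g (x ^ i) = 0 := by
    have h1 := M.ac_pow (pow_mem hx i) (orderOf (x ^ i))
    rw [pow_orderOf_eq_one, M.ac_one] at h1
    obtain ⟨k, hk⟩ := hodd
    have h2 : ((orderOf (x ^ i) : ℕ) : F) = 1 := by
      rw [hk]
      push_cast
      have : (2 : F) = 0 := CharTwo.two_eq_zero
      rw [this, zero_mul, zero_add]
    rw [h2, one_mul] at h1
    exact h1.symm
  refine ⟨x ^ j, M.mem_T1.mpr ⟨pow_mem hx1 j, k, hk⟩, ?_⟩
  have h3 : ac D Q g x = ac D Q g (x ^ i * x ^ j) := by rw [← hij]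
  rw [M.ac_mul (pow_mem hx i) (pow_mem hx j), hi, zero_add, hac] at h3
  exact h3.symm

/-- the kernel is `T` -/
theorem T1_ker (M : CaseB D Q T g) {x : G} (hx : x ∈ M.T1) (h : ac D Q g x = 0) : x ∈ T := by
  obtain ⟨hx1, k, hk⟩ := M.mem_T1.mp hx
  obtain ⟨r, hr, -, -, hr2, -, hr1, -, -⟩ := M.two
  have hxr : ∀ r ∈ Q, x * r = r * x := fun r hr => M.ac_zero hx1.1.1 h hr
  have hxM : x ∈ normalizer (K : Set G) := M.mem_norm hr hr2 hr1 (hxr r hr)
  obtain ⟨c, hc, a, b, hab⟩ := D.cz x hxM hx1.1.2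
  have hpT := M.base.p_mem a b
  -- `c` commutes with `Q` and is a 2-element
  have hcr : ∀ r ∈ Q, c * r = r * c := by
    intro r hr
    have h1 := hxr r hr
    rw [hab] at h1
    have h2 := M.base.comm hr a b
    have h3 : c * r * D.p a b = r * c * D.p a b := by
      calc c * r * D.p a b = c * (r * D.p a b) := by group
        _ = c * D.p a b * r := by rw [h2]; group
        _ = r * (c * D.p a b) := h1
        _ = _ := by group
    exact mul_right_cancel h3
  have hcom : Commute c (D.p a b) := D.comm_of_cent hc a b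
  have hc2 : c ^ 2 ^ k = 1 := by
    rw [hab, hcom.mul_pow] at hk
    have h2 : D.p a b ^ 2 ^ k ∈ centralizer (K : Set G) := by
      have e : D.p a b ^ 2 ^ k = (c ^ 2 ^ k)⁻¹ := (inv_eq_of_mul_eq_one_right hk).symm
      rw [e]
      exact inv_mem (pow_mem hc _)
    have h3 := D.cen _ (pow_mem (D.p_mem a b) _) h2
    rwa [h3, mul_one] at hk
  -- `c ∈ Q`
  have hcQ : c ∈ Q := by
    let W : Subgroup G := Q ⊔ zpowers c
    have hz2 : IsPGroup 2 (zpowers c) := by
      rintro ⟨y, n, rfl⟩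
      refine ⟨k, Subtype.ext ?_⟩
      show (c ^ n) ^ 2 ^ k = 1
      rw [← zpow_natCast, ← zpow_mul, mul_comm, zpow_mul, zpow_natCast, hc2, one_zpow]
    have hzn : zpowers c ≤ normalizer (Q : Set G) := by
      rw [zpowers_le]
      apply mem_normalizer_fintype
      intro q hq
      rw [hcr q hq, mul_inv_cancel_right]
      exact hq
    have hW2 : IsPGroup 2 W := by
      have := hz2.to_sup_of_normal_right' M.base.sylQ.two hzn
      rwa [sup_comm] at this
    have h1 := M.base.sylQ.max W hW2 le_sup_left (sup_le M.base.sylQ.le (by rwa [zpowers_le]))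
    exact h1 (le_sup_right (a := Q) (mem_zpowers c))
  rw [hab]
  exact mul_mem (M.base.Q_le hcQ) hpT

end CaseB

end Cfsg.Agent.OddHalf.D4.Sz

end

-- merged: Cfsg.Agent.OddHalf.D4.Sz.Weights
section

/-!
# ODD, D4, `K = Sz(q)`, `q ≥ 32`: further equivariant maps

The torus element `l` acts with weight `1` (module `L0`), `l` (`L1`), `l ^ (1 + θ)` (`L2`).
-/

set_option autoImplicit false
set_option linter.unusedSectionVars false

namespace Cfsg.Agent.OddHalf.D4.Sz.Weights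

open Cfsg.Agent.StdSz.EquivMaps Cfsg.Agent.StdSz.SzMaps

/-- weights `L1 × L2 → L0`. -/
theorem weight_120 {m i j : ℕ} (hm : 2 ≤ m) (hi : i < 2 * m + 1) (hj : j < 2 * m + 1)
    (h : 1 * 2 ^ i + (1 + 2 ^ (m + 1)) * 2 ^ j ≡ 0 [MOD 2 ^ (2 * m + 1) - 1]) : False := by
  have h1 : 2 ^ i + 2 ^ j + 2 ^ ((j + (m + 1)) % (2 * m + 1)) ≡ 0 [MOD 2 ^ (2 * m + 1) - 1] := by
    have e := pow_reduce (n := 2 * m + 1) (by omega) (j + (m + 1))
    have e2 : 1 * 2 ^ i + (1 + 2 ^ (m + 1)) * 2 ^ j = 2 ^ i + 2 ^ j + 2 ^ (j + (m + 1)) := by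
      rw [_root_.pow_add 2 j (m + 1)]; ring
    rw [e2] at h
    exact ((e.symm).add_left _).trans h
  obtain ⟨k, hk⟩ := (Nat.modEq_zero_iff_dvd.mp h1)
  set c := (j + (m + 1)) % (2 * m + 1) with hc
  have hc' : c < 2 * m + 1 := Nat.mod_lt _ (by omega)
  obtain ⟨P, hP, hP2⟩ : ∃ P : ℕ, 2 ^ (2 * m - 2) = P ∧ 4 ≤ P := by
    refine ⟨_, rfl, ?_⟩
    calc 4 = 2 ^ 2 := by norm_num
      _ ≤ 2 ^ (2 * m - 2) := Nat.pow_le_pow_right (by norm_num) (by omega)
  have e3 : 2 ^ (2 * m + 1) = 8 * P := by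
    rw [← hP, show 2 * m + 1 = (2 * m - 2) + 3 by omega, _root_.pow_add]; norm_num only []; ring
  have key : ∀ e : ℕ, e < 2 * m + 1 → 2 ^ e = 4 * P ∨ 2 ^ e = 2 * P ∨ (1 ≤ 2 ^ e ∧ 2 ^ e ≤ P) := by
    intro e he
    rcases Nat.lt_trichotomy e (2 * m - 1) with h4 | h4 | h4
    · right; right
      refine ⟨Nat.one_le_two_pow, ?_⟩
      rw [← hP]
      exact Nat.pow_le_pow_right (by norm_num) (by omega)
    · right; left
      rw [h4, ← hP, show 2 * m - 1 = (2 * m - 2) + 1 by omega, pow_succ]; ring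
    · left
      have : e = (2 * m - 2) + 2 := by omega
      rw [this, ← hP, _root_.pow_add]; norm_num only []; ring
  have k1 := key i hi
  have k2 := key j hj
  have k3 := key c hc'
  rw [e3] at hk
  rcases k with _ | _ | k
  · (clear * - hP2 k1 k2 k3 hk; omega)
  · (clear * - hP2 k1 k2 k3 hk; omega)
  · have : 2 * (8 * P - 1) ≤ (8 * P - 1) * (k + 1 + 1) := by
      rw [mul_comm]
      exact Nat.mul_le_mul_left _ (by omega)
    (clear * - hP2 k1 k2 k3 hk this; omega)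

/-- weights `L2 × L2 → L0` (all scalars). -/
theorem weight_same0 {n i j : ℕ} (hn : 3 ≤ n) (hi : i < n) (hj : j < n)
    (h : 1 * 2 ^ i + 1 * 2 ^ j ≡ 0 [MOD 2 ^ n - 1]) : False := by
  obtain ⟨k, hk⟩ := (Nat.modEq_zero_iff_dvd.mp h)
  obtain ⟨P, hP, hP2⟩ : ∃ P : ℕ, 2 ^ (n - 2) = P ∧ 2 ≤ P := by
    refine ⟨_, rfl, ?_⟩
    calc 2 = 2 ^ 1 := by norm_num
      _ ≤ 2 ^ (n - 2) := Nat.pow_le_pow_right (by norm_num) (by omega)
  have e3 : 2 ^ n = 4 * P := by
    rw [← hP, show n = (n - 2) + 2 by omega, _root_.pow_add]; norm_num only [_root_.add_tsub_cancel_right]; ring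
  have key : ∀ e : ℕ, e < n → 2 ^ e = 2 * P ∨ (1 ≤ 2 ^ e ∧ 2 ^ e ≤ P) := by
    intro e he
    rcases Nat.lt_or_ge e (n - 1) with h4 | h4
    · right
      refine ⟨Nat.one_le_two_pow, ?_⟩
      rw [← hP]
      exact Nat.pow_le_pow_right (by norm_num) (by omega)
    · left
      have : e = (n - 2) + 1 := by omega
      rw [this, ← hP, pow_succ]; ring
  have k1 := key i hi
  have k2 := key j hj
  rw [e3] at hk
  rcases k with _ | _ | k
  · omega
  · omega
  · have : 2 * (4 * P - 1) ≤ (4 * P - 1) * (k + 1 + 1) := by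
      rw [mul_comm]
      exact Nat.mul_le_mul_left _ (by omega)
    omega

/-- weights `L2 → L1`. -/
theorem weight_21 {m i : ℕ} (hm : 1 ≤ m) (hi : i < 2 * m + 1)
    (h : (1 + 2 ^ (m + 1)) * 2 ^ i ≡ 1 [MOD 2 ^ (2 * m + 1) - 1]) : False := by
  set N := 2 ^ (2 * m + 1) - 1 with hN
  have hz : (2 : ZMod N) ^ (m + 1) * 2 ^ (m + 1) = 2 := by
    have := (ZMod.natCast_eq_natCast_iff _ _ _).mpr (theta_sq (m := m))
    push_cast at this
    exact this
  have h1 : (1 + 2 ^ (m + 1)) * (2 : ZMod N) ^ i = 1 := by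
    have := (ZMod.natCast_eq_natCast_iff _ _ _).mpr h
    push_cast at this
    exact this
  have h2 : (2 : ZMod N) ^ i + 1 = 2 ^ (m + 1) := by
    have e := congrArg (fun x => (2 ^ (m + 1) - 1) * x) h1
    have e2 : (2 : ZMod N) ^ i + 1 - 2 ^ (m + 1) =
        (2 ^ (m + 1) - 1) * ((1 + 2 ^ (m + 1)) * 2 ^ i) - (2 ^ (m + 1) - 1) * 1 -
          (2 ^ (m + 1) * 2 ^ (m + 1) - 2) * 2 ^ i := by ring
    rw [e, hz] at e2
    rw [← sub_eq_zero, e2]
    ring
  have h3 : 2 ^ i + 2 ^ 0 ≡ 2 ^ m + 2 ^ m [MOD N] := by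
    have e : 2 ^ m + 2 ^ m = 2 ^ (m + 1) := by rw [pow_succ]; ring
    rw [e, ← ZMod.natCast_eq_natCast_iff]
    push_cast
    rw [h2]
  have := two_pow_add_inj (n := 2 * m + 1) (by omega) hi (by omega) (by omega) (by omega) h3
  omega

/-- weights `L1 → L2`. -/
theorem weight_12 {m i : ℕ} (hm : 1 ≤ m) (hi : i < 2 * m + 1)
    (h : 1 * 2 ^ i ≡ 1 + 2 ^ (m + 1) [MOD 2 ^ (2 * m + 1) - 1]) : False := by
  have h1 : 2 ^ ((i + 2 * m) % (2 * m + 1)) + 2 ^ ((i + 2 * m) % (2 * m + 1)) ≡ 2 ^ 0 + 2 ^ (m + 1)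
      [MOD 2 ^ (2 * m + 1) - 1] := by
    have e1 := pow_reduce (n := 2 * m + 1) (by omega) (i + 2 * m)
    have e2 := pow_reduce (n := 2 * m + 1) (by omega) (i + (2 * m + 1))
    rw [Nat.add_mod_right, Nat.mod_eq_of_lt hi] at e2
    have e3 : 2 ^ (i + 2 * m) + 2 ^ (i + 2 * m) = 2 ^ (i + (2 * m + 1)) := by
      rw [← two_mul, ← pow_succ']; congr 1
    rw [pow_zero]
    refine (e1.symm.add e1.symm).trans ?_
    rw [e3]
    refine e2.trans ?_
    rw [one_mul] at h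
    exact h
  have := two_pow_add_inj (n := 2 * m + 1) (by omega) (Nat.mod_lt _ (by omega))
    (Nat.mod_lt _ (by omega)) (by omega) (by omega) h1
  omega

variable {F : Type*} [Field F] [Fintype F]

/-- no pairings `L1 × L2 → L0`. -/
theorem pairing_120 {m : ℕ} (hm : 2 ≤ m) (hF : Fintype.card F = 2 ^ (2 * m + 1))
    (f : F → F → F) (h1 : ∀ x x' y, f (x + x') y = f x y + f x' y)
    (h2 : ∀ x y y', f x (y + y') = f x y + f x y')
    (h : ∀ l x y : F, l ≠ 0 → f (l * x) (l ^ (1 + 2 ^ (m + 1)) * y) = f x y) (x y : F) :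
    f x y = 0 := by
  obtain ⟨c, hc⟩ := exists_coeff₂ hF (by omega) f h1 h2
  have hz : ∀ i j : Fin (2 * m + 1), c i j = 0 := by
    intro i j
    apply coeff₂_eq_zero_of_equivariant hF (by omega) c 1 (1 + 2 ^ (m + 1)) 0
    · intro μ x y hμ
      rw [← hc, ← hc, pow_one, pow_zero, one_mul]
      exact h μ x y hμ
    · intro hw
      exact weight_120 hm i.2 j.2 hw
  rw [hc]
  simp [hz]

/-- no pairings `X × X → L0`, all scalars. -/
theorem pairing_same0 {n : ℕ} (hn : 3 ≤ n) (hF : Fintype.card F = 2 ^ n)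
    (f : F → F → F) (h1 : ∀ x x' y, f (x + x') y = f x y + f x' y)
    (h2 : ∀ x y y', f x (y + y') = f x y + f x y')
    (h : ∀ l x y : F, l ≠ 0 → f (l * x) (l * y) = f x y) (x y : F) : f x y = 0 := by
  obtain ⟨c, hc⟩ := exists_coeff₂ hF (by omega) f h1 h2
  have hz : ∀ i j : Fin n, c i j = 0 := by
    intro i j
    apply coeff₂_eq_zero_of_equivariant hF (by omega) c 1 1 0
    · intro μ x y hμ
      rw [← hc, ← hc, pow_one, pow_zero, one_mul]
      exact h μ x y hμ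
    · intro hw
      exact weight_same0 hn i.2 j.2 hw
  rw [hc]
  simp only [hz, _root_.MulZeroClass.zero_mul, _root_.Finset.sum_const_zero]

/-- no additive maps `L2 → L1`. -/
theorem map_21 {m : ℕ} (hm : 1 ≤ m) (hF : Fintype.card F = 2 ^ (2 * m + 1))
    (f : F → F) (h1 : ∀ x y, f (x + y) = f x + f y)
    (h : ∀ l x : F, l ≠ 0 → f (l ^ (1 + 2 ^ (m + 1)) * x) = l * f x) (x : F) : f x = 0 := by
  obtain ⟨c, hc⟩ := exists_coeff hF (by omega) f h1
  have hz : ∀ i : Fin (2 * m + 1), c i = 0 := by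
    intro i
    apply coeff_eq_zero_of_equivariant hF (by omega) c (1 + 2 ^ (m + 1)) 1
    · intro μ x hμ
      rw [← hc, ← hc, pow_one]
      exact h μ x hμ
    · intro hw
      exact weight_21 hm i.2 hw
  rw [hc]
  simp [hz]

/-- no additive maps `L1 → L2`. -/
theorem map_12 {m : ℕ} (hm : 1 ≤ m) (hF : Fintype.card F = 2 ^ (2 * m + 1))
    (f : F → F) (h1 : ∀ x y, f (x + y) = f x + f y)
    (h : ∀ l x : F, l ≠ 0 → f (l * x) = l ^ (1 + 2 ^ (m + 1)) * f x) (x : F) : f x = 0 := by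
  obtain ⟨c, hc⟩ := exists_coeff hF (by omega) f h1
  have hz : ∀ i : Fin (2 * m + 1), c i = 0 := by
    intro i
    apply coeff_eq_zero_of_equivariant hF (by omega) c 1 (1 + 2 ^ (m + 1))
    · intro μ x hμ
      rw [← hc, ← hc, pow_one]
      exact h μ x hμ
    · intro hw
      exact weight_12 hm i.2 hw
  rw [hc]
  simp [hz]

/-- no additive maps `L2 → L0`. -/
theorem map_20 (hF : 2 < Fintype.card F) (f : F → F) (h1 : ∀ x y, f (x + y) = f x + f y)
    (h : ∀ l x : F, l ≠ 0 → f (l * x) = f x) (x : F) : f x = 0 := by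
  classical
  obtain ⟨l, hl⟩ : ∃ l : F, l ∉ ({0, 1} : Finset F) := by
    by_contra hcon
    push Not at hcon
    have h3 : (Finset.univ : Finset F) ⊆ {0, 1} := fun x _ => hcon x
    have h4 := Finset.card_le_card h3
    rw [Finset.card_univ] at h4
    have h5 : ({0, 1} : Finset F).card ≤ 2 := Finset.card_le_two
    omega
  simp only [Finset.mem_insert, Finset.mem_singleton, not_or] at hl
  have hne : l - 1 ≠ 0 := sub_ne_zero.mpr hl.2
  have h0 : f 0 = 0 := by
    have := h1 0 0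
    rw [add_zero] at this
    exact add_eq_left.mp this.symm
  have hneg : ∀ y, f (-y) = -f y := by
    intro y
    have := h1 y (-y)
    rw [add_neg_cancel, h0] at this
    exact (neg_eq_of_add_eq_zero_right this.symm).symm
  have h2 : f ((l - 1) * ((l - 1)⁻¹ * x)) = 0 := by
    rw [sub_mul, one_mul, sub_eq_add_neg, h1, hneg, h l _ hl.1]
    exact add_neg_cancel _
  rwa [← mul_assoc, mul_inv_cancel₀ hne, one_mul] at h2

end Cfsg.Agent.OddHalf.D4.Sz.Weights

end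

-- merged: Cfsg.Agent.OddHalf.D4.Sz.Pre
section

/-!
# ODD, D4, `K = Sz(q)`, `q ≥ 32`: the group `T₁`

`Pre`: `p a b` a Sylow 2-subgroup of `K`, `Q` elementary abelian commuting with it, `T` a 2-group containing
`P = Q × {p a b}`, centralizing `Z = {p 0 b}`, acting on `Q Z` by the translations `r ↦ r * p 0 (c * f r)`, with
kernel `P`, and a torus `h l`.  Then `T / Z` is elementary abelian.
-/

set_option autoImplicit false
set_option linter.unusedSectionVars false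

namespace Cfsg.Agent.OddHalf.D4.Sz

open Cfsg.Agent.StdSz.EquivMaps Cfsg.Agent.StdSz.SzMaps

/-- the configuration -/
structure Pre (G : Type*) [Group G] (F : Type*) [Field F] [Fintype F] (m : ℕ) where
  hm : 2 ≤ m
  hF : Fintype.card F = 2 ^ (2 * m + 1)
  p : F → F → G
  p_mul : ∀ a b c d : F, p a b * p c d = p (a + c) (b + d + a ^ (2 ^ (m + 1)) * c)
  p_inj : ∀ a b c d : F, p a b = p c d → a = c ∧ b = d
  h : Fˣ → G
  h_p : ∀ (l : Fˣ) (a b : F), h l * p a b * (h l)⁻¹ = p (l * a) ((l : F) ^ (1 + 2 ^ (m + 1)) * b)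
  Q : Subgroup G
  Q_sq : ∀ r ∈ Q, r * r = 1
  Q_p : ∀ r ∈ Q, ∀ a b, r * p a b = p a b * r
  Q_inf : ∀ a b, p a b ∈ Q → p a b = 1
  Q_ne : ∃ r ∈ Q, r ≠ 1
  f : G → F
  f_mul : ∀ r ∈ Q, ∀ s ∈ Q, f (r * s) = f r + f s
  f_inj : ∀ r ∈ Q, f r = 0 → r = 1
  T : Subgroup G
  T_two : IsPGroup 2 T
  T_Q : Q ≤ T
  T_p : ∀ a b, p a b ∈ T
  h_T : ∀ l, ∀ x ∈ T, h l * x * (h l)⁻¹ ∈ T
  h_mul : ∀ k l, ∀ x ∈ T, h (k * l) * x * (h (k * l))⁻¹ = h k * (h l * x * (h l)⁻¹) * (h k)⁻¹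
  h_Q : ∀ l, ∀ r ∈ Q, h l * r = r * h l
  act : G → F
  T_act : ∀ x ∈ T, ∀ r ∈ Q, x * r * x⁻¹ = r * p 0 (act x * f r)
  T_Z : ∀ x ∈ T, ∀ b, x * p 0 b = p 0 b * x
  T_surj : ∀ c, ∃ x ∈ T, act x = c
  T_ker : ∀ x ∈ T, act x = 0 → ∃ r ∈ Q, ∃ a b, x = r * p a b

namespace Pre

variable {G : Type*} [Group G] {F : Type*} [Field F] [Fintype F] [CharP F 2] {m : ℕ} (P : Pre G F m)

omit [CharP F 2] in
theorem p_zero : P.p 0 0 = 1 := by
  have h1 := P.p_mul 0 0 0 0
  simp only [add_zero, mul_zero] at h1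
  exact mul_eq_left.mp h1

omit [CharP F 2] in
theorem zpos : (2 ^ (m + 1) : ℕ) ≠ 0 := by positivity

omit [CharP F 2] in
theorem z_mul (b d : F) : P.p 0 b * P.p 0 d = P.p 0 (b + d) := by
  rw [P.p_mul, mul_zero, add_zero, add_zero]

theorem z_self (b : F) : P.p 0 b * P.p 0 b = 1 := by
  rw [P.z_mul, CharTwo.add_self_eq_zero, P.p_zero]

theorem z_inv (b : F) : (P.p 0 b)⁻¹ = P.p 0 b := inv_eq_of_mul_eq_one_left (P.z_self b)

omit [CharP F 2] in
theorem z_inj {b d : F} (h : P.p 0 b = P.p 0 d) : b = d := (P.p_inj _ _ _ _ h).2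

omit [CharP F 2] in
theorem z_mul_p (b c d : F) : P.p 0 b * P.p c d = P.p c (b + d) := by
  rw [P.p_mul, zero_add, zero_pow zpos, zero_mul, add_zero]

theorem p_sq (a b : F) : P.p a b * P.p a b = P.p 0 (a ^ (1 + 2 ^ (m + 1))) := by
  rw [P.p_mul, CharTwo.add_self_eq_zero, CharTwo.add_self_eq_zero, zero_add,
    _root_.pow_add a 1 (2 ^ (m + 1)), pow_one, mul_comm]

theorem p_inv (a b : F) : (P.p a b)⁻¹ = P.p a (b + a ^ (1 + 2 ^ (m + 1))) := by
  apply inv_eq_of_mul_eq_one_right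
  rw [P.p_mul, CharTwo.add_self_eq_zero, ← P.p_zero]
  congr 1
  rw [_root_.pow_add a 1 (2 ^ (m + 1)), pow_one]
  have : b + (b + a * a ^ (2 ^ (m + 1))) + a ^ (2 ^ (m + 1)) * a =
      (b + b) + (a * a ^ (2 ^ (m + 1)) + a * a ^ (2 ^ (m + 1))) := by ring
  rw [this, CharTwo.add_self_eq_zero, CharTwo.add_self_eq_zero, add_zero]

omit [CharP F 2] in
theorem Q_inv {r : G} (hr : r ∈ P.Q) : r⁻¹ = r := inv_eq_of_mul_eq_one_left (P.Q_sq r hr)

omit [CharP F 2] in
theorem f_one : P.f 1 = 0 := by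
  have := P.f_mul 1 (one_mem _) 1 (one_mem _)
  rw [mul_one] at this
  exact add_eq_left.mp this.symm

omit [CharP F 2] in
theorem Q_comm {r s : G} (hr : r ∈ P.Q) (hs : s ∈ P.Q) : r * s = s * r := by
  have h1 := P.Q_sq _ (mul_mem hr hs)
  have h2 := P.Q_sq r hr
  have h3 := P.Q_sq s hs
  calc r * s = r * (r * s * (r * s)) * s := by rw [h1, mul_one]
    _ = (r * r) * (s * r) * (s * s) := by group
    _ = s * r := by rw [h2, h3, one_mul, mul_one]

/-- uniqueness of the decomposition in `P`. -/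
theorem uniq {r s : G} (hr : r ∈ P.Q) (hs : s ∈ P.Q) {a b c d : F} (h : r * P.p a b = s * P.p c d) :
    r = s ∧ a = c ∧ b = d := by
  have h1 : s⁻¹ * r = P.p c d * (P.p a b)⁻¹ := by
    rw [eq_mul_inv_iff_mul_eq, mul_assoc, h, inv_mul_cancel_left]
  have h2 : P.p c d * (P.p a b)⁻¹ ∈ P.Q := by rw [← h1]; exact mul_mem (inv_mem hs) hr
  rw [P.p_inv, P.p_mul] at h2 h1
  have h3 := P.Q_inf _ _ h2
  rw [h3, inv_mul_eq_one] at h1
  subst h1
  obtain ⟨h4, h5⟩ := P.p_inj _ _ _ _ (mul_left_cancel h)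
  exact ⟨rfl, h4, h5⟩

/-! ### the hom `act` -/

theorem act_eq {x : G} (hx : x ∈ P.T) {c : F} (h : ∀ r ∈ P.Q, x * r * x⁻¹ = r * P.p 0 (c * P.f r)) :
    P.act x = c := by
  obtain ⟨r, hr, hr1⟩ := P.Q_ne
  have h1 := P.T_act x hx r hr
  rw [h r hr] at h1
  have h2 := P.z_inj (mul_left_cancel h1)
  have h3 : P.f r ≠ 0 := fun h0 => hr1 (P.f_inj r hr h0)
  exact (mul_right_cancel₀ h3 h2).symm

theorem act_mul {x y : G} (hx : x ∈ P.T) (hy : y ∈ P.T) : P.act (x * y) = P.act x + P.act y := by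
  apply P.act_eq (mul_mem hx hy)
  intro r hr
  calc x * y * r * (x * y)⁻¹ = x * (y * r * y⁻¹) * x⁻¹ := by group
    _ = x * (r * P.p 0 (P.act y * P.f r)) * x⁻¹ := by rw [P.T_act y hy r hr]
    _ = (x * r * x⁻¹) * (x * P.p 0 (P.act y * P.f r) * x⁻¹) := by group
    _ = (r * P.p 0 (P.act x * P.f r)) * P.p 0 (P.act y * P.f r) := by
      rw [P.T_act x hx r hr, P.T_Z x hx, mul_inv_cancel_right]
    _ = r * P.p 0 ((P.act x + P.act y) * P.f r) := by rw [mul_assoc, P.z_mul, add_mul]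

theorem act_one : P.act 1 = 0 := by
  have := P.act_mul (one_mem P.T) (one_mem P.T)
  rw [mul_one] at this
  exact add_eq_left.mp this.symm

theorem act_inv {x : G} (hx : x ∈ P.T) : P.act x⁻¹ = P.act x := by
  have h1 := P.act_mul (inv_mem hx) hx
  rw [inv_mul_cancel, P.act_one] at h1
  have h2 : P.act x⁻¹ = -P.act x := eq_neg_of_add_eq_zero_left h1.symm
  rw [h2, CharTwo.neg_eq]

theorem act_h (l : Fˣ) {x : G} (hx : x ∈ P.T) :
    P.act (P.h l * x * (P.h l)⁻¹) = (l : F) ^ (1 + 2 ^ (m + 1)) * P.act x := by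
  apply P.act_eq (P.h_T l x hx)
  intro r hr
  have h1 : (P.h l)⁻¹ * r * P.h l = r := by rw [mul_assoc, ← P.h_Q l r hr, inv_mul_cancel_left]
  have h2 : P.h l * r * (P.h l)⁻¹ = r := by rw [P.h_Q l r hr, mul_inv_cancel_right]
  calc P.h l * x * (P.h l)⁻¹ * r * (P.h l * x * (P.h l)⁻¹)⁻¹
      = P.h l * (x * ((P.h l)⁻¹ * r * P.h l) * x⁻¹) * (P.h l)⁻¹ := by group
    _ = P.h l * (r * P.p 0 (P.act x * P.f r)) * (P.h l)⁻¹ := by rw [h1, P.T_act x hx r hr]
    _ = (P.h l * r * (P.h l)⁻¹) * (P.h l * P.p 0 (P.act x * P.f r) * (P.h l)⁻¹) := by group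
    _ = _ := by rw [h2, P.h_p, mul_zero, mul_assoc]

/-! ### the subgroup `P` -/

/-- the subgroup `P = Q × {p a b}` -/
def PP : Subgroup G where
  carrier := {x | x ∈ P.T ∧ P.act x = 0}
  one_mem' := ⟨one_mem _, P.act_one⟩
  mul_mem' := by
    rintro x y ⟨hx, hx2⟩ ⟨hy, hy2⟩
    exact ⟨mul_mem hx hy, by rw [P.act_mul hx hy, hx2, hy2, add_zero]⟩
  inv_mem' := by
    rintro x ⟨hx, hx2⟩
    exact ⟨inv_mem hx, by rw [P.act_inv hx, hx2]⟩

theorem mem_PP {x : G} : x ∈ P.PP ↔ x ∈ P.T ∧ P.act x = 0 := Iff.rfl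

theorem PP_le : P.PP ≤ P.T := fun _ h => h.1

theorem Q_le : P.Q ≤ P.PP := by
  intro r hr
  refine ⟨P.T_Q hr, P.act_eq (P.T_Q hr) fun s hs => ?_⟩
  rw [zero_mul, P.p_zero, mul_one, P.Q_comm hr hs, mul_inv_cancel_right]

theorem p_mem (a b : F) : P.p a b ∈ P.PP := by
  refine ⟨P.T_p a b, P.act_eq (P.T_p a b) fun s hs => ?_⟩
  rw [zero_mul, P.p_zero, mul_one, ← P.Q_p s hs, mul_inv_cancel_right]

theorem exists_of_mem {x : G} (hx : x ∈ P.PP) : ∃ r ∈ P.Q, ∃ a b, x = r * P.p a b :=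
  P.T_ker x hx.1 hx.2

theorem rp_mem {r : G} (hr : r ∈ P.Q) (a b : F) : r * P.p a b ∈ P.PP := mul_mem (P.Q_le hr) (P.p_mem a b)

theorem PP_conj {x y : G} (hx : x ∈ P.T) (hy : y ∈ P.PP) : x * y * x⁻¹ ∈ P.PP := by
  refine ⟨mul_mem (mul_mem hx hy.1) (inv_mem hx), ?_⟩
  rw [P.act_mul (mul_mem hx hy.1) (inv_mem hx), P.act_mul hx hy.1, P.act_inv hx, hy.2, add_zero,
    CharTwo.add_self_eq_zero]

theorem PP_comm {x y : G} (hx : x ∈ P.T) (hy : y ∈ P.T) : x * y * x⁻¹ * y⁻¹ ∈ P.PP := by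
  refine ⟨mul_mem (mul_mem (mul_mem hx hy) (inv_mem hx)) (inv_mem hy), ?_⟩
  rw [P.act_mul (mul_mem (mul_mem hx hy) (inv_mem hx)) (inv_mem hy),
    P.act_mul (mul_mem hx hy) (inv_mem hx), P.act_mul hx hy, P.act_inv hx, P.act_inv hy]
  have : P.act x + P.act y + P.act x + P.act y = (P.act x + P.act x) + (P.act y + P.act y) := by ring
  rw [this, CharTwo.add_self_eq_zero, CharTwo.add_self_eq_zero, add_zero]

theorem PP_sq {x : G} (hx : x ∈ P.T) : x * x ∈ P.PP :=
  ⟨mul_mem hx hx, by rw [P.act_mul hx hx, CharTwo.add_self_eq_zero]⟩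

theorem PP_h (l : Fˣ) {x : G} (hx : x ∈ P.PP) : P.h l * x * (P.h l)⁻¹ ∈ P.PP :=
  ⟨P.h_T l x hx.1, by rw [P.act_h l hx.1, hx.2, mul_zero]⟩

/-- the `Q`-part -/
noncomputable def qP (x : G) : G := by
  classical exact if h : x ∈ P.PP then (P.exists_of_mem h).choose else 1

/-- the `A`-coordinate -/
noncomputable def aP (x : G) : F := by
  classical exact if h : x ∈ P.PP then (P.exists_of_mem h).choose_spec.2.choose else 0

/-- the `Q`-coordinate -/
noncomputable def fP (x : G) : F := P.f (P.qP x)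

theorem qP_spec {x : G} (hx : x ∈ P.PP) : P.qP x ∈ P.Q ∧ ∃ b, x = P.qP x * P.p (P.aP x) b := by
  classical
  have h1 : P.qP x = (P.exists_of_mem hx).choose := by unfold qP; exact dif_pos hx
  have h2 : P.aP x = (P.exists_of_mem hx).choose_spec.2.choose := by unfold aP; exact dif_pos hx
  rw [h1, h2]
  exact ⟨(P.exists_of_mem hx).choose_spec.1, (P.exists_of_mem hx).choose_spec.2.choose_spec⟩

theorem qP_rp {r : G} (hr : r ∈ P.Q) (a b : F) : P.qP (r * P.p a b) = r := by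
  obtain ⟨h1, d, h2⟩ := P.qP_spec (P.rp_mem hr a b)
  exact (P.uniq hr h1 h2).1.symm

theorem aP_rp {r : G} (hr : r ∈ P.Q) (a b : F) : P.aP (r * P.p a b) = a := by
  obtain ⟨h1, d, h2⟩ := P.qP_spec (P.rp_mem hr a b)
  exact (P.uniq hr h1 h2).2.1.symm

theorem fP_rp {r : G} (hr : r ∈ P.Q) (a b : F) : P.fP (r * P.p a b) = P.f r := by
  unfold fP
  rw [P.qP_rp hr]

theorem aP_p (a b : F) : P.aP (P.p a b) = a := by
  have := P.aP_rp (one_mem _) a b
  rwa [one_mul] at this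

theorem fP_p (a b : F) : P.fP (P.p a b) = 0 := by
  have := P.fP_rp (one_mem _) a b
  rwa [one_mul, P.f_one] at this

theorem aP_Q {r : G} (hr : r ∈ P.Q) : P.aP r = 0 := by
  have := P.aP_rp hr 0 0
  rwa [P.p_zero, mul_one] at this

theorem fP_Q {r : G} (hr : r ∈ P.Q) : P.fP r = P.f r := by
  have := P.fP_rp hr 0 0
  rwa [P.p_zero, mul_one] at this

omit [CharP F 2] in
theorem rp_mul {r s : G} (_ : r ∈ P.Q) (hs : s ∈ P.Q) (a b c d : F) :
    (r * P.p a b) * (s * P.p c d) = (r * s) * P.p (a + c) (b + d + a ^ (2 ^ (m + 1)) * c) := by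
  rw [← P.p_mul]
  calc r * P.p a b * (s * P.p c d) = r * (P.p a b * s) * P.p c d := by group
    _ = r * (s * P.p a b) * P.p c d := by rw [P.Q_p s hs]
    _ = _ := by group

theorem aP_mul {x y : G} (hx : x ∈ P.PP) (hy : y ∈ P.PP) : P.aP (x * y) = P.aP x + P.aP y := by
  obtain ⟨r, hr, a, b, rfl⟩ := P.exists_of_mem hx
  obtain ⟨s, hs, c, d, rfl⟩ := P.exists_of_mem hy
  rw [P.rp_mul hr hs, P.aP_rp (mul_mem hr hs), P.aP_rp hr, P.aP_rp hs]

theorem fP_mul {x y : G} (hx : x ∈ P.PP) (hy : y ∈ P.PP) : P.fP (x * y) = P.fP x + P.fP y := by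
  obtain ⟨r, hr, a, b, rfl⟩ := P.exists_of_mem hx
  obtain ⟨s, hs, c, d, rfl⟩ := P.exists_of_mem hy
  rw [P.rp_mul hr hs, P.fP_rp (mul_mem hr hs), P.fP_rp hr, P.fP_rp hs, P.f_mul r hr s hs]

theorem aP_h (l : Fˣ) {x : G} (hx : x ∈ P.PP) : P.aP (P.h l * x * (P.h l)⁻¹) = l * P.aP x := by
  obtain ⟨r, hr, a, b, rfl⟩ := P.exists_of_mem hx
  have h2 : P.h l * r * (P.h l)⁻¹ = r := by rw [P.h_Q l r hr, mul_inv_cancel_right]
  have : P.h l * (r * P.p a b) * (P.h l)⁻¹ = r * (P.h l * P.p a b * (P.h l)⁻¹) := by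
    calc P.h l * (r * P.p a b) * (P.h l)⁻¹ = (P.h l * r * (P.h l)⁻¹) * (P.h l * P.p a b * (P.h l)⁻¹) := by group
      _ = _ := by rw [h2]
  rw [this, P.h_p, P.aP_rp hr, P.aP_rp hr]

theorem fP_h (l : Fˣ) {x : G} (hx : x ∈ P.PP) : P.fP (P.h l * x * (P.h l)⁻¹) = P.fP x := by
  obtain ⟨r, hr, a, b, rfl⟩ := P.exists_of_mem hx
  have h2 : P.h l * r * (P.h l)⁻¹ = r := by rw [P.h_Q l r hr, mul_inv_cancel_right]
  have : P.h l * (r * P.p a b) * (P.h l)⁻¹ = r * (P.h l * P.p a b * (P.h l)⁻¹) := by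
    calc P.h l * (r * P.p a b) * (P.h l)⁻¹ = (P.h l * r * (P.h l)⁻¹) * (P.h l * P.p a b * (P.h l)⁻¹) := by group
      _ = _ := by rw [h2]
  rw [this, P.h_p, P.fP_rp hr, P.fP_rp hr]

theorem eq_z {x : G} (hx : x ∈ P.PP) (h1 : P.aP x = 0) (h2 : P.fP x = 0) : ∃ b, x = P.p 0 b := by
  obtain ⟨h3, b, h4⟩ := P.qP_spec hx
  rw [h1, P.f_inj _ h3 h2, one_mul] at h4
  exact ⟨b, h4⟩

/-! ### Step 1 : `[P, T] ≤ Q Z` -/

theorem aP_conj_aux {x y : G} (hx : x ∈ P.T) (hy : y ∈ P.PP) :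
    P.aP (x * y * x⁻¹) = P.aP (x * P.p (P.aP y) 0 * x⁻¹) := by
  obtain ⟨r, hr, a, b, rfl⟩ := P.exists_of_mem hy
  rw [P.aP_rp hr]
  have h1 : r * P.p a b = (r * P.p 0 b) * P.p a 0 := by rw [mul_assoc, P.z_mul_p, add_zero]
  have h2 : x * (r * P.p a b) * x⁻¹ = (x * r * x⁻¹) * (x * P.p 0 b * x⁻¹) * (x * P.p a 0 * x⁻¹) := by
    rw [h1]; group
  have h3 : x * P.p 0 b * x⁻¹ = P.p 0 b := by rw [P.T_Z x hx, mul_inv_cancel_right]
  rw [h2, P.T_act x hx r hr, h3, mul_assoc r, P.z_mul,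
    P.aP_mul (P.rp_mem hr _ _) (P.PP_conj hx (P.p_mem a 0)), P.aP_rp hr, zero_add]

variable [Finite G]

theorem aP_conj {x y : G} (hx : x ∈ P.T) (hy : y ∈ P.PP) : P.aP (x * y * x⁻¹) = P.aP y := by
  classical
  have h00 : ∀ x ∈ P.T, P.aP (x * P.p 0 0 * x⁻¹) = 0 := by
    intro x hx
    rw [P.p_zero, mul_one, mul_inv_cancel, ← P.p_zero, P.aP_p]
  let ac : MulAction P.T F :=
    { smul := fun x a => P.aP ((x : G) * P.p a 0 * (x : G)⁻¹)
      one_smul := by
        intro a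
        show P.aP ((1 : G) * P.p a 0 * (1 : G)⁻¹) = a
        rw [one_mul, inv_one, mul_one, P.aP_p]
      mul_smul := by
        intro x y a
        show P.aP (((x : G) * (y : G)) * P.p a 0 * ((x : G) * (y : G))⁻¹) =
          P.aP ((x : G) * P.p (P.aP ((y : G) * P.p a 0 * (y : G)⁻¹)) 0 * (x : G)⁻¹)
        rw [← P.aP_conj_aux x.2 (P.PP_conj y.2 (P.p_mem a 0))]
        congr 1
        group }
  have hsm : ∀ (x : P.T) (a : F), x • a = P.aP ((x : G) * P.p a 0 * (x : G)⁻¹) := fun _ _ => rfl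
  have : Fact (Nat.Prime 2) := ⟨Nat.prime_two⟩
  have h1 := P.T_two.card_modEq_card_fixedPoints F
  have hex : ∃ a : F, a ≠ 0 ∧ ∀ x : P.T, x • a = a := by
    by_contra hcon
    push Not at hcon
    have h2 : MulAction.fixedPoints P.T F = {0} := by
      ext a
      rw [MulAction.mem_fixedPoints, Set.mem_singleton_iff]
      constructor
      · intro h
        by_contra ha
        obtain ⟨x, hx⟩ := hcon a ha
        exact hx (h x)
      · rintro rfl x
        rw [hsm]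
        exact h00 x x.2
    rw [h2] at h1
    have h3 : Nat.card ({0} : Set F) = 1 := by simp
    rw [h3, Nat.card_eq_fintype_card, P.hF] at h1
    have h4 : 2 ∣ 2 ^ (2 * m + 1) := dvd_pow_self 2 (by omega)
    have h5 : 2 ^ (2 * m + 1) % 2 = 1 % 2 := h1
    omega
  obtain ⟨a0, ha0, hfix⟩ := hex
  rw [P.aP_conj_aux hx hy]
  obtain ⟨a, ha⟩ : ∃ a, P.aP y = a := ⟨_, rfl⟩
  rw [ha]
  rcases eq_or_ne a 0 with rfl | ha'
  · exact h00 x hx
  · -- `a = l * a0`
    let l : Fˣ := Units.mk0 (a * a0⁻¹) (mul_ne_zero ha' (inv_ne_zero ha0))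
    have hl : (l : F) * a0 = a := by
      show a * a0⁻¹ * a0 = a
      rw [mul_assoc, inv_mul_cancel₀ ha0, mul_one]
    -- `x' = h⁻¹ x h`
    have h6 : P.h l⁻¹ * x * (P.h l⁻¹)⁻¹ ∈ P.T := P.h_T _ x hx
    set x' := P.h l⁻¹ * x * (P.h l⁻¹)⁻¹ with hx'
    have h7 : x = P.h l * x' * (P.h l)⁻¹ := by
      have h8 := P.h_mul l l⁻¹ x hx
      have h9 := P.h_mul 1 1 x hx
      rw [mul_inv_cancel] at h8
      rw [mul_one] at h9
      have h10 : P.h 1 * x * (P.h 1)⁻¹ = x := by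
        have := mul_left_cancel (mul_right_cancel h9)
        exact this.symm
      rw [h10] at h8
      exact h8
    have h8 : x * P.p a 0 * x⁻¹ = P.h l * (x' * P.p a0 0 * x'⁻¹) * (P.h l)⁻¹ := by
      have h9 : P.p a 0 = P.h l * P.p a0 0 * (P.h l)⁻¹ := by rw [P.h_p, hl, mul_zero]
      rw [h9]
      nth_rewrite 1 2 [h7]
      group
    rw [h8, P.aP_h l (P.PP_conj h6 (P.p_mem a0 0))]
    have h9 := hfix ⟨x', h6⟩
    rw [hsm] at h9
    rw [h9, hl]

/-! ### Step 2 : `[P, T] ≤ Z` -/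

theorem fP_conj_aux {x y : G} (hx : x ∈ P.T) (hy : y ∈ P.PP) :
    P.fP (x * y * x⁻¹) = P.fP y + P.fP (x * P.p (P.aP y) 0 * x⁻¹) := by
  obtain ⟨r, hr, a, b, rfl⟩ := P.exists_of_mem hy
  rw [P.aP_rp hr]
  have h1 : r * P.p a b = (r * P.p 0 b) * P.p a 0 := by rw [mul_assoc, P.z_mul_p, add_zero]
  have h2 : x * (r * P.p a b) * x⁻¹ = (x * r * x⁻¹) * (x * P.p 0 b * x⁻¹) * (x * P.p a 0 * x⁻¹) := by
    rw [h1]; group
  have h3 : x * P.p 0 b * x⁻¹ = P.p 0 b := by rw [P.T_Z x hx, mul_inv_cancel_right]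
  rw [h2, P.T_act x hx r hr, h3, mul_assoc r, P.z_mul,
    P.fP_mul (P.rp_mem hr _ _) (P.PP_conj hx (P.p_mem a 0)), P.fP_rp hr, P.fP_rp hr]

/-- a section of `act` -/
noncomputable def xc (c : F) : G := (P.T_surj c).choose

theorem xc_mem (c : F) : P.xc c ∈ P.T := (P.T_surj c).choose_spec.1

theorem act_xc (c : F) : P.act (P.xc c) = c := (P.T_surj c).choose_spec.2

theorem div_mem {x y : G} (hx : x ∈ P.T) (hy : y ∈ P.T) (h : P.act x = P.act y) : x⁻¹ * y ∈ P.PP :=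
  ⟨mul_mem (inv_mem hx) hy, by
    rw [P.act_mul (inv_mem hx) hy, P.act_inv hx, h, CharTwo.add_self_eq_zero]⟩

theorem fP_conj {x y : G} (hx : x ∈ P.T) (hy : y ∈ P.PP) : P.fP (x * y * x⁻¹) = P.fP y := by
  -- `ψ x a`
  let ψ : G → F → F := fun x a => P.fP (x * P.p a 0 * x⁻¹)
  have hψ : ∀ x a, ψ x a = P.fP (x * P.p a 0 * x⁻¹) := fun _ _ => rfl
  have hmul : ∀ x ∈ P.T, ∀ y ∈ P.T, ∀ a, ψ (x * y) a = ψ x a + ψ y a := by
    intro x hx y hy a
    have h1 : x * y * P.p a 0 * (x * y)⁻¹ = x * (y * P.p a 0 * y⁻¹) * x⁻¹ := by group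
    rw [hψ, h1, P.fP_conj_aux hx (P.PP_conj hy (P.p_mem a 0)), P.aP_conj hy (P.p_mem a 0), P.aP_p,
      add_comm]
  have hPP : ∀ x ∈ P.PP, ∀ a, ψ x a = 0 := by
    intro x hx a
    rw [hψ, P.fP_mul (mul_mem hx (P.p_mem a 0)) (inv_mem hx), P.fP_mul hx (P.p_mem a 0), P.fP_p, add_zero,
      ← P.fP_mul hx (inv_mem hx), mul_inv_cancel, ← P.p_zero, P.fP_p]
  have hdep : ∀ x ∈ P.T, ∀ y ∈ P.T, P.act x = P.act y → ∀ a, ψ x a = ψ y a := by
    intro x hx y hy h a
    have h1 := P.div_mem hx hy h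
    have h2 := hmul x hx (x⁻¹ * y) h1.1 a
    rw [mul_inv_cancel_left, hPP _ h1, add_zero] at h2
    exact h2.symm
  have hadd : ∀ x ∈ P.T, ∀ a b, ψ x (a + b) = ψ x a + ψ x b := by
    intro x hx a b
    have h1 : P.p (a + b) 0 = P.p 0 (a ^ (2 ^ (m + 1)) * b) * (P.p a 0 * P.p b 0) := by
      rw [P.p_mul, P.z_mul_p]
      congr 1
      rw [add_zero, zero_add, CharTwo.add_self_eq_zero]
    have h2 : x * P.p (a + b) 0 * x⁻¹ =
        P.p 0 (a ^ (2 ^ (m + 1)) * b) * ((x * P.p a 0 * x⁻¹) * (x * P.p b 0 * x⁻¹)) := by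
      rw [h1]
      calc x * (P.p 0 (a ^ (2 ^ (m + 1)) * b) * (P.p a 0 * P.p b 0)) * x⁻¹
          = (x * P.p 0 (a ^ (2 ^ (m + 1)) * b)) * x⁻¹ * ((x * P.p a 0 * x⁻¹) * (x * P.p b 0 * x⁻¹)) := by
            group
        _ = _ := by rw [P.T_Z x hx, mul_inv_cancel_right]
    have h3 := P.PP_conj hx (P.p_mem a 0)
    have h4 := P.PP_conj hx (P.p_mem b 0)
    rw [hψ, h2, P.fP_mul (P.p_mem _ _) (mul_mem h3 h4), P.fP_mul h3 h4, P.fP_p, zero_add]
  have hzero : ∀ a c, ψ (P.xc c) a = 0 := by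
    apply Weights.pairing_120 P.hm P.hF (fun a c => ψ (P.xc c) a)
    · intro a a' c
      exact hadd _ (P.xc_mem c) a a'
    · intro a c c'
      show ψ (P.xc (c + c')) a = ψ (P.xc c) a + ψ (P.xc c') a
      rw [← hmul _ (P.xc_mem c) _ (P.xc_mem c')]
      apply hdep _ (P.xc_mem _) _ (mul_mem (P.xc_mem c) (P.xc_mem c'))
      rw [P.act_xc, P.act_mul (P.xc_mem c) (P.xc_mem c'), P.act_xc, P.act_xc]
    · intro l a c hl
      show ψ (P.xc (l ^ (1 + 2 ^ (m + 1)) * c)) (l * a) = ψ (P.xc c) a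
      let u : Fˣ := Units.mk0 l hl
      have h1 : ψ (P.xc (l ^ (1 + 2 ^ (m + 1)) * c)) (l * a) =
          ψ (P.h u * P.xc c * (P.h u)⁻¹) (l * a) := by
        apply hdep _ (P.xc_mem _) _ (P.h_T u _ (P.xc_mem c))
        rw [P.act_xc, P.act_h u (P.xc_mem c), P.act_xc]
        rfl
      rw [h1, hψ, hψ, ← P.fP_h u (P.PP_conj (P.xc_mem c) (P.p_mem a 0))]
      congr 1
      have h9 : P.p (l * a) 0 = P.h u * P.p a 0 * (P.h u)⁻¹ := by rw [P.h_p, mul_zero]; rfl
      rw [h9]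
      group
  rw [P.fP_conj_aux hx hy]
  have h1 : ψ x (P.aP y) = 0 := by
    rw [← hzero (P.aP y) (P.act x)]
    exact hdep x hx _ (P.xc_mem _) (P.act_xc _).symm _
  have h2 : P.fP (x * P.p (P.aP y) 0 * x⁻¹) = 0 := h1
  rw [h2, add_zero]

/-! ### Step 3 : `T / Z` is elementary abelian -/

/-- `g` is an additive `T`-invariant function on `P`, with torus weight `w` -/
structure Inv (g : G → F) (w : F → F) : Prop where
  mul : ∀ x ∈ P.PP, ∀ y ∈ P.PP, g (x * y) = g x + g y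
  conj : ∀ x ∈ P.T, ∀ y ∈ P.PP, g (x * y * x⁻¹) = g y
  tor : ∀ (l : Fˣ), ∀ y ∈ P.PP, g (P.h l * y * (P.h l)⁻¹) = w l * g y

theorem inv_aP : P.Inv P.aP (fun l => l) :=
  ⟨fun _ hx _ hy => P.aP_mul hx hy, fun _ hx _ hy => P.aP_conj hx hy, fun l _ hy => P.aP_h l hy⟩

theorem inv_fP : P.Inv P.fP (fun _ => 1) :=
  ⟨fun _ hx _ hy => P.fP_mul hx hy, fun _ hx _ hy => P.fP_conj hx hy,
    fun l _ hy => by rw [P.fP_h l hy, one_mul]⟩

variable {P}

theorem Inv.one {g : G → F} {w : F → F} (I : P.Inv g w) : g 1 = 0 := by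
  have := I.mul 1 (one_mem _) 1 (one_mem _)
  rw [mul_one] at this
  exact add_eq_left.mp this.symm

theorem Inv.inv {g : G → F} {w : F → F} (I : P.Inv g w) {x : G} (hx : x ∈ P.PP) : g x⁻¹ = g x := by
  have h1 := I.mul _ (inv_mem hx) _ hx
  rw [inv_mul_cancel, I.one] at h1
  rw [eq_neg_of_add_eq_zero_left h1.symm, CharTwo.neg_eq]

/-- the commutator form is additive on the left -/
theorem Inv.cm_mul_left {g : G → F} {w : F → F} (I : P.Inv g w) {x x' y : G} (hx : x ∈ P.T)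
    (hx' : x' ∈ P.T) (hy : y ∈ P.T) : g (x * x' * y * (x * x')⁻¹ * y⁻¹) =
      g (x * y * x⁻¹ * y⁻¹) + g (x' * y * x'⁻¹ * y⁻¹) := by
  have h1 : x * x' * y * (x * x')⁻¹ * y⁻¹ = (x * (x' * y * x'⁻¹ * y⁻¹) * x⁻¹) * (x * y * x⁻¹ * y⁻¹) := by
    group
  have h2 := P.PP_comm hx' hy
  rw [h1, I.mul _ (P.PP_conj hx h2) _ (P.PP_comm hx hy), I.conj _ hx _ h2, add_comm]

theorem Inv.cm_symm {g : G → F} {w : F → F} (I : P.Inv g w) {x y : G} (hx : x ∈ P.T)
    (hy : y ∈ P.T) : g (y * x * y⁻¹ * x⁻¹) = g (x * y * x⁻¹ * y⁻¹) := by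
  rw [← I.inv (P.PP_comm hx hy)]
  congr 1
  group

theorem Inv.cm_mul_right {g : G → F} {w : F → F} (I : P.Inv g w) {x y y' : G} (hx : x ∈ P.T)
    (hy : y ∈ P.T) (hy' : y' ∈ P.T) : g (x * (y * y') * x⁻¹ * (y * y')⁻¹) =
      g (x * y * x⁻¹ * y⁻¹) + g (x * y' * x⁻¹ * y'⁻¹) := by
  rw [← I.cm_symm hx (mul_mem hy hy'), I.cm_mul_left hy hy' hx, I.cm_symm hx hy, I.cm_symm hx hy']

theorem Inv.cm_PP_left {g : G → F} {w : F → F} (I : P.Inv g w) {x y : G} (hx : x ∈ P.PP)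
    (hy : y ∈ P.T) : g (x * y * x⁻¹ * y⁻¹) = 0 := by
  have h1 : x * y * x⁻¹ * y⁻¹ = x * (y * x⁻¹ * y⁻¹) := by group
  rw [h1, I.mul _ hx _ (P.PP_conj hy (inv_mem hx)), I.conj _ hy _ (inv_mem hx), I.inv hx,
    CharTwo.add_self_eq_zero]

theorem Inv.cm_dep_left {g : G → F} {w : F → F} (I : P.Inv g w) {x x' y : G} (hx : x ∈ P.T)
    (hx' : x' ∈ P.T) (hy : y ∈ P.T) (h : P.act x = P.act x') :
    g (x * y * x⁻¹ * y⁻¹) = g (x' * y * x'⁻¹ * y⁻¹) := by
  have h1 := P.div_mem hx hx' h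
  have h2 := I.cm_mul_left hx h1.1 hy
  rw [mul_inv_cancel_left, I.cm_PP_left h1 hy, add_zero] at h2
  exact h2.symm

theorem Inv.cm_dep {g : G → F} {w : F → F} (I : P.Inv g w) {x x' y y' : G} (hx : x ∈ P.T)
    (hx' : x' ∈ P.T) (hy : y ∈ P.T) (hy' : y' ∈ P.T) (h : P.act x = P.act x') (h' : P.act y = P.act y') :
    g (x * y * x⁻¹ * y⁻¹) = g (x' * y' * x'⁻¹ * y'⁻¹) := by
  rw [I.cm_dep_left hx hx' hy h, ← I.cm_symm hx' hy, I.cm_dep_left hy hy' hx' h', I.cm_symm hx' hy']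

/-- the squaring map is a quadratic map with this form -/
theorem Inv.sq_mul {g : G → F} {w : F → F} (I : P.Inv g w) {x y : G} (hx : x ∈ P.T)
    (hy : y ∈ P.T) : g (x * y * (x * y)) = g (x * x) + g (y * y) + g (x * y * x⁻¹ * y⁻¹) := by
  have h1 : x * y * (x * y) = (x * (y * x * y⁻¹ * x⁻¹) * x⁻¹) * ((x * x) * (y * y)) := by group
  have h2 := P.PP_comm hy hx
  rw [h1, I.mul _ (P.PP_conj hx h2) _ (mul_mem (P.PP_sq hx) (P.PP_sq hy)),
    I.mul _ (P.PP_sq hx) _ (P.PP_sq hy), I.conj _ hx _ h2, I.cm_symm hx hy, add_comm]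

/-- all the commutators are killed by `g` -/
theorem Inv.cm_zero {g : G → F} {w : F → F} (I : P.Inv g w)
    (hB : ∀ B : F → F → F, (∀ x x' y, B (x + x') y = B x y + B x' y) →
      (∀ x y y', B x (y + y') = B x y + B x y') →
      (∀ l x y : F, l ≠ 0 → B (l ^ (1 + 2 ^ (m + 1)) * x) (l ^ (1 + 2 ^ (m + 1)) * y) = w l * B x y) →
      ∀ x y, B x y = 0) {x y : G} (hx : x ∈ P.T) (hy : y ∈ P.T) : g (x * y * x⁻¹ * y⁻¹) = 0 := by
  let B : F → F → F := fun c d => g (P.xc c * P.xc d * (P.xc c)⁻¹ * (P.xc d)⁻¹)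
  have hB0 : ∀ c d, B c d = 0 := by
    apply hB B
    · intro c c' d
      show g _ = g _ + g _
      rw [← I.cm_mul_left (P.xc_mem c) (P.xc_mem c') (P.xc_mem d)]
      apply I.cm_dep_left (P.xc_mem _) (mul_mem (P.xc_mem _) (P.xc_mem _)) (P.xc_mem _)
      rw [P.act_mul (P.xc_mem _) (P.xc_mem _), P.act_xc, P.act_xc, P.act_xc]
    · intro c d d'
      show g _ = g _ + g _
      rw [← I.cm_mul_right (P.xc_mem c) (P.xc_mem d) (P.xc_mem d')]
      apply I.cm_dep (P.xc_mem _) (P.xc_mem _) (P.xc_mem _) (mul_mem (P.xc_mem _) (P.xc_mem _)) rfl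
      rw [P.act_mul (P.xc_mem _) (P.xc_mem _), P.act_xc, P.act_xc, P.act_xc]
    · intro l c d hl
      let u : Fˣ := Units.mk0 l hl
      have h1 := I.tor u _ (P.PP_comm (P.xc_mem c) (P.xc_mem d))
      show g _ = w l * g _
      rw [show w l = w (u : F) from rfl, ← h1]
      have h2 : P.h u * (P.xc c * P.xc d * (P.xc c)⁻¹ * (P.xc d)⁻¹) * (P.h u)⁻¹ =
          (P.h u * P.xc c * (P.h u)⁻¹) * (P.h u * P.xc d * (P.h u)⁻¹) *
            (P.h u * P.xc c * (P.h u)⁻¹)⁻¹ * (P.h u * P.xc d * (P.h u)⁻¹)⁻¹ := by group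
      rw [h2]
      apply I.cm_dep (P.xc_mem _) (P.h_T u _ (P.xc_mem _)) (P.xc_mem _) (P.h_T u _ (P.xc_mem _))
      · rw [P.act_xc, P.act_h u (P.xc_mem _), P.act_xc]; rfl
      · rw [P.act_xc, P.act_h u (P.xc_mem _), P.act_xc]; rfl
  rw [← hB0 (P.act x) (P.act y)]
  exact I.cm_dep hx (P.xc_mem _) hy (P.xc_mem _) (P.act_xc _).symm (P.act_xc _).symm

/-- all the squares are killed by `g` -/
theorem Inv.sq_zero {g : G → F} {w : F → F} (I : P.Inv g w)
    (hcm : ∀ x ∈ P.T, ∀ y ∈ P.T, g (x * y * x⁻¹ * y⁻¹) = 0)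
    (hs : ∀ s : F → F, (∀ x y, s (x + y) = s x + s y) →
      (∀ l x : F, l ≠ 0 → s (l ^ (1 + 2 ^ (m + 1)) * x) = w l * s x) → ∀ x, s x = 0)
    {x : G} (hx : x ∈ P.T) : g (x * x) = 0 := by
  have hadd : ∀ x ∈ P.T, ∀ y ∈ P.T, g (x * y * (x * y)) = g (x * x) + g (y * y) := by
    intro x hx y hy
    rw [I.sq_mul hx hy, hcm x hx y hy, add_zero]
  have hPP : ∀ x ∈ P.PP, g (x * x) = 0 := by
    intro x hx
    rw [I.mul _ hx _ hx, CharTwo.add_self_eq_zero]
  have hdep : ∀ x ∈ P.T, ∀ y ∈ P.T, P.act x = P.act y → g (x * x) = g (y * y) := by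
    intro x hx y hy h
    have h1 := P.div_mem hx hy h
    have h2 := hadd x hx _ h1.1
    rw [mul_inv_cancel_left, hPP _ h1, add_zero] at h2
    exact h2.symm
  have h0 : ∀ c, g (P.xc c * P.xc c) = 0 := by
    apply hs (fun c => g (P.xc c * P.xc c))
    · intro c d
      show g _ = g _ + g _
      rw [← hadd _ (P.xc_mem c) _ (P.xc_mem d)]
      apply hdep _ (P.xc_mem _) _ (mul_mem (P.xc_mem _) (P.xc_mem _))
      rw [P.act_mul (P.xc_mem _) (P.xc_mem _), P.act_xc, P.act_xc, P.act_xc]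
    · intro l c hl
      let u : Fˣ := Units.mk0 l hl
      have h1 := I.tor u _ (P.PP_sq (P.xc_mem c))
      show g _ = w l * g _
      rw [show w l = w (u : F) from rfl, ← h1]
      have h2 : P.h u * (P.xc c * P.xc c) * (P.h u)⁻¹ =
          (P.h u * P.xc c * (P.h u)⁻¹) * (P.h u * P.xc c * (P.h u)⁻¹) := by group
      rw [h2]
      apply hdep _ (P.xc_mem _) _ (P.h_T u _ (P.xc_mem _))
      rw [P.act_xc, P.act_h u (P.xc_mem _), P.act_xc]; rfl
  rw [← h0 (P.act x)]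
  exact hdep x hx _ (P.xc_mem _) (P.act_xc _).symm

variable (P)

/-- **squares lie in `Z`** -/
theorem exists_sq {x : G} (hx : x ∈ P.T) : ∃ b, x * x = P.p 0 b := by
  have hm := P.hm
  have hF := P.hF
  apply P.eq_z (P.PP_sq hx)
  · apply P.inv_aP.sq_zero _ _ hx
    · intro x hx y hy
      refine P.inv_aP.cm_zero (fun B h1 h2 h3 => ?_) hx hy
      exact pairing_221 hm hF B h1 h2 h3
    · intro s h1 h2
      exact Weights.map_21 (by omega) hF s h1 h2
  · have key : ∀ l : F, l ≠ 0 → ∃ k : F, k ≠ 0 ∧ k ^ (1 + 2 ^ (m + 1)) = l := fun l hl =>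
      ⟨_, pow_ne_zero _ hl, norm_surj hF l⟩
    apply P.inv_fP.sq_zero _ _ hx
    · intro x hx y hy
      refine P.inv_fP.cm_zero (fun B h1 h2 h3 => ?_) hx hy
      apply Weights.pairing_same0 (by omega) hF B h1 h2
      intro l x y hl
      obtain ⟨k, hk0, hk⟩ := key l hl
      have := h3 k x y hk0
      rwa [hk, one_mul] at this
    · intro s h1 h2
      apply Weights.map_20 _ s h1
      · intro l x hl
        obtain ⟨k, hk0, hk⟩ := key l hl
        have := h2 k x hk0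
        rwa [hk, one_mul] at this
      · rw [hF]
        calc 2 < 2 ^ 2 := by norm_num
          _ ≤ 2 ^ (2 * m + 1) := Nat.pow_le_pow_right (by norm_num) (by omega)

/-- **commutators lie in `Z`** -/
theorem exists_comm {x y : G} (hx : x ∈ P.T) (hy : y ∈ P.T) : ∃ b, x * y = P.p 0 b * (y * x) := by
  obtain ⟨b1, h1⟩ := P.exists_sq hx
  obtain ⟨b2, h2⟩ := P.exists_sq hy
  obtain ⟨b3, h3⟩ := P.exists_sq (mul_mem hx hy)
  refine ⟨b1 + b2 + b3, ?_⟩
  rw [← P.z_mul, ← P.z_mul, ← h1, ← h3]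
  have h4 : y⁻¹ = P.p 0 b2 * y := by
    apply inv_eq_of_mul_eq_one_left
    rw [mul_assoc, h2, P.z_self]
  have h5 : x⁻¹ = P.p 0 b1 * x := by
    apply inv_eq_of_mul_eq_one_left
    rw [mul_assoc, h1, P.z_self]
  have hz3 := P.T_Z
  -- `x y x y = b3`, so `x y = b3 y⁻¹ x⁻¹`
  have h6 : x * y = P.p 0 b3 * (y⁻¹ * x⁻¹) := by
    rw [← h3]; group
  rw [h3, h1]
  rw [h6, h4, h5]
  have e1 : P.p 0 b2 * y * (P.p 0 b1 * x) = P.p 0 b2 * P.p 0 b1 * (y * x) := by
    calc P.p 0 b2 * y * (P.p 0 b1 * x) = P.p 0 b2 * (y * P.p 0 b1) * x := by group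
      _ = P.p 0 b2 * (P.p 0 b1 * y) * x := by rw [P.T_Z y hy]
      _ = _ := by group
  rw [e1, ← mul_assoc, ← mul_assoc, P.z_mul, P.z_mul, P.z_mul, P.z_mul, ← mul_assoc]
  congr 3
  ring

end Pre

end Cfsg.Agent.OddHalf.D4.Sz

end

-- merged: Cfsg.Agent.OddHalf.D4.Sz.Crd
section

/-!
# ODD, D4, `K = Sz(q)`, `q ≥ 32`: coordinates and the form on `T₁ / Z`

`fC, aC, act : T → F` additive, torus-equivariant of weights 0, 1, 2; kernel `Z`; values of `fC` in `f(Q)`.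
`x * x = p 0 (q x)`, `q x = aC^(1+θ) + s act + act * fC + λ (aC act)^(2^m)`.
-/

set_option autoImplicit false
set_option linter.unusedSectionVars false
set_option linter.style.haveILetI false

namespace Cfsg.Agent.OddHalf.D4.Sz

open Cfsg.Agent.StdSz.EquivMaps Cfsg.Agent.StdSz.SzMaps

/-- additive functions on a subgroup of an elementary abelian 2-group extend. -/
theorem exists_ext {A F : Type*} [Group A] [AddCommGroup F] (hF : ∀ x : F, x + x = 0)
    (hA : ∀ x : A, x * x = 1) (H : Subgroup A) (g : A → F)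
    (hg : ∀ x ∈ H, ∀ y ∈ H, g (x * y) = g x + g y) :
    ∃ g' : A → F, (∀ x y, g' (x * y) = g' x + g' y) ∧ ∀ x ∈ H, g' x = g x := by
  classical
  have hcomm : ∀ x y : A, x * y = y * x := by
    intro x y
    have h3 := hA (x * y)
    calc x * y = x * (x * y * (x * y)) * y := by rw [h3, mul_one]
      _ = (x * x) * (y * x) * (y * y) := by group
      _ = y * x := by rw [hA, hA, one_mul, mul_one]
  letI cg : CommGroup A := { (inferInstance : Group A) with mul_comm := hcomm }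
  letI : Module (ZMod 2) (Additive A) := AddCommGroup.zmodModule (n := 2) (fun x => by
    rw [two_nsmul]; exact hA x.toMul)
  letI : Module (ZMod 2) F := AddCommGroup.zmodModule (n := 2) (fun x => by
    rw [two_nsmul]; exact hF x)
  have hz : ∀ e : ZMod 2, e = 0 ∨ e = 1 := by decide
  let W : Submodule (ZMod 2) (Additive A) :=
    { carrier := {x | x.toMul ∈ H}
      add_mem' := fun {x y} hx hy => H.mul_mem hx hy
      zero_mem' := H.one_mem
      smul_mem' := by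
        intro c x hx
        rcases hz c with rfl | rfl
        · rw [zero_smul]; exact H.one_mem
        · rw [one_smul]; exact hx }
  let φ : W →+ F := AddMonoidHom.mk' (fun x => g (x : Additive A).toMul) (by
    intro x y
    exact hg _ x.2 _ y.2)
  obtain ⟨ψ, hψ⟩ := LinearMap.exists_extend (φ.toZModLinearMap 2)
  refine ⟨fun x => ψ (Additive.ofMul x), fun x y => ?_, fun x hx => ?_⟩
  · show ψ (Additive.ofMul x + Additive.ofMul y) = _
    rw [map_add]
  · exact LinearMap.congr_fun hψ ⟨Additive.ofMul x, hx⟩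

namespace Pre

variable {G : Type*} [Group G] [Finite G] {F : Type*} [Field F] [Fintype F] [CharP F 2] {m : ℕ} (P : Pre G F m)

/-- the subgroup `Z` inside `T`. -/
def Zs : Subgroup P.T where
  carrier := {g | ∃ b, (g : G) = P.p 0 b}
  one_mem' := ⟨0, by rw [P.p_zero]; rfl⟩
  mul_mem' := by
    rintro a b ⟨x, hx⟩ ⟨y, hy⟩
    exact ⟨x + y, by rw [Subgroup.coe_mul, hx, hy, P.z_mul]⟩
  inv_mem' := by
    rintro a ⟨x, hx⟩
    exact ⟨x, by rw [Subgroup.coe_inv, hx, P.z_inv]⟩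

theorem mem_Zs {g : P.T} : g ∈ P.Zs ↔ ∃ b, (g : G) = P.p 0 b := Iff.rfl

instance Zs_normal : (P.Zs).Normal := ⟨by
  rintro n ⟨b, hb⟩ g
  refine ⟨b, ?_⟩
  rw [Subgroup.coe_mul, Subgroup.coe_mul, hb, Subgroup.coe_inv, P.T_Z g g.2, mul_assoc,
    mul_inv_cancel, mul_one]⟩

theorem quot_sq (x : P.T ⧸ P.Zs) : x * x = 1 := by
  obtain ⟨g, rfl⟩ := QuotientGroup.mk_surjective x
  rw [← QuotientGroup.mk_mul, QuotientGroup.eq_one_iff]
  exact P.exists_sq g.2

/-- an additive function on `P`, trivial on `Z`, extends to `T`. -/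
theorem exists_ext_T {E : Type*} [AddCommGroup E] (hE : ∀ x : E, x + x = 0) (g : G → E)
    (hg : ∀ x ∈ P.PP, ∀ y ∈ P.PP, g (x * y) = g x + g y) (hz : ∀ b, g (P.p 0 b) = 0) :
    ∃ g' : G → E, (∀ x ∈ P.T, ∀ y ∈ P.T, g' (x * y) = g' x + g' y) ∧ ∀ x ∈ P.PP, g' x = g x := by
  classical
  let mk : P.T → P.T ⧸ P.Zs := QuotientGroup.mk
  -- `g` on the quotient
  let gq : P.T ⧸ P.Zs → E := fun y => if h : ∃ x : P.T, (x : G) ∈ P.PP ∧ mk x = y then g (h.choose : G) else 0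
  have hgq : ∀ x : P.T, (x : G) ∈ P.PP → gq (mk x) = g (x : G) := by
    intro x hx
    have h : ∃ x' : P.T, (x' : G) ∈ P.PP ∧ mk x' = mk x := ⟨x, hx, rfl⟩
    have h1 : gq (mk x) = g (h.choose : G) := dif_pos h
    rw [h1]
    obtain ⟨h2, h3⟩ := h.choose_spec
    set x' := h.choose with hx'
    have h4 : x'⁻¹ * x ∈ P.Zs := QuotientGroup.eq.mp h3
    obtain ⟨b, hb⟩ := h4
    have h5 : (x : G) = (x' : G) * P.p 0 b := by
      rw [← hb, Subgroup.coe_mul, Subgroup.coe_inv, mul_inv_cancel_left]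
    rw [h5, hg _ h2 _ (P.p_mem 0 b), hz, add_zero]
  obtain ⟨g', h1, h2⟩ := exists_ext hE P.quot_sq ((P.PP.subgroupOf P.T).map (QuotientGroup.mk' P.Zs)) gq (by
    rintro _ ⟨x, hx, rfl⟩ _ ⟨y, hy, rfl⟩
    have hx' : (x : G) ∈ P.PP := Subgroup.mem_subgroupOf.mp hx
    have hy' : (y : G) ∈ P.PP := Subgroup.mem_subgroupOf.mp hy
    rw [← map_mul]
    show gq (mk (x * y)) = gq (mk x) + gq (mk y)
    rw [hgq _ (by rw [Subgroup.coe_mul]; exact mul_mem hx' hy'), hgq _ hx', hgq _ hy', Subgroup.coe_mul,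
      hg _ hx' _ hy'])
  refine ⟨fun x => if h : x ∈ P.T then g' (mk ⟨x, h⟩) else 0, ?_, ?_⟩
  · intro x hx y hy
    simp only
    rw [dif_pos hx, dif_pos hy, dif_pos (mul_mem hx hy), ← h1]
    rfl
  · intro x hx
    simp only
    have hxT : x ∈ P.T := P.PP_le hx
    rw [dif_pos hxT]
    have h3 := h2 (QuotientGroup.mk' P.Zs ⟨x, hxT⟩)
      ⟨⟨x, hxT⟩, Subgroup.mem_subgroupOf.mpr hx, rfl⟩
    exact h3.trans (hgq ⟨x, hxT⟩ hx)

omit [Finite G] [CharP F 2] in
/-- conjugation by the torus -/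
def cj (l : Fˣ) (x : G) : G := P.h l * x * (P.h l)⁻¹

omit [Finite G] [CharP F 2] in
theorem cj_mem (l : Fˣ) {x : G} (hx : x ∈ P.T) : P.cj l x ∈ P.T := P.h_T l x hx

omit [Finite G] [CharP F 2] in
theorem cj_mul (l : Fˣ) (x y : G) : P.cj l (x * y) = P.cj l x * P.cj l y := by
  unfold cj; group

omit [Finite G] [CharP F 2] in
theorem cj_cj (l k : Fˣ) {x : G} (hx : x ∈ P.T) : P.cj l (P.cj k x) = P.cj (l * k) x :=
  (P.h_mul l k x hx).symm

omit [CharP F 2] in
theorem card_units_F [CharP F 2] [Fintype Fˣ] : (((Fintype.card Fˣ : ℕ)) : F) = 1 := by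
  classical
  have h1 : Fintype.card Fˣ = Fintype.card F - 1 := by
    have e := Nat.card_units F
    rwa [Nat.card_eq_fintype_card, Nat.card_eq_fintype_card] at e
  have h2 : 1 ≤ Fintype.card F := Fintype.card_pos
  have h3 : ((Fintype.card F : ℕ) : F) = 0 := Nat.cast_card_eq_zero F
  have h4 : ((Fintype.card Fˣ : ℕ) : F) + 1 = 0 := by
    rw [← h3, h1, Nat.cast_sub h2, Nat.cast_one, sub_add_cancel]
  rw [eq_neg_of_add_eq_zero_left h4, CharTwo.neg_eq]

/-- the image of `f` -/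
def FR : AddSubgroup F where
  carrier := {y | ∃ r ∈ P.Q, P.f r = y}
  zero_mem' := ⟨1, one_mem _, P.f_one⟩
  add_mem' := by
    rintro _ _ ⟨r, hr, rfl⟩ ⟨s, hs, rfl⟩
    exact ⟨r * s, mul_mem hr hs, P.f_mul r hr s hs⟩
  neg_mem' := by
    rintro _ ⟨r, hr, rfl⟩
    exact ⟨r, hr, by rw [CharTwo.neg_eq]⟩

theorem mem_FR {y : F} : y ∈ P.FR ↔ ∃ r ∈ P.Q, P.f r = y := Iff.rfl

theorem f_mem_FR {r : G} (hr : r ∈ P.Q) : P.f r ∈ P.FR := ⟨r, hr, rfl⟩

theorem exists_aC : ∃ aC : G → F, (∀ x ∈ P.T, ∀ y ∈ P.T, aC (x * y) = aC x + aC y) ∧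
    (∀ x ∈ P.PP, aC x = P.aP x) ∧
    ∀ (l : Fˣ), ∀ x ∈ P.T, aC (P.h l * x * (P.h l)⁻¹) = l * aC x := by
  classical
  obtain ⟨a0, h1, h2⟩ := P.exists_ext_T (fun x : F => CharTwo.add_self_eq_zero x) P.aP
    (fun x hx y hy => P.aP_mul hx hy) (fun b => P.aP_p 0 b)
  refine ⟨fun x => ∑ l : Fˣ, ((l⁻¹ : Fˣ) : F) * a0 (P.cj l x), ?_, ?_, ?_⟩
  · intro x hx y hy
    simp only
    rw [← Finset.sum_add_distrib]
    refine Finset.sum_congr rfl fun l _ => ?_
    rw [P.cj_mul, h1 _ (P.cj_mem l hx) _ (P.cj_mem l hy), mul_add]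
  · intro x hx
    simp only
    have : ∀ l : Fˣ, ((l⁻¹ : Fˣ) : F) * a0 (P.cj l x) = P.aP x := fun l => by
      show ((l⁻¹ : Fˣ) : F) * a0 (P.h l * x * (P.h l)⁻¹) = P.aP x
      rw [h2 _ (P.PP_h l hx)]
      rw [P.aP_h l hx, ← mul_assoc, Units.inv_mul, one_mul]
    rw [Finset.sum_congr rfl (fun l _ => this l), Finset.sum_const, Finset.card_univ,
      nsmul_eq_mul, card_units_F, one_mul]
  · intro k x hx
    show ∑ l : Fˣ, ((l⁻¹ : Fˣ) : F) * a0 (P.cj l (P.cj k x)) =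
      k * ∑ l : Fˣ, ((l⁻¹ : Fˣ) : F) * a0 (P.cj l x)
    rw [Finset.mul_sum]
    refine Fintype.sum_equiv (Equiv.mulRight k) _ _ fun l => ?_
    rw [P.cj_cj l k hx]
    show ((l⁻¹ : Fˣ) : F) * a0 (P.cj (l * k) x) =
      k * ((((l * k)⁻¹ : Fˣ) : F) * a0 (P.cj (l * k) x))
    rw [← mul_assoc, ← Units.val_mul]
    have : k * (l * k)⁻¹ = l⁻¹ := by rw [mul_inv]; rw [mul_comm l⁻¹, mul_inv_cancel_left]
    rw [this]

theorem exists_fC : ∃ fC : G → F, (∀ x ∈ P.T, ∀ y ∈ P.T, fC (x * y) = fC x + fC y) ∧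
    (∀ x ∈ P.PP, fC x = P.fP x) ∧
    (∀ (l : Fˣ), ∀ x ∈ P.T, fC (P.h l * x * (P.h l)⁻¹) = fC x) ∧ ∀ x, ∃ r ∈ P.Q, P.f r = fC x := by
  classical
  have hFR : ∀ x : P.FR, x + x = 0 := fun x => Subtype.ext (CharTwo.add_self_eq_zero (x : F))
  have hq : ∀ x, P.fP x ∈ P.FR := by
    intro x
    by_cases hx : x ∈ P.PP
    · exact ⟨P.qP x, (P.qP_spec hx).1, rfl⟩
    · refine ⟨1, one_mem _, ?_⟩
      unfold fP qP
      rw [dif_neg hx]
  obtain ⟨r0, h1, h2⟩ := P.exists_ext_T hFR (fun x => (⟨P.fP x, hq x⟩ : P.FR))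
    (fun x hx y hy => Subtype.ext (P.fP_mul hx hy)) (fun b => Subtype.ext (P.fP_p 0 b))
  refine ⟨fun x => ((∑ l : Fˣ, r0 (P.cj l x) : P.FR) : F), ?_, ?_, ?_, fun x => ?_⟩
  · intro x hx y hy
    simp only
    rw [← AddSubgroup.coe_add, ← Finset.sum_add_distrib]
    congr 1
    refine Finset.sum_congr rfl fun l _ => ?_
    rw [P.cj_mul, h1 _ (P.cj_mem l hx) _ (P.cj_mem l hy)]
  · intro x hx
    simp only
    have : ∀ l : Fˣ, r0 (P.cj l x) = ⟨P.fP x, hq x⟩ := fun l => by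
      show r0 (P.h l * x * (P.h l)⁻¹) = ⟨P.fP x, hq x⟩
      rw [h2 _ (P.PP_h l hx)]
      exact Subtype.ext (P.fP_h l hx)
    rw [Finset.sum_congr rfl (fun l _ => this l), Finset.sum_const, Finset.card_univ]
    rw [AddSubgroup.coe_nsmul, nsmul_eq_mul, card_units_F, one_mul]
  · intro k x hx
    show ((∑ l : Fˣ, r0 (P.cj l (P.cj k x)) : P.FR) : F) = ((∑ l : Fˣ, r0 (P.cj l x) : P.FR) : F)
    congr 1
    refine Fintype.sum_equiv (Equiv.mulRight k) _ _ fun l => ?_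
    rw [P.cj_cj l k hx]; rfl
  · exact P.mem_FR.mp (∑ l : Fˣ, r0 (P.cj l x) : P.FR).2

/-- the `A`-coordinate on `T` -/
noncomputable def aC : G → F := P.exists_aC.choose

theorem aC_mul {x y : G} (hx : x ∈ P.T) (hy : y ∈ P.T) : P.aC (x * y) = P.aC x + P.aC y :=
  P.exists_aC.choose_spec.1 x hx y hy

theorem aC_PP {x : G} (hx : x ∈ P.PP) : P.aC x = P.aP x := P.exists_aC.choose_spec.2.1 x hx

theorem aC_h (l : Fˣ) {x : G} (hx : x ∈ P.T) : P.aC (P.h l * x * (P.h l)⁻¹) = l * P.aC x :=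
  P.exists_aC.choose_spec.2.2 l x hx

/-- the `Q`-coordinate on `T` -/
noncomputable def fC : G → F := P.exists_fC.choose

theorem fC_mul {x y : G} (hx : x ∈ P.T) (hy : y ∈ P.T) : P.fC (x * y) = P.fC x + P.fC y :=
  P.exists_fC.choose_spec.1 x hx y hy

theorem fC_PP {x : G} (hx : x ∈ P.PP) : P.fC x = P.fP x := P.exists_fC.choose_spec.2.1 x hx

theorem fC_h (l : Fˣ) {x : G} (hx : x ∈ P.T) : P.fC (P.h l * x * (P.h l)⁻¹) = P.fC x :=
  P.exists_fC.choose_spec.2.2.1 l x hx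

theorem fC_FR (x : G) : P.fC x ∈ P.FR := P.exists_fC.choose_spec.2.2.2 x

theorem aC_p (a b : F) : P.aC (P.p a b) = a := by rw [P.aC_PP (P.p_mem a b), P.aP_p]

theorem aC_Q {r : G} (hr : r ∈ P.Q) : P.aC r = 0 := by rw [P.aC_PP (P.Q_le hr), P.aP_Q hr]

theorem fC_p (a b : F) : P.fC (P.p a b) = 0 := by rw [P.fC_PP (P.p_mem a b), P.fP_p]

theorem fC_Q {r : G} (hr : r ∈ P.Q) : P.fC r = P.f r := by rw [P.fC_PP (P.Q_le hr), P.fP_Q hr]

theorem act_p (a b : F) : P.act (P.p a b) = 0 := (P.p_mem a b).2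

theorem act_Q {r : G} (hr : r ∈ P.Q) : P.act r = 0 := (P.Q_le hr).2

theorem aC_one : P.aC 1 = 0 := by rw [← P.p_zero, P.aC_p]

theorem fC_one : P.fC 1 = 0 := by rw [← P.p_zero, P.fC_p]

theorem aC_inv {x : G} (hx : x ∈ P.T) : P.aC x⁻¹ = P.aC x := by
  have h1 := P.aC_mul (inv_mem hx) hx
  rw [inv_mul_cancel, P.aC_one] at h1
  rw [eq_neg_of_add_eq_zero_left h1.symm, CharTwo.neg_eq]

theorem fC_inv {x : G} (hx : x ∈ P.T) : P.fC x⁻¹ = P.fC x := by
  have h1 := P.fC_mul (inv_mem hx) hx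
  rw [inv_mul_cancel, P.fC_one] at h1
  rw [eq_neg_of_add_eq_zero_left h1.symm, CharTwo.neg_eq]

/-- the kernel of the coordinates -/
theorem eq_z_of {x : G} (hx : x ∈ P.T) (h1 : P.fC x = 0) (h2 : P.aC x = 0) (h3 : P.act x = 0) :
    ∃ b, x = P.p 0 b := by
  have h4 : x ∈ P.PP := ⟨hx, h3⟩
  rw [P.fC_PP h4] at h1
  rw [P.aC_PP h4] at h2
  exact P.eq_z h4 h2 h1

theorem exists_z_mul {x y : G} (hx : x ∈ P.T) (hy : y ∈ P.T) (h1 : P.fC x = P.fC y) (h2 : P.aC x = P.aC y)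
    (h3 : P.act x = P.act y) : ∃ b, x = P.p 0 b * y := by
  obtain ⟨b, hb⟩ := P.eq_z_of (mul_mem hx (inv_mem hy))
    (by rw [P.fC_mul hx (inv_mem hy), P.fC_inv hy, h1, CharTwo.add_self_eq_zero])
    (by rw [P.aC_mul hx (inv_mem hy), P.aC_inv hy, h2, CharTwo.add_self_eq_zero])
    (by rw [P.act_mul hx (inv_mem hy), P.act_inv hy, h3, CharTwo.add_self_eq_zero])
  exact ⟨b, mul_inv_eq_iff_eq_mul.mp hb⟩

/-- surjectivity of the coordinates -/
theorem exists_el {r : F} (hr : r ∈ P.FR) (a c : F) : ∃ x ∈ P.T, P.fC x = r ∧ P.aC x = a ∧ P.act x = c := by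
  obtain ⟨r1, hr1, rfl⟩ := hr
  obtain ⟨s, hs, hs2⟩ := P.fC_FR (P.xc c)
  have h1 : P.xc c ∈ P.T := P.xc_mem c
  have h2 : r1 * s ∈ P.Q := mul_mem hr1 hs
  have h2' : r1 * s ∈ P.T := P.T_Q h2
  have h3 : P.p (a + P.aC (P.xc c)) 0 ∈ P.T := P.T_p _ _
  refine ⟨P.xc c * (r1 * s) * P.p (a + P.aC (P.xc c)) 0, mul_mem (mul_mem h1 h2') h3, ?_, ?_, ?_⟩
  · rw [P.fC_mul (mul_mem h1 h2') h3, P.fC_mul h1 h2', P.fC_p, P.fC_Q h2, P.f_mul r1 hr1 s hs, ← hs2, add_zero,
      add_comm (P.f r1), ← add_assoc, CharTwo.add_self_eq_zero, zero_add]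
  · rw [P.aC_mul (mul_mem h1 h2') h3, P.aC_mul h1 h2', P.aC_p, P.aC_Q h2, add_zero, add_comm a, ← add_assoc,
      CharTwo.add_self_eq_zero, zero_add]
  · rw [P.act_mul (mul_mem h1 h2') h3, P.act_mul h1 h2', P.act_p, P.act_Q h2, add_zero, add_zero, P.act_xc]

/-! ### squares and commutators -/

/-- `x * x = p 0 (sq x)` -/
noncomputable def sq (x : G) : F := by
  classical exact if h : x ∈ P.T then (P.exists_sq h).choose else 0

theorem sq_spec {x : G} (hx : x ∈ P.T) : x * x = P.p 0 (P.sq x) := by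
  classical
  have : P.sq x = (P.exists_sq hx).choose := by unfold sq; exact dif_pos hx
  rw [this]
  exact (P.exists_sq hx).choose_spec

theorem sq_eq {x : G} (hx : x ∈ P.T) {b : F} (h : x * x = P.p 0 b) : P.sq x = b :=
  P.z_inj (by rw [← P.sq_spec hx, h])

/-- the commutator form -/
noncomputable def cm (x y : G) : F := P.sq (x * y) + P.sq x + P.sq y

theorem cm_spec {x y : G} (hx : x ∈ P.T) (hy : y ∈ P.T) : x * y = P.p 0 (P.cm x y) * (y * x) := by
  obtain ⟨b, hb⟩ := P.exists_comm hx hy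
  have h1 : x * y * (x * y) = P.p 0 (b + P.sq y + P.sq x) := by
    calc x * y * (x * y) = x * (y * x) * y := by group
      _ = x * (P.p 0 b * (P.p 0 b * (y * x))) * y := by
        rw [← mul_assoc (P.p 0 b) (P.p 0 b), P.z_self, one_mul]
      _ = x * (P.p 0 b * (x * y)) * y := by rw [← hb]
      _ = (x * P.p 0 b) * x * (y * y) := by group
      _ = P.p 0 b * (x * x) * (y * y) := by rw [P.T_Z x hx]; group
      _ = _ := by rw [P.sq_spec hx, P.sq_spec hy, P.z_mul, P.z_mul]; congr 1; ring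
  have h2 : P.cm x y = b := by
    unfold cm
    rw [P.sq_eq (mul_mem hx hy) h1]
    have : b + P.sq y + P.sq x + P.sq x + P.sq y = b + (P.sq x + P.sq x) + (P.sq y + P.sq y) := by ring
    rw [this, CharTwo.add_self_eq_zero, CharTwo.add_self_eq_zero, add_zero, add_zero]
  rw [h2]; exact hb

theorem cm_eq {x y : G} (hx : x ∈ P.T) (hy : y ∈ P.T) {b : F} (h : x * y = P.p 0 b * (y * x)) : P.cm x y = b := by
  have h1 := P.cm_spec hx hy
  rw [h] at h1
  exact (P.z_inj (mul_right_cancel h1)).symm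

theorem cm_comm {x y : G} (hx : x ∈ P.T) (hy : y ∈ P.T) : P.cm x y = P.cm y x := by
  apply P.cm_eq hx hy
  have := P.cm_spec hy hx
  rw [this, ← mul_assoc, P.z_self, one_mul]

theorem cm_self {x : G} (hx : x ∈ P.T) : P.cm x x = 0 := by
  apply P.cm_eq hx hx
  rw [P.p_zero, one_mul]

theorem cm_mul_left {x x' y : G} (hx : x ∈ P.T) (hx' : x' ∈ P.T) (hy : y ∈ P.T) :
    P.cm (x * x') y = P.cm x y + P.cm x' y := by
  apply P.cm_eq (mul_mem hx hx') hy
  calc x * x' * y = x * (x' * y) := by group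
    _ = x * (P.p 0 (P.cm x' y) * (y * x')) := by rw [← P.cm_spec hx' hy]
    _ = (x * P.p 0 (P.cm x' y)) * y * x' := by group
    _ = P.p 0 (P.cm x' y) * (x * y) * x' := by rw [P.T_Z x hx]; group
    _ = P.p 0 (P.cm x' y) * (P.p 0 (P.cm x y) * (y * x)) * x' := by rw [← P.cm_spec hx hy]
    _ = (P.p 0 (P.cm x' y) * P.p 0 (P.cm x y)) * (y * (x * x')) := by group
    _ = _ := by rw [P.z_mul, add_comm (P.cm x' y)]

theorem cm_mul_right {x y y' : G} (hx : x ∈ P.T) (hy : y ∈ P.T) (hy' : y' ∈ P.T) :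
    P.cm x (y * y') = P.cm x y + P.cm x y' := by
  rw [P.cm_comm hx (mul_mem hy hy'), P.cm_mul_left hy hy' hx, P.cm_comm hy hx, P.cm_comm hy' hx]

theorem sq_mul (x y : G) : P.sq (x * y) = P.sq x + P.sq y + P.cm x y := by
  unfold cm
  have : P.sq x + P.sq y + (P.sq (x * y) + P.sq x + P.sq y) =
      P.sq (x * y) + (P.sq x + P.sq x) + (P.sq y + P.sq y) := by ring
  rw [this, CharTwo.add_self_eq_zero, CharTwo.add_self_eq_zero, add_zero, add_zero]

theorem sq_p (a b : F) : P.sq (P.p a b) = a ^ (1 + 2 ^ (m + 1)) := P.sq_eq (P.T_p a b) (P.p_sq a b)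

theorem sq_Q {r : G} (hr : r ∈ P.Q) : P.sq r = 0 := by
  apply P.sq_eq (P.T_Q hr)
  rw [P.Q_sq r hr, P.p_zero]

theorem cm_z_left (b : F) {x : G} (hx : x ∈ P.T) : P.cm (P.p 0 b) x = 0 := by
  apply P.cm_eq (P.T_p 0 b) hx
  rw [P.p_zero, one_mul, P.T_Z x hx]

theorem sq_z (b : F) : P.sq (P.p 0 b) = 0 := by
  rw [P.sq_p, zero_pow (by positivity)]

/-- `sq` depends only on the coordinates -/
theorem sq_congr {x y : G} (hx : x ∈ P.T) (hy : y ∈ P.T) (h1 : P.fC x = P.fC y) (h2 : P.aC x = P.aC y)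
    (h3 : P.act x = P.act y) : P.sq x = P.sq y := by
  obtain ⟨b, rfl⟩ := P.exists_z_mul hx hy h1 h2 h3
  rw [P.sq_mul, P.sq_z, P.cm_z_left b hy, add_zero, zero_add]

theorem cm_congr {x y x' y' : G} (hx : x ∈ P.T) (hy : y ∈ P.T) (hx' : x' ∈ P.T) (hy' : y' ∈ P.T)
    (h1 : P.fC x = P.fC x') (h2 : P.aC x = P.aC x') (h3 : P.act x = P.act x')
    (h4 : P.fC y = P.fC y') (h5 : P.aC y = P.aC y') (h6 : P.act y = P.act y') : P.cm x y = P.cm x' y' := by
  unfold cm
  rw [P.sq_congr hx hx' h1 h2 h3, P.sq_congr hy hy' h4 h5 h6,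
    P.sq_congr (mul_mem hx hy) (mul_mem hx' hy') (by rw [P.fC_mul hx hy, P.fC_mul hx' hy', h1, h4])
      (by rw [P.aC_mul hx hy, P.aC_mul hx' hy', h2, h5]) (by rw [P.act_mul hx hy, P.act_mul hx' hy', h3, h6])]

theorem sq_h (l : Fˣ) {x : G} (hx : x ∈ P.T) :
    P.sq (P.h l * x * (P.h l)⁻¹) = (l : F) ^ (1 + 2 ^ (m + 1)) * P.sq x := by
  apply P.sq_eq (P.h_T l x hx)
  have : P.h l * x * (P.h l)⁻¹ * (P.h l * x * (P.h l)⁻¹) = P.h l * (x * x) * (P.h l)⁻¹ := by group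
  rw [this, P.sq_spec hx, P.h_p, mul_zero]

theorem cm_h (l : Fˣ) {x y : G} (hx : x ∈ P.T) (hy : y ∈ P.T) :
    P.cm (P.h l * x * (P.h l)⁻¹) (P.h l * y * (P.h l)⁻¹) = (l : F) ^ (1 + 2 ^ (m + 1)) * P.cm x y := by
  unfold cm
  have : P.h l * x * (P.h l)⁻¹ * (P.h l * y * (P.h l)⁻¹) = P.h l * (x * y) * (P.h l)⁻¹ := by group
  rw [this, P.sq_h l hx, P.sq_h l hy, P.sq_h l (mul_mem hx hy)]
  ring

/-- the elements `e_c` -/
noncomputable def ee (c : F) : G := (P.exists_el P.FR.zero_mem 0 c).choose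

theorem ee_mem (c : F) : P.ee c ∈ P.T := (P.exists_el P.FR.zero_mem 0 c).choose_spec.1
theorem fC_ee (c : F) : P.fC (P.ee c) = 0 := (P.exists_el P.FR.zero_mem 0 c).choose_spec.2.1
theorem aC_ee (c : F) : P.aC (P.ee c) = 0 := (P.exists_el P.FR.zero_mem 0 c).choose_spec.2.2.1
theorem act_ee (c : F) : P.act (P.ee c) = c := (P.exists_el P.FR.zero_mem 0 c).choose_spec.2.2.2

include P in
theorem scal {l : F} (hl : l ≠ 0) : ∃ k : Fˣ, (k : F) ^ (1 + 2 ^ (m + 1)) = l :=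
  ⟨Units.mk0 _ (pow_ne_zero (2 ^ (m + 1) - 1) hl), norm_surj P.hF l⟩

theorem exists_s : ∃ s : F, ∀ c, P.sq (P.ee c) = s * c ∧ ∀ d, P.cm (P.ee c) (P.ee d) = 0 := by
  have hm := P.hm
  have hF := P.hF
  have f0 : ∀ c, P.fC (P.ee c) = 0 := P.fC_ee
  have hf0 : ∀ u v, P.cm (P.ee u) (P.ee v) = 0 := by
    apply alternating_same (by omega) hF (fun u v => P.cm (P.ee u) (P.ee v))
    · intro x x' y
      show P.cm _ _ = P.cm _ _ + P.cm _ _
      rw [← P.cm_mul_left (P.ee_mem _) (P.ee_mem _) (P.ee_mem _)]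
      apply P.cm_congr (P.ee_mem _) (P.ee_mem _) (mul_mem (P.ee_mem _) (P.ee_mem _)) (P.ee_mem _) _ _ _ rfl rfl rfl
      · rw [P.fC_mul (P.ee_mem _) (P.ee_mem _), f0, f0, f0, add_zero]
      · rw [P.aC_mul (P.ee_mem _) (P.ee_mem _), P.aC_ee, P.aC_ee, P.aC_ee, add_zero]
      · rw [P.act_mul (P.ee_mem _) (P.ee_mem _), P.act_ee, P.act_ee, P.act_ee]
    · intro x y y'
      show P.cm _ _ = P.cm _ _ + P.cm _ _
      rw [← P.cm_mul_right (P.ee_mem _) (P.ee_mem _) (P.ee_mem _)]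
      apply P.cm_congr (P.ee_mem _) (P.ee_mem _) (P.ee_mem _) (mul_mem (P.ee_mem _) (P.ee_mem _)) rfl rfl rfl
      · rw [P.fC_mul (P.ee_mem _) (P.ee_mem _), f0, f0, f0, add_zero]
      · rw [P.aC_mul (P.ee_mem _) (P.ee_mem _), P.aC_ee, P.aC_ee, P.aC_ee, add_zero]
      · rw [P.act_mul (P.ee_mem _) (P.ee_mem _), P.act_ee, P.act_ee, P.act_ee]
    · intro l x y hl
      obtain ⟨k, hk⟩ := P.scal hl
      show P.cm _ _ = _ * P.cm _ _
      rw [← hk, ← P.cm_h k (P.ee_mem _) (P.ee_mem _)]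
      apply P.cm_congr (P.ee_mem _) (P.ee_mem _) (P.h_T _ _ (P.ee_mem _)) (P.h_T _ _ (P.ee_mem _))
      · rw [P.fC_h k (P.ee_mem _), f0, f0]
      · rw [P.aC_h k (P.ee_mem _), P.aC_ee, P.aC_ee, mul_zero]
      · rw [P.act_h k (P.ee_mem _), P.act_ee, P.act_ee]
      · rw [P.fC_h k (P.ee_mem _), f0, f0]
      · rw [P.aC_h k (P.ee_mem _), P.aC_ee, P.aC_ee, mul_zero]
      · rw [P.act_h k (P.ee_mem _), P.act_ee, P.act_ee]
    · intro x
      exact P.cm_self (P.ee_mem _)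
  have hadd : ∀ u v, P.sq (P.ee (u + v)) = P.sq (P.ee u) + P.sq (P.ee v) := by
    intro u v
    rw [P.sq_congr (P.ee_mem _) (mul_mem (P.ee_mem u) (P.ee_mem v))
      (by rw [P.fC_mul (P.ee_mem _) (P.ee_mem _), f0, f0, f0, add_zero])
      (by rw [P.aC_mul (P.ee_mem _) (P.ee_mem _), P.aC_ee, P.aC_ee, P.aC_ee, add_zero])
      (by rw [P.act_mul (P.ee_mem _) (P.ee_mem _), P.act_ee, P.act_ee, P.act_ee]),
      P.sq_mul, hf0, add_zero]
  refine ⟨P.sq (P.ee 1), fun u => ⟨?_, fun v => hf0 u v⟩⟩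
  rcases eq_or_ne u 0 with rfl | hu
  · rw [mul_zero]
    have h1 := hadd 0 0
    rw [add_zero, CharTwo.add_self_eq_zero] at h1
    exact h1
  · obtain ⟨k, hk⟩ := P.scal hu
    have h1 := P.sq_h k (P.ee_mem 1)
    rw [hk] at h1
    rw [mul_comm, ← h1]
    apply P.sq_congr (P.ee_mem _) (P.h_T _ _ (P.ee_mem _))
    · rw [P.fC_h k (P.ee_mem _), f0, f0]
    · rw [P.aC_h k (P.ee_mem _), P.aC_ee, P.aC_ee, mul_zero]
    · rw [P.act_h k (P.ee_mem _), P.act_ee, P.act_ee, hk, mul_one]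

theorem exists_lam : ∃ d : F, ∀ a c, P.cm (P.p a 0) (P.ee c) = d * (a * c) ^ (2 ^ m) := by
  have hm := P.hm
  have hF := P.hF
  apply pairing_122 (by omega) hF (fun a c => P.cm (P.p a 0) (P.ee c))
  · intro a a' c
    show P.cm _ _ = P.cm _ _ + P.cm _ _
    rw [← P.cm_mul_left (P.T_p _ _) (P.T_p _ _) (P.ee_mem _)]
    apply P.cm_congr (P.T_p _ _) (P.ee_mem _) (mul_mem (P.T_p _ _) (P.T_p _ _)) (P.ee_mem _) _ _ _ rfl rfl rfl
    · rw [P.fC_mul (P.T_p _ _) (P.T_p _ _), P.fC_p, P.fC_p, P.fC_p, add_zero]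
    · rw [P.aC_mul (P.T_p _ _) (P.T_p _ _), P.aC_p, P.aC_p, P.aC_p]
    · rw [P.act_mul (P.T_p _ _) (P.T_p _ _), P.act_p, P.act_p, P.act_p, add_zero]
  · intro a c c'
    show P.cm _ _ = P.cm _ _ + P.cm _ _
    rw [← P.cm_mul_right (P.T_p _ _) (P.ee_mem _) (P.ee_mem _)]
    apply P.cm_congr (P.T_p _ _) (P.ee_mem _) (P.T_p _ _) (mul_mem (P.ee_mem _) (P.ee_mem _)) rfl rfl rfl
    · rw [P.fC_mul (P.ee_mem _) (P.ee_mem _), P.fC_ee, P.fC_ee, P.fC_ee, add_zero]
    · rw [P.aC_mul (P.ee_mem _) (P.ee_mem _), P.aC_ee, P.aC_ee, P.aC_ee, add_zero]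
    · rw [P.act_mul (P.ee_mem _) (P.ee_mem _), P.act_ee, P.act_ee, P.act_ee]
  · intro l a c hl
    show P.cm _ _ = _ * P.cm _ _
    have h1 := P.cm_h (Units.mk0 l hl) (P.T_p a 0) (P.ee_mem c)
    rw [Units.val_mk0] at h1
    rw [← h1]
    apply P.cm_congr (P.T_p _ _) (P.ee_mem _) (P.h_T _ _ (P.T_p _ _)) (P.h_T _ _ (P.ee_mem _))
    · rw [P.fC_h _ (P.T_p _ _), P.fC_p, P.fC_p]
    · rw [P.aC_h _ (P.T_p _ _), P.aC_p, P.aC_p, Units.val_mk0]
    · rw [P.act_h _ (P.T_p _ _), P.act_p, P.act_p, mul_zero]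
    · rw [P.fC_h _ (P.ee_mem _), P.fC_ee, P.fC_ee]
    · rw [P.aC_h _ (P.ee_mem _), P.aC_ee, P.aC_ee, mul_zero]
    · rw [P.act_h _ (P.ee_mem _), P.act_ee, P.act_ee, Units.val_mk0]

/-- the constant `s` -/
noncomputable def s : F := P.exists_s.choose

/-- the constant `λ` -/
noncomputable def lam : F := P.exists_lam.choose

theorem sq_ee (c : F) : P.sq (P.ee c) = P.s * c := (P.exists_s.choose_spec c).1

theorem cm_p_ee (a c : F) : P.cm (P.p a 0) (P.ee c) = P.lam * (a * c) ^ (2 ^ m) := P.exists_lam.choose_spec a c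

theorem cm_Q {r x : G} (hr : r ∈ P.Q) (hx : x ∈ P.T) : P.cm r x = P.act x * P.f r := by
  rw [P.cm_comm (P.T_Q hr) hx]
  apply P.cm_eq hx (P.T_Q hr)
  have h1 := P.T_act x hx r hr
  rw [mul_inv_eq_iff_eq_mul] at h1
  rw [h1, P.T_Z r (P.T_Q hr), mul_assoc]

/-- the quadratic form -/
def qf (m : ℕ) (s lam : F) (r a c : F) : F := a ^ (1 + 2 ^ (m + 1)) + s * c + c * r + lam * (a * c) ^ (2 ^ m)

/-- its polarization -/
def bf (m : ℕ) (lam : F) (r a c r' a' c' : F) : F :=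
  a * a' ^ (2 ^ (m + 1)) + a ^ (2 ^ (m + 1)) * a' + (c * r' + c' * r) +
    (lam * (a * c') ^ (2 ^ m) + lam * (a' * c) ^ (2 ^ m))

theorem sq_crd {x : G} (hx : x ∈ P.T) : P.sq x = qf m P.s P.lam (P.fC x) (P.aC x) (P.act x) := by
  obtain ⟨r, hr, hr2⟩ := P.fC_FR x
  have h1 : P.p (P.aC x) 0 ∈ P.T := P.T_p _ _
  have h2 := P.ee_mem (P.act x)
  have h3 : r ∈ P.T := P.T_Q hr
  rw [P.sq_congr hx (mul_mem h3 (mul_mem h1 h2))
    (by rw [P.fC_mul h3 (mul_mem h1 h2), P.fC_mul h1 h2, P.fC_p, P.fC_ee, P.fC_Q hr, hr2, add_zero, add_zero])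
    (by rw [P.aC_mul h3 (mul_mem h1 h2), P.aC_mul h1 h2, P.aC_p, P.aC_ee, P.aC_Q hr, add_zero, zero_add])
    (by rw [P.act_mul h3 (mul_mem h1 h2), P.act_mul h1 h2, P.act_p, P.act_ee, P.act_Q hr, zero_add, zero_add])]
  rw [P.sq_mul, P.sq_mul, P.sq_Q hr, P.sq_p, P.sq_ee, P.cm_p_ee, P.cm_Q hr (mul_mem h1 h2), P.act_mul h1 h2,
    P.act_p, P.act_ee, hr2]
  unfold qf
  ring

theorem cm_crd {x y : G} (hx : x ∈ P.T) (hy : y ∈ P.T) :
    P.cm x y = bf m P.lam (P.fC x) (P.aC x) (P.act x) (P.fC y) (P.aC y) (P.act y) := by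
  have h1 : P.cm x y = P.sq (x * y) + P.sq x + P.sq y := rfl
  rw [h1, P.sq_crd (mul_mem hx hy), P.sq_crd hx, P.sq_crd hy, P.fC_mul hx hy, P.aC_mul hx hy, P.act_mul hx hy]
  unfold qf bf
  have e1 : ∀ a b : F, (a + b) ^ (1 + 2 ^ (m + 1)) = a ^ (1 + 2 ^ (m + 1)) + b ^ (1 + 2 ^ (m + 1)) +
      (a * b ^ (2 ^ (m + 1)) + a ^ (2 ^ (m + 1)) * b) := by
    intro a b
    rw [_root_.pow_add (a + b) 1, _root_.pow_add a 1, _root_.pow_add b 1, add_pow_char_pow a b 2 (m + 1)]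
    ring
  have e2 : ((P.aC x + P.aC y) * (P.act x + P.act y)) ^ (2 ^ m) =
      (P.aC x * P.act x) ^ (2 ^ m) + (P.aC y * P.act y) ^ (2 ^ m) +
      ((P.aC x * P.act y) ^ (2 ^ m) + (P.aC y * P.act x) ^ (2 ^ m)) := by
    have : (P.aC x + P.aC y) * (P.act x + P.act y) =
      ((P.aC x * P.act x) + (P.aC y * P.act y)) + ((P.aC x * P.act y) + (P.aC y * P.act x)) := by ring
    rw [this, add_pow_char_pow _ _ 2 m, add_pow_char_pow _ _ 2 m, add_pow_char_pow _ _ 2 m]
  rw [e1, e2]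
  have h2 : (2 : F) = 0 := CharTwo.two_eq_zero
  linear_combination (P.aC x ^ (1 + 2 ^ (m + 1)) + P.aC y ^ (1 + 2 ^ (m + 1)) + P.s * P.act x + P.s * P.act y
    + P.act x * P.fC x + P.act y * P.fC y + P.lam * (P.aC x * P.act x) ^ (2 ^ m)
    + P.lam * (P.aC y * P.act y) ^ (2 ^ m)) * h2

/-- the centre of `T` is `Z` -/
theorem mem_Z_of_central {x : G} (hx : x ∈ P.T) (h : ∀ y ∈ P.T, x * y = y * x) : ∃ b, x = P.p 0 b := by
  have h0 : ∀ y ∈ P.T, P.cm x y = 0 := by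
    intro y hy
    apply P.cm_eq hx hy
    rw [P.p_zero, one_mul, h y hy]
  obtain ⟨r, hr, hr1⟩ := P.Q_ne
  have hfr : P.f r ≠ 0 := fun h0 => hr1 (P.f_inj r hr h0)
  have h1 : P.act x = 0 := by
    have h2 := h0 r (P.T_Q hr)
    rw [P.cm_comm hx (P.T_Q hr), P.cm_Q hr hx] at h2
    exact (mul_eq_zero.mp h2).resolve_right hfr
  have h2 : ∀ a : F, P.aC x * a ^ (2 ^ (m + 1)) + P.aC x ^ (2 ^ (m + 1)) * a = 0 := by
    intro a
    have h3 := h0 (P.p a 0) (P.T_p a 0)
    rw [P.cm_crd hx (P.T_p a 0), P.fC_p, P.aC_p, P.act_p, h1] at h3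
    unfold bf at h3
    simpa only [_root_.MulZeroClass.mul_zero, _root_.MulZeroClass.zero_mul, _root_.add_zero, _root_.ne_eq, _root_.Nat.pow_eq_zero, _root_.OfNat.ofNat_ne_zero, _root_.false_and, _root_.not_false_eq_true, _root_.zero_pow] using h3
  have h3 : P.aC x = 0 := by
    by_contra ha
    obtain ⟨g, hg0, hg, -⟩ := exists_gen P.hF
    have e1 := h2 1
    rw [one_pow, mul_one, mul_one] at e1
    have e2 := h2 g
    have e3 : P.aC x ^ (2 ^ (m + 1)) = P.aC x := by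
      have := eq_neg_of_add_eq_zero_right e1
      rwa [CharTwo.neg_eq] at this
    rw [e3, ← mul_add] at e2
    have e4 := (mul_eq_zero.mp e2).resolve_left ha
    have e5 : g ^ (2 ^ (m + 1)) = g := by
      have := eq_neg_of_add_eq_zero_left e4
      rwa [CharTwo.neg_eq] at this
    rcases Cfsg.Agent.StdSz.FormAlg.eq_of_th_eq P.hF e5 with e6 | e6
    · exact hg0 e6
    · have e7 : g ^ 1 = g ^ 0 := by rw [pow_one, pow_zero, e6]
      rw [hg] at e7
      have hm := P.hm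
      have h4 : 2 ^ 3 ≤ 2 ^ (2 * m + 1) := Nat.pow_le_pow_right (by norm_num) (by omega)
      have := Nat.ModEq.eq_of_lt_of_lt e7 (by omega) (by omega)
      omega
  have h4 : P.fC x = 0 := by
    have h5 := h0 (P.ee 1) (P.ee_mem 1)
    rw [P.cm_crd hx (P.ee_mem 1), P.fC_ee, P.aC_ee, P.act_ee, h1, h3] at h5
    unfold bf at h5
    simpa using h5
  exact P.eq_z_of hx h4 h3 h1

end Pre

end Cfsg.Agent.OddHalf.D4.Sz

end

-- merged: Cfsg.Agent.OddHalf.D4.Sz.Block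
section

/-!
# ODD, D4, `K = Sz(q)`, `q ≥ 32`: a second block

`Y ≤ T₁` elementary of order `|Q|`, `Y ∩ Q Z = 1`, the elements of `Y - 1` have the same centralizer `D` in `T₁`,
`|D| = |Q| q²`. Then `s = λ = 0`, `|Q| = q` and `Y ≤ E₀`.
-/

set_option autoImplicit false
set_option linter.unusedSectionVars false

namespace Cfsg.Agent.OddHalf.D4.Sz

open Cfsg.Agent.StdSz.EquivMaps Cfsg.Agent.StdSz.SzMaps

section Field

variable {F : Type*} [Field F] [Fintype F] [CharP F 2] {m : ℕ}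

theorem tau_eq (hF : Fintype.card F = 2 ^ (2 * m + 1)) {t : F} (h : t ^ (2 ^ m) = t) : t = 0 ∨ t = 1 := by
  apply Cfsg.Agent.StdSz.FormAlg.eq_of_th_eq hF
  have h1 : (t ^ (2 ^ m)) ^ (2 ^ (m + 1)) = t := by
    rw [← pow_mul, ← _root_.pow_add]
    have : m + (m + 1) = 2 * m + 1 := by ring
    rw [this, ← hF, FiniteField.pow_card]
  rwa [h] at h1

/-- `c ^ τ / c` is injective -/
theorem tau_inj (hF : Fintype.card F = 2 ^ (2 * m + 1)) {c d : F} (hc : c ≠ 0) (hd : d ≠ 0)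
    (h : c ^ (2 ^ m) * d = d ^ (2 ^ m) * c) : c = d := by
  have h1 : (c / d) ^ (2 ^ m) = c / d := by
    rw [div_pow, div_eq_div_iff (pow_ne_zero _ hd) hd, h]
    ring
  rcases tau_eq hF h1 with h2 | h2
  · exact absurd ((div_eq_zero_iff.mp h2).resolve_right hd) hc
  · exact (div_eq_one_iff_eq hd).mp h2

/-- two distinct nonzero solutions of `X c + Y c ^ τ = 0` -/
theorem eq_zero_of_two (hF : Fintype.card F = 2 ^ (2 * m + 1)) {X Y c d : F} (hc : c ≠ 0) (hd : d ≠ 0)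
    (hne : c ≠ d) (h1 : X * c + Y * c ^ (2 ^ m) = 0) (h2 : X * d + Y * d ^ (2 ^ m) = 0) : X = 0 ∧ Y = 0 := by
  have hY : Y = 0 := by
    by_contra hY
    apply hne
    apply tau_inj hF hc hd
    have h3 : Y * (c ^ (2 ^ m) * d - d ^ (2 ^ m) * c) = 0 := by linear_combination d * h1 - c * h2
    exact sub_eq_zero.mp ((mul_eq_zero.mp h3).resolve_left hY)
  subst hY
  rw [zero_mul, add_zero] at h1
  exact ⟨(mul_eq_zero.mp h1).resolve_right hc, rfl⟩

omit [CharP F 2] in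
open Polynomial in
/-- an additive polynomial with many roots vanishes -/
theorem coeff_zero_of_roots (hm : 1 ≤ m) {x y w : F} {S : Set F} (hS : 2 ^ (m + 1) < Nat.card S)
    (h : ∀ a ∈ S, x * a ^ (2 ^ (m + 1)) + y * a + w * a ^ (2 ^ m) = 0) : x = 0 ∧ y = 0 ∧ w = 0 := by
  classical
  set p : F[X] := C x * X ^ (2 ^ (m + 1)) + C y * X + C w * X ^ (2 ^ m) with hp
  have hp0 : p = 0 := by
    by_contra hne
    have h1 : S ⊆ (p.roots.toFinset : Set F) := by
      intro a ha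
      rw [Finset.mem_coe, Multiset.mem_toFinset, mem_roots hne, IsRoot.def, hp]
      simp only [eval_add, eval_mul, eval_C, eval_pow, eval_X]
      exact h a ha
    have h2 : Nat.card S ≤ p.roots.toFinset.card := by
      have := Set.ncard_le_ncard h1 (Finset.finite_toSet _)
      rwa [Set.ncard_coe_finset, ← Nat.card_coe_set_eq] at this
    have h3 : p.roots.toFinset.card ≤ p.natDegree :=
      (Multiset.toFinset_card_le _).trans (card_roots' p)
    have h4 : p.natDegree ≤ 2 ^ (m + 1) := by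
      have e1 : (C x * X ^ (2 ^ (m + 1)) : F[X]).natDegree ≤ 2 ^ (m + 1) := natDegree_C_mul_X_pow_le _ _
      have e2 : (C y * X : F[X]).natDegree ≤ 2 ^ (m + 1) := by
        have := natDegree_C_mul_X_pow_le y 1
        rw [pow_one] at this
        exact this.trans Nat.one_le_two_pow
      have e3 : (C w * X ^ (2 ^ m) : F[X]).natDegree ≤ 2 ^ (m + 1) :=
        (natDegree_C_mul_X_pow_le _ _).trans (Nat.pow_le_pow_right (by norm_num) (by omega))
      exact natDegree_add_le_of_degree_le (natDegree_add_le_of_degree_le e1 e2) e3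
    omega
  have k1 : 1 < 2 ^ m := by
    calc 1 < 2 ^ 1 := by norm_num
      _ ≤ 2 ^ m := Nat.pow_le_pow_right (by norm_num) hm
  have k2 : 2 ^ m < 2 ^ (m + 1) := Nat.pow_lt_pow_right (by norm_num) (by omega)
  have c1 := congrArg (fun p => p.coeff (2 ^ (m + 1))) hp0
  have c2 := congrArg (fun p => p.coeff 1) hp0
  have c3 := congrArg (fun p => p.coeff (2 ^ m)) hp0
  simp only [hp, coeff_add, coeff_C_mul, coeff_X_pow, coeff_zero, coeff_X] at c1 c2 c3
  rw [if_pos trivial, if_neg (by omega), if_neg (by omega)] at c1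
  rw [if_neg (by omega), if_pos trivial, if_neg (by omega)] at c2
  rw [if_neg (by omega), if_neg (by omega), if_pos trivial] at c3
  refine ⟨by simpa using c1, by simpa using c2, by simpa using c3⟩

end Field

/-- kernel and image of an additive function on a subgroup -/
theorem exists_ker {G F : Type*} [Group G] [Finite G] [AddGroup F] (H : Subgroup G) (g : G → F)
    (hg : ∀ x ∈ H, ∀ y ∈ H, g (x * y) = g x + g y) :
    ∃ K : Subgroup G, (∀ x, x ∈ K ↔ x ∈ H ∧ g x = 0) ∧ Nat.card H = Nat.card K * Nat.card (g '' (H : Set G)) := by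
  let φ : H →* Multiplicative F := MonoidHom.mk' (fun x => Multiplicative.ofAdd (g x)) (by
    intro x y
    show Multiplicative.ofAdd (g ((x : G) * y)) = _
    rw [hg _ x.2 _ y.2]; rfl)
  refine ⟨φ.ker.map H.subtype, fun x => ?_, ?_⟩
  · constructor
    · rintro ⟨y, hy, rfl⟩
      exact ⟨y.2, hy⟩
    · rintro ⟨hx, h⟩
      exact ⟨⟨x, hx⟩, h, rfl⟩
  · rw [Subgroup.card_map_of_injective H.subtype_injective, ← Subgroup.card_mul_index φ.ker, Subgroup.index_ker]
    congr 1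
    refine Nat.card_congr ⟨fun y => ⟨Multiplicative.toAdd y.1, ?_⟩, fun y => ⟨Multiplicative.ofAdd y.1, ?_⟩,
      fun y => rfl, fun y => rfl⟩
    · obtain ⟨x, hx⟩ := y.2
      exact ⟨x, x.2, by rw [← hx]; rfl⟩
    · obtain ⟨x, hx, hxy⟩ := y.2
      exact ⟨⟨x, hx⟩, by rw [← hxy]; rfl⟩

namespace Pre

variable {G : Type*} [Group G] [Finite G] {F : Type*} [Field F] [Fintype F] [CharP F 2] {m : ℕ} (P : Pre G F m)

/-- the data of a second block -/
structure Blk (Y D : Subgroup G) : Prop where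
  le : Y ≤ P.T
  sq : ∀ y ∈ Y, y * y = 1
  inf : ∀ y ∈ Y, ∀ r ∈ P.Q, ∀ b, y = r * P.p 0 b → y = 1
  two : ∃ u ∈ Y, ∃ v ∈ Y, u ≠ 1 ∧ v ≠ 1 ∧ u ≠ v
  Dle : D ≤ P.T
  cen : ∀ u ∈ Y, u ≠ 1 → ∀ x ∈ P.T, x ∈ D ↔ u * x = x * u
  card : Nat.card D = Nat.card P.Q * Fintype.card F ^ 2
  cardQ : 3 ≤ Nat.card P.Q

variable {P} {Y D : Subgroup G}

namespace Blk

theorem act_ne (B : P.Blk Y D) {u : G} (hu : u ∈ Y) (hu1 : u ≠ 1) : P.act u ≠ 0 := by
  intro h
  apply hu1
  obtain ⟨r, hr, a, b, h1⟩ := P.T_ker u (B.le hu) h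
  have h2 := B.sq u hu
  have h3 : P.sq u = 0 := P.sq_eq (B.le hu) (by rw [h2, P.p_zero])
  have h4 : P.aC u = a := by rw [h1, P.aC_PP (P.rp_mem hr a b), P.aP_rp hr]
  rw [P.sq_crd (B.le hu), h, h4] at h3
  unfold qf at h3
  have h5 : a ^ (1 + 2 ^ (m + 1)) = 0 := by simpa using h3
  have h6 : a = 0 := by
    rw [pow_eq_zero_iff (by positivity)] at h5; exact h5
  subst h6
  exact B.inf u hu r hr b h1

theorem act_inj (B : P.Blk Y D) {u v : G} (hu : u ∈ Y) (hv : v ∈ Y) (h : P.act u = P.act v) : u = v := by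
  by_contra hne
  have h1 : u * v⁻¹ ≠ 1 := fun h => hne (mul_inv_eq_one.mp h)
  apply B.act_ne (mul_mem hu (inv_mem hv)) h1
  rw [P.act_mul (B.le hu) (inv_mem (B.le hv)), P.act_inv (B.le hv), h, CharTwo.add_self_eq_zero]

theorem cm_zero (B : P.Blk Y D) {u x : G} (hu : u ∈ Y) (hx : x ∈ D) : P.cm u x = 0 := by
  by_cases hu1 : u = 1
  · rw [hu1, ← P.p_zero, P.cm_z_left 0 (B.Dle hx)]
  apply P.cm_eq (B.le hu) (B.Dle hx)
  rw [P.p_zero, one_mul]
  exact (B.cen u hu hu1 x (B.Dle hx)).mp hx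

theorem qf_zero (B : P.Blk Y D) {u : G} (hu : u ∈ Y) : qf m P.s P.lam (P.fC u) (P.aC u) (P.act u) = 0 := by
  rw [← P.sq_crd (B.le hu)]
  exact P.sq_eq (B.le hu) (by rw [B.sq u hu, P.p_zero])

variable (P) in
theorem card_Z_le {K : Subgroup G} (hK : ∀ x ∈ K, ∃ b, x = P.p 0 b) : Nat.card K ≤ Fintype.card F := by
  classical
  choose b hb using hK
  rw [← Nat.card_eq_fintype_card]
  apply Nat.card_le_card_of_injective (fun x : K => b x.1 x.2)
  intro x y h
  apply Subtype.ext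
  rw [hb x.1 x.2, hb y.1 y.2]
  exact congrArg _ h

variable (P) in
theorem card_FR : Nat.card P.FR = Nat.card P.Q := by
  symm
  apply Nat.card_congr
  refine Equiv.ofBijective (fun r : P.Q => (⟨P.f r, P.f_mem_FR r.2⟩ : P.FR)) ⟨?_, ?_⟩
  · intro r s h
    have h1 : P.f r = P.f s := congrArg Subtype.val h
    have h2 : P.f ((r : G) * s) = 0 := by rw [P.f_mul r r.2 s s.2, h1, CharTwo.add_self_eq_zero]
    have h3 := P.f_inj _ (mul_mem r.2 s.2) h2
    apply Subtype.ext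
    rw [eq_inv_of_mul_eq_one_left h3, P.Q_inv s.2]
  · rintro ⟨_, r, hr, rfl⟩
    exact ⟨⟨r, hr⟩, rfl⟩

/-- Step I -/
theorem stepI (B : P.Blk Y D) {u v : G} (hu : u ∈ Y) (hv : v ∈ Y) (hu1 : u ≠ 1) (hv1 : v ≠ 1) (hne : u ≠ v) :
    P.fC u * P.act v = P.fC v * P.act u ∧
      P.lam * P.aC u ^ (2 ^ m) * P.act v = P.lam * P.aC v ^ (2 ^ m) * P.act u := by
  have hu0 := B.act_ne hu hu1
  have hv0 := B.act_ne hv hv1
  -- elements of `D` with `aC = 0`
  obtain ⟨K1, hK1, hc1⟩ := exists_ker D P.aC (fun x hx y hy => P.aC_mul (B.Dle hx) (B.Dle hy))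
  have hK1D : ∀ x ∈ K1, x ∈ D := fun x hx => ((hK1 x).mp hx).1
  obtain ⟨K2, hK2, hc2⟩ := exists_ker K1 P.act
    (fun x hx y hy => P.act_mul (B.Dle (hK1D x hx)) (B.Dle (hK1D y hy)))
  have hK2Z : ∀ x ∈ K2, ∃ b, x = P.p 0 b := by
    intro x hx
    have h1 := (hK2 x).mp hx
    have h2 := (hK1 x).mp h1.1
    have hxT := B.Dle h2.1
    have h3 := B.cm_zero hu h2.1
    rw [P.cm_crd (B.le hu) hxT, h2.2, h1.2] at h3
    unfold bf at h3
    have h4 : P.act u * P.fC x = 0 := by simpa using h3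
    exact P.eq_z_of hxT ((mul_eq_zero.mp h4).resolve_left hu0) h2.2 h1.2
  have hq := card_Z_le P hK2Z
  have him : Nat.card (P.aC '' (D : Set G)) ≤ Fintype.card F := by
    rw [← Nat.card_eq_fintype_card]
    exact Nat.card_le_card_of_injective (fun x : P.aC '' (D : Set G) => (x : F)) Subtype.val_injective
  have hqpos : 0 < Fintype.card F := Fintype.card_pos
  have h3 : 3 ≤ Nat.card (P.act '' (K1 : Set G)) := by
    have e1 : Nat.card P.Q * Fintype.card F ^ 2 ≤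
        (Fintype.card F * Nat.card (P.act '' (K1 : Set G))) * Fintype.card F := by
      rw [← B.card, hc1, hc2]
      exact Nat.mul_le_mul (Nat.mul_le_mul_right _ hq) him
    have e2 : Nat.card P.Q * Fintype.card F ^ 2 ≤ Nat.card (P.act '' (K1 : Set G)) * Fintype.card F ^ 2 := by
      calc Nat.card P.Q * Fintype.card F ^ 2 ≤ _ := e1
        _ = _ := by ring
    exact B.cardQ.trans (Nat.le_of_mul_le_mul_right e2 (by positivity))
  -- two distinct nonzero values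
  obtain ⟨c, d, hcS, hdS, hc0, hd0, hcd⟩ : ∃ c d : F, c ∈ P.act '' (K1 : Set G) ∧ d ∈ P.act '' (K1 : Set G) ∧
      c ≠ 0 ∧ d ≠ 0 ∧ c ≠ d := by
    classical
    set S := P.act '' (K1 : Set G) with hS
    have h4 : 3 ≤ S.ncard := h3
    have h5 : 2 ≤ (S \ {0}).ncard := by
      have := Set.le_ncard_sdiff {(0 : F)} S
      rw [Set.ncard_singleton] at this
      omega
    obtain ⟨c, d, hc, hd, hcd⟩ := (Set.one_lt_ncard_iff (Set.toFinite _)).mp h5
    exact ⟨c, d, hc.1, hd.1, hc.2, hd.2, hcd⟩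
  have key : ∀ c ∈ P.act '' (K1 : Set G), (P.fC u * P.act v + P.fC v * P.act u) * c +
      (P.lam * P.aC u ^ (2 ^ m) * P.act v + P.lam * P.aC v ^ (2 ^ m) * P.act u) * c ^ (2 ^ m) = 0 := by
    rintro _ ⟨x, hx, rfl⟩
    have h2 := (hK1 x).mp hx
    have hxT := B.Dle h2.1
    have h4 := B.cm_zero hu h2.1
    have h5 := B.cm_zero hv h2.1
    rw [P.cm_crd (B.le hu) hxT, h2.2] at h4
    rw [P.cm_crd (B.le hv) hxT, h2.2] at h5
    unfold bf at h4 h5
    have z1 : (0 : F) ^ (2 ^ (m + 1)) = 0 := zero_pow (by positivity)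
    have z2 : (0 : F) ^ (2 ^ m) = 0 := zero_pow (by positivity)
    simp only [z1, zero_mul, mul_zero, zero_add, add_zero, z2, mul_pow] at h4 h5
    have h2' : (2 : F) = 0 := CharTwo.two_eq_zero
    linear_combination P.act v * h4 + P.act u * h5 - (P.act u * P.act v * P.fC x) * h2'
  obtain ⟨h6, h7⟩ := eq_zero_of_two P.hF hc0 hd0 hcd (key c hcS) (key d hdS)
  constructor
  · have := eq_neg_of_add_eq_zero_left h6
    rwa [CharTwo.neg_eq] at this
  · have := eq_neg_of_add_eq_zero_left h7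
    rwa [CharTwo.neg_eq] at this

/-- Step II -/
theorem stepII (B : P.Blk Y D) {u v : G} (hu : u ∈ Y) (hv : v ∈ Y) (hu1 : u ≠ 1) (hv1 : v ≠ 1) (hne : u ≠ v) :
    P.fC u = 0 ∧ P.lam * P.aC u ^ (2 ^ m) = 0 := by
  have hm := P.hm
  have hu0 := B.act_ne hu hu1
  have hv0 := B.act_ne hv hv1
  have hcc : P.act u ≠ P.act v := fun h => hne (B.act_inj hu hv h)
  obtain ⟨hI1, hI2⟩ := B.stepI hu hv hu1 hv1 hne
  by_contra hcon
  have hcon' : P.fC u ≠ 0 ∨ P.lam * P.aC u ^ (2 ^ m) ≠ 0 := by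
    by_contra h
    push Not at h
    exact hcon h
  -- elements of `D` with `fC = 0`
  obtain ⟨K1, hK1, hc1⟩ := exists_ker D P.fC (fun x hx y hy => P.fC_mul (B.Dle hx) (B.Dle hy))
  have hK1D : ∀ x ∈ K1, x ∈ D := fun x hx => ((hK1 x).mp hx).1
  obtain ⟨K2, hK2, hc2⟩ := exists_ker K1 P.aC
    (fun x hx y hy => P.aC_mul (B.Dle (hK1D x hx)) (B.Dle (hK1D y hy)))
  have hK2D : ∀ x ∈ K2, x ∈ D := fun x hx => hK1D x ((hK2 x).mp hx).1
  obtain ⟨K3, hK3, hc3⟩ := exists_ker K2 P.act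
    (fun x hx y hy => P.act_mul (B.Dle (hK2D x hx)) (B.Dle (hK2D y hy)))
  have hK3Z : ∀ x ∈ K3, ∃ b, x = P.p 0 b := by
    intro x hx
    have h1 := (hK3 x).mp hx
    have h2 := (hK2 x).mp h1.1
    have h3 := (hK1 x).mp h2.1
    exact P.eq_z_of (B.Dle h3.1) h3.2 h2.2 h1.2
  have hq := card_Z_le P hK3Z
  have him1 : Nat.card (P.fC '' (D : Set G)) ≤ Nat.card P.Q := by
    rw [← card_FR P]
    exact Nat.card_mono (Set.toFinite _) (by
      rintro _ ⟨x, -, rfl⟩
      exact P.fC_FR x)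
  have him3 : Nat.card (P.act '' (K2 : Set G)) ≤ 2 := by
    by_contra hlt
    push Not at hlt
    classical
    set S := P.act '' (K2 : Set G) with hS
    have h4 : 3 ≤ S.ncard := hlt
    have h5 : 2 ≤ (S \ {0}).ncard := by
      have := Set.le_ncard_sdiff {(0 : F)} S
      rw [Set.ncard_singleton] at this
      omega
    obtain ⟨c, d, hc, hd, hcd⟩ := (Set.one_lt_ncard_iff (Set.toFinite _)).mp h5
    have key : ∀ c ∈ S, P.fC u * c + P.lam * P.aC u ^ (2 ^ m) * c ^ (2 ^ m) = 0 := by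
      rintro _ ⟨x, hx, rfl⟩
      have h1 := (hK2 x).mp hx
      have h2 := (hK1 x).mp h1.1
      have hxT := B.Dle h2.1
      have h4 := B.cm_zero hu h2.1
      rw [P.cm_crd (B.le hu) hxT, h2.2, h1.2] at h4
      unfold bf at h4
      have z1 : (0 : F) ^ (2 ^ (m + 1)) = 0 := zero_pow (by positivity)
      have z2 : (0 : F) ^ (2 ^ m) = 0 := zero_pow (by positivity)
      simp only [z1, zero_mul, mul_zero, zero_add, add_zero, z2, mul_pow] at h4
      linear_combination h4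
    obtain ⟨h6, h7⟩ := eq_zero_of_two P.hF hc.2 hd.2 hcd (key c hc.1) (key d hd.1)
    rcases hcon' with h | h
    · exact h h6
    · exact h h7
  have hqpos : 0 < Fintype.card F := Fintype.card_pos
  have hQpos : 0 < Nat.card P.Q := by have := B.cardQ; omega
  have hbig : 2 ^ (m + 1) < Nat.card (P.aC '' (K1 : Set G)) := by
    have e1 : Nat.card P.Q * Fintype.card F ^ 2 ≤
        ((Fintype.card F * 2) * Nat.card (P.aC '' (K1 : Set G))) * Nat.card P.Q := by
      rw [← B.card, hc1, hc2, hc3]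
      exact Nat.mul_le_mul (Nat.mul_le_mul_right _ (Nat.mul_le_mul hq him3)) him1
    have e2 : Fintype.card F * (Nat.card P.Q * Fintype.card F) ≤
        (2 * Nat.card (P.aC '' (K1 : Set G))) * (Nat.card P.Q * Fintype.card F) := by
      calc Fintype.card F * (Nat.card P.Q * Fintype.card F) = Nat.card P.Q * Fintype.card F ^ 2 := by ring
        _ ≤ _ := e1
        _ = _ := by ring
    have e3 := Nat.le_of_mul_le_mul_right e2 (by (clear * - hQpos; positivity))
    rw [P.hF] at e3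
    have e4 : 2 ^ (m + 2) < 2 ^ (2 * m + 1) := Nat.pow_lt_pow_right (by norm_num) (by omega)
    have e5 : 2 ^ (m + 2) = 2 * 2 ^ (m + 1) := by rw [← pow_succ']
    omega
  have key : ∀ a ∈ P.aC '' (K1 : Set G),
      (P.aC u * P.act v + P.aC v * P.act u) * a ^ (2 ^ (m + 1)) +
      (P.aC u ^ (2 ^ (m + 1)) * P.act v + P.aC v ^ (2 ^ (m + 1)) * P.act u) * a +
      (P.lam * (P.act u ^ (2 ^ m) * P.act v + P.act v ^ (2 ^ m) * P.act u)) * a ^ (2 ^ m) = 0 := by
    rintro _ ⟨x, hx, rfl⟩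
    have h2 := (hK1 x).mp hx
    have hxT := B.Dle h2.1
    have h4 := B.cm_zero hu h2.1
    have h5 := B.cm_zero hv h2.1
    rw [P.cm_crd (B.le hu) hxT, h2.2] at h4
    rw [P.cm_crd (B.le hv) hxT, h2.2] at h5
    unfold bf at h4 h5
    simp only [mul_zero, zero_add, mul_pow] at h4 h5
    have h2' : (2 : F) = 0 := CharTwo.two_eq_zero
    linear_combination P.act v * h4 + P.act u * h5 - P.act x * hI1 - (P.act x) ^ (2 ^ m) * hI2 -
      (P.act x * P.fC v * P.act u + (P.act x) ^ (2 ^ m) * (P.lam * P.aC v ^ (2 ^ m) * P.act u)) * h2'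
  obtain ⟨k1, k2, k3⟩ := coeff_zero_of_roots (by omega) hbig key
  have hlam : P.lam = 0 := by
    by_contra hl
    have h3 := (mul_eq_zero.mp k3).resolve_left hl
    apply hcc
    apply tau_inj P.hF hu0 hv0
    have := eq_neg_of_add_eq_zero_left h3
    rwa [CharTwo.neg_eq] at this
  have e1 : P.aC u * P.act v = P.aC v * P.act u := by
    have := eq_neg_of_add_eq_zero_left k1
    rwa [CharTwo.neg_eq] at this
  have e2 : P.aC u ^ (2 ^ (m + 1)) * P.act v = P.aC v ^ (2 ^ (m + 1)) * P.act u := by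
    have := eq_neg_of_add_eq_zero_left k2
    rwa [CharTwo.neg_eq] at this
  have hau : P.aC u = 0 := by
    by_contra ha
    have hav : P.aC v ≠ 0 := by
      intro h
      rw [h, zero_mul] at e1
      exact (mul_ne_zero ha hv0) e1
    apply hcc
    -- `t = aC v / aC u`
    have h3 : (P.aC v / P.aC u) ^ (2 ^ (m + 1)) = P.aC v / P.aC u := by
      rw [div_pow, div_eq_div_iff (pow_ne_zero _ ha) ha]
      have h4 : P.act u * (P.aC v ^ (2 ^ (m + 1)) * P.aC u - P.aC v * P.aC u ^ (2 ^ (m + 1))) = 0 := by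
        linear_combination -P.aC u * e2 + P.aC u ^ (2 ^ (m + 1)) * e1
      exact sub_eq_zero.mp ((mul_eq_zero.mp h4).resolve_left hu0)
    rcases Cfsg.Agent.StdSz.FormAlg.eq_of_th_eq P.hF h3 with h4 | h4
    · exact absurd ((div_eq_zero_iff.mp h4).resolve_right ha) hav
    · have h5 := (div_eq_one_iff_eq ha).mp h4
      rw [h5] at e1
      exact (mul_left_cancel₀ ha e1).symm
  have hav : P.aC v = 0 := by
    rw [hau, zero_mul] at e1
    exact (mul_eq_zero.mp e1.symm).resolve_right hu0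
  have q1 := B.qf_zero hu
  have q2 := B.qf_zero hv
  rw [hau, hlam] at q1
  rw [hav, hlam] at q2
  unfold qf at q1 q2
  have z1 : (0 : F) ^ (1 + 2 ^ (m + 1)) = 0 := zero_pow (by positivity)
  simp only [z1, zero_mul, zero_add, add_zero] at q1 q2
  have s1 : P.fC u = P.s := by
    have h3 : P.act u * (P.fC u - P.s) = 0 := by
      have h2' : (2 : F) = 0 := CharTwo.two_eq_zero
      linear_combination q1 - P.s * P.act u * h2'
    exact sub_eq_zero.mp ((mul_eq_zero.mp h3).resolve_left hu0)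
  have s2 : P.fC v = P.s := by
    have h3 : P.act v * (P.fC v - P.s) = 0 := by
      have h2' : (2 : F) = 0 := CharTwo.two_eq_zero
      linear_combination q2 - P.s * P.act v * h2'
    exact sub_eq_zero.mp ((mul_eq_zero.mp h3).resolve_left hv0)
  have hfu : P.fC u ≠ 0 := by
    rcases hcon' with h | h
    · exact h
    · rw [hlam, zero_mul] at h
      exact absurd rfl h
  rw [s1, s2] at hI1
  rw [s1] at hfu
  exact hcc (mul_left_cancel₀ hfu hI1).symm

theorem fC_zero (B : P.Blk Y D) {u : G} (hu : u ∈ Y) (hu1 : u ≠ 1) :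
    P.fC u = 0 ∧ P.lam * P.aC u ^ (2 ^ m) = 0 := by
  obtain ⟨v, hv, w, hw, hv1, hw1, hvw⟩ := B.two
  by_cases h : u = v
  · subst h
    exact B.stepII hv hw hv1 hw1 hvw
  · exact B.stepII hu hv hu1 hv1 h

/-- Step III -/
theorem stepIII (B : P.Blk Y D) : P.s = 0 ∧ ∀ u ∈ Y, P.aC u = 0 := by
  obtain ⟨v, hv, w, hw, hv1, hw1, hvw⟩ := B.two
  have hq : ∀ u ∈ Y, P.aC u ^ (1 + 2 ^ (m + 1)) = P.s * P.act u := by
    intro u hu
    by_cases hu1 : u = 1
    · rw [hu1, P.aC_one, P.act_one, mul_zero, zero_pow (by positivity)]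
    have h1 := B.qf_zero hu
    obtain ⟨h2, h3⟩ := B.fC_zero hu hu1
    rw [h2] at h1
    unfold qf at h1
    rw [mul_zero, add_zero, mul_pow, ← mul_assoc, h3, zero_mul, add_zero] at h1
    have := eq_neg_of_add_eq_zero_left h1
    rwa [CharTwo.neg_eq] at this
  have hs : P.s = 0 := by
    by_contra hs
    have a1 : P.aC v ≠ 0 := by
      intro h
      have := hq v hv
      rw [h, zero_pow (by positivity)] at this
      exact (mul_ne_zero hs (B.act_ne hv hv1)) this.symm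
    have a2 : P.aC w ≠ 0 := by
      intro h
      have := hq w hw
      rw [h, zero_pow (by positivity)] at this
      exact (mul_ne_zero hs (B.act_ne hw hw1)) this.symm
    have h1 := hq _ (mul_mem hv hw)
    rw [P.aC_mul (B.le hv) (B.le hw), P.act_mul (B.le hv) (B.le hw), mul_add, ← hq v hv, ← hq w hw] at h1
    have e1 : ∀ a b : F, (a + b) ^ (1 + 2 ^ (m + 1)) = a ^ (1 + 2 ^ (m + 1)) + b ^ (1 + 2 ^ (m + 1)) +
        (a * b ^ (2 ^ (m + 1)) + a ^ (2 ^ (m + 1)) * b) := by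
      intro a b
      rw [_root_.pow_add (a + b) 1, _root_.pow_add a 1, _root_.pow_add b 1, add_pow_char_pow a b 2 (m + 1)]
      ring
    rw [e1] at h1
    have h2 : P.aC v * P.aC w ^ (2 ^ (m + 1)) + P.aC v ^ (2 ^ (m + 1)) * P.aC w = 0 := by
      linear_combination h1
    have h3 : (P.aC v / P.aC w) ^ (2 ^ (m + 1)) = P.aC v / P.aC w := by
      rw [div_pow, div_eq_div_iff (pow_ne_zero _ a2) a2]
      have := eq_neg_of_add_eq_zero_right h2
      rwa [CharTwo.neg_eq] at this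
    rcases Cfsg.Agent.StdSz.FormAlg.eq_of_th_eq P.hF h3 with h4 | h4
    · exact absurd ((div_eq_zero_iff.mp h4).resolve_right a2) a1
    · have h5 := (div_eq_one_iff_eq a2).mp h4
      have h6 := hq v hv
      rw [h5, hq w hw] at h6
      exact hvw (B.act_inj hv hw (mul_left_cancel₀ hs h6).symm)
  refine ⟨hs, fun u hu => ?_⟩
  have := hq u hu
  rw [hs, zero_mul, pow_eq_zero_iff (by positivity)] at this
  exact this

/-- **the structure of a second block** -/
theorem main (B : P.Blk Y D) : P.s = 0 ∧ P.lam = 0 ∧ (∀ y : F, y ∈ P.FR) ∧ ∀ u ∈ Y, P.fC u = 0 ∧ P.aC u = 0 := by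
  obtain ⟨hs, ha⟩ := B.stepIII
  have hf : ∀ u ∈ Y, P.fC u = 0 := by
    intro u hu
    by_cases hu1 : u = 1
    · rw [hu1, P.fC_one]
    · exact (B.fC_zero hu hu1).1
  obtain ⟨u, hu, v, hv, hu1, hv1, hne⟩ := B.two
  have hu0 := B.act_ne hu hu1
  have hv0 := B.act_ne hv hv1
  have hcc : P.act u ≠ P.act v := fun h => hne (B.act_inj hu hv h)
  have hrel : ∀ w ∈ Y, w ≠ 1 → ∀ x ∈ D, P.act w * P.fC x + P.lam * P.aC x ^ (2 ^ m) * P.act w ^ (2 ^ m) = 0 := by
    intro w hw _ x hx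
    have h1 := B.cm_zero hw hx
    rw [P.cm_crd (B.le hw) (B.Dle hx), hf w hw, ha w hw] at h1
    unfold bf at h1
    have z1 : (0 : F) ^ (2 ^ (m + 1)) = 0 := zero_pow (by positivity)
    have z2 : (0 : F) ^ (2 ^ m) = 0 := zero_pow (by positivity)
    simp only [z1, zero_mul, mul_zero, zero_add, add_zero, z2, mul_pow] at h1
    linear_combination h1
  have hqpos : 0 < Fintype.card F := Fintype.card_pos
  have hlam : P.lam = 0 := by
    by_contra hl
    -- `D` has coordinates `(0, 0, *)`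
    have h0 : ∀ x ∈ D, P.aC x = 0 ∧ P.fC x = 0 := by
      intro x hx
      have h1 := hrel u hu hu1 x hx
      have h2 := hrel v hv hv1 x hx
      have h3 : P.aC x = 0 := by
        by_contra hax
        apply hcc
        apply tau_inj P.hF hu0 hv0
        have h4 : (P.lam * P.aC x ^ (2 ^ m)) * (P.act u ^ (2 ^ m) * P.act v - P.act v ^ (2 ^ m) * P.act u) = 0 := by
          linear_combination P.act v * h1 - P.act u * h2
        exact sub_eq_zero.mp ((mul_eq_zero.mp h4).resolve_left (mul_ne_zero hl (pow_ne_zero _ hax)))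
      refine ⟨h3, ?_⟩
      rw [h3, zero_pow (by positivity), mul_zero, zero_mul, add_zero] at h1
      exact (mul_eq_zero.mp h1).resolve_left hu0
    obtain ⟨K1, hK1, hc1⟩ := exists_ker D P.act (fun x hx y hy => P.act_mul (B.Dle hx) (B.Dle hy))
    have hq := card_Z_le P (K := K1) (by
      intro x hx
      have h1 := (hK1 x).mp hx
      exact P.eq_z_of (B.Dle h1.1) (h0 x h1.1).2 (h0 x h1.1).1 h1.2)
    have him : Nat.card (P.act '' (D : Set G)) ≤ Fintype.card F := by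
      rw [← Nat.card_eq_fintype_card]
      exact Nat.card_le_card_of_injective (fun x : P.act '' (D : Set G) => (x : F)) Subtype.val_injective
    have e1 : Nat.card P.Q * Fintype.card F ^ 2 ≤ 1 * Fintype.card F ^ 2 := by
      calc Nat.card P.Q * Fintype.card F ^ 2 = Nat.card K1 * Nat.card (P.act '' (D : Set G)) := by
            rw [← B.card, hc1]
        _ ≤ Fintype.card F * Fintype.card F := Nat.mul_le_mul hq him
        _ = _ := by ring
    have e2 := Nat.le_of_mul_le_mul_right e1 (by positivity)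
    have := B.cardQ
    omega
  refine ⟨hs, hlam, ?_, fun u hu => ⟨hf u hu, ha u hu⟩⟩
  -- `D = {fC = 0}`
  have hD : ∀ x ∈ P.T, P.fC x = 0 → x ∈ D := by
    intro x hx h
    rw [B.cen u hu hu1 x hx]
    have h1 := P.cm_spec (B.le hu) hx
    rw [P.cm_crd (B.le hu) hx, h, hf u hu, ha u hu, hlam] at h1
    unfold bf at h1
    have z1 : (0 : F) ^ (2 ^ (m + 1)) = 0 := zero_pow (by positivity)
    simp only [z1, zero_mul, mul_zero, add_zero] at h1
    rw [P.p_zero, one_mul] at h1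
    exact h1
  -- count
  obtain ⟨K1, hK1, hc1⟩ := exists_ker D P.aC (fun x hx y hy => P.aC_mul (B.Dle hx) (B.Dle hy))
  have hK1D : ∀ x ∈ K1, x ∈ D := fun x hx => ((hK1 x).mp hx).1
  obtain ⟨K2, hK2, hc2⟩ := exists_ker K1 P.act
    (fun x hx y hy => P.act_mul (B.Dle (hK1D x hx)) (B.Dle (hK1D y hy)))
  have hcard : Fintype.card F ^ 3 ≤ Nat.card D := by
    have i1 : Nat.card (P.aC '' (D : Set G)) = Fintype.card F := by
      have : P.aC '' (D : Set G) = Set.univ := by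
        rw [Set.eq_univ_iff_forall]
        intro a
        refine ⟨P.p a 0, hD _ (P.T_p a 0) (P.fC_p a 0), P.aC_p a 0⟩
      rw [this, Nat.card_congr (Equiv.Set.univ F), Nat.card_eq_fintype_card]
    have i2 : Nat.card (P.act '' (K1 : Set G)) = Fintype.card F := by
      have : P.act '' (K1 : Set G) = Set.univ := by
        rw [Set.eq_univ_iff_forall]
        intro c
        refine ⟨P.ee c, (hK1 _).mpr ⟨hD _ (P.ee_mem c) (P.fC_ee c), P.aC_ee c⟩, P.act_ee c⟩
      rw [this, Nat.card_congr (Equiv.Set.univ F), Nat.card_eq_fintype_card]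
    have i3 : Fintype.card F ≤ Nat.card K2 := by
      rw [← Nat.card_eq_fintype_card]
      apply Nat.card_le_card_of_injective (fun b : F => (⟨P.p 0 b, (hK2 _).mpr ⟨(hK1 _).mpr
        ⟨hD _ (P.T_p 0 b) (P.fC_p 0 b), P.aC_p 0 b⟩, P.act_p 0 b⟩⟩ : K2))
      intro b b' h
      exact P.z_inj (congrArg Subtype.val h)
    rw [hc1, hc2, i1, i2]
    calc Fintype.card F ^ 3 = Fintype.card F * Fintype.card F * Fintype.card F := by ring
      _ ≤ _ := Nat.mul_le_mul_right _ (Nat.mul_le_mul_right _ i3)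
  rw [B.card] at hcard
  have hQ : Fintype.card F ≤ Nat.card P.Q := by
    have e : Fintype.card F * Fintype.card F ^ 2 ≤ Nat.card P.Q * Fintype.card F ^ 2 := by
      calc Fintype.card F * Fintype.card F ^ 2 = Fintype.card F ^ 3 := by ring
        _ ≤ _ := hcard
    exact Nat.le_of_mul_le_mul_right e (by positivity)
  intro y
  rw [← card_FR P] at hQ
  have htop : P.FR = ⊤ := by
    apply AddSubgroup.eq_top_of_le_card
    rw [Nat.card_eq_fintype_card]
    exact hQ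
  rw [htop]; trivial

end Blk

end Pre

end Cfsg.Agent.OddHalf.D4.Sz

end

-- merged: Cfsg.Agent.OddHalf.D4.Sz.SwapA
section

/-!
# ODD, D4, `K = Sz(q)`, `q ≥ 32`: elements normalizing `T₁`

An element `u` of `N(T₁)` either normalizes `P = Q × {p a b}`, or it swaps the two blocks `Q Z` and `E₀`. Formulas for
its action on the coordinates.
-/

set_option autoImplicit false
set_option linter.unusedSectionVars false

namespace Cfsg.Agent.OddHalf.D4.Sz

open Subgroup Cfsg.Agent.StdSz.EquivMaps Cfsg.Agent.StdSz.SzMaps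
open Cfsg.Agent.OddHalf.D4.CommConj (mem_cj card_cj mem_cj_mul)

section Field

variable {F : Type*} [Field F] [Fintype F] [CharP F 2] {m : ℕ}

/-- an involutory automorphism of a field with `2 ^ (2 m + 1)` elements is trivial -/
theorem sigma_id (hF : Fintype.card F = 2 ^ (2 * m + 1)) (σ : F →+* F) (h : ∀ x, σ (σ x) = x) (x : F) :
    σ x = x := by
  let _ : Algebra (ZMod 2) F := ZMod.algebra F 2
  have : Fact (Nat.Prime 2) := ⟨Nat.prime_two⟩
  let e : F ≃+* F := { σ with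
    invFun := σ
    left_inv := h
    right_inv := h }
  let a : F ≃ₐ[ZMod 2] F := AlgEquiv.ofRingEquiv (f := e) (fun r => by
    show σ (algebraMap (ZMod 2) F r) = _
    have : (σ.comp (algebraMap (ZMod 2) F)) = algebraMap (ZMod 2) F := Subsingleton.elim _ _
    exact congrArg (fun f : ZMod 2 →+* F => f r) this)
  have h1 : a ^ 2 = 1 := by
    rw [pow_two]
    ext x
    exact h x
  have hfr : Module.finrank (ZMod 2) F = 2 * m + 1 := by
    have h1 : Fintype.card F = Fintype.card (ZMod 2) ^ Module.finrank (ZMod 2) F :=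
      Module.card_eq_pow_finrank
    rw [hF, ZMod.card] at h1
    exact (Nat.pow_right_injective le_rfl h1).symm
  have h2 : orderOf a ∣ 2 := orderOf_dvd_of_pow_eq_one h1
  have h3 : orderOf a ∣ 2 * m + 1 := by
    rw [← hfr, ← IsGalois.card_aut_eq_finrank]
    exact _root_.orderOf_dvd_natCard a
  have h4 : orderOf a = 1 := by
    have h5 : orderOf a ∣ 1 := by
      have h6 := Nat.dvd_sub h3 (Dvd.dvd.mul_right h2 m)
      rwa [Nat.add_sub_cancel_left] at h6
    exact Nat.dvd_one.mp h5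
  have h5 : a = 1 := orderOf_eq_one_iff.mp h4
  have h6 : a x = x := by rw [h5]; rfl
  exact h6

/-- the field algebra of a swap -/
theorem alg_swap (hF : Fintype.card F = 2 ^ (2 * m + 1)) {α G H : F → F} (hα : ∀ x y, α (x + y) = α x + α y)
    (h : ∀ c r, α (c * r) = G r * H c) (hHG : ∀ r, H (G r) = r) :
    (∀ x, α x = x) ∧ ∃ g k : F, g * k = 1 ∧ (∀ r, G r = g * r) ∧ ∀ c, H c = k * c := by
  have hα1 : α 1 = G 1 * H 1 := by rw [← h, mul_one]
  have hG : ∀ r, α r = G r * H 1 := fun r => by rw [← h, one_mul]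
  have hH : ∀ c, α c = G 1 * H c := fun c => by rw [← h, mul_one]
  have h1 : α 1 ≠ 0 := by
    intro h0
    rw [h0] at hα1
    rcases mul_eq_zero.mp hα1.symm with h1 | h1
    · -- `G 1 = 0`, `α = 0`
      have h2 : ∀ c, α c = 0 := fun c => by rw [hH, h1, zero_mul]
      have h3 : ∀ r, G r = 0 := by
        intro r
        have h4 := h (G 1) r
        rw [h2, hHG, mul_one] at h4
        exact h4.symm
      have h5 := hHG 1
      rw [h3, ← h3 0, hHG] at h5
      exact zero_ne_one h5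
    · have h2 : ∀ c, α c = 0 := fun c => by rw [hG, h1, mul_zero]
      have h3 : ∀ r, G r = 0 := by
        intro r
        have h4 := h (G 1) r
        rw [h2, hHG, mul_one] at h4
        exact h4.symm
      have h5 := hHG 1
      rw [h3, ← h3 0, hHG] at h5
      exact zero_ne_one h5
  have hG1 : G 1 ≠ 0 := fun h0 => h1 (by rw [hα1, h0, zero_mul])
  have hH1 : H 1 ≠ 0 := fun h0 => h1 (by rw [hα1, h0, mul_zero])
  -- `σ`
  have hmul : ∀ x y, α (x * y) * α 1 = α x * α y := by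
    intro x y
    rw [h x y, hα1, hG y, hH x]
    ring
  let σ : F →+* F :=
    { toFun := fun x => α x / α 1
      map_one' := div_self h1
      map_mul' := by
        intro x y
        show α (x * y) / α 1 = α x / α 1 * (α y / α 1)
        field_simp
        exact hmul x y
      map_zero' := by
        show α 0 / α 1 = 0
        have := hα 0 0
        rw [add_zero] at this
        have h0 : α 0 = 0 := add_eq_left.mp this.symm
        rw [h0, zero_div]
      map_add' := by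
        intro x y
        show α (x + y) / α 1 = α x / α 1 + α y / α 1
        rw [hα, add_div] }
  have hσ : ∀ x, α x = α 1 * σ x := fun x => (mul_div_cancel₀ _ h1).symm
  have hG' : ∀ r, G r = G 1 * σ r := by
    intro r
    have h2 := hG r
    rw [hσ, hα1] at h2
    have h3 : (G r - G 1 * σ r) * H 1 = 0 := by linear_combination -h2
    exact sub_eq_zero.mp ((mul_eq_zero.mp h3).resolve_right hH1)
  have hH' : ∀ c, H c = H 1 * σ c := by
    intro c
    have h2 := hH c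
    rw [hσ, hα1] at h2
    have h3 : G 1 * (H c - H 1 * σ c) = 0 := by linear_combination -h2
    exact sub_eq_zero.mp ((mul_eq_zero.mp h3).resolve_left hG1)
  have hk : ∀ r, H 1 * σ (G 1) * σ (σ r) = r := by
    intro r
    have h2 := hHG r
    rw [hH', hG', map_mul] at h2
    rw [mul_assoc]; exact h2
  have hk1 : H 1 * σ (G 1) = 1 := by
    have := hk 1
    rwa [map_one, map_one, mul_one] at this
  have hid : ∀ x, σ x = x := by
    apply sigma_id hF σ
    intro x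
    have := hk x
    rwa [hk1, one_mul] at this
  rw [hid] at hk1
  have hα1' : α 1 = 1 := by rw [hα1, mul_comm, hk1]
  refine ⟨fun x => by rw [hσ, hα1', hid, one_mul], G 1, H 1, by rw [mul_comm, hk1], fun r => ?_, fun c => ?_⟩
  · rw [hG', hid]
  · rw [hH', hid]

/-- the field algebra of an element preserving the blocks -/
theorem alg_fix {G H : F → F} {ν : F} (hν : ν ≠ 0) (h : ∀ c r, ν * (c * r) = H c * G r) :
    ∃ g k : F, g * k = ν ∧ (∀ r, G r = g * r) ∧ ∀ c, H c = k * c := by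
  have h1 : ν = H 1 * G 1 := by rw [← h, mul_one, mul_one]
  have hG1 : G 1 ≠ 0 := fun h0 => hν (by rw [h1, h0, mul_zero])
  have hH1 : H 1 ≠ 0 := fun h0 => hν (by rw [h1, h0, zero_mul])
  refine ⟨G 1, H 1, by rw [h1, mul_comm], fun r => ?_, fun c => ?_⟩
  · have h2 := h 1 r
    rw [one_mul, h1] at h2
    have h3 : H 1 * (G 1 * r - G r) = 0 := by linear_combination h2
    exact (sub_eq_zero.mp ((mul_eq_zero.mp h3).resolve_left hH1)).symm
  · have h2 := h c 1
    rw [mul_one, h1] at h2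
    have h3 : (H 1 * c - H c) * G 1 = 0 := by linear_combination h2
    exact (sub_eq_zero.mp ((mul_eq_zero.mp h3).resolve_right hG1)).symm

end Field

namespace Pre

variable {G : Type*} [Group G] [Finite G] {F : Type*} [Field F] [Fintype F] [CharP F 2] {m : ℕ} (P : Pre G F m)

include P in
theorem bt_zero {a : F} (h : ∀ b, a * b ^ (2 ^ (m + 1)) + a ^ (2 ^ (m + 1)) * b = 0) : a = 0 := by
  by_contra ha
  obtain ⟨g, hg0, hg, -⟩ := exists_gen P.hF
  have e1 := h 1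
  rw [one_pow, mul_one, mul_one] at e1
  have e2 := h g
  have e3 : a ^ (2 ^ (m + 1)) = a := by
    have := eq_neg_of_add_eq_zero_right e1
    rwa [CharTwo.neg_eq] at this
  rw [e3, ← mul_add] at e2
  have e4 := (mul_eq_zero.mp e2).resolve_left ha
  have e5 : g ^ (2 ^ (m + 1)) = g := by
    have := eq_neg_of_add_eq_zero_left e4
    rwa [CharTwo.neg_eq] at this
  rcases Cfsg.Agent.StdSz.FormAlg.eq_of_th_eq P.hF e5 with e6 | e6
  · exact hg0 e6
  · have e7 : g ^ 1 = g ^ 0 := by rw [pow_one, pow_zero, e6]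
    rw [hg] at e7
    have hm := P.hm
    have h4 : 2 ^ 3 ≤ 2 ^ (2 * m + 1) := Nat.pow_le_pow_right (by norm_num) (by omega)
    have := Nat.ModEq.eq_of_lt_of_lt e7 (by omega) (by omega)
    omega

include P in
/-- some scalar is neither 0 nor 1 -/
theorem exists_ne_one : ∃ c : F, c ≠ 0 ∧ c ≠ 1 := by
  obtain ⟨g, hg0, hg, -⟩ := exists_gen P.hF
  refine ⟨g, hg0, fun e6 => ?_⟩
  have e7 : g ^ 1 = g ^ 0 := by rw [pow_one, pow_zero, e6]
  rw [hg] at e7
  have hm := P.hm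
  have h4 : 2 ^ 3 ≤ 2 ^ (2 * m + 1) := Nat.pow_le_pow_right (by norm_num) (by omega)
  have := Nat.ModEq.eq_of_lt_of_lt e7 (by omega) (by omega)
  omega

theorem card_PP : Nat.card P.PP = Nat.card P.Q * Fintype.card F ^ 2 := by
  have e : Nat.card (P.Q × F × F) = Nat.card P.PP := by
    apply Nat.card_congr
    refine Equiv.ofBijective (fun x => (⟨(x.1 : G) * P.p x.2.1 x.2.2, P.rp_mem x.1.2 _ _⟩ : P.PP)) ⟨?_, ?_⟩
    · rintro ⟨r, a, b⟩ ⟨s, c, d⟩ h
      obtain ⟨h1, h2, h3⟩ := P.uniq r.2 s.2 (congrArg Subtype.val h)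
      exact Prod.ext (Subtype.ext h1) (Prod.ext h2 h3)
    · rintro ⟨x, hx⟩
      obtain ⟨r, hr, a, b, rfl⟩ := P.exists_of_mem hx
      exact ⟨⟨⟨r, hr⟩, a, b⟩, rfl⟩
  rw [← e, Nat.card_prod, Nat.card_prod, Nat.card_eq_fintype_card (α := F)]
  ring

/-- the elements of `Q - 1` have centralizer `P` in `T` -/
theorem comm_Q_iff {r x : G} (hr : r ∈ P.Q) (hr1 : r ≠ 1) (hx : x ∈ P.T) : x ∈ P.PP ↔ r * x = x * r := by
  have h1 := P.cm_Q hr hx
  have h2 := P.cm_spec (P.T_Q hr) hx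
  have h3 : P.f r ≠ 0 := fun h0 => hr1 (P.f_inj r hr h0)
  constructor
  · intro h
    rw [h1, h.2, zero_mul, P.p_zero, one_mul] at h2
    exact h2
  · intro h
    refine ⟨hx, ?_⟩
    have h4 : P.cm r x = 0 := P.cm_eq (P.T_Q hr) hx (by rw [P.p_zero, one_mul, h])
    rw [h1] at h4
    exact (mul_eq_zero.mp h4).resolve_right h3

/-! ### conjugation by elements of `N(T)` -/

theorem conj_T {u x : G} (hu : u ∈ normalizer (P.T : Set G)) (hx : x ∈ P.T) : u * x * u⁻¹ ∈ P.T :=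
  (mem_normalizer_iff.mp hu x).mp hx

theorem conj_T' {u x : G} (hu : u ∈ normalizer (P.T : Set G)) (hx : x ∈ P.T) : u⁻¹ * x * u ∈ P.T := by
  have := P.conj_T (inv_mem hu) hx
  rwa [inv_inv] at this

theorem exists_al {u : G} (hu : u ∈ normalizer (P.T : Set G)) (b : F) : ∃ b', u * P.p 0 b * u⁻¹ = P.p 0 b' := by
  apply P.mem_Z_of_central (P.conj_T hu (P.T_p 0 b))
  intro y hy
  have h1 := P.T_Z _ (P.conj_T' hu hy) b
  calc u * P.p 0 b * u⁻¹ * y = u * (P.p 0 b * (u⁻¹ * y * u)) * u⁻¹ := by group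
    _ = u * ((u⁻¹ * y * u) * P.p 0 b) * u⁻¹ := by rw [h1]
    _ = y * (u * P.p 0 b * u⁻¹) := by group

/-- the action on `Z` -/
noncomputable def al (u : G) (b : F) : F := by
  classical exact if h : ∃ b', u * P.p 0 b * u⁻¹ = P.p 0 b' then h.choose else 0

theorem al_spec {u : G} (hu : u ∈ normalizer (P.T : Set G)) (b : F) : u * P.p 0 b * u⁻¹ = P.p 0 (P.al u b) := by
  classical
  have h := P.exists_al hu b
  have : P.al u b = h.choose := by unfold al; exact dif_pos h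
  rw [this]
  exact h.choose_spec

theorem al_eq {u : G} (hu : u ∈ normalizer (P.T : Set G)) {b b' : F} (h : u * P.p 0 b * u⁻¹ = P.p 0 b') :
    P.al u b = b' := P.z_inj (by rw [← P.al_spec hu, h])

theorem al_add {u : G} (hu : u ∈ normalizer (P.T : Set G)) (b b' : F) :
    P.al u (b + b') = P.al u b + P.al u b' := by
  apply P.al_eq hu
  rw [← P.z_mul, ← P.z_mul, ← P.al_spec hu, ← P.al_spec hu]
  group

theorem sq_conj {u x : G} (hu : u ∈ normalizer (P.T : Set G)) (hx : x ∈ P.T) :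
    P.sq (u * x * u⁻¹) = P.al u (P.sq x) := by
  apply P.sq_eq (P.conj_T hu hx)
  rw [← P.al_spec hu, ← P.sq_spec hx]
  group

theorem cm_conj {u x y : G} (hu : u ∈ normalizer (P.T : Set G)) (hx : x ∈ P.T) (hy : y ∈ P.T) :
    P.cm (u * x * u⁻¹) (u * y * u⁻¹) = P.al u (P.cm x y) := by
  apply P.cm_eq (P.conj_T hu hx) (P.conj_T hu hy)
  rw [← P.al_spec hu]
  have h1 := P.cm_spec hx hy
  calc u * x * u⁻¹ * (u * y * u⁻¹) = u * (x * y) * u⁻¹ := by group
    _ = u * (P.p 0 (P.cm x y) * (y * x)) * u⁻¹ := by rw [← h1]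
    _ = _ := by group

/-- equality of coordinates -/
def Eqc (x y : G) : Prop := P.fC x = P.fC y ∧ P.aC x = P.aC y ∧ P.act x = P.act y

theorem eqc_conj {u x y : G} (hu : u ∈ normalizer (P.T : Set G)) (hx : x ∈ P.T) (hy : y ∈ P.T) (h : P.Eqc x y) :
    P.Eqc (u * x * u⁻¹) (u * y * u⁻¹) := by
  obtain ⟨b, hb⟩ := P.exists_z_mul hx hy h.1 h.2.1 h.2.2
  have h1 : u * x * u⁻¹ = P.p 0 (P.al u b) * (u * y * u⁻¹) := by
    rw [← P.al_spec hu, hb]; group
  have hy' := P.conj_T hu hy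
  rw [h1]
  refine ⟨?_, ?_, ?_⟩
  · rw [P.fC_mul (P.T_p _ _) hy', P.fC_p, zero_add]
  · rw [P.aC_mul (P.T_p _ _) hy', P.aC_p, zero_add]
  · rw [P.act_mul (P.T_p _ _) hy', P.act_p, zero_add]

theorem fC_conj {t x : G} (ht : t ∈ P.T) (hx : x ∈ P.T) : P.fC (t * x * t⁻¹) = P.fC x := by
  rw [P.fC_mul (mul_mem ht hx) (inv_mem ht), P.fC_mul ht hx, P.fC_inv ht, add_comm (P.fC t), add_assoc,
    CharTwo.add_self_eq_zero, add_zero]

theorem aC_conj {t x : G} (ht : t ∈ P.T) (hx : x ∈ P.T) : P.aC (t * x * t⁻¹) = P.aC x := by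
  rw [P.aC_mul (mul_mem ht hx) (inv_mem ht), P.aC_mul ht hx, P.aC_inv ht, add_comm (P.aC t), add_assoc,
    CharTwo.add_self_eq_zero, add_zero]

theorem act_conj {t x : G} (ht : t ∈ P.T) (hx : x ∈ P.T) : P.act (t * x * t⁻¹) = P.act x := by
  rw [P.act_mul (mul_mem ht hx) (inv_mem ht), P.act_mul ht hx, P.act_inv ht, add_comm (P.act t), add_assoc,
    CharTwo.add_self_eq_zero, add_zero]

/-! ### the global hypotheses -/

/-- the hypotheses on `T` in `G` -/
structure Glob : Prop where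
  cardQ : 3 ≤ Nat.card P.Q
  noIdx : ∀ H : Subgroup G, H.index ≠ 2
  norm : ∀ y, y ∈ normalizer (P.T : Set G) → y ∈ normalizer (P.PP : Set G) → (∃ k : ℕ, y ^ 2 ^ k = 1) → y ∈ P.T
  notSyl : ∀ S : Sylow 2 G, (S : Subgroup G) ≠ P.T

/-- swapping elements -/
def Sw (u : G) : Prop := u ∈ normalizer (P.T : Set G) ∧ u ∉ normalizer (P.PP : Set G)

variable {P}

theorem Sw.inv {u : G} (hu : P.Sw u) : P.Sw u⁻¹ := ⟨inv_mem hu.1, fun h => hu.2 (by simpa using inv_mem h)⟩

theorem Glob.blk (Gl : P.Glob) {u : G} (hu : P.Sw u) : P.Blk (CommConj.cj u P.Q) (CommConj.cj u P.PP) where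
  le := by
    intro x hx
    rw [mem_cj] at hx
    have := P.conj_T hu.1 (P.T_Q hx)
    have e : u * (u⁻¹ * x * u) * u⁻¹ = x := by group
    rwa [e] at this
  sq := by
    intro y hy
    rw [mem_cj] at hy
    have h1 := P.Q_sq _ hy
    calc y * y = u * ((u⁻¹ * y * u) * (u⁻¹ * y * u)) * u⁻¹ := by group
      _ = 1 := by rw [h1]; group
  inf := by
    intro y hy r hr b h
    by_contra hy1
    rw [mem_cj] at hy
    have hy' : u⁻¹ * y * u ≠ 1 := by
      intro h1
      apply hy1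
      calc y = u * (u⁻¹ * y * u) * u⁻¹ := by group
        _ = 1 := by rw [h1]; group
    have hyT : y ∈ P.T := by
      rw [h]; exact mul_mem (P.T_Q hr) (P.T_p 0 b)
    -- `x ∈ cj u PP ↔ x commutes with y`
    have h1 : ∀ x ∈ P.T, u⁻¹ * x * u ∈ P.PP ↔ y * x = x * y := by
      intro x hx
      rw [P.comm_Q_iff hy hy' (P.conj_T' hu.1 hx)]
      constructor
      · intro h2
        calc y * x = u * ((u⁻¹ * y * u) * (u⁻¹ * x * u)) * u⁻¹ := by group
          _ = u * ((u⁻¹ * x * u) * (u⁻¹ * y * u)) * u⁻¹ := by rw [h2]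
          _ = x * y := by group
      · intro h2
        calc u⁻¹ * y * u * (u⁻¹ * x * u) = u⁻¹ * (y * x) * u := by group
          _ = u⁻¹ * (x * y) * u := by rw [h2]
          _ = u⁻¹ * x * u * (u⁻¹ * y * u) := by group
    by_cases hr1 : r = 1
    · -- `y ∈ Z`
      rw [hr1, one_mul] at h
      have h2 : ∀ x ∈ P.T, P.act (u⁻¹ * x * u) = 0 := by
        intro x hx
        refine ((h1 x hx).mpr ?_).2
        rw [h, P.T_Z x hx]
      obtain ⟨x, hx, hx2⟩ := P.T_surj 1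
      have h3 := h2 _ (P.conj_T hu.1 hx)
      have e : u⁻¹ * (u * x * u⁻¹) * u = x := by group
      rw [e, hx2] at h3
      exact one_ne_zero h3
    · -- `C_T(y) = PP`
      apply hu.2
      have h2 : ∀ x ∈ P.T, y * x = x * y ↔ x ∈ P.PP := by
        intro x hx
        rw [P.comm_Q_iff hr hr1 hx, h]
        have hz := P.T_Z x hx b
        constructor
        · intro h3
          have h4 : P.p 0 b * (r * x) = P.p 0 b * (x * r) := by
            calc P.p 0 b * (r * x) = (P.p 0 b * r) * x := by group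
              _ = (r * P.p 0 b) * x := by rw [P.T_Z r (P.T_Q hr)]
              _ = x * (r * P.p 0 b) := h3
              _ = (x * P.p 0 b) * r := by rw [P.T_Z r (P.T_Q hr)]; group
              _ = P.p 0 b * (x * r) := by rw [hz]; group
          exact mul_left_cancel h4
        · intro h3
          calc r * P.p 0 b * x = r * (P.p 0 b * x) := by group
            _ = (r * x) * P.p 0 b := by rw [← hz]; group
            _ = x * (r * P.p 0 b) := by rw [h3]; group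
      have h3 : ∀ x, x ∈ P.PP → u⁻¹ * x * u ∈ P.PP := fun x hx =>
        (h1 x (P.PP_le hx)).mpr ((h2 x (P.PP_le hx)).mpr hx)
      have h4 : u⁻¹ ∈ normalizer (P.PP : Set G) := by
        apply mem_normalizer_fintype
        intro x hx
        have := h3 x hx
        simpa using this
      simpa using inv_mem h4
  two := by
    have h1 := Gl.cardQ
    classical
    obtain ⟨r, s, hr1, hs1, hrs⟩ : ∃ r s : P.Q, r ≠ 1 ∧ s ≠ 1 ∧ r ≠ s := by
      have h2 : 2 ≤ ((Set.univ : Set P.Q) \ {1}).ncard := by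
        have h3 := Set.le_ncard_sdiff {(1 : P.Q)} (Set.univ : Set P.Q)
        rw [Set.ncard_singleton, Set.ncard_univ] at h3
        omega
      obtain ⟨r, s, hr, hs, hrs⟩ := (Set.one_lt_ncard_iff (Set.toFinite _)).mp h2
      exact ⟨r, s, hr.2, hs.2, hrs⟩
    have key : ∀ r : P.Q, r ≠ 1 → u * (r : G) * u⁻¹ ≠ 1 := by
      intro r hr h
      apply hr
      apply Subtype.ext
      calc (r : G) = u⁻¹ * (u * r * u⁻¹) * u := by group
        _ = 1 := by rw [h]; group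
    refine ⟨u * r * u⁻¹, mem_cj_mul r.2, u * s * u⁻¹, mem_cj_mul s.2, key r hr1, key s hs1, fun h => hrs ?_⟩
    apply Subtype.ext
    calc (r : G) = u⁻¹ * (u * r * u⁻¹) * u := by group
      _ = u⁻¹ * (u * s * u⁻¹) * u := by rw [h]
      _ = s := by group
  Dle := by
    intro x hx
    rw [mem_cj] at hx
    have := P.conj_T hu.1 (P.PP_le hx)
    have e : u * (u⁻¹ * x * u) * u⁻¹ = x := by group
    rwa [e] at this
  cen := by
    intro y hy hy1 x hx
    rw [mem_cj] at hy ⊢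
    have hy' : u⁻¹ * y * u ≠ 1 := by
      intro h1
      apply hy1
      calc y = u * (u⁻¹ * y * u) * u⁻¹ := by group
        _ = 1 := by rw [h1]; group
    rw [P.comm_Q_iff hy hy' (P.conj_T' hu.1 hx)]
    constructor
    · intro h2
      calc y * x = u * ((u⁻¹ * y * u) * (u⁻¹ * x * u)) * u⁻¹ := by group
        _ = u * ((u⁻¹ * x * u) * (u⁻¹ * y * u)) * u⁻¹ := by rw [h2]
        _ = x * y := by group
    · intro h2
      calc u⁻¹ * y * u * (u⁻¹ * x * u) = u⁻¹ * (y * x) * u := by group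
        _ = u⁻¹ * (x * y) * u := by rw [h2]
        _ = u⁻¹ * x * u * (u⁻¹ * y * u) := by group
  card := by rw [card_cj, P.card_PP]
  cardQ := Gl.cardQ

/-- the forms simplify -/
structure Simp (P : Pre G F m) : Prop where
  s : P.s = 0
  lam : P.lam = 0
  full : ∀ y : F, y ∈ P.FR

theorem Glob.simp (Gl : P.Glob) {u : G} (hu : P.Sw u) : Simp P :=
  ⟨(Gl.blk hu).main.1, (Gl.blk hu).main.2.1, (Gl.blk hu).main.2.2.1⟩

theorem Simp.cm (Si : Simp P) {x y : G} (hx : x ∈ P.T) (hy : y ∈ P.T) :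
    P.cm x y = P.aC x * P.aC y ^ (2 ^ (m + 1)) + P.aC x ^ (2 ^ (m + 1)) * P.aC y +
      (P.act x * P.fC y + P.act y * P.fC x) := by
  rw [P.cm_crd hx hy, Si.lam]
  unfold bf
  ring

theorem Simp.sq (Si : Simp P) {x : G} (hx : x ∈ P.T) :
    P.sq x = P.aC x ^ (1 + 2 ^ (m + 1)) + P.act x * P.fC x := by
  rw [P.sq_crd hx, Si.lam, Si.s]
  unfold qf
  ring

/-- an element of `Q` with coordinate `r` -/
noncomputable def qq (Si : Simp P) (r : F) : G := (Si.full r).choose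

theorem qq_mem (Si : Simp P) (r : F) : qq Si r ∈ P.Q := (Si.full r).choose_spec.1

theorem f_qq (Si : Simp P) (r : F) : P.f (qq Si r) = r := (Si.full r).choose_spec.2

theorem fC_qq (Si : Simp P) (r : F) : P.fC (qq Si r) = r := by rw [P.fC_Q (qq_mem Si r), f_qq]

theorem aC_qq (Si : Simp P) (r : F) : P.aC (qq Si r) = 0 := P.aC_Q (qq_mem Si r)

theorem act_qq (Si : Simp P) (r : F) : P.act (qq Si r) = 0 := P.act_Q (qq_mem Si r)

theorem qq_T (Si : Simp P) (r : F) : qq Si r ∈ P.T := P.T_Q (qq_mem Si r)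

/-- (S1) -/
theorem Sw.s1 (Gl : P.Glob) {u : G} (hu : P.Sw u) {x : G} (hx : x ∈ P.T) (h1 : P.aC x = 0) (h2 : P.act x = 0) :
    P.fC (u * x * u⁻¹) = 0 ∧ P.aC (u * x * u⁻¹) = 0 := by
  have Si := Gl.simp hu
  have h3 := P.eqc_conj hu.1 hx (qq_T Si (P.fC x)) ⟨(fC_qq Si _).symm, by rw [h1, aC_qq], by rw [h2, act_qq]⟩
  rw [h3.1, h3.2.1]
  exact (Gl.blk hu).main.2.2.2 _ (mem_cj_mul (qq_mem Si _))

/-- (S2) -/
theorem Sw.s2 (Gl : P.Glob) {u : G} (hu : P.Sw u) {x : G} (hx : x ∈ P.T) (h1 : P.fC x = 0) (h2 : P.aC x = 0) :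
    P.aC (u * x * u⁻¹) = 0 ∧ P.act (u * x * u⁻¹) = 0 := by
  have Si := Gl.simp hu
  have B := Gl.blk hu.inv
  -- `act` maps `cj u⁻¹ Q` onto `F`
  have hinj : Function.Injective (fun y : CommConj.cj u⁻¹ P.Q => P.act (y : G)) := fun y z h => Subtype.ext (B.act_inj y.2 z.2 h)
  have hcard : Nat.card (CommConj.cj u⁻¹ P.Q) = Nat.card F := by
    rw [card_cj, ← Blk.card_FR P]
    have : P.FR = ⊤ := by
      rw [eq_top_iff]
      intro y _
      exact Si.full y
    rw [this]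
    exact AddSubgroup.card_top
  have hsurj : Function.Surjective (fun y : CommConj.cj u⁻¹ P.Q => P.act (y : G)) :=
    ((Nat.bijective_iff_injective_and_card _).mpr ⟨hinj, hcard⟩).2
  obtain ⟨y, hy⟩ := hsurj (P.act x)
  have hy2 := B.main.2.2.2 _ y.2
  have h3 := P.eqc_conj hu.1 hx (B.le y.2) ⟨by rw [h1, hy2.1], by rw [h2, hy2.2], hy.symm⟩
  rw [h3.2.1, h3.2.2]
  have h4 := mem_cj.mp y.2
  rw [inv_inv] at h4
  exact ⟨P.aC_Q h4, P.act_Q h4⟩

/-- (S3) -/
theorem Sw.s3 (Gl : P.Glob) {u : G} (hu : P.Sw u) {x : G} (hx : x ∈ P.T) (h1 : P.fC x = 0) (h2 : P.act x = 0) :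
    P.fC (u * x * u⁻¹) = 0 ∧ P.act (u * x * u⁻¹) = 0 := by
  have Si := Gl.simp hu
  have hux := P.conj_T hu.1 hx
  constructor
  · -- commutes with `u (r, 0, 0) u⁻¹ = (0, 0, 1)`
    have e : ∀ c, P.fC (u⁻¹ * P.ee c * u) = P.fC (u⁻¹ * P.ee c * u) ∧ P.aC (u⁻¹ * P.ee c * u) = 0 ∧
        P.act (u⁻¹ * P.ee c * u) = 0 := by
      intro c
      have := hu.inv.s2 Gl (P.ee_mem c) (P.fC_ee c) (P.aC_ee c)
      rw [inv_inv] at this
      exact ⟨rfl, this⟩
    have hy := P.conj_T' hu.1 (P.ee_mem 1)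
    have h3 := P.cm_conj hu.1 hx hy
    have e1 : u * (u⁻¹ * P.ee 1 * u) * u⁻¹ = P.ee 1 := by group
    rw [e1, Si.cm hux (P.ee_mem 1), Si.cm hx hy, P.aC_ee, P.fC_ee, P.act_ee, (e 1).2.1, (e 1).2.2, h1, h2] at h3
    have z1 : (0 : F) ^ (2 ^ (m + 1)) = 0 := zero_pow (by positivity)
    simp only [z1, mul_zero, zero_mul, add_zero, zero_add, one_mul] at h3
    rw [h3]
    apply P.al_eq hu.1
    rw [P.p_zero]; group
  · have e : P.fC (u⁻¹ * qq Si 1 * u) = 0 ∧ P.aC (u⁻¹ * qq Si 1 * u) = 0 := by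
      have := hu.inv.s1 Gl (qq_T Si 1) (aC_qq Si 1) (act_qq Si 1)
      rwa [inv_inv] at this
    have hy := P.conj_T' hu.1 (qq_T Si 1)
    have h3 := P.cm_conj hu.1 hx hy
    have e1 : u * (u⁻¹ * qq Si 1 * u) * u⁻¹ = qq Si 1 := by group
    rw [e1, Si.cm hux (qq_T Si 1), Si.cm hx hy, aC_qq, fC_qq, act_qq, e.1, e.2, h1, h2] at h3
    have z1 : (0 : F) ^ (2 ^ (m + 1)) = 0 := zero_pow (by positivity)
    simp only [z1, mul_zero, zero_mul, add_zero, zero_add, mul_one] at h3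
    rw [h3]
    apply P.al_eq hu.1
    rw [P.p_zero]; group

/-- decomposition of an element -/
theorem decomp (Si : Simp P) {x : G} (hx : x ∈ P.T) :
    P.Eqc x (qq Si (P.fC x) * (P.p (P.aC x) 0 * P.ee (P.act x))) := by
  have h1 := qq_T Si (P.fC x)
  have h2 := P.T_p (P.aC x) 0
  have h3 := P.ee_mem (P.act x)
  refine ⟨?_, ?_, ?_⟩
  · rw [P.fC_mul h1 (mul_mem h2 h3), P.fC_mul h2 h3, fC_qq, P.fC_p, P.fC_ee, add_zero, add_zero]
  · rw [P.aC_mul h1 (mul_mem h2 h3), P.aC_mul h2 h3, aC_qq, P.aC_p, P.aC_ee, add_zero, zero_add]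
  · rw [P.act_mul h1 (mul_mem h2 h3), P.act_mul h2 h3, act_qq, P.act_p, P.act_ee, zero_add, zero_add]

theorem decomp_mem (Si : Simp P) (x : G) : qq Si (P.fC x) * (P.p (P.aC x) 0 * P.ee (P.act x)) ∈ P.T :=
  mul_mem (qq_T Si _) (mul_mem (P.T_p _ _) (P.ee_mem _))

/-- coordinates of the conjugate -/
theorem conj_decomp (Si : Simp P) {u x : G} (hu : u ∈ normalizer (P.T : Set G)) (hx : x ∈ P.T) :
    P.Eqc (u * x * u⁻¹) ((u * qq Si (P.fC x) * u⁻¹) * ((u * P.p (P.aC x) 0 * u⁻¹) * (u * P.ee (P.act x) * u⁻¹))) := by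
  have h1 := P.eqc_conj hu hx (decomp_mem Si x) (decomp Si hx)
  have e : u * (qq Si (P.fC x) * (P.p (P.aC x) 0 * P.ee (P.act x))) * u⁻¹ =
      (u * qq Si (P.fC x) * u⁻¹) * ((u * P.p (P.aC x) 0 * u⁻¹) * (u * P.ee (P.act x) * u⁻¹)) := by group
  rwa [e] at h1

/-- coordinates of the conjugate under a swap -/
theorem Sw.crd (Gl : P.Glob) {u : G} (hu : P.Sw u) {x : G} (hx : x ∈ P.T) :
    P.fC (u * x * u⁻¹) = P.fC (u * P.ee (P.act x) * u⁻¹) ∧
      P.aC (u * x * u⁻¹) = P.aC (u * P.p (P.aC x) 0 * u⁻¹) ∧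
      P.act (u * x * u⁻¹) = P.act (u * qq (Gl.simp hu) (P.fC x) * u⁻¹) := by
  have Si := Gl.simp hu
  obtain ⟨h1, h2, h3⟩ := conj_decomp Si hu.1 hx
  have m1 := P.conj_T hu.1 (qq_T Si (P.fC x))
  have m2 := P.conj_T hu.1 (P.T_p (P.aC x) 0)
  have m3 := P.conj_T hu.1 (P.ee_mem (P.act x))
  obtain ⟨a1, a2⟩ := hu.s1 Gl (qq_T Si (P.fC x)) (aC_qq Si _) (act_qq Si _)
  obtain ⟨b1, b2⟩ := hu.s3 Gl (P.T_p (P.aC x) 0) (P.fC_p _ _) (P.act_p _ _)
  obtain ⟨c1, c2⟩ := hu.s2 Gl (P.ee_mem (P.act x)) (P.fC_ee _) (P.aC_ee _)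
  refine ⟨?_, ?_, ?_⟩
  · rw [h1, P.fC_mul m1 (mul_mem m2 m3), P.fC_mul m2 m3, a1, b1, zero_add, zero_add]
  · rw [h2, P.aC_mul m1 (mul_mem m2 m3), P.aC_mul m2 m3, a2, c1, zero_add, add_zero]
  · rw [h3, P.act_mul m1 (mul_mem m2 m3), P.act_mul m2 m3, b2, c2, add_zero, add_zero]

/-- the product of two swaps is not a swap -/
theorem Sw.mul (Gl : P.Glob) {u v : G} (hu : P.Sw u) (hv : P.Sw v) : u * v ∈ normalizer (P.PP : Set G) := by
  have Si := Gl.simp hu
  apply mem_normalizer_fintype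
  intro x hx
  have hxT := P.PP_le hx
  have h1 := P.conj_T hv.1 hxT
  have e : u * v * x * (u * v)⁻¹ = u * (v * x * v⁻¹) * u⁻¹ := by group
  rw [e]
  refine ⟨P.conj_T hu.1 h1, ?_⟩
  have h2 : P.fC (v * x * v⁻¹) = 0 := by
    rw [(hv.crd Gl hxT).1, hx.2]
    -- `ee 0` has coordinates 0
    have h3 := P.eqc_conj hv.1 (P.ee_mem 0) (one_mem P.T) ⟨by rw [P.fC_ee, P.fC_one], by rw [P.aC_ee, P.aC_one],
      by rw [P.act_ee, P.act_one]⟩
    rw [h3.1, mul_one, mul_inv_cancel, P.fC_one]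
  rw [(hu.crd Gl h1).2.2, h2]
  have h3 := P.eqc_conj hu.1 (qq_T (Gl.simp hu) 0) (one_mem P.T) ⟨by rw [fC_qq, P.fC_one], by rw [aC_qq, P.aC_one],
      by rw [act_qq, P.act_one]⟩
  rw [h3.2.2, mul_one, mul_inv_cancel, P.act_one]

/-- the normal form of a swap whose square lies in `T` -/
structure YS (P : Pre G F m) (y : G) (g k : F) : Prop where
  nT : y ∈ normalizer (P.T : Set G)
  sq : y * y ∈ P.T
  z : ∀ b, y * P.p 0 b * y⁻¹ = P.p 0 b
  f : ∀ x ∈ P.T, P.fC (y * x * y⁻¹) = k * P.act x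
  a : ∀ x ∈ P.T, P.aC (y * x * y⁻¹) = P.aC x
  c : ∀ x ∈ P.T, P.act (y * x * y⁻¹) = g * P.fC x
  gk : g * k = 1

theorem Glob.exists_YS (Gl : P.Glob) {y : G} (hy : P.Sw y) (hyy : y * y ∈ P.T) : ∃ g k, YS P y g k := by
  have Si := Gl.simp hy
  obtain ⟨h1, g, k, hgk, hG, hH⟩ := alg_swap (m := m) P.hF (α := P.al y) (G := fun r => P.act (y * qq Si r * y⁻¹))
    (H := fun c => P.fC (y * P.ee c * y⁻¹)) (P.al_add hy.1) (by
      intro c r
      have h2 := P.cm_conj hy.1 (P.ee_mem c) (qq_T Si r)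
      have m1 := P.conj_T hy.1 (P.ee_mem c)
      have m2 := P.conj_T hy.1 (qq_T Si r)
      obtain ⟨a1, a2⟩ := hy.s1 Gl (qq_T Si r) (aC_qq Si _) (act_qq Si _)
      obtain ⟨c1, c2⟩ := hy.s2 Gl (P.ee_mem c) (P.fC_ee _) (P.aC_ee _)
      rw [Si.cm m1 m2, Si.cm (P.ee_mem c) (qq_T Si r), a1, a2, c1, c2, fC_qq, aC_qq, act_qq, P.aC_ee, P.act_ee,
        P.fC_ee] at h2
      have z1 : (0 : F) ^ (2 ^ (m + 1)) = 0 := zero_pow (by positivity)
      simp only [z1, mul_zero, zero_mul, add_zero, zero_add] at h2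
      exact h2.symm) (by
      intro r
      have h2 := (hy.crd Gl (P.conj_T hy.1 (qq_T Si r))).1
      have e : y * (y * qq Si r * y⁻¹) * y⁻¹ = (y * y) * qq Si r * (y * y)⁻¹ := by group
      rw [e, P.fC_conj hyy (qq_T Si r), fC_qq] at h2
      exact h2.symm)
  refine ⟨g, k, hy.1, hyy, fun b => ?_, fun x hx => ?_, fun x hx => ?_, fun x hx => ?_, hgk⟩
  · rw [P.al_spec hy.1, h1]
  · rw [(hy.crd Gl hx).1]
    exact hH _
  · rw [(hy.crd Gl hx).2.1]
    have h2 := P.sq_conj hy.1 (P.T_p (P.aC x) 0)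
    obtain ⟨b1, b2⟩ := hy.s3 Gl (P.T_p (P.aC x) 0) (P.fC_p _ _) (P.act_p _ _)
    rw [h1, Si.sq (P.conj_T hy.1 (P.T_p _ _)), P.sq_p, b1, b2, mul_zero, add_zero] at h2
    exact Cfsg.Agent.StdSz.FormAlg.norm_inj P.hF h2
  · rw [(hy.crd Gl hx).2.2]
    exact hG _

theorem YS.g_ne {y : G} {g k : F} (Y : YS P y g k) : g ≠ 0 := fun h => by
  have := Y.gk; rw [h, zero_mul] at this; exact zero_ne_one this

theorem YS.k_ne {y : G} {g k : F} (Y : YS P y g k) : k ≠ 0 := fun h => by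
  have := Y.gk; rw [h, mul_zero] at this; exact zero_ne_one this

theorem YS.mul_left {y : G} {g k : F} (Y : YS P y g k) {t : G} (ht : t ∈ P.T) : YS P (t * y) g k where
  nT := mul_mem (le_normalizer ht) Y.nT
  sq := by
    have h1 := P.conj_T Y.nT ht
    have e : t * y * (t * y) = t * (y * t * y⁻¹) * (y * y) := by group
    rw [e]
    exact mul_mem (mul_mem ht h1) Y.sq
  z := by
    intro b
    have e : t * y * P.p 0 b * (t * y)⁻¹ = t * (y * P.p 0 b * y⁻¹) * t⁻¹ := by group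
    rw [e, Y.z, P.T_Z t ht, mul_inv_cancel_right]
  f := by
    intro x hx
    have e : t * y * x * (t * y)⁻¹ = t * (y * x * y⁻¹) * t⁻¹ := by group
    rw [e, P.fC_conj ht (P.conj_T Y.nT hx), Y.f x hx]
  a := by
    intro x hx
    have e : t * y * x * (t * y)⁻¹ = t * (y * x * y⁻¹) * t⁻¹ := by group
    rw [e, P.aC_conj ht (P.conj_T Y.nT hx), Y.a x hx]
  c := by
    intro x hx
    have e : t * y * x * (t * y)⁻¹ = t * (y * x * y⁻¹) * t⁻¹ := by group
    rw [e, P.act_conj ht (P.conj_T Y.nT hx), Y.c x hx]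
  gk := Y.gk

theorem YS.notMem {y : G} {g k : F} (Y : YS P y g k) : y ∉ P.T := by
  intro h
  have h1 := Y.f (P.ee 1) (P.ee_mem 1)
  rw [P.fC_conj h (P.ee_mem 1), P.fC_ee, P.act_ee, mul_one] at h1
  exact Y.k_ne h1.symm

end Pre

end Cfsg.Agent.OddHalf.D4.Sz

end

-- merged: Cfsg.Agent.OddHalf.D4.Sz.SwapB
section

/-!
# ODD, D4, `K = Sz(q)`, `q ≥ 32`: `S = T₁⟨y⟩`

If `T₁` is not a Sylow 2-subgroup then a Sylow 2-subgroup is `T₁⟨y⟩` with `y` a swap.
-/

set_option autoImplicit false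
set_option linter.unusedSectionVars false

namespace Cfsg.Agent.OddHalf.D4.Sz

open Subgroup Cfsg.Agent.StdSz.EquivMaps Cfsg.Agent.StdSz.SzMaps

namespace Pre

variable {G : Type*} [Group G] [Finite G] {F : Type*} [Field F] [Fintype F] [CharP F 2] {m : ℕ} {P : Pre G F m}

/-- the group `T ∪ T y` -/
def YS.grp {y : G} {g k : F} (Y : YS P y g k) : Subgroup G where
  carrier := {x | x ∈ P.T ∨ x * y⁻¹ ∈ P.T}
  one_mem' := Or.inl (one_mem _)
  mul_mem' := by
    rintro a b (ha | ha) (hb | hb)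
    · exact Or.inl (mul_mem ha hb)
    · right
      rw [mul_assoc]
      exact mul_mem ha hb
    · right
      have h1 := P.conj_T Y.nT hb
      have e : a * b * y⁻¹ = (a * y⁻¹) * (y * b * y⁻¹) := by group
      rw [e]
      exact mul_mem ha h1
    · left
      have h1 := P.conj_T Y.nT hb
      have e : a * b = (a * y⁻¹) * (y * (b * y⁻¹) * y⁻¹) * (y * y) := by group
      rw [e]
      exact mul_mem (mul_mem ha h1) Y.sq
  inv_mem' := by
    rintro a (ha | ha)
    · exact Or.inl (inv_mem ha)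
    · right
      have h1 := P.conj_T' Y.nT (inv_mem ha)
      have e : a⁻¹ * y⁻¹ = (y⁻¹ * (a * y⁻¹)⁻¹ * y) * (y * y)⁻¹ := by group
      rw [e]
      exact mul_mem h1 (inv_mem Y.sq)

theorem YS.mem_grp {y : G} {g k : F} (Y : YS P y g k) {x : G} : x ∈ Y.grp ↔ x ∈ P.T ∨ x * y⁻¹ ∈ P.T := Iff.rfl

theorem YS.mul_right {y : G} {g k : F} (Y : YS P y g k) {x : G} (hx : x * y⁻¹ ∈ P.T) : YS P x g k := by
  have := Y.mul_left hx
  rwa [inv_mul_cancel_right] at this

/-- the product of two elements outside `T` is in `T` -/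
theorem YS.mul_out {y : G} {g k : F} (Y : YS P y g k) {a b : G} (ha : a * y⁻¹ ∈ P.T) (hb : b * y⁻¹ ∈ P.T) :
    a * b ∈ P.T := by
  have h1 := P.conj_T Y.nT hb
  have e : a * b = (a * y⁻¹) * (y * (b * y⁻¹) * y⁻¹) * (y * y) := by group
  rw [e]
  exact mul_mem (mul_mem ha h1) Y.sq

/-- the centre of `T⟨y⟩` -/
theorem YS.mem_Z {y : G} {g k : F} (Y : YS P y g k) {x : G} (hx : x ∈ Y.grp) (h : ∀ z ∈ P.T, x * z = z * x) :
    ∃ b, x = P.p 0 b := by
  rcases hx with hx | hx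
  · exact P.mem_Z_of_central hx h
  · exfalso
    have Y' := Y.mul_right hx
    have h1 := Y'.f (P.ee 1) (P.ee_mem 1)
    rw [h _ (P.ee_mem 1), mul_inv_cancel_right, P.fC_ee, P.act_ee, mul_one] at h1
    exact Y.k_ne h1.symm

/-- `S = T⟨y⟩` -/
structure Full (P : Pre G F m) (S : Sylow 2 G) (y : G) (g k : F) : Prop where
  TS : P.T ≤ S
  yS : y ∈ (S : Subgroup G)
  ys : YS P y g k
  cov : ∀ x ∈ (S : Subgroup G), x ∈ P.T ∨ x * y⁻¹ ∈ P.T

theorem Glob.exists_Full (Gl : P.Glob) : ∃ (S : Sylow 2 G) (y : G) (g k : F), Full P S y g k := by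
  have h2 : Fact (Nat.Prime 2) := ⟨Nat.prime_two⟩
  obtain ⟨S, hTS⟩ := P.T_two.exists_le_sylow
  have hne : ¬ (S : Subgroup G) ≤ P.T := fun h => Gl.notSyl S (le_antisymm h hTS)
  have h2el : ∀ x ∈ (S : Subgroup G), ∃ k : ℕ, x ^ 2 ^ k = 1 := by
    intro x hx
    obtain ⟨k, hk⟩ := S.2 ⟨x, hx⟩
    exact ⟨k, by simpa only [_root_.SubmonoidClass.mk_pow, _root_.OneMemClass.coe_one] using congrArg Subtype.val hk⟩
  obtain ⟨y, hyS, hyT, hyy, hyN⟩ := CommConj.exists_norm_elt S.2 hTS le_rfl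
    (fun s hs b hb => mul_mem (mul_mem hs hb) (inv_mem hs)) hne
  have hsw : P.Sw y := ⟨hyN, fun h => hyT (Gl.norm y hyN h (h2el y hyS))⟩
  obtain ⟨g, k, Y⟩ := Gl.exists_YS hsw hyy
  refine ⟨S, y, g, k, hTS, hyS, Y, ?_⟩
  have hle : Y.grp ≤ (S : Subgroup G) := by
    intro x hx
    rcases hx with hx | hx
    · exact hTS hx
    · have := mul_mem (hTS hx) hyS
      rwa [inv_mul_cancel_right] at this
  by_contra hcon
  have hne2 : ¬ (S : Subgroup G) ≤ Y.grp := fun h => hcon fun x hx => h hx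
  obtain ⟨u, huS, hu1, -, huN⟩ := CommConj.exists_norm_elt S.2 hle le_rfl
    (fun s hs b hb => mul_mem (mul_mem hs hb) (inv_mem hs)) hne2
  have hTg : P.T ≤ Y.grp := fun x hx => Or.inl hx
  have hc : ∀ {x}, x ∈ Y.grp → u * x * u⁻¹ ∈ Y.grp := fun hx => (mem_normalizer_iff.mp huN _).mp hx
  have hc' : ∀ {x}, x ∈ Y.grp → u⁻¹ * x * u ∈ Y.grp := fun {x} hx => by
    have := (mem_normalizer_iff.mp (inv_mem huN) x).mp hx
    rwa [inv_inv] at this
  -- `Z` is centralized by `grp`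
  have hZc : ∀ b, ∀ x ∈ Y.grp, x * P.p 0 b = P.p 0 b * x := by
    intro b x hx
    rcases hx with hx | hx
    · exact P.T_Z x hx b
    · have := (Y.mul_right hx).z b
      calc x * P.p 0 b = (x * P.p 0 b * x⁻¹) * x := by group
        _ = _ := by rw [this]
  -- `u` normalizes `Z`
  have hZu : ∀ b, ∃ b', u * P.p 0 b * u⁻¹ = P.p 0 b' := by
    intro b
    apply Y.mem_Z (hc (hTg (P.T_p 0 b)))
    intro z hz
    have h1 := hZc b _ (hc' (hTg hz))
    calc u * P.p 0 b * u⁻¹ * z = u * (P.p 0 b * (u⁻¹ * z * u)) * u⁻¹ := by group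
      _ = u * ((u⁻¹ * z * u) * P.p 0 b) * u⁻¹ := by rw [h1]
      _ = z * (u * P.p 0 b * u⁻¹) := by group
  -- `u` normalizes `T`
  have huT : u ∈ normalizer (P.T : Set G) := by
    apply mem_normalizer_fintype
    intro t ht
    by_contra hw
    have hw' : u * t * u⁻¹ * y⁻¹ ∈ P.T := (hc (hTg ht)).resolve_left hw
    have Y' := Y.mul_right hw'
    -- no element with `f = 0`, `act ≠ 0` comes from `T`
    have key : ∀ x ∈ P.T, P.fC x = 0 → P.act x ≠ 0 → u⁻¹ * x * u ∉ P.T := by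
      intro x hx h1 h3 h4
      obtain ⟨b, hb⟩ := P.exists_comm ht h4
      obtain ⟨b', hb'⟩ := hZu b
      have h5 : u * t * u⁻¹ * x * (u * t * u⁻¹)⁻¹ = P.p 0 b' * x := by
        rw [← hb']
        calc u * t * u⁻¹ * x * (u * t * u⁻¹)⁻¹ = u * (t * (u⁻¹ * x * u)) * t⁻¹ * u⁻¹ := by group
          _ = u * (P.p 0 b * (u⁻¹ * x * u * t)) * t⁻¹ * u⁻¹ := by rw [hb]
          _ = _ := by group
      have h6 := Y'.f x hx
      rw [h5, P.fC_mul (P.T_p _ _) hx, P.fC_p, zero_add, h1] at h6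
      rcases mul_eq_zero.mp h6.symm with h7 | h7
      · exact Y.k_ne h7
      · exact h3 h7
    obtain ⟨c, hc0, hc1⟩ := P.exists_ne_one
    have k1 := key (P.ee 1) (P.ee_mem 1) (P.fC_ee 1) (by rw [P.act_ee]; exact one_ne_zero)
    have k2 := key (P.ee c) (P.ee_mem c) (P.fC_ee c) (by rw [P.act_ee]; exact hc0)
    have k3 := key (P.ee 1 * P.ee c) (mul_mem (P.ee_mem 1) (P.ee_mem c))
      (by rw [P.fC_mul (P.ee_mem 1) (P.ee_mem c), P.fC_ee, P.fC_ee, add_zero])
      (by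
        rw [P.act_mul (P.ee_mem 1) (P.ee_mem c), P.act_ee, P.act_ee]
        intro h
        apply hc1
        have h8 := eq_neg_of_add_eq_zero_left h
        rw [CharTwo.neg_eq] at h8
        exact h8.symm)
    have l1 := (hc' (hTg (P.ee_mem 1))).resolve_left k1
    have l2 := (hc' (hTg (P.ee_mem c))).resolve_left k2
    apply k3
    have h9 := Y.mul_out l1 l2
    have e : u⁻¹ * P.ee 1 * u * (u⁻¹ * P.ee c * u) = u⁻¹ * (P.ee 1 * P.ee c) * u := by group
    rwa [e] at h9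
  have huP : u ∉ normalizer (P.PP : Set G) := fun h => hu1 (hTg (Gl.norm u huT h (h2el u huS)))
  have hsu : P.Sw u := ⟨huT, huP⟩
  have h1 := hsu.mul Gl hsw.inv
  have h3 := Gl.norm (u * y⁻¹) (mul_mem huT (inv_mem hyN)) h1 (h2el _ (mul_mem huS (inv_mem hyS)))
  exact hu1 (Or.inr h3)

end Pre

end Cfsg.Agent.OddHalf.D4.Sz

end

-- merged: Cfsg.Agent.OddHalf.D4.Sz.SwapC
section

/-!
# ODD, D4, `K = Sz(q)`, `q ≥ 32`: an element of odd order normalizing `S = T₁⟨y⟩`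
-/

set_option autoImplicit false
set_option linter.unusedSectionVars false

namespace Cfsg.Agent.OddHalf.D4.Sz

open Subgroup Cfsg.Agent.StdSz.EquivMaps Cfsg.Agent.StdSz.SzMaps

section Field

variable {F : Type*} [Field F] [CharP F 2]

theorem eq_one_of_pow_two_pow {x : F} {n : ℕ} (h : x ^ 2 ^ n = 1) : x = 1 := by
  have : Fact (Nat.Prime 2) := ⟨Nat.prime_two⟩
  have h1 : (x + 1) ^ 2 ^ n = 0 := by
    rw [add_pow_char_pow, h, one_pow, CharTwo.add_self_eq_zero]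
  have h2 := eq_neg_of_add_eq_zero_left (pow_eq_zero_iff (by positivity) |>.mp h1)
  rwa [CharTwo.neg_eq] at h2

end Field

namespace Pre

variable {G : Type*} [Group G] [Finite G] {F : Type*} [Field F] [Fintype F] [CharP F 2] {m : ℕ} {P : Pre G F m}

/-- the `y`-normalizing torus element: first part -/
structure Tor0 (P : Pre G F m) (S : Sylow 2 G) (κ : G) (l : F) : Prop where
  nS : ∀ x ∈ (S : Subgroup G), κ * x * κ⁻¹ ∈ (S : Subgroup G)
  nT : κ ∈ normalizer (P.T : Set G)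
  nP : κ ∈ normalizer (P.PP : Set G)
  z : ∀ b, κ * P.p 0 b * κ⁻¹ = P.p 0 (l ^ (1 + 2 ^ (m + 1)) * b)
  gen : ∀ x : F, x ≠ 0 → ∃ n : ℕ, x = l ^ n
  l_ne : l ≠ 0
  l_one : l ≠ 1

theorem Glob.exists_Tor0 (Gl : P.Glob) {S : Sylow 2 G} {y : G} {g k : F} (Fu : Full P S y g k) :
    ∃ κ l, Tor0 P S κ l := by
  have h2 : Fact (Nat.Prime 2) := ⟨Nat.prime_two⟩
  obtain ⟨l, hl0, hl, hgen⟩ := exists_gen P.hF
  have hl1 : l ≠ 1 := by
    intro e6
    have e7 : l ^ 1 = l ^ 0 := by rw [pow_one, pow_zero, e6]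
    rw [hl] at e7
    have hm := P.hm
    have h4 : 2 ^ 3 ≤ 2 ^ (2 * m + 1) := Nat.pow_le_pow_right (by norm_num) (by omega)
    have := Nat.ModEq.eq_of_lt_of_lt e7 (by omega) (by omega)
    omega
  set lu : Fˣ := Units.mk0 l hl0 with hlu
  have hz : ∀ b, P.h lu * P.p 0 b * (P.h lu)⁻¹ = P.p 0 (l ^ (1 + 2 ^ (m + 1)) * b) := by
    intro b
    rw [P.h_p, mul_zero]
    rfl
  have hzi : ∀ b, (P.h lu)⁻¹ * P.p 0 b * P.h lu = P.p 0 ((l ^ (1 + 2 ^ (m + 1)))⁻¹ * b) := by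
    intro b
    have h1 := hz ((l ^ (1 + 2 ^ (m + 1)))⁻¹ * b)
    rw [mul_inv_cancel_left₀ (pow_ne_zero _ hl0)] at h1
    rw [← h1]
    group
  have hhT : P.h lu ∈ normalizer (P.T : Set G) := mem_normalizer_fintype fun x hx => P.h_T lu x hx
  -- the group `X`
  set X : Subgroup G := centralizer (Set.range (P.p 0)) ⊓ normalizer (P.T : Set G) with hX
  have hXc : ∀ {x}, (∀ b, x * P.p 0 b * x⁻¹ = P.p 0 b) → x ∈ centralizer (Set.range (P.p 0)) := by
    intro x hx
    rw [mem_centralizer_iff]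
    rintro _ ⟨b, rfl⟩
    calc P.p 0 b * x = (x * P.p 0 b * x⁻¹) * x := by rw [hx]
      _ = _ := by group
  have hXc' : ∀ {x}, x ∈ X → ∀ b, x * P.p 0 b * x⁻¹ = P.p 0 b := by
    intro x hx b
    have := mem_centralizer_iff.mp hx.1 _ ⟨b, rfl⟩
    rw [← this, mul_inv_cancel_right]
  have hSX : (S : Subgroup G) ≤ X := by
    intro x hx
    rcases Fu.cov x hx with h | h
    · exact ⟨hXc fun b => by rw [P.T_Z x h, mul_inv_cancel_right], le_normalizer h⟩
    · have Y' := Fu.ys.mul_right h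
      exact ⟨hXc Y'.z, Y'.nT⟩
  have hSX2 : CommConj.cj (P.h lu) (S : Subgroup G) ≤ X := by
    intro x hx
    rw [CommConj.mem_cj] at hx
    have h3 := hSX hx
    refine ⟨hXc fun b => ?_, ?_⟩
    · have h4 := hXc' h3 ((l ^ (1 + 2 ^ (m + 1)))⁻¹ * b)
      rw [← hzi] at h4
      have h5 : (P.h lu)⁻¹ * (x * P.p 0 b * x⁻¹) * P.h lu = (P.h lu)⁻¹ * P.p 0 b * P.h lu := by
        rw [← h4]; group
      exact mul_left_cancel (mul_right_cancel h5)
    · have h4 := mul_mem (mul_mem hhT h3.2) (inv_mem hhT)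
      have e : P.h lu * ((P.h lu)⁻¹ * x * P.h lu) * (P.h lu)⁻¹ = x := by group
      rwa [e] at h4
  have hS1 : ∃ S' : Sylow 2 X, (S' : Subgroup X).map X.subtype = (S : Subgroup G) := by
    rw [Cfsg.Agent.Blocks.SylowIn.exists_sylow_map_eq_iff]
    exact ⟨hSX, S.2, fun Q _ hQ hle => S.is_maximal' hQ hle⟩
  have hS2 : ∃ S' : Sylow 2 X, (S' : Subgroup X).map X.subtype = CommConj.cj (P.h lu) (S : Subgroup G) := by
    rw [Cfsg.Agent.Blocks.SylowIn.exists_sylow_map_eq_iff]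
    refine ⟨hSX2, S.2.map _, fun Q _ hQ hle => ?_⟩
    have h3 : CommConj.cj (P.h lu)⁻¹ Q = (S : Subgroup G) := by
      refine S.is_maximal' (hQ.map _) fun x hx => ?_
      rw [CommConj.mem_cj, inv_inv]
      exact hle (CommConj.mem_cj_mul hx)
    rw [← h3, ← CommConj.cj_mul, mul_inv_cancel]
    ext x
    rw [CommConj.mem_cj]
    simp
  obtain ⟨μ, hμX, hμ⟩ := Cfsg.Agent.Blocks.SylowIn.exists_conj_of_sylow_map_eq hS2 hS1
  have hκS : μ * P.h lu ∈ normalizer ((S : Subgroup G) : Set G) := by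
    apply CommConj.mem_normalizer_of_cj_eq
    rw [CommConj.cj_mul]
    exact hμ
  have hκT : μ * P.h lu ∈ normalizer (P.T : Set G) := mul_mem hμX.2 hhT
  set κ₀ := μ * P.h lu with hκ₀
  have hκz : ∀ b, κ₀ * P.p 0 b * κ₀⁻¹ = P.p 0 (l ^ (1 + 2 ^ (m + 1)) * b) := by
    intro b
    have e : κ₀ * P.p 0 b * κ₀⁻¹ = μ * (P.h lu * P.p 0 b * (P.h lu)⁻¹) * μ⁻¹ := by rw [hκ₀]; group
    rw [e, hz, hXc' hμX]
  have hpow : ∀ n : ℕ, ∀ b, κ₀ ^ n * P.p 0 b * (κ₀ ^ n)⁻¹ = P.p 0 ((l ^ (1 + 2 ^ (m + 1))) ^ n * b) := by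
    intro n
    induction n with
    | zero => intro b; rw [pow_zero, pow_zero, one_mul, one_mul, inv_one, mul_one]
    | succ n ih =>
      intro b
      have e : κ₀ ^ (n + 1) * P.p 0 b * (κ₀ ^ (n + 1))⁻¹ = κ₀ ^ n * (κ₀ * P.p 0 b * κ₀⁻¹) * (κ₀ ^ n)⁻¹ := by
        rw [pow_succ]; group
      rw [e, hκz, ih]
      congr 1
      ring
  obtain ⟨i, j, hij, hodd, n, hn⟩ := Cfsg.Agent.StdSz.Env.exists_decomp κ₀
  set ν := l ^ (1 + 2 ^ (m + 1)) with hν
  have hν0 : ν ≠ 0 := pow_ne_zero _ hl0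
  have hνj : ν ^ j = 1 := by
    apply eq_one_of_pow_two_pow (n := n)
    have h3 := hpow (j * 2 ^ n) 1
    rw [pow_mul, hn, one_mul, inv_one, mul_one, mul_one] at h3
    have h4 := P.z_inj h3
    rw [← pow_mul]
    exact h4.symm
  have hνi : ν ^ i = ν := by
    have h3 := hpow (i + j) 1
    rw [_root_.pow_add, ← hij, hκz, mul_one, mul_one] at h3
    have h4 := P.z_inj h3
    rw [_root_.pow_add, hνj, mul_one] at h4
    exact h4.symm
  refine ⟨κ₀ ^ i, l, ?_, pow_mem hκT i, ?_, ?_, hgen, hl0, hl1⟩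
  · intro x hx
    exact (mem_normalizer_iff.mp (pow_mem hκS i) x).mp hx
  · by_contra hcon
    have hsw : P.Sw (κ₀ ^ i) := ⟨pow_mem hκT i, hcon⟩
    have h3 := hsw.mul Gl hsw
    apply hcon
    obtain ⟨r, hr⟩ := hodd
    have h4 : κ₀ ^ i = (κ₀ ^ i * κ₀ ^ i) ^ (r + 1) := by
      rw [← pow_two, ← pow_mul]
      have : 2 * (r + 1) = orderOf (κ₀ ^ i) + 1 := by omega
      rw [this, pow_succ, pow_orderOf_eq_one, one_mul]
    rw [h4]
    exact pow_mem h3 _
  · intro b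
    rw [hpow, hνi]

/-- the `y`-normalizing torus element -/
structure Tor (P : Pre G F m) (S : Sylow 2 G) (κ : G) (l e : F) : Prop extends Tor0 P S κ l where
  f : ∀ x ∈ P.T, P.fC (κ * x * κ⁻¹) = e * P.fC x
  a : ∀ x ∈ P.T, P.aC (κ * x * κ⁻¹) = l * P.aC x
  c : ∀ x ∈ P.T, P.act (κ * x * κ⁻¹) = e * P.act x
  ee : e * e = l ^ (1 + 2 ^ (m + 1))

/-- conjugates of `y` by elements normalizing `S` and `T` -/
theorem Full.conj_y {S : Sylow 2 G} {y : G} {g k : F} (Fu : Full P S y g k) {κ : G}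
    (hS : ∀ x ∈ (S : Subgroup G), κ * x * κ⁻¹ ∈ (S : Subgroup G)) (hT : κ ∈ normalizer (P.T : Set G)) :
    (κ * y * κ⁻¹) * y⁻¹ ∈ P.T := by
  refine (Fu.cov _ (hS y Fu.yS)).resolve_left fun h => ?_
  have h1 := P.conj_T' hT h
  have e : κ⁻¹ * (κ * y * κ⁻¹) * κ = y := by group
  rw [e] at h1
  exact Fu.ys.notMem h1

/-- (i) -/
theorem fixQ (Si : Simp P) {κ : G} (nT : κ ∈ normalizer (P.T : Set G)) (nP : κ ∈ normalizer (P.PP : Set G)) {x : G}
    (hx : x ∈ P.T) (h1 : P.aC x = 0) (h2 : P.act x = 0) : P.aC (κ * x * κ⁻¹) = 0 ∧ P.act (κ * x * κ⁻¹) = 0 := by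
  have hy : κ * x * κ⁻¹ ∈ P.PP := (mem_normalizer_iff.mp nP x).mp ⟨hx, h2⟩
  refine ⟨P.bt_zero fun b => ?_, hy.2⟩
  have hw : κ⁻¹ * P.p b 0 * κ ∈ P.PP := by
    have := (mem_normalizer_iff.mp (inv_mem nP) _).mp (P.p_mem b 0)
    rwa [inv_inv] at this
  have h3 := P.cm_conj nT hx hw.1
  have e : κ * (κ⁻¹ * P.p b 0 * κ) * κ⁻¹ = P.p b 0 := by group
  rw [e, Si.cm hx hw.1, Si.cm (P.conj_T nT hx) (P.T_p b 0), h1, h2, hw.2, P.aC_p, P.act_p, P.fC_p] at h3
  have z1 : (0 : F) ^ (2 ^ (m + 1)) = 0 := zero_pow (by positivity)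
  simp only [z1, mul_zero, zero_mul, add_zero] at h3
  rw [h3]
  apply P.al_eq nT
  rw [P.p_zero]; group

/-- (ii) -/
theorem Full.fixE (Si : Simp P) {S : Sylow 2 G} {y : G} {g k : F} (Fu : Full P S y g k) {κ : G}
    (hS : ∀ x ∈ (S : Subgroup G), κ * x * κ⁻¹ ∈ (S : Subgroup G)) (nT : κ ∈ normalizer (P.T : Set G))
    (nP : κ ∈ normalizer (P.PP : Set G)) {x : G}
    (hx : x ∈ P.T) (h1 : P.fC x = 0) (h2 : P.aC x = 0) : P.fC (κ * x * κ⁻¹) = 0 ∧ P.aC (κ * x * κ⁻¹) = 0 := by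
  have hx' := P.conj_T' Fu.ys.nT hx
  have e1 : y * (y⁻¹ * x * y) * y⁻¹ = x := by group
  have h3 := Fu.ys.f _ hx'
  have h4 := Fu.ys.a _ hx'
  rw [e1] at h3 h4
  rw [h1] at h3
  rw [h2] at h4
  have h5 : P.act (y⁻¹ * x * y) = 0 := (mul_eq_zero.mp h3.symm).resolve_left Fu.ys.k_ne
  obtain ⟨h6, h7⟩ := fixQ Si nT nP hx' h4.symm h5
  have Y' := Fu.ys.mul_right (Fu.conj_y hS nT)
  have e2 : κ * x * κ⁻¹ = (κ * y * κ⁻¹) * (κ * (y⁻¹ * x * y) * κ⁻¹) * (κ * y * κ⁻¹)⁻¹ := by group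
  rw [e2, Y'.f _ (P.conj_T nT hx'), Y'.a _ (P.conj_T nT hx'), h6, h7, mul_zero]
  exact ⟨rfl, rfl⟩

theorem Glob.exists_Tor (Gl : P.Glob) (Si : Simp P) {S : Sylow 2 G} {y : G} {g k : F} (Fu : Full P S y g k) :
    ∃ κ l e, Tor P S κ l e := by
  obtain ⟨κ, l, K⟩ := Gl.exists_Tor0 Fu
  have z1 : (0 : F) ^ (2 ^ (m + 1)) = 0 := zero_pow (by positivity)
  have hSi : ∀ x ∈ (S : Subgroup G), κ⁻¹ * x * κ⁻¹⁻¹ ∈ (S : Subgroup G) := by
    have h1 : κ ∈ normalizer ((S : Subgroup G) : Set G) := mem_normalizer_fintype fun x hx => K.nS x hx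
    intro x hx
    exact (mem_normalizer_iff.mp (inv_mem h1) x).mp hx
  have hal : ∀ b, P.al κ b = l ^ (1 + 2 ^ (m + 1)) * b := fun b => P.al_eq K.nT (K.z b)
  have cT : ∀ {x}, x ∈ P.T → κ * x * κ⁻¹ ∈ P.T := fun hx => P.conj_T K.nT hx
  -- (iii)
  have fixA : ∀ {x}, x ∈ P.T → P.fC x = 0 → P.act x = 0 → P.fC (κ * x * κ⁻¹) = 0 ∧ P.act (κ * x * κ⁻¹) = 0 := by
    intro x hx h1 h2
    have hy : κ * x * κ⁻¹ ∈ P.PP := (mem_normalizer_iff.mp K.nP x).mp ⟨hx, h2⟩
    refine ⟨?_, hy.2⟩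
    obtain ⟨h3, h4⟩ := Fu.fixE Si hSi (inv_mem K.nT) (inv_mem K.nP) (P.ee_mem 1) (P.fC_ee 1) (P.aC_ee 1)
    rw [inv_inv] at h3 h4
    have hw := P.conj_T' K.nT (P.ee_mem 1)
    have h5 := P.cm_conj K.nT hx hw
    have e : κ * (κ⁻¹ * P.ee 1 * κ) * κ⁻¹ = P.ee 1 := by group
    rw [e, Si.cm hx hw, Si.cm (cT hx) (P.ee_mem 1), h1, h2, h3, h4, P.aC_ee, P.fC_ee, P.act_ee, hal] at h5
    simpa only [z1, _root_.MulZeroClass.mul_zero, _root_.add_zero, _root_.one_mul, _root_.zero_add] using h5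
  -- coordinates
  have hcrd : ∀ x ∈ P.T, P.fC (κ * x * κ⁻¹) = P.fC (κ * qq Si (P.fC x) * κ⁻¹) ∧
      P.aC (κ * x * κ⁻¹) = P.aC (κ * P.p (P.aC x) 0 * κ⁻¹) ∧
      P.act (κ * x * κ⁻¹) = P.act (κ * P.ee (P.act x) * κ⁻¹) := by
    intro x hx
    obtain ⟨h1, h2, h3⟩ := conj_decomp Si K.nT hx
    have m1 := cT (qq_T Si (P.fC x))
    have m2 := cT (P.T_p (P.aC x) 0)
    have m3 := cT (P.ee_mem (P.act x))
    obtain ⟨a1, a2⟩ := fixQ Si K.nT K.nP (qq_T Si (P.fC x)) (aC_qq Si _) (act_qq Si _)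
    obtain ⟨b1, b2⟩ := fixA (P.T_p (P.aC x) 0) (P.fC_p _ _) (P.act_p _ _)
    obtain ⟨c1, c2⟩ := Fu.fixE Si K.nS K.nT K.nP (P.ee_mem (P.act x)) (P.fC_ee _) (P.aC_ee _)
    refine ⟨?_, ?_, ?_⟩
    · rw [h1, P.fC_mul m1 (mul_mem m2 m3), P.fC_mul m2 m3, c1, b1, add_zero, add_zero]
    · rw [h2, P.aC_mul m1 (mul_mem m2 m3), P.aC_mul m2 m3, a1, c2, zero_add, add_zero]
    · rw [h3, P.act_mul m1 (mul_mem m2 m3), P.act_mul m2 m3, b2, a2, zero_add, zero_add]
  obtain ⟨e, e', hee', hG, hH⟩ := alg_fix (ν := l ^ (1 + 2 ^ (m + 1))) (G := fun r => P.fC (κ * qq Si r * κ⁻¹))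
    (H := fun c => P.act (κ * P.ee c * κ⁻¹)) (pow_ne_zero _ K.l_ne) (by
      intro c r
      have h5 := P.cm_conj K.nT (P.ee_mem c) (qq_T Si r)
      obtain ⟨a1, a2⟩ := fixQ Si K.nT K.nP (qq_T Si r) (aC_qq Si _) (act_qq Si _)
      obtain ⟨c1, c2⟩ := Fu.fixE Si K.nS K.nT K.nP (P.ee_mem c) (P.fC_ee _) (P.aC_ee _)
      rw [hal, Si.cm (P.ee_mem c) (qq_T Si r), Si.cm (cT (P.ee_mem c)) (cT (qq_T Si r)), a1, a2, c1, c2,
        fC_qq, aC_qq, act_qq, P.aC_ee, P.act_ee, P.fC_ee] at h5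
      simp only [z1, mul_zero, zero_mul, add_zero, zero_add] at h5
      exact h5.symm)
  have hf : ∀ x ∈ P.T, P.fC (κ * x * κ⁻¹) = e * P.fC x := fun x hx => by rw [(hcrd x hx).1]; exact hG _
  have hc : ∀ x ∈ P.T, P.act (κ * x * κ⁻¹) = e' * P.act x := fun x hx => by rw [(hcrd x hx).2.2]; exact hH _
  have ha : ∀ x ∈ P.T, P.aC (κ * x * κ⁻¹) = l * P.aC x := by
    intro x hx
    rw [(hcrd x hx).2.1]
    have h5 := P.sq_conj K.nT (P.T_p (P.aC x) 0)
    obtain ⟨b1, b2⟩ := fixA (P.T_p (P.aC x) 0) (P.fC_p _ _) (P.act_p _ _)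
    rw [hal, Si.sq (cT (P.T_p _ _)), P.sq_p, b1, b2, mul_zero, add_zero, ← mul_pow] at h5
    exact Cfsg.Agent.StdSz.FormAlg.norm_inj P.hF h5
  -- `e = e'`
  have hee : e = e' := by
    have h1 := P.conj_T Fu.ys.nT (P.ee_mem 1)
    have h3 := hf _ h1
    rw [Fu.ys.f _ (P.ee_mem 1), P.act_ee, mul_one] at h3
    have Y' := Fu.ys.mul_right (Fu.conj_y K.nS K.nT)
    have e2 : κ * (y * P.ee 1 * y⁻¹) * κ⁻¹ = (κ * y * κ⁻¹) * (κ * P.ee 1 * κ⁻¹) * (κ * y * κ⁻¹)⁻¹ := by group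
    rw [e2, Y'.f _ (cT (P.ee_mem 1)), hc _ (P.ee_mem 1), P.act_ee, mul_one, mul_comm k] at h3
    exact (mul_right_cancel₀ Fu.ys.k_ne h3).symm
  exact ⟨κ, l, e, { K with f := hf, a := ha, c := by rw [hee]; exact hc, ee := by rw [← hee', ← hee] }⟩

end Pre

end Cfsg.Agent.OddHalf.D4.Sz

end

-- merged: Cfsg.Agent.OddHalf.D4.Sz.TV
section

/-!
# LEMMA TV (helper216's text bb ODD #11407, typed by helper514)

`X` finite, `S` a Sylow 2-subgroup, `W ≤ S` elementary abelian of index 2, `y ∈ S - W` an involution with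
`|W : C_W(y)| > 4`. Then no `X`-conjugate of `y` lies in `W`.
-/

set_option autoImplicit false

open Subgroup

namespace Cfsg.Agent.OddHalf.D4.Sz.TV

variable {X : Type*} [Group X]

/-- the data: `T` a group (later a Sylow 2-subgroup), `W` elementary abelian of index 2, `y` an involution
outside `W` -/
structure Dat (T W : Subgroup X) (y : X) : Prop where
  hW : W ≤ T
  hi : W.relIndex T = 2
  he : ∀ w ∈ W, w * w = 1
  hy : y ∈ T
  hyW : y ∉ W
  hyy : y * y = 1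
  hC : 4 < (W ⊓ centralizer {y}).relIndex W

/-- the axis `C_W(y)` -/
def HH (W : Subgroup X) (y : X) : Subgroup X := W ⊓ centralizer {y}

/-- `C_T(y)` -/
def EE (T : Subgroup X) (y : X) : Subgroup X := T ⊓ centralizer {y}

theorem mem_HH {W : Subgroup X} {y h : X} : h ∈ HH W y ↔ h ∈ W ∧ h * y = y * h := by
  unfold HH
  rw [mem_inf, mem_centralizer_singleton_iff]

theorem mem_EE {T : Subgroup X} {y h : X} : h ∈ EE T y ↔ h ∈ T ∧ h * y = y * h := by
  unfold EE
  rw [mem_inf, mem_centralizer_singleton_iff]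

namespace Dat

variable {T W : Subgroup X} {y : X} (D : Dat T W y)

include D

theorem mul_mem_iff {a b : X} (ha : a ∈ T) (hb : b ∈ T) : a * b ∈ W ↔ (a ∈ W ↔ b ∈ W) := by
  have h : (W.subgroupOf T).index = 2 := D.hi
  have h1 := Subgroup.mul_mem_iff_of_index_two h (a := ⟨a, ha⟩) (b := ⟨b, hb⟩)
  simpa [mem_subgroupOf] using h1

theorem y_inv : y⁻¹ = y := inv_eq_of_mul_eq_one_left D.hyy

theorem inv_W {w : X} (hw : w ∈ W) : w⁻¹ = w := inv_eq_of_mul_eq_one_left (D.he w hw)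

theorem comm_W {v w : X} (hv : v ∈ W) (hw : w ∈ W) : v * w = w * v := by
  have h := D.he _ (W.mul_mem hv hw)
  have h1 : v * w = (v * w)⁻¹ := (inv_eq_of_mul_eq_one_left h).symm
  rw [h1, mul_inv_rev, D.inv_W hv, D.inv_W hw]

theorem ymem {t : X} (ht : t ∈ T) (htW : t ∉ W) : y * t ∈ W := by
  rw [D.mul_mem_iff D.hy ht]
  exact ⟨fun h => absurd h D.hyW, fun h => absurd h htW⟩

theorem yw {w : X} (hw : w ∈ W) : y * w * y ∈ W := by
  have h1 : y * w ∉ W := by
    rw [D.mul_mem_iff D.hy (D.hW hw)]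
    exact fun h => D.hyW (h.2 hw)
  rw [D.mul_mem_iff (T.mul_mem D.hy (D.hW hw)) D.hy]
  exact ⟨fun h => absurd h h1, fun h => absurd h D.hyW⟩

/-- `[w, y]` -/
theorem delta_mem {w : X} (hw : w ∈ W) : w * (y * w * y) ∈ W := W.mul_mem hw (D.yw hw)

theorem delta_comm {w : X} (hw : w ∈ W) : w * (y * w * y) * y = y * (w * (y * w * y)) := by
  have h := D.comm_W hw (D.yw hw)
  calc w * (y * w * y) * y = y * w * y * w * y := by rw [h]
    _ = y * (w * (y * w * y)) := by group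

theorem delta_mem_HH {w : X} (hw : w ∈ W) : w * (y * w * y) ∈ HH W y :=
  mem_HH.2 ⟨D.delta_mem hw, D.delta_comm hw⟩

theorem delta_mul {v w : X} (hv : v ∈ W) (hw : w ∈ W) :
    v * w * (y * (v * w) * y) = v * (y * v * y) * (w * (y * w * y)) := by
  have h1 : y * (v * w) * y = (y * v * y) * (y * w * y) := by
    calc y * (v * w) * y = y * v * 1 * w * y := by group
      _ = y * v * (y * y) * w * y := by rw [D.hyy]
      _ = (y * v * y) * (y * w * y) := by group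
  rw [h1]
  calc v * w * ((y * v * y) * (y * w * y)) = v * (w * (y * v * y)) * (y * w * y) := by group
    _ = v * ((y * v * y) * w) * (y * w * y) := by rw [D.comm_W hw (D.yw hv)]
    _ = v * (y * v * y) * (w * (y * w * y)) := by group

theorem delta_of_HH {h : X} (hh : h ∈ HH W y) : h * (y * h * y) = 1 := by
  obtain ⟨h1, h2⟩ := mem_HH.1 hh
  calc h * (y * h * y) = h * (h * y * y) := by rw [h2]
    _ = h * h * (y * y) := by group
    _ = 1 := by rw [D.he _ h1, D.hyy, mul_one]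

theorem HH_le_EE : HH W y ≤ EE T y := fun h hh =>
  mem_EE.2 ⟨D.hW (mem_HH.1 hh).1, (mem_HH.1 hh).2⟩

theorem y_mem_EE : y ∈ EE T y := mem_EE.2 ⟨D.hy, rfl⟩

/-- `H` centralizes `T` -/
theorem comm_HH {h t : X} (hh : h ∈ HH W y) (ht : t ∈ T) : h * t = t * h := by
  obtain ⟨h1, h2⟩ := mem_HH.1 hh
  by_cases htW : t ∈ W
  · exact D.comm_W h1 htW
  · have h3 := D.comm_W h1 (D.ymem ht htW)
    have h4 : h * t = y * (h * (y * t)) := by
      calc h * t = h * (y * y) * t := by rw [D.hyy, mul_one]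
        _ = h * y * (y * t) := by group
        _ = y * h * (y * t) := by rw [h2]
        _ = y * (h * (y * t)) := by group
    rw [h4, h3]
    calc y * (y * t * h) = y * y * (t * h) := by group
      _ = t * h := by rw [D.hyy, one_mul]

theorem EE_cases {e : X} (he : e ∈ EE T y) : e ∈ HH W y ∨ y * e ∈ HH W y := by
  obtain ⟨h1, h2⟩ := mem_EE.1 he
  by_cases h : e ∈ W
  · exact Or.inl (mem_HH.2 ⟨h, h2⟩)
  · refine Or.inr (mem_HH.2 ⟨D.ymem h1 h, ?_⟩)
    calc y * e * y = y * (e * y) := by group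
      _ = y * (y * e) := by rw [h2]

theorem eq_of_EE {e : X} (he : e ∈ EE T y) (h : e ∉ HH W y) : ∃ k ∈ HH W y, e = y * k := by
  rcases D.EE_cases he with h1 | h1
  · exact absurd h1 h
  · exact ⟨_, h1, by rw [← mul_assoc, D.hyy, one_mul]⟩

theorem EE_comm {a b : X} (ha : a ∈ EE T y) (hb : b ∈ EE T y) : a * b = b * a := by
  rcases D.EE_cases ha with h | h
  · exact D.comm_HH h (mem_EE.1 hb).1
  · have h1 := D.comm_HH h (mem_EE.1 hb).1
    have h2 := (mem_EE.1 hb).2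
    calc a * b = y * y * a * b := by rw [D.hyy, one_mul]
      _ = y * (y * a * b) := by group
      _ = y * (b * (y * a)) := by rw [h1]
      _ = (y * b) * (y * a) := by group
      _ = b * y * (y * a) := by rw [h2]
      _ = b * (y * y) * a := by group
      _ = b * a := by rw [D.hyy, mul_one]

theorem EE_sq {a : X} (ha : a ∈ EE T y) : a * a = 1 := by
  by_cases h : a ∈ HH W y
  · exact D.he _ (mem_HH.1 h).1
  · obtain ⟨k, hk, rfl⟩ := D.eq_of_EE ha h
    have h1 := (mem_HH.1 hk).2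
    calc y * k * (y * k) = y * (k * y) * k := by group
      _ = y * (y * k) * k := by rw [h1]
      _ = (y * y) * (k * k) := by group
      _ = 1 := by rw [D.hyy, D.he _ (mem_HH.1 hk).1, mul_one]

theorem W_inf_EE : W ⊓ EE T y = HH W y := by
  ext x
  rw [mem_inf, mem_EE, mem_HH]
  exact ⟨fun h => ⟨h.1, h.2.2⟩, fun h => ⟨h.1, D.hW h.1, h.2⟩⟩

theorem relIndex_HH_EE : (HH W y).relIndex (EE T y) = 2 := by
  rw [← D.W_inf_EE, inf_relIndex_right]
  have h1 : W.relIndex (EE T y) ≤ 2 := by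
    rw [← D.hi]
    exact relIndex_le_of_le_right inf_le_left (by rw [D.hi]; norm_num)
  have h2 : W.relIndex (EE T y) ≠ 0 := by
    intro h
    have := relIndex_eq_zero_of_le_right (K := EE T y) (L := T) inf_le_left h
    rw [D.hi] at this
    exact absurd this (by norm_num)
  have h3 : W.relIndex (EE T y) ≠ 1 := by
    intro h
    rw [relIndex_eq_one] at h
    exact D.hyW (h D.y_mem_EE)
  omega

/-- conjugation by `w ∈ W` is trivial on `H` -/
theorem conj_W_in {w e : X} (hw : w ∈ W) (h : e ∈ HH W y) : w * e * w⁻¹ = e := by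
  rw [← D.comm_HH h (D.hW hw), mul_inv_cancel_right]

/-- conjugation by `w ∈ W` on `E - H` is multiplication by `[w, y]` -/
theorem conj_W_out {w e : X} (hw : w ∈ W) (he : e ∈ EE T y) (h : e ∉ HH W y) :
    w * e * w⁻¹ = w * (y * w * y) * e := by
  rw [D.inv_W hw]
  obtain ⟨k, hk, rfl⟩ := D.eq_of_EE he h
  have h1 := D.comm_HH hk (D.hW hw)
  calc w * (y * k) * w = w * y * (k * w) := by group
    _ = w * y * (w * k) := by rw [h1]
    _ = w * (y * w * y) * (y⁻¹ * k) := by group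
    _ = w * (y * w * y) * (y * k) := by rw [D.y_inv]

theorem W_le_normalizer : W ≤ normalizer (EE T y : Set X) := by
  have key : ∀ w ∈ W, ∀ e ∈ EE T y, w * e * w⁻¹ ∈ EE T y := by
    intro w hw e he
    by_cases h : e ∈ HH W y
    · rw [D.conj_W_in hw h]
      exact he
    · rw [D.conj_W_out hw he h]
      exact mul_mem (D.HH_le_EE (D.delta_mem_HH hw)) he
  intro w hw
  rw [mem_normalizer_iff]
  intro e
  refine ⟨fun h => key w hw e h, fun h => ?_⟩
  have h1 := key w⁻¹ (inv_mem hw) _ h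
  have h2 : w⁻¹ * (w * e * w⁻¹) * w⁻¹⁻¹ = e := by group
  rwa [h2] at h1

omit D in
theorem EE_le_normalizer : EE T y ≤ normalizer (EE T y : Set X) := le_normalizer

theorem T_le_normalizer : T ≤ normalizer (EE T y : Set X) := by
  intro t ht
  by_cases h : t ∈ W
  · exact D.W_le_normalizer h
  · have h1 := D.W_le_normalizer (D.ymem ht h)
    have h2 := EE_le_normalizer D.y_mem_EE
    have h3 := mul_mem h2 h1
    have h4 : y * (y * t) = t := by rw [← mul_assoc, D.hyy, one_mul]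
    rwa [h4] at h3

/-- `C_W(E) = H` -/
theorem centralizer_inf {A : Subgroup X} (hA : A ≤ W) (hHA : HH W y ≤ A) :
    centralizer (EE T y : Set X) ⊓ A = HH W y := by
  ext x
  rw [mem_inf, mem_centralizer_iff]
  constructor
  · rintro ⟨h1, h2⟩
    exact mem_HH.2 ⟨hA h2, (h1 y D.y_mem_EE).symm⟩
  · intro h
    exact ⟨fun e he => (D.comm_HH h (mem_EE.1 he).1).symm, hHA h⟩

/-- `C_T(E) = E` -/
theorem centralizer_inf_T : centralizer (EE T y : Set X) ⊓ T = EE T y := by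
  ext x
  rw [mem_inf, mem_centralizer_iff]
  constructor
  · rintro ⟨h1, h2⟩
    exact mem_EE.2 ⟨h2, (h1 y D.y_mem_EE).symm⟩
  · intro h
    exact ⟨fun e he => D.EE_comm he h, (mem_EE.1 h).1⟩

theorem EE_le_centralizer : EE T y ≤ centralizer (EE T y : Set X) := fun _ hx =>
  mem_centralizer_iff.2 fun _ he => D.EE_comm he hx

/-- the elements of `W` whose commutator with `y` lies in `K` -/
def AA (D : Dat T W y) (K : Subgroup X) : Subgroup X where
  carrier := {w | w ∈ W ∧ w * (y * w * y) ∈ K}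
  mul_mem' := by
    rintro a b ⟨ha, ha'⟩ ⟨hb, hb'⟩
    exact ⟨W.mul_mem ha hb, by rw [D.delta_mul ha hb]; exact K.mul_mem ha' hb'⟩
  one_mem' := ⟨W.one_mem, by simp [D.hyy]⟩
  inv_mem' := by
    rintro a ⟨ha, ha'⟩
    rw [D.inv_W ha]
    exact ⟨ha, ha'⟩

theorem AA_le (K : Subgroup X) : D.AA K ≤ W := fun _ h => h.1

theorem HH_le_AA (K : Subgroup X) : HH W y ≤ D.AA K := fun h hh =>
  ⟨(mem_HH.1 hh).1, by rw [D.delta_of_HH hh]; exact K.one_mem⟩

theorem relIndex_AA {K : Subgroup X} (hK : K.relIndex (EE T y) = 2) : (D.AA K).relIndex W ∣ 2 := by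
  have hmul : ∀ a ∈ EE T y, ∀ b ∈ EE T y, a ∉ K → b ∉ K → a * b ∈ K := by
    intro a ha b hb h1 h2
    have h : (K.subgroupOf (EE T y)).index = 2 := hK
    have h3 := Subgroup.mul_mem_iff_of_index_two h (a := ⟨a, ha⟩) (b := ⟨b, hb⟩)
    have h4 : a * b ∈ K ↔ (a ∈ K ↔ b ∈ K) := by simpa [mem_subgroupOf] using h3
    exact h4.2 ⟨fun h => absurd h h1, fun h => absurd h h2⟩
  rw [relIndex_dvd_two_iff]
  by_cases h : ∀ b ∈ W, b * (y * b * y) ∈ K
  · exact ⟨1, W.one_mem, fun b hb => Or.inr ⟨hb, h b hb⟩⟩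
  · push Not at h
    obtain ⟨a, ha, ha'⟩ := h
    refine ⟨a, ha, fun b hb => ?_⟩
    by_cases h1 : b * (y * b * y) ∈ K
    · exact Or.inr ⟨hb, h1⟩
    · refine Or.inl ⟨W.mul_mem hb ha, ?_⟩
      rw [D.delta_mul hb ha]
      exact hmul _ (D.HH_le_EE (D.delta_mem_HH hb)) _ (D.HH_le_EE (D.delta_mem_HH ha)) h1 ha'

end Dat

section card

theorem centralizer_le (E : Subgroup X) : centralizer (E : Set X) ≤ normalizer (E : Set X) := by
  intro c hc
  rw [mem_normalizer_iff]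
  intro e
  have h1 : ∀ e ∈ E, c * e * c⁻¹ = e := fun e he => by
    rw [← mem_centralizer_iff.1 hc e he, mul_inv_cancel_right]
  refine ⟨fun h => by rw [h1 e h]; exact h, fun h => ?_⟩
  have h2 : c⁻¹ * (c * e * c⁻¹) * c = c * e * c⁻¹ := by
    have := mem_centralizer_iff.1 hc _ h
    rw [mul_assoc, this, inv_mul_cancel_left]
  have h3 : c⁻¹ * (c * e * c⁻¹) * c = e := by group
  rw [← h3, h2]
  exact h

variable [Finite X]

/-- `U ≤ C(E)` and `P` induced by `N(E)` on `E`, both 2-groups: `|U||P| ≤ |S|` -/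
theorem card_mul_le (S : Sylow 2 X) (E : Subgroup X) {U : Subgroup X} (hU : IsPGroup 2 U)
    (hUC : U ≤ centralizer (E : Set X)) {P : Subgroup (MulAut E)} (hP : IsPGroup 2 P)
    (hPr : P ≤ E.normalizerMonoidHom.range) : Nat.card U * Nat.card P ≤ Nat.card S := by
  have h1 : Nat.card U ∣ Nat.card (centralizer (E : Set X)) := Subgroup.card_dvd_of_le hUC
  have h2 : Nat.card P ∣ Nat.card E.normalizerMonoidHom.range := Subgroup.card_dvd_of_le hPr
  have h3 : Nat.card (centralizer (E : Set X)) * Nat.card E.normalizerMonoidHom.range =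
      Nat.card (normalizer (E : Set X)) := by
    rw [← Subgroup.index_ker, normalizerMonoidHom_ker,
      ← Subgroup.card_mul_index ((centralizer (E : Set X)).subgroupOf (normalizer (E : Set X))),
      Nat.card_congr (subgroupOfEquivOfLe (centralizer_le E)).toEquiv]
  have h4 : Nat.card U * Nat.card P ∣ Nat.card X :=
    (Nat.mul_dvd_mul h1 h2).trans (h3 ▸ Subgroup.card_subgroup_dvd_card _)
  obtain ⟨a, ha⟩ := hU.exists_card_eq
  obtain ⟨b, hb⟩ := hP.exists_card_eq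
  rw [ha, hb, ← pow_add] at h4 ⊢
  rw [Sylow.card_eq_multiplicity S]
  exact Nat.pow_le_pow_right (by norm_num)
    ((Nat.prime_two.pow_dvd_iff_le_factorization Nat.card_pos.ne').1 h4)

omit [Finite X] in
theorem card_map {T W : Subgroup X} {y : X} (D : Dat T W y) (E : Subgroup X) (hE : EE T y = E)
    (K : Subgroup X) : Nat.card (((D.AA K).subgroupOf (normalizer (E : Set X))).map E.normalizerMonoidHom) =
      (HH W y).relIndex (D.AA K) := by
  subst hE
  rw [← relIndex_ker, normalizerMonoidHom_ker, relIndex_subgroupOf ((D.AA_le K).trans D.W_le_normalizer),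
    ← inf_relIndex_right, D.centralizer_inf (D.AA_le K) (D.HH_le_AA K)]

omit [Finite X] in
theorem card_mul_relIndex {A B : Subgroup X} (h : A ≤ B) : Nat.card A * A.relIndex B = Nat.card B := by
  have h1 := Subgroup.card_mul_index (A.subgroupOf B)
  rwa [Nat.card_congr (subgroupOfEquivOfLe h).toEquiv] at h1

theorem card_mul_le_sup {G : Type*} [Group G] [Finite G] {P Q : Subgroup G}
    (h0 : ∀ x ∈ P, x ∈ Q → x = 1) : Nat.card P * Nat.card Q ≤ Nat.card ↥(P ⊔ Q) := by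
  rw [← Nat.card_prod]
  refine Nat.card_le_card_of_injective
    (fun x : P × Q => (⟨x.1 * x.2, mul_mem (mem_sup_left x.1.2) (mem_sup_right x.2.2)⟩ : ↥(P ⊔ Q))) ?_
  rintro ⟨a, b⟩ ⟨c, d⟩ h
  have h1 : (a : G) * b = c * d := congrArg Subtype.val h
  have h2 : (c : G)⁻¹ * a = d * (b : G)⁻¹ := by
    rw [inv_mul_eq_iff_eq_mul, ← mul_assoc, ← h1, mul_inv_cancel_right]
  have h3 : (c : G)⁻¹ * a = 1 := h0 _ (P.mul_mem (P.inv_mem c.2) a.2)
    (h2 ▸ Q.mul_mem d.2 (Q.inv_mem b.2))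
  have h4 : (a : G) = c := by
    rw [inv_mul_eq_one] at h3
    exact h3.symm
  have h5 : (b : G) = d := by
    rw [h4] at h1
    exact mul_left_cancel h1
  exact Prod.ext (Subtype.ext h4) (Subtype.ext h5)

/-- two axes in `E`: too many transvections -/
theorem two_axes (S : Sylow 2 X) {W W' T' : Subgroup X} {y y' : X} (D : Dat (S : Subgroup X) W y)
    (D' : Dat T' W' y') (hT : Nat.card T' = Nat.card S) (E : Subgroup X) (hE : EE S y = E)
    (hE' : EE T' y' = E) (hH : HH W y ≠ HH W' y') : False := by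
  have hK : (HH W y).relIndex E = 2 := hE ▸ D.relIndex_HH_EE
  have hK' : (HH W' y').relIndex E = 2 := hE' ▸ D'.relIndex_HH_EE
  have hHE : HH W y ≤ E := hE ▸ D.HH_le_EE
  have hHE' : HH W' y' ≤ E := hE' ▸ D'.HH_le_EE
  obtain ⟨ρ, hρ⟩ : ∃ ρ, ρ = E.normalizerMonoidHom := ⟨_, rfl⟩
  have hρa : ∀ (g : normalizer (E : Set X)) (e : E), ((ρ g e : E) : X) = g * e * (g : X)⁻¹ := by
    intro g e
    rw [hρ]
    rfl
  obtain ⟨P, hP⟩ : ∃ P, P = ((D.AA (HH W' y')).subgroupOf (normalizer (E : Set X))).map ρ := ⟨_, rfl⟩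
  obtain ⟨Q, hQ⟩ : ∃ Q, Q = ((D'.AA (HH W y)).subgroupOf (normalizer (E : Set X))).map ρ := ⟨_, rfl⟩
  have hcP : Nat.card P = (HH W y).relIndex (D.AA (HH W' y')) := by
    rw [hP, hρ]
    exact card_map D E hE _
  have hcQ : Nat.card Q = (HH W' y').relIndex (D'.AA (HH W y)) := by
    rw [hQ, hρ]
    exact card_map D' E hE' _
  -- the formulas
  have f1 : ∀ w ∈ D.AA (HH W' y'), ∀ e ∈ HH W y, w * e * w⁻¹ = e := fun w hw e he =>
    D.conj_W_in hw.1 he
  have f2 : ∀ w ∈ D.AA (HH W' y'), ∀ e ∈ E, e ∉ HH W y → w * e * w⁻¹ = w * (y * w * y) * e :=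
    fun w hw e he h => D.conj_W_out hw.1 (hE ▸ he) h
  have f1' : ∀ w ∈ D'.AA (HH W y), ∀ e ∈ HH W' y', w * e * w⁻¹ = e := fun w hw e he =>
    D'.conj_W_in hw.1 he
  have f2' : ∀ w ∈ D'.AA (HH W y), ∀ e ∈ E, e ∉ HH W' y' → w * e * w⁻¹ = w * (y' * w * y') * e :=
    fun w hw e he h => D'.conj_W_out hw.1 (hE' ▸ he) h
  have hcomm : ∀ a ∈ P, ∀ b ∈ Q, a * b = b * a := by
    rw [hP, hQ]
    rintro _ ⟨⟨w, hwN⟩, hw, rfl⟩ _ ⟨⟨v, hvN⟩, hv, rfl⟩
    replace hw : w ∈ D.AA (HH W' y') := hw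
    replace hv : v ∈ D'.AA (HH W y) := hv
    have d1 : w * (y * w * y) ∈ HH W y := D.delta_mem_HH hw.1
    have d2 : w * (y * w * y) ∈ HH W' y' := hw.2
    have d3 : v * (y' * v * y') ∈ HH W' y' := D'.delta_mem_HH hv.1
    have d4 : v * (y' * v * y') ∈ HH W y := hv.2
    apply MulEquiv.ext
    rintro ⟨e, he⟩
    apply Subtype.ext
    rw [MulAut.mul_apply, MulAut.mul_apply, hρa, hρa, hρa, hρa]
    change w * (v * e * v⁻¹) * w⁻¹ = v * (w * e * w⁻¹) * v⁻¹
    by_cases h1 : e ∈ HH W y <;> by_cases h2 : e ∈ HH W' y'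
    · rw [f1' v hv e h2, f1 w hw e h1, f1' v hv e h2]
    · rw [f2' v hv e he h2, f1 w hw e h1, f2' v hv e he h2, f1 w hw _ (mul_mem d4 h1)]
    · rw [f1' v hv e h2, f2 w hw e he h1, f1' v hv _ (mul_mem d2 h2)]
    · rw [f2' v hv e he h2, f2 w hw e he h1,
        f2 w hw _ (mul_mem (hHE d4) he) (fun h => h1 ((Subgroup.mul_mem_cancel_left _ d4).1 h)),
        f2' v hv _ (mul_mem (hHE d1) he) (fun h => h2 ((Subgroup.mul_mem_cancel_left _ d2).1 h)),
        ← mul_assoc (w * (y * w * y)) (v * (y' * v * y')) e,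
        D.EE_comm (D.HH_le_EE d1) (D.HH_le_EE d4), mul_assoc]
  have hdis : ∀ x ∈ P, x ∈ Q → x = 1 := by
    rw [hP, hQ]
    rintro _ ⟨⟨w, hwN⟩, hw, rfl⟩ ⟨⟨v, hvN⟩, hv, hvw⟩
    replace hw : w ∈ D.AA (HH W' y') := hw
    replace hv : v ∈ D'.AA (HH W y) := hv
    obtain ⟨x, hx, hx'⟩ : ∃ x ∈ HH W y, x ∉ HH W' y' := by
      by_contra hcon
      push Not at hcon
      apply hH
      have h1 : HH W y ≤ HH W' y' := hcon
      have h2 := relIndex_mul_relIndex (HH W y) (HH W' y') E h1 hHE'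
      rw [hK, hK'] at h2
      have h3 : (HH W y).relIndex (HH W' y') = 1 := by omega
      exact le_antisymm h1 (relIndex_eq_one.1 h3)
    have hd : v * (y' * v * y') = 1 := by
      have h1 := congrArg (fun φ : MulAut E => ((φ ⟨x, hHE hx⟩ : E) : X)) hvw
      simp only [hρa] at h1
      rw [f2' v hv x (hHE hx) hx', f1 w hw x hx] at h1
      exact mul_eq_right.1 h1
    rw [← hvw]
    apply MulEquiv.ext
    rintro ⟨e, he⟩
    apply Subtype.ext
    rw [hρa]
    change v * e * v⁻¹ = e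
    by_cases h2 : e ∈ HH W' y'
    · exact f1' v hv e h2
    · rw [f2' v hv e he h2, hd, one_mul]
  have hp2 : IsPGroup 2 W := fun w => ⟨1, by
    apply Subtype.ext
    rw [pow_one, pow_two]
    exact D.he _ w.2⟩
  have hp2' : IsPGroup 2 W' := fun w => ⟨1, by
    apply Subtype.ext
    rw [pow_one, pow_two]
    exact D'.he _ w.2⟩
  have hPp : IsPGroup 2 P := by
    rw [hP]
    refine IsPGroup.map ?_ _
    exact (hp2.to_le (D.AA_le _)).comap_of_injective _ (Subgroup.subtype_injective _)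
  have hQp : IsPGroup 2 Q := by
    rw [hQ]
    refine IsPGroup.map ?_ _
    exact (hp2'.to_le (D'.AA_le _)).comap_of_injective _ (Subgroup.subtype_injective _)
  have hPQ : IsPGroup 2 ↥(P ⊔ Q) := by
    refine IsPGroup.to_sup_of_normal_right' hPp hQp ?_
    intro a ha
    refine centralizer_le Q ?_
    rw [mem_centralizer_iff]
    exact fun b hb => (hcomm a ha b hb).symm
  have hEp : IsPGroup 2 E := fun e => ⟨1, by
    apply Subtype.ext
    rw [pow_one, pow_two]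
    exact D.EE_sq (hE ▸ e.2)⟩
  have hle := card_mul_le S E hEp (hE ▸ D.EE_le_centralizer) hPQ (by
    rw [hP, hQ, hρ]
    exact sup_le (map_le_range _ _) (map_le_range _ _))
  have hle2 := card_mul_le_sup hdis
  -- numbers
  have n1 : (HH W y).relIndex (D.AA (HH W' y')) * (D.AA (HH W' y')).relIndex W = (HH W y).relIndex W :=
    relIndex_mul_relIndex _ _ _ (D.HH_le_AA _) (D.AA_le _)
  have n1' : (HH W' y').relIndex (D'.AA (HH W y)) * (D'.AA (HH W y)).relIndex W' = (HH W' y').relIndex W' :=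
    relIndex_mul_relIndex _ _ _ (D'.HH_le_AA _) (D'.AA_le _)
  have n2 : (D.AA (HH W' y')).relIndex W ≤ 2 := Nat.le_of_dvd (by norm_num) (D.relIndex_AA (hE ▸ hK'))
  have n2' : (D'.AA (HH W y)).relIndex W' ≤ 2 := Nat.le_of_dvd (by norm_num) (D'.relIndex_AA (hE' ▸ hK))
  have n3 : Nat.card (HH W y) * 2 = Nat.card E := by
    have h := card_mul_relIndex hHE
    rwa [hK] at h
  have n3' : Nat.card (HH W' y') * 2 = Nat.card E := by
    have h := card_mul_relIndex hHE'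
    rwa [hK'] at h
  have n4 : Nat.card W * 2 = Nat.card S := by
    have h := card_mul_relIndex D.hW
    rwa [D.hi] at h
  have n4' : Nat.card W' * 2 = Nat.card T' := by
    have h := card_mul_relIndex D'.hW
    rwa [D'.hi] at h
  have n5 : Nat.card (HH W y) * (HH W y).relIndex W = Nat.card W := card_mul_relIndex inf_le_left
  have n5' : Nat.card (HH W' y') * (HH W' y').relIndex W' = Nat.card W' := card_mul_relIndex inf_le_left
  have hb : 4 < (HH W y).relIndex W := D.hC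
  have hpos : 0 < Nat.card (HH W y) := Nat.card_pos
  have hHH : Nat.card (HH W' y') = Nat.card (HH W y) := by omega
  have hbb : (HH W' y').relIndex W' = (HH W y).relIndex W := by
    have hWW : Nat.card W' = Nat.card W := by omega
    rw [hHH, hWW, ← n5] at n5'
    exact Nat.eq_of_mul_eq_mul_left hpos n5'
  rw [hbb] at n1'
  rw [← hcP] at n1
  rw [← hcQ] at n1'
  obtain ⟨b, hbdef⟩ : ∃ b, b = (HH W y).relIndex W := ⟨_, rfl⟩
  rw [← hbdef] at n1 n1' hb n5
  have m1 : b ≤ Nat.card P * 2 := by rw [← n1]; exact Nat.mul_le_mul_left _ n2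
  have m2 : b ≤ Nat.card Q * 2 := by rw [← n1']; exact Nat.mul_le_mul_left _ n2'
  have m3 : Nat.card P * Nat.card Q ≤ b := by
    have h1 : Nat.card E * (Nat.card P * Nat.card Q) ≤ Nat.card E * b := by
      calc Nat.card E * (Nat.card P * Nat.card Q) ≤ Nat.card E * Nat.card ↥(P ⊔ Q) := Nat.mul_le_mul_left _ hle2
        _ ≤ Nat.card S := hle
        _ = Nat.card E * b := by rw [← n4, ← n5, ← n3]; ring
    exact Nat.le_of_mul_le_mul_left h1 Nat.card_pos
  have m4 : b * b ≤ 4 * b := by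
    calc b * b ≤ (Nat.card P * 2) * (Nat.card Q * 2) := Nat.mul_le_mul m1 m2
      _ = 4 * (Nat.card P * Nat.card Q) := by ring
      _ ≤ 4 * b := Nat.mul_le_mul_left _ m3
  have m5 : b ≤ 4 := Nat.le_of_mul_le_mul_right m4 (by omega)
  omega

end card

section conj

/-- conjugate of a subgroup -/
def cj (g : X) (A : Subgroup X) : Subgroup X := A.map (MulAut.conj g).toMonoidHom

theorem mem_cj {g x : X} {A : Subgroup X} : x ∈ cj g A ↔ g⁻¹ * x * g ∈ A := by
  constructor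
  · rintro ⟨a, ha, rfl⟩
    have h : g⁻¹ * (MulAut.conj g).toMonoidHom a * g = a := by
      change g⁻¹ * (g * a * g⁻¹) * g = a
      group
    rwa [h]
  · intro h
    refine ⟨_, h, ?_⟩
    change g * (g⁻¹ * x * g) * g⁻¹ = x
    group

theorem conj_mem_cj {g x : X} {A : Subgroup X} (h : x ∈ A) : g * x * g⁻¹ ∈ cj g A := ⟨x, h, rfl⟩

theorem card_cj (g : X) (A : Subgroup X) : Nat.card (cj g A) = Nat.card A :=
  Subgroup.card_map_of_injective (MulAut.conj g).injective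

theorem cj_mono {g : X} {A B : Subgroup X} (h : A ≤ B) : cj g A ≤ cj g B := map_mono h

theorem cj_inf_centralizer (g y : X) (A : Subgroup X) :
    cj g A ⊓ centralizer {g * y * g⁻¹} = cj g (A ⊓ centralizer {y}) := by
  ext x
  rw [mem_inf, mem_cj, mem_cj, mem_inf, mem_centralizer_singleton_iff, mem_centralizer_singleton_iff]
  have h : x * (g * y * g⁻¹) = g * y * g⁻¹ * x ↔ g⁻¹ * x * g * y = y * (g⁻¹ * x * g) := by
    constructor
    · intro h
      calc g⁻¹ * x * g * y = g⁻¹ * (x * (g * y * g⁻¹)) * g := by group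
        _ = g⁻¹ * (g * y * g⁻¹ * x) * g := by rw [h]
        _ = y * (g⁻¹ * x * g) := by group
    · intro h
      calc x * (g * y * g⁻¹) = g * (g⁻¹ * x * g * y) * g⁻¹ := by group
        _ = g * (y * (g⁻¹ * x * g)) * g⁻¹ := by rw [h]
        _ = g * y * g⁻¹ * x := by group
  rw [h]

theorem Dat.conj {T W : Subgroup X} {y : X} (D : Dat T W y) (g : X) :
    Dat (cj g T) (cj g W) (g * y * g⁻¹) where
  hW := cj_mono D.hW
  hi := by
    unfold cj
    rw [relIndex_map_map_of_injective _ _ (MulAut.conj g).injective]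
    exact D.hi
  he := by
    intro w hw
    have h1 := D.he _ (mem_cj.1 hw)
    have h2 : w * w = g * (g⁻¹ * w * g * (g⁻¹ * w * g)) * g⁻¹ := by group
    rw [h2, h1]
    group
  hy := conj_mem_cj D.hy
  hyW := by
    intro h
    apply D.hyW
    have h1 := mem_cj.1 h
    have h2 : g⁻¹ * (g * y * g⁻¹) * g = y := by group
    rwa [h2] at h1
  hyy := by
    have h2 : g * y * g⁻¹ * (g * y * g⁻¹) = g * (y * y) * g⁻¹ := by group
    rw [h2, D.hyy]
    group
  hC := by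
    rw [cj_inf_centralizer]
    unfold cj
    rw [relIndex_map_map_of_injective _ _ (MulAut.conj g).injective]
    exact D.hC

theorem mem_smul_sylow {p : ℕ} {S : Sylow p X} {k x : X} :
    x ∈ ((k • S : Sylow p X) : Subgroup X) ↔ k⁻¹ * x * k ∈ (S : Subgroup X) := by
  rw [Sylow.coe_subgroup_smul, Subgroup.mem_pointwise_smul_iff_inv_smul_mem]
  simp only [MulAut.smul_def, ← map_inv, MulAut.conj_apply, _root_.inv_inv]

end conj

namespace Dat

variable {T W : Subgroup X} {y : X} (D : Dat T W y)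

include D

/-- elements of `W` commuting with an element of `T - W` lie in `H` -/
theorem mem_HH_of_comm {f u : X} (hf : f ∈ T) (hfW : f ∉ W) (hu : u ∈ W) (huf : u * f = f * u) :
    u ∈ HH W y := by
  refine mem_HH.2 ⟨hu, ?_⟩
  have h1 := D.comm_W hu (D.ymem hf hfW)
  have h2 : u * y * f = y * u * f := by
    calc u * y * f = u * (y * f) := by group
      _ = y * f * u := h1
      _ = y * (f * u) := by group
      _ = y * (u * f) := by rw [huf]
      _ = y * u * f := by group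
  exact mul_right_cancel h2

theorem relIndex_le {A : Subgroup X} (hA : A ≤ T) : W.relIndex A ≤ 2 := by
  rw [← D.hi]
  exact relIndex_le_of_le_right hA (by rw [D.hi]; norm_num)

variable [Finite X]

theorem card_HH : 4 * Nat.card (HH W y) < Nat.card W := by
  have h1 : Nat.card (HH W y) * (HH W y).relIndex W = Nat.card W := card_mul_relIndex inf_le_left
  have h2 : 4 < (HH W y).relIndex W := D.hC
  have h3 : 0 < Nat.card (HH W y) := Nat.card_pos
  rw [← h1, mul_comm]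
  exact Nat.mul_lt_mul_of_pos_left h2 h3

theorem card_EE : Nat.card (EE T y) = 2 * Nat.card (HH W y) := by
  have h := card_mul_relIndex D.HH_le_EE
  rw [D.relIndex_HH_EE] at h
  omega

/-- `W` is the only abelian subgroup of index 2 -/
theorem eq_of_abelian {A : Subgroup X} (hAT : A ≤ T) (hc : Nat.card A = Nat.card W)
    (hab : ∀ a ∈ A, ∀ b ∈ A, a * b = b * a) : A = W := by
  by_cases hle : A ≤ W
  · exact Subgroup.eq_of_le_of_card_ge hle hc.ge
  · exfalso
    obtain ⟨a, ha, haW⟩ := SetLike.not_le_iff_exists.1 hle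
    have h1 : W ⊓ A ≤ HH W y := fun u hu =>
      D.mem_HH_of_comm (hAT ha) haW hu.1 (hab u hu.2 a ha)
    have h2 : Nat.card ↥(W ⊓ A) * (W ⊓ A).relIndex A = Nat.card A := card_mul_relIndex inf_le_right
    rw [inf_relIndex_right] at h2
    have h3 := D.relIndex_le hAT
    have h4 : Nat.card ↥(W ⊓ A) ≤ Nat.card (HH W y) := Nat.card_le_card_of_injective _ (inclusion_injective h1)
    have h5 := D.card_HH
    have h6 : Nat.card A ≤ Nat.card (HH W y) * 2 := by
      rw [← h2]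
      exact Nat.mul_le_mul h4 h3
    omega

/-- an elementary abelian subgroup of `T` of order `|E|` not contained in `W` is `E` -/
theorem eq_EE {F : Subgroup X} (hFT : F ≤ T) (hc : Nat.card F = Nat.card (EE T y))
    (hab : ∀ a ∈ F, ∀ b ∈ F, a * b = b * a) (hsq : ∀ a ∈ F, a * a = 1) (hle : ¬ F ≤ W) : F = EE T y := by
  obtain ⟨f, hf, hfW⟩ := SetLike.not_le_iff_exists.1 hle
  have h1 : W ⊓ F ≤ HH W y := fun u hu =>
    D.mem_HH_of_comm (hFT hf) hfW hu.1 (hab u hu.2 f hf)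
  -- `f ∈ E`
  have hfE : f ∈ EE T y := by
    refine mem_EE.2 ⟨hFT hf, ?_⟩
    have hu := D.ymem (hFT hf) hfW
    have h2 := D.he _ hu
    have h3 := hsq f hf
    -- y f y f = 1, f f = 1
    have h4 : y * f = (y * f)⁻¹ := (inv_eq_of_mul_eq_one_left h2).symm
    rw [mul_inv_rev, D.y_inv, inv_eq_of_mul_eq_one_left h3] at h4
    exact h4.symm
  have h5 : F ≤ EE T y := by
    intro x hx
    by_cases hxW : x ∈ W
    · exact D.HH_le_EE (h1 ⟨hxW, hx⟩)
    · have h6 : f * x ∈ W := by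
        rw [D.mul_mem_iff (hFT hf) (hFT hx)]
        exact ⟨fun h => absurd h hfW, fun h => absurd h hxW⟩
      have h7 := D.HH_le_EE (h1 ⟨h6, mul_mem hf hx⟩)
      have h8 := mul_mem (inv_mem hfE) h7
      rwa [inv_mul_cancel_left] at h8
  exact Subgroup.eq_of_le_of_card_ge h5 hc.ge

end Dat

/-- `C(E)` has no 2-subgroup of order `|W|` -/
theorem not_le_W [Finite X] (S : Sylow 2 X) {W : Subgroup X} {y : X} (D : Dat (S : Subgroup X) W y) {U : Subgroup X}
    (hU : IsPGroup 2 U) (hc : Nat.card U = Nat.card W) (hUC : U ≤ centralizer (EE (S : Subgroup X) y : Set X)) :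
    False := by
  obtain ⟨E, hE⟩ : ∃ E, E = EE (S : Subgroup X) y := ⟨_, rfl⟩
  rw [← hE] at hUC
  have hr : Nat.card (((S : Subgroup X).subgroupOf (normalizer (E : Set X))).map E.normalizerMonoidHom) =
      E.relIndex (S : Subgroup X) := by
    rw [← relIndex_ker, normalizerMonoidHom_ker, relIndex_subgroupOf (by rw [hE]; exact D.T_le_normalizer),
      ← inf_relIndex_right, hE, D.centralizer_inf_T]
  have hP : IsPGroup 2 (((S : Subgroup X).subgroupOf (normalizer (E : Set X))).map E.normalizerMonoidHom) := by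
    refine IsPGroup.map ?_ _
    exact S.2.comap_of_injective _ (Subgroup.subtype_injective _)
  have h1 := card_mul_le S E hU hUC hP (map_le_range _ _)
  rw [hr, hc] at h1
  have h2 : Nat.card E * E.relIndex (S : Subgroup X) = Nat.card S := by
    refine card_mul_relIndex ?_
    rw [hE]
    exact inf_le_left
  rw [← h2] at h1
  have h3 : 0 < E.relIndex (S : Subgroup X) := Nat.pos_of_ne_zero (fun h => by
    rw [h, mul_zero] at h2
    exact (Nat.card_pos (α := S)).ne h2)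
  have h4 := Nat.le_of_mul_le_mul_right h1 h3
  have h5 := D.card_HH
  have h6 := D.card_EE
  rw [← hE] at h6
  omega

/-- **LEMMA TV.** -/
theorem main [Finite X] (S : Sylow 2 X) {W : Subgroup X} {y : X} (D : Dat (S : Subgroup X) W y) (g : X) :
    g * y * g⁻¹ ∉ W := by
  intro hw
  have hWp : IsPGroup 2 W := fun w => ⟨1, by
    apply Subtype.ext
    rw [pow_one, pow_two]
    exact D.he _ w.2⟩
  have hEp : IsPGroup 2 (EE (S : Subgroup X) y) := fun e => ⟨1, by
    apply Subtype.ext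
    rw [pow_one, pow_two]
    exact D.EE_sq e.2⟩
  -- reduction to `E^g ≤ S`
  obtain ⟨g', hg1, hg2⟩ : ∃ g' : X, g' * y * g'⁻¹ ∈ W ∧ cj g' (EE (S : Subgroup X) y) ≤ S := by
    obtain ⟨w, hwd⟩ : ∃ w, w = g * y * g⁻¹ := ⟨_, rfl⟩
    rw [← hwd] at hw
    have hWC : W ≤ centralizer {w} := fun v hv => mem_centralizer_singleton_iff.2 (D.comm_W hv hw)
    obtain ⟨R, hR⟩ := (hWp.comap_of_injective (centralizer {w}).subtype
      (Subgroup.subtype_injective _)).exists_le_sylow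
    obtain ⟨S', hS'⟩ := (R.2.map (centralizer {w}).subtype).exists_le_sylow
    obtain ⟨k, hk⟩ := MulAction.exists_smul_eq X S S'
    have hWR : W ≤ S' := fun v hv => hS' ⟨⟨v, hWC hv⟩, hR hv, rfl⟩
    have hkW : cj k⁻¹ W = W := by
      refine D.eq_of_abelian ?_ (card_cj _ _) ?_
      · intro x hx
        have h1 := hWR (mem_cj.1 hx)
        rw [← hk, mem_smul_sylow] at h1
        have h2 : k⁻¹ * (k⁻¹⁻¹ * x * k⁻¹) * k = x := by group
        rwa [h2] at h1
      · rintro _ ⟨a, ha, rfl⟩ _ ⟨b, hb, rfl⟩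
        rw [← map_mul, ← map_mul, D.comm_W ha hb]
    have hFC : cj g (EE (S : Subgroup X) y) ≤ centralizer {w} := by
      rintro _ ⟨e, he, rfl⟩
      rw [mem_centralizer_singleton_iff, hwd]
      change g * e * g⁻¹ * (g * y * g⁻¹) = g * y * g⁻¹ * (g * e * g⁻¹)
      have h1 := (mem_EE.1 he).2
      calc g * e * g⁻¹ * (g * y * g⁻¹) = g * (e * y) * g⁻¹ := by group
        _ = g * (y * e) * g⁻¹ := by rw [h1]
        _ = _ := by group
    obtain ⟨R2, hR2⟩ := ((hEp.map (MulAut.conj g).toMonoidHom).comap_of_injective (centralizer {w}).subtype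
      (Subgroup.subtype_injective _)).exists_le_sylow
    obtain ⟨c, hc⟩ := MulAction.exists_smul_eq ↥(centralizer {w}) R2 R
    refine ⟨k⁻¹ * c * g, ?_, ?_⟩
    · have h1 : k⁻¹ * c * g * y * (k⁻¹ * c * g)⁻¹ = k⁻¹ * (c * w * (c : X)⁻¹) * k⁻¹⁻¹ := by
        calc k⁻¹ * c * g * y * (k⁻¹ * c * g)⁻¹ = k⁻¹ * (c * (g * y * g⁻¹) * (c : X)⁻¹) * k⁻¹⁻¹ := by group
          _ = _ := by rw [← hwd]
      have h2 : (c : X) * w * (c : X)⁻¹ = w := by
        rw [mem_centralizer_singleton_iff.1 c.2, mul_inv_cancel_right]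
      rw [h1, h2]
      have h3 : k⁻¹ * w * k⁻¹⁻¹ ∈ cj k⁻¹ W := conj_mem_cj hw
      rwa [hkW] at h3
    · rintro _ ⟨e, he, rfl⟩
      have h1 : (⟨g * e * g⁻¹, hFC (conj_mem_cj he)⟩ : ↥(centralizer {w})) ∈ (R2 : Subgroup ↥(centralizer {w})) :=
        hR2 (conj_mem_cj he)
      have h2 : c * ⟨g * e * g⁻¹, hFC (conj_mem_cj he)⟩ * c⁻¹ ∈ (R : Subgroup ↥(centralizer {w})) := by
        rw [← hc, mem_smul_sylow]
        have h3 : c⁻¹ * (c * ⟨g * e * g⁻¹, hFC (conj_mem_cj he)⟩ * c⁻¹) * c =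
            ⟨g * e * g⁻¹, hFC (conj_mem_cj he)⟩ := by group
        rwa [h3]
      have h3 := hS' ⟨_, h2, rfl⟩
      rw [← hk, mem_smul_sylow] at h3
      have h4 : k⁻¹ * (centralizer {w}).subtype (c * ⟨g * e * g⁻¹, hFC (conj_mem_cj he)⟩ * c⁻¹) * k =
          (MulAut.conj (k⁻¹ * c * g)).toMonoidHom e := by
        change k⁻¹ * ((c : X) * (g * e * g⁻¹) * (c : X)⁻¹) * k = k⁻¹ * c * g * e * (k⁻¹ * c * g)⁻¹
        group
      rwa [h4] at h3
  -- (i)
  have hne : ¬ cj g' (EE (S : Subgroup X) y) ≤ W := by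
    intro h
    refine not_le_W S D (U := cj g'⁻¹ W) (hWp.map _) (card_cj _ _) ?_
    rintro _ ⟨v, hv, rfl⟩
    rw [mem_centralizer_iff]
    intro e he
    have h1 := D.comm_W hv (h (conj_mem_cj he))
    change e * (g'⁻¹ * v * g'⁻¹⁻¹) = g'⁻¹ * v * g'⁻¹⁻¹ * e
    calc e * (g'⁻¹ * v * g'⁻¹⁻¹) = g'⁻¹ * ((g' * e * g'⁻¹) * v) * g' := by group
      _ = g'⁻¹ * (v * (g' * e * g'⁻¹)) * g' := by rw [h1]
      _ = _ := by group
  -- (ii)
  have hEq : cj g' (EE (S : Subgroup X) y) = EE (S : Subgroup X) y := by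
    refine D.eq_EE hg2 (card_cj _ _) ?_ ?_ hne
    · rintro _ ⟨a, ha, rfl⟩ _ ⟨b, hb, rfl⟩
      rw [← map_mul, ← map_mul, D.EE_comm ha hb]
    · rintro _ ⟨a, ha, rfl⟩
      rw [← map_mul, D.EE_sq ha, map_one]
  -- (iii)
  refine two_axes S D (D.conj g') (card_cj _ _) _ rfl ?_ ?_
  · unfold EE
    rw [cj_inf_centralizer]
    exact hEq
  · intro h
    have h1 : g' * y * g'⁻¹ ∈ HH W y := by
      refine mem_HH.2 ⟨hg1, ?_⟩
      have h2 : g' * y * g'⁻¹ ∈ cj g' (EE (S : Subgroup X) y) := conj_mem_cj D.y_mem_EE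
      rw [hEq] at h2
      exact (mem_EE.1 h2).2
    rw [h] at h1
    exact (D.conj g').hyW (mem_HH.1 h1).1

end Cfsg.Agent.OddHalf.D4.Sz.TV

open Cfsg.Agent.OddHalf.D4.Sz.TV in
/-- **LEMMA TV**, literal form. -/
theorem Cfsg.Agent.OddHalf.D4.Sz.TV.tv {X : Type*} [Group X] [Finite X] (S : Sylow 2 X) (W : Subgroup X)
    (hW : W ≤ S) (hi : W.relIndex S = 2) (he : ∀ w ∈ W, w * w = 1) (y : X) (hy : y ∈ S) (hyW : y ∉ W)
    (hyy : y * y = 1) (hC : 4 < (W ⊓ centralizer {y}).relIndex W) (g : X) : g * y * g⁻¹ ∉ W :=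
  main S ⟨hW, hi, he, hy, hyW, hyy, hC⟩ g

end

-- merged: Cfsg.Agent.OddHalf.D4.Sz.SwapD
section

/-!
# ODD, D4, `K = Sz(q)`, `q ≥ 32`: the configuration `Pre` + `Glob` is contradictory

Extremal transfer at the involution `y₀` commuting with `{p a b}`, and LEMMA TV in `N(Z) / Z`.
-/

set_option autoImplicit false
set_option linter.unusedSectionVars false

namespace Cfsg.Agent.OddHalf.D4.Sz

open Subgroup Cfsg.Agent.StdSz.EquivMaps Cfsg.Agent.StdSz.SzMaps

/-- LEMMA TV in `N(Z) / Z` -/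
theorem quot_tv {G : Type*} [Group G] [Finite G] (S : Sylow 2 G) {Z W : Subgroup G} (hZW : Z ≤ W)
    (hWS : W ≤ (S : Subgroup G)) (hSZ : (S : Subgroup G) ≤ normalizer (Z : Set G))
    (hi : W.relIndex (S : Subgroup G) = 2)
    (he : ∀ w ∈ W, w * w ∈ Z) {y : G} (hy : y ∈ (S : Subgroup G)) (hyW : y ∉ W) (hyy : y * y = 1)
    {ι : Type*} [Finite ι] (hι : 4 < Nat.card ι) (ee : ι → G) (hee : ∀ i, ee i ∈ W)
    (hinj : ∀ i j, ((ee i)⁻¹ * ee j) * y * ((ee i)⁻¹ * ee j)⁻¹ * y⁻¹ ∈ Z → i = j)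
    {g : G} (hgZ : g ∈ normalizer (Z : Set G)) : g * y * g⁻¹ ∉ W := by
  intro hg
  have h2 : Fact (Nat.Prime 2) := ⟨Nat.prime_two⟩
  set N : Subgroup G := normalizer (Z : Set G) with hN
  set Zn : Subgroup N := Z.subgroupOf N with hZn
  have hnorm : Zn.Normal := normal_in_normalizer
  set π : N →* N ⧸ Zn := QuotientGroup.mk' Zn with hπ
  have hπs : Function.Surjective π := QuotientGroup.mk'_surjective Zn
  have hker : π.ker = Zn := QuotientGroup.ker_mk' Zn
  have hπ1 : ∀ x : N, π x = 1 ↔ (x : G) ∈ Z := by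
    intro x
    rw [← MonoidHom.mem_ker, hker, hZn, mem_subgroupOf]
  have hWN : W ≤ N := hWS.trans hSZ
  set S' : Sylow 2 (N ⧸ Zn) := (S.subtype hSZ).mapSurjective hπs with hS'
  have hS'c : (S' : Subgroup (N ⧸ Zn)) = ((S : Subgroup G).subgroupOf N).map π := rfl
  set W' : Subgroup (N ⧸ Zn) := (W.subgroupOf N).map π with hW'
  have hW'S : W' ≤ (S' : Subgroup (N ⧸ Zn)) := by
    rw [hS'c]
    exact map_mono fun x hx => hWS hx
  have hi' : W'.relIndex (S' : Subgroup (N ⧸ Zn)) = 2 := by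
    rw [hS'c, hW', relIndex_map_map, hker]
    have e1 : W.subgroupOf N ⊔ Zn = W.subgroupOf N := sup_eq_left.mpr fun x hx => hZW hx
    have e2 : (S : Subgroup G).subgroupOf N ⊔ Zn = (S : Subgroup G).subgroupOf N :=
      sup_eq_left.mpr fun x hx => hWS (hZW hx)
    rw [e1, e2, relIndex_subgroupOf hSZ, hi]
  have hmemW : ∀ x : N, π x ∈ W' ↔ (x : G) ∈ W := by
    intro x
    constructor
    · rintro ⟨w, hw, hwx⟩
      have h3 : π (w⁻¹ * x) = 1 := by rw [map_mul, map_inv, hwx, inv_mul_cancel]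
      rw [hπ1] at h3
      have h4 := W.mul_mem (show (w : G) ∈ W from hw) (hZW h3)
      have e : (w : G) * ((w⁻¹ * x : N) : G) = x := by simp only [_root_.Subgroup.coe_mul, _root_.InvMemClass.coe_inv, _root_.mul_inv_cancel_left]
      rwa [e] at h4
    · intro hx
      exact ⟨x, hx, rfl⟩
  have he' : ∀ w ∈ W', w * w = 1 := by
    rintro _ ⟨w, hw, rfl⟩
    rw [← map_mul, hπ1]
    exact he _ hw
  set y' : N ⧸ Zn := π ⟨y, hSZ hy⟩ with hy'
  have hyS' : y' ∈ (S' : Subgroup (N ⧸ Zn)) := by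
    rw [hS'c]
    exact ⟨⟨y, hSZ hy⟩, hy, rfl⟩
  have hyW' : y' ∉ W' := fun h => hyW ((hmemW _).mp h)
  have hyy' : y' * y' = 1 := by
    rw [hy', ← map_mul, hπ1]
    show y * y ∈ Z
    rw [hyy]; exact one_mem _
  have hC : 4 < (W' ⊓ centralizer {y'}).relIndex W' := by
    refine lt_of_lt_of_le hι ?_
    set C : Subgroup W' := (W' ⊓ centralizer {y'}).subgroupOf W' with hCd
    have e : (W' ⊓ centralizer {y'}).relIndex W' = Nat.card (W' ⧸ C) := rfl
    rw [e]
    let φ : ι → W' ⧸ C := fun i => QuotientGroup.mk (⟨π ⟨ee i, hWN (hee i)⟩, (hmemW _).mpr (hee i)⟩ : W')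
    apply Nat.card_le_card_of_injective φ
    intro i j hij
    apply hinj
    have h3 := QuotientGroup.eq.mp hij
    rw [hCd, mem_subgroupOf, mem_inf, mem_centralizer_singleton_iff] at h3
    have h4 := h3.2
    have h5 : π (⟨ee i, hWN (hee i)⟩⁻¹ * ⟨ee j, hWN (hee j)⟩ * ⟨y, hSZ hy⟩ *
        (⟨ee i, hWN (hee i)⟩⁻¹ * ⟨ee j, hWN (hee j)⟩)⁻¹ * ⟨y, hSZ hy⟩⁻¹) = 1 := by
      rw [map_mul, map_mul, map_mul, map_inv, map_inv, map_mul, map_inv]
      have h6 : (π ⟨ee i, hWN (hee i)⟩)⁻¹ * π ⟨ee j, hWN (hee j)⟩ * π ⟨y, hSZ hy⟩ =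
        π ⟨y, hSZ hy⟩ * ((π ⟨ee i, hWN (hee i)⟩)⁻¹ * π ⟨ee j, hWN (hee j)⟩) := h4
      rw [h6]
      group
    rw [hπ1] at h5
    exact h5
  refine TV.tv S' W' hW'S hi' he' y' hyS' hyW' hyy' hC (π ⟨g, hgZ⟩) ?_
  have e : π ⟨g, hgZ⟩ * y' * (π ⟨g, hgZ⟩)⁻¹ = π (⟨g, hgZ⟩ * ⟨y, hSZ hy⟩ * ⟨g, hgZ⟩⁻¹) := by
    rw [map_mul, map_mul, map_inv]
  rw [e, hmemW]
  exact hg

namespace Pre

variable {G : Type*} [Group G] [Finite G] {F : Type*} [Field F] [Fintype F] [CharP F 2] {m : ℕ} {P : Pre G F m}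

theorem Tor.e_ne {S : Sylow 2 G} {κ : G} {l e : F} (K : Tor P S κ l e) : e ≠ 1 := by
  intro h
  apply K.l_one
  apply Cfsg.Agent.StdSz.FormAlg.norm_inj P.hF
  rw [← K.ee, h, one_pow, mul_one]

theorem Tor.nu_ne {S : Sylow 2 G} {κ : G} {l e : F} (K : Tor P S κ l e) : l ^ (1 + 2 ^ (m + 1)) ≠ 1 := by
  intro h
  apply K.l_one
  apply Cfsg.Agent.StdSz.FormAlg.norm_inj P.hF
  rw [h, one_pow]

theorem fix_zero {e x : F} (he : e ≠ 1) (h : e * x = x) : x = 0 := by
  have h1 : (e - 1) * x = 0 := by linear_combination h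
  exact (mul_eq_zero.mp h1).resolve_left (sub_ne_zero.mpr he)

/-- `C_T(κ) = 1` -/
theorem Tor.fix {S : Sylow 2 G} {κ : G} {l e : F} (K : Tor P S κ l e) {x : G} (hx : x ∈ P.T)
    (h : κ * x * κ⁻¹ = x) : x = 1 := by
  have h1 := K.f x hx
  have h2 := K.a x hx
  have h3 := K.c x hx
  rw [h] at h1 h2 h3
  obtain ⟨b, rfl⟩ := P.eq_z_of hx (fix_zero K.e_ne h1.symm) (fix_zero K.l_one h2.symm) (fix_zero K.e_ne h3.symm)
  rw [K.z] at h
  rw [fix_zero K.nu_ne (P.z_inj h), P.p_zero]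

/-- the involution `y₀` commuting with `κ` -/
theorem Full.exists_y0 {S : Sylow 2 G} {y : G} {g k : F} (Fu : Full P S y g k) {κ : G} {l e : F}
    (K : Tor P S κ l e) : ∃ y₀, Full P S y₀ g k ∧ κ * y₀ * κ⁻¹ = y₀ ∧ y₀ * y₀ = 1 := by
  have ht := Fu.conj_y K.nS K.nT
  have hmem : ∀ w : P.T, κ * (w : G)⁻¹ * κ⁻¹ * w ∈ P.T := fun w => mul_mem (P.conj_T K.nT (inv_mem w.2)) w.2
  let φ : P.T → P.T := fun w => ⟨κ * (w : G)⁻¹ * κ⁻¹ * w, hmem w⟩
  have hinj : Function.Injective φ := by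
    intro w v hwv
    have h1 : κ * (w : G)⁻¹ * κ⁻¹ * w = κ * (v : G)⁻¹ * κ⁻¹ * v := congrArg Subtype.val hwv
    have h2 : κ * ((v : G) * (w : G)⁻¹) * κ⁻¹ = v * (w : G)⁻¹ := by
      calc κ * ((v : G) * (w : G)⁻¹) * κ⁻¹ = (κ * (v : G)⁻¹ * κ⁻¹)⁻¹ * (κ * (w : G)⁻¹ * κ⁻¹ * w) * (w : G)⁻¹ := by group
        _ = (κ * (v : G)⁻¹ * κ⁻¹)⁻¹ * (κ * (v : G)⁻¹ * κ⁻¹ * v) * (w : G)⁻¹ := by rw [h1]
        _ = _ := by group
    have h3 := K.fix (mul_mem v.2 (inv_mem w.2)) h2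
    exact Subtype.ext (mul_inv_eq_one.mp h3).symm
  obtain ⟨w, hw⟩ := (Finite.injective_iff_surjective.mp hinj) ⟨_, ht⟩
  have hw' : κ * (w : G)⁻¹ * κ⁻¹ * w = κ * y * κ⁻¹ * y⁻¹ := congrArg Subtype.val hw
  have Y' := Fu.ys.mul_left w.2
  have hcom : κ * (w * y) * κ⁻¹ = w * y := by
    calc κ * (w * y) * κ⁻¹ = (κ * w * κ⁻¹) * (κ * y * κ⁻¹ * y⁻¹) * y := by group
      _ = (κ * w * κ⁻¹) * (κ * (w : G)⁻¹ * κ⁻¹ * w) * y := by rw [hw']
      _ = _ := by group
  refine ⟨w * y, ⟨Fu.TS, mul_mem (Fu.TS w.2) Fu.yS, Y', fun x hx => ?_⟩, hcom, ?_⟩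
  · rcases Fu.cov x hx with h | h
    · exact Or.inl h
    · right
      have e : x * ((w : G) * y)⁻¹ = x * y⁻¹ * (w : G)⁻¹ := by group
      rw [e]
      exact mul_mem h (inv_mem w.2)
  · apply K.fix Y'.sq
    calc κ * (w * y * (w * y)) * κ⁻¹ = (κ * (w * y) * κ⁻¹) * (κ * (w * y) * κ⁻¹) := by group
      _ = _ := by rw [hcom]

/-- `y₀` commutes with `{p a b}` -/
theorem Full.comm_p {S : Sylow 2 G} {y : G} {g k : F} (Fu : Full P S y g k) {κ : G} {l e : F}
    (K : Tor P S κ l e) (hy : κ * y * κ⁻¹ = y) (a b : F) : y * P.p a b = P.p a b * y := by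
  -- `ζ`
  have h1 : ∀ a, ∃ z, y * P.p a 0 * y⁻¹ = P.p a z := by
    intro a
    have h2 := P.conj_T Fu.ys.nT (P.T_p a 0)
    obtain ⟨z, hz⟩ := P.exists_z_mul h2 (P.T_p a 0)
      (by rw [Fu.ys.f _ (P.T_p a 0), P.act_p, P.fC_p, mul_zero])
      (by rw [Fu.ys.a _ (P.T_p a 0)])
      (by rw [Fu.ys.c _ (P.T_p a 0), P.act_p, P.fC_p, mul_zero])
    exact ⟨z, by rw [hz, P.z_mul_p, add_zero]⟩
  choose ζ hζ using h1
  -- `δ`
  have h2 : ∀ a, ∃ z, κ * P.p a 0 * κ⁻¹ = P.p (l * a) z := by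
    intro a
    have h2 := P.conj_T K.nT (P.T_p a 0)
    obtain ⟨z, hz⟩ := P.exists_z_mul h2 (P.T_p (l * a) 0)
      (by rw [K.f _ (P.T_p a 0), P.fC_p, P.fC_p, mul_zero])
      (by rw [K.a _ (P.T_p a 0), P.aC_p, P.aC_p])
      (by rw [K.c _ (P.T_p a 0), P.act_p, P.act_p, mul_zero])
    exact ⟨z, by rw [hz, P.z_mul_p, add_zero]⟩
  choose δ hδ using h2
  have hζ' : ∀ a b, y * P.p a b * y⁻¹ = P.p a (b + ζ a) := by
    intro a b
    have e1 : P.p a b = P.p 0 b * P.p a 0 := by rw [P.z_mul_p, add_zero]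
    have e2 : y * P.p a b * y⁻¹ = (y * P.p 0 b * y⁻¹) * (y * P.p a 0 * y⁻¹) := by rw [e1]; group
    rw [e2, Fu.ys.z, hζ, P.z_mul_p]
  have hadd : ∀ a a', ζ (a + a') = ζ a + ζ a' := by
    intro a a'
    have e1 : P.p a 0 * P.p a' 0 = P.p (a + a') (a ^ (2 ^ (m + 1)) * a') := by
      rw [P.p_mul, add_zero, zero_add]
    have e2 : y * (P.p a 0 * P.p a' 0) * y⁻¹ = (y * P.p a 0 * y⁻¹) * (y * P.p a' 0 * y⁻¹) := by group
    rw [e1, hζ', hζ, hζ, P.p_mul] at e2
    have e3 := (P.p_inj _ _ _ _ e2).2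
    linear_combination e3
  have heq : ∀ a, ζ (l * a) = l ^ (1 + 2 ^ (m + 1)) * ζ a := by
    intro a
    have e1 : κ * (y * P.p a 0 * y⁻¹) * κ⁻¹ = y * (κ * P.p a 0 * κ⁻¹) * y⁻¹ := by
      calc κ * (y * P.p a 0 * y⁻¹) * κ⁻¹ = (κ * y * κ⁻¹) * (κ * P.p a 0 * κ⁻¹) * (κ * y * κ⁻¹)⁻¹ := by group
        _ = _ := by rw [hy]
    have e2 : P.p a (ζ a) = P.p 0 (ζ a) * P.p a 0 := by rw [P.z_mul_p, add_zero]
    have e3 : κ * (P.p 0 (ζ a) * P.p a 0) * κ⁻¹ = (κ * P.p 0 (ζ a) * κ⁻¹) * (κ * P.p a 0 * κ⁻¹) := by group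
    rw [hζ, hδ, hζ', e2, e3, K.z, hδ, P.z_mul_p] at e1
    have e4 := (P.p_inj _ _ _ _ e1).2
    linear_combination -e4
  have hpow : ∀ n : ℕ, ∀ a, ζ (l ^ n * a) = (l ^ n) ^ (1 + 2 ^ (m + 1)) * ζ a := by
    intro n
    induction n with
    | zero => intro a; rw [pow_zero, one_mul, one_pow, one_mul]
    | succ n ih =>
      intro a
      have e1 : l ^ (n + 1) * a = l ^ n * (l * a) := by ring
      rw [e1, ih, heq]
      ring
  have hz : ∀ a, ζ a = 0 := by
    intro a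
    refine Weights.map_12 (m := m) (by have := P.hm; omega) P.hF ζ hadd (fun c x hc => ?_) a
    obtain ⟨n, rfl⟩ := K.gen c hc
    exact hpow n x
  have h3 := hζ' a b
  rw [hz, add_zero] at h3
  calc y * P.p a b = (y * P.p a b * y⁻¹) * y := by group
    _ = _ := by rw [h3]

/-- the set containing the commutators of `S` -/
def InD (P : Pre G F m) (g : F) (x : G) : Prop := x ∈ P.T ∧ P.aC x = 0 ∧ P.act x = g * P.fC x

theorem Full.comm_D {S : Sylow 2 G} {y : G} {g k : F} (Fu : Full P S y g k) {a b : G}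
    (ha : a ∈ (S : Subgroup G)) (hb : b ∈ (S : Subgroup G)) : InD P g (a * b * a⁻¹ * b⁻¹) := by
  -- `a ∈ T`, `b ∉ T`
  have key : ∀ a ∈ P.T, ∀ b, b * y⁻¹ ∈ P.T → InD P g (a * b * a⁻¹ * b⁻¹) := by
    intro a ha b hb
    have Y' := Fu.ys.mul_right hb
    have h1 := P.conj_T Y'.nT (inv_mem ha)
    have e : a * b * a⁻¹ * b⁻¹ = a * (b * a⁻¹ * b⁻¹) := by group
    rw [e]
    refine ⟨mul_mem ha h1, ?_, ?_⟩
    · rw [P.aC_mul ha h1, Y'.a _ (inv_mem ha), P.aC_inv ha, CharTwo.add_self_eq_zero]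
    · rw [P.act_mul ha h1, P.fC_mul ha h1, Y'.c _ (inv_mem ha), Y'.f _ (inv_mem ha), P.act_inv ha, P.fC_inv ha]
      linear_combination -P.act a * Y'.gk
  have key2 : ∀ a ∈ P.T, ∀ b, b * y⁻¹ ∈ P.T → InD P g (b * a * b⁻¹ * a⁻¹) := by
    intro a ha b hb
    have Y' := Fu.ys.mul_right hb
    have h1 := P.conj_T Y'.nT ha
    refine ⟨mul_mem h1 (inv_mem ha), ?_, ?_⟩
    · rw [P.aC_mul h1 (inv_mem ha), Y'.a _ ha, P.aC_inv ha, CharTwo.add_self_eq_zero]
    · rw [P.act_mul h1 (inv_mem ha), P.fC_mul h1 (inv_mem ha), Y'.c _ ha, Y'.f _ ha, P.act_inv ha, P.fC_inv ha]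
      linear_combination -P.act a * Y'.gk
  rcases Fu.cov a ha with h1 | h1
  · rcases Fu.cov b hb with h2 | h2
    · obtain ⟨c, hc⟩ := P.exists_comm h1 h2
      have e : a * b * a⁻¹ * b⁻¹ = P.p 0 c := by rw [hc]; group
      rw [e]
      exact ⟨P.T_p _ _, P.aC_p _ _, by rw [P.act_p, P.fC_p, mul_zero]⟩
    · exact key a h1 b h2
  · rcases Fu.cov b hb with h2 | h2
    · exact key2 b h2 a h1
    · have h3 : b * a⁻¹ ∈ P.T := by
        have := mul_mem h2 (inv_mem h1)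
        have e : b * y⁻¹ * (a * y⁻¹)⁻¹ = b * a⁻¹ := by group
        rwa [e] at this
      have h4 := key2 _ h3 a h1
      have e : a * (b * a⁻¹) * a⁻¹ * (b * a⁻¹)⁻¹ = a * b * a⁻¹ * b⁻¹ := by group
      rwa [e] at h4

theorem InD.eq_z (Si : Simp P) {g : F} (hg : g ≠ 0) {x : G} (h : InD P g x) (hx : x * x = 1) : ∃ b, x = P.p 0 b := by
  obtain ⟨h1, h2, h3⟩ := h
  have h4 : P.sq x = 0 := P.sq_eq h1 (by rw [hx, P.p_zero])
  rw [Si.sq h1, h2, h3, zero_pow (by omega), zero_add] at h4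
  have h5 : g * (P.fC x * P.fC x) = 0 := by rw [← h4]; ring
  have h6 : P.fC x = 0 := by
    rcases mul_eq_zero.mp h5 with h | h
    · exact absurd h hg
    · exact mul_self_eq_zero.mp h
  exact P.eq_z_of h1 h6 h2 (by rw [h3, h6, mul_zero])

variable (P) in
/-- the group `Z` -/
def ZZ : Subgroup G where
  carrier := {x | ∃ b, x = P.p 0 b}
  one_mem' := ⟨0, P.p_zero.symm⟩
  mul_mem' := by
    rintro _ _ ⟨b, rfl⟩ ⟨c, rfl⟩
    exact ⟨b + c, P.z_mul b c⟩
  inv_mem' := by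
    rintro _ ⟨b, rfl⟩
    exact ⟨b, P.z_inv b⟩

include P in
/-- the values of the form `bt` are all of `F` -/
theorem bt_surj (c : F) : ∃ a b : F, a * b ^ (2 ^ (m + 1)) + a ^ (2 ^ (m + 1)) * b = c := by
  by_cases hc : c = 0
  · exact ⟨0, 0, by rw [hc, zero_mul, mul_zero, zero_add]⟩
  obtain ⟨t, ht0, ht1⟩ := P.exists_ne_one
  have hv : t ^ (2 ^ (m + 1)) + t ≠ 0 := by
    intro h
    have h1 := eq_neg_of_add_eq_zero_left h
    rw [CharTwo.neg_eq] at h1
    rcases Cfsg.Agent.StdSz.FormAlg.eq_of_th_eq P.hF h1 with h2 | h2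
    · exact ht0 h2
    · exact ht1 h2
  obtain ⟨u, hu⟩ := P.scal (l := c / (t ^ (2 ^ (m + 1)) + t)) (div_ne_zero hc hv)
  refine ⟨u, u * t, ?_⟩
  have h1 : (u : F) ^ (1 + 2 ^ (m + 1)) * (t ^ (2 ^ (m + 1)) + t) = c := by
    rw [hu, div_mul_cancel₀ _ hv]
  rw [← h1]
  ring

/-- **the configuration is contradictory** -/
theorem false (P : Pre G F m) (Gl : P.Glob) : False := by
  have h2 : Fact (Nat.Prime 2) := ⟨Nat.prime_two⟩
  obtain ⟨S, y', g, k, Fu'⟩ := Gl.exists_Full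
  have Si : Simp P := by
    apply Gl.simp (u := y')
    refine ⟨Fu'.ys.nT, fun h => ?_⟩
    have h3 := Gl.norm y' Fu'.ys.nT h (by
      obtain ⟨k, hk⟩ := S.2 ⟨y', Fu'.yS⟩
      exact ⟨k, by simpa only [_root_.SubmonoidClass.mk_pow, _root_.OneMemClass.coe_one] using congrArg Subtype.val hk⟩)
    exact Fu'.ys.notMem h3
  obtain ⟨κ, l, e, K⟩ := Gl.exists_Tor Si Fu'
  obtain ⟨y, Fu, hyκ, hyy⟩ := Fu'.exists_y0 K
  have hyp := Fu.comm_p K hyκ
  have hi : P.T.relIndex (S : Subgroup G) = 2 := by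
    rw [relIndex_eq_two_iff_exists_notMem_and]
    refine ⟨y, Fu.yS, Fu.ys.notMem, fun b hb => ?_⟩
    rcases Fu.cov b hb with h | h
    · exact Or.inr h
    · left
      have hy1 : y⁻¹ = y := inv_eq_of_mul_eq_one_left hyy
      rwa [hy1] at h
  -- extremal transfer
  obtain ⟨g₀, hg1, hg2⟩ := Wreath.exists_extremal Gl.noIdx S Fu.TS hi hyy (T := (S : Subgroup G) ⊓ centralizer {y})
    (S.2.to_le inf_le_left) (fun t ht => mem_centralizer_singleton_iff.1 ht.2)
    ⟨Fu.yS, mem_centralizer_singleton_iff.2 rfl⟩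
  -- `g₀` normalizes `Z`
  have hp : ∀ a b, g₀⁻¹ * P.p a b * g₀ ∈ (S : Subgroup G) := fun a b =>
    hg1 _ ⟨Fu.TS (P.T_p a b), mem_centralizer_singleton_iff.2 (hyp a b).symm⟩
  have hZ : g₀⁻¹ ∈ normalizer (P.ZZ : Set G) := by
    apply mem_normalizer_fintype
    rintro _ ⟨c, rfl⟩
    rw [inv_inv]
    obtain ⟨a, b, hab⟩ := P.bt_surj c
    have h3 : P.p 0 c = P.p a 0 * P.p b 0 * (P.p a 0)⁻¹ * (P.p b 0)⁻¹ := by
      have h4 := P.cm_spec (P.T_p a 0) (P.T_p b 0)
      have h5 : P.cm (P.p a 0) (P.p b 0) = c := by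
        rw [Si.cm (P.T_p a 0) (P.T_p b 0), P.aC_p, P.aC_p, P.act_p, P.act_p, zero_mul, zero_mul, add_zero,
          add_zero, hab]
      rw [h4, h5]; group
    have h4 := Fu.comm_D (hp a 0) (hp b 0)
    have e : g₀⁻¹ * P.p a 0 * g₀ * (g₀⁻¹ * P.p b 0 * g₀) * (g₀⁻¹ * P.p a 0 * g₀)⁻¹ * (g₀⁻¹ * P.p b 0 * g₀)⁻¹ =
        g₀⁻¹ * P.p 0 c * g₀ := by rw [h3]; group
    rw [e] at h4
    refine h4.eq_z Si Fu.ys.g_ne ?_
    calc g₀⁻¹ * P.p 0 c * g₀ * (g₀⁻¹ * P.p 0 c * g₀) = g₀⁻¹ * (P.p 0 c * P.p 0 c) * g₀ := by group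
      _ = 1 := by rw [P.z_self]; group
  -- TV
  have hSZ : (S : Subgroup G) ≤ normalizer (P.ZZ : Set G) := by
    intro x hx
    apply mem_normalizer_fintype
    rintro _ ⟨b, rfl⟩
    rcases Fu.cov x hx with h | h
    · exact ⟨b, by rw [P.T_Z x h, mul_inv_cancel_right]⟩
    · exact ⟨b, (Fu.ys.mul_right h).z b⟩
  have hy1 : y⁻¹ = y := inv_eq_of_mul_eq_one_left hyy
  refine quot_tv S (Z := P.ZZ) (W := P.T) ?_ Fu.TS hSZ hi ?_ Fu.yS Fu.ys.notMem hyy (ι := F) ?_ P.ee P.ee_mem ?_ hZ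
    (by rw [inv_inv]; exact hg2)
  · rintro _ ⟨b, rfl⟩
    exact P.T_p 0 b
  · intro w hw
    exact P.exists_sq hw
  · rw [Nat.card_eq_fintype_card, P.hF]
    have hm := P.hm
    have h4 : 2 ^ 3 ≤ 2 ^ (2 * m + 1) := Nat.pow_le_pow_right (by norm_num) (by omega)
    omega
  · rintro i j ⟨b, hb⟩
    have hx : (P.ee i)⁻¹ * P.ee j ∈ P.T := mul_mem (inv_mem (P.ee_mem i)) (P.ee_mem j)
    have h3 : y * ((P.ee i)⁻¹ * P.ee j) * y⁻¹ = (P.p 0 b)⁻¹ * ((P.ee i)⁻¹ * P.ee j) := by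
      have h4 : (P.ee i)⁻¹ * P.ee j * y * ((P.ee i)⁻¹ * P.ee j)⁻¹ * y⁻¹ = P.p 0 b := hb
      rw [← h4]; group
    have h4 := Fu.ys.f _ hx
    rw [h3, P.z_inv, P.fC_mul (P.T_p _ _) hx, P.fC_p, P.fC_mul (inv_mem (P.ee_mem i)) (P.ee_mem j),
      P.fC_inv (P.ee_mem i), P.fC_ee, P.fC_ee, P.act_mul (inv_mem (P.ee_mem i)) (P.ee_mem j),
      P.act_inv (P.ee_mem i), P.act_ee, P.act_ee, add_zero, add_zero] at h4
    rcases mul_eq_zero.mp h4.symm with h5 | h5
    · exact absurd h5 Fu.ys.k_ne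
    · have h6 := eq_neg_of_add_eq_zero_left h5
      rwa [CharTwo.neg_eq] at h6

end Pre

end Cfsg.Agent.OddHalf.D4.Sz

end

-- merged: Cfsg.Agent.OddHalf.D4.Sz.LocD
section

/-!
# ODD, D4, `K = Sz(q)`, `q ≥ 32`, case (b): the end
-/

set_option autoImplicit false
set_option linter.unusedSectionVars false

namespace Cfsg.Agent.OddHalf.D4.Sz

open Subgroup Cfsg.Agent.OddHalf.D4 Cfsg.Agent.OddHalf.D4.Basic Cfsg.Agent.OddHalf.D4.Sz.PairDefs
open Cfsg.Agent.OddHalf.D4.CommConj (cj mem_cj cj_mul card_cj cj_eq_of_mem_normalizer mem_normalizer_of_cj_eq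
  mem_cj_mul)
open Cfsg.Agent.TwoFusion.StronglyEmbeddedBasic (orderOf_eq_two_of_mul_self)

variable {G : Type*} [Group G] {F : Type*} [Field F] [Fintype F] {m : ℕ} {K : Subgroup G}
  {D : KFr F m K} {Q T : Subgroup G} {g : G}

/-- a 2-element normalizing a 2-group generates a 2-group with it -/
theorem two_sup [Finite G] {A : Subgroup G} (hA : IsPGroup 2 A) {y : G} (hy : y ∈ normalizer (A : Set G))
    (hy2 : ∃ k : ℕ, y ^ 2 ^ k = 1) : IsPGroup 2 (A ⊔ zpowers y : Subgroup G) := by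
  obtain ⟨k, hk⟩ := hy2
  have hz2 : IsPGroup 2 (zpowers y) := by
    rintro ⟨z, n, rfl⟩
    refine ⟨k, Subtype.ext ?_⟩
    show (y ^ n) ^ 2 ^ k = 1
    rw [← zpow_natCast, ← zpow_mul, mul_comm, zpow_mul, zpow_natCast, hk, one_zpow]
  have := hz2.to_sup_of_normal_right' hA (by rwa [zpowers_le])
  rwa [sup_comm] at this

namespace CaseB

variable [Finite G] [CharP F 2]

/-- the configuration `Pre` -/
noncomputable def toPre (M : CaseB D Q T g) : Pre G F m where
  hm := D.hm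
  hF := D.hF
  p := D.p
  p_mul := D.p_mul
  p_inj := D.p_inj
  h := D.h
  h_p := D.h_p
  Q := Q
  Q_sq _ hr := M.sq_Q hr
  Q_p _ hr a b := M.base.comm hr a b
  Q_inf a b h := D.cen _ (D.p_mem a b) (M.base.sylQ.le h)
  Q_ne := by
    obtain ⟨r, hr, -, -, -, -, hr1, -, -⟩ := M.two
    exact ⟨r, hr, hr1⟩
  f := fB D Q g
  f_mul _ hr _ hs := M.fB_mul hr hs
  f_inj _ hr h := M.fB_inj hr h
  T := M.T1
  T_two := M.T1_two
  T_Q _ hr := M.T_T1 (M.base.Q_le hr)
  T_p a b := M.T_T1 (M.base.p_mem a b)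
  h_T l _ hx := M.conj_T1 (M.h_T l) hx
  h_mul k l x _ := by rw [D.h_mul]; group
  h_Q l _ hr := D.h_comm_of_cent (M.base.sylQ.le hr) l
  act := ac D Q g
  T_act _ hx _ hr := M.ac_spec (M.mem_T1.mp hx).1.1.1 hr
  T_Z _ hx b := (M.mem_T1.mp hx).1.1.2 b
  T_surj c := M.T1_surj c
  T_ker x hx h := (M.base.mem x).mp (M.T1_ker hx h)

theorem PP_eq (M : CaseB D Q T g) : M.toPre.PP = T := by
  ext x
  constructor
  · intro h
    exact M.T1_ker h.1 h.2
  · intro h
    exact ⟨M.T_T1 h, (M.T_E h).2⟩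

theorem glob (M : CaseB D Q T g) (hG : ∀ H : Subgroup G, H.index ≠ 2) (hcl : NoClassTwo G) : M.toPre.Glob where
  cardQ := by
    obtain ⟨r, hr, s, hs, -, -, hr1, hs1, hrs⟩ := M.two
    show 3 ≤ Nat.card Q
    classical
    have h1 : Function.Injective (![⟨1, one_mem _⟩, ⟨r, hr⟩, ⟨s, hs⟩] : Fin 3 → Q) := by
      intro i j hij
      fin_cases i <;> fin_cases j <;> simp_all only [Subtype.ext_iff, eq_comm, _root_.ne_eq, _root_.Nat.succ_eq_add_one, _root_.Nat.reduceAdd, _root_.Fin.zero_eta, _root_.Fin.isValue, _root_.Matrix.cons_val_zero, _root_.Fin.mk_one, _root_.Matrix.cons_val_one, _root_.Fin.reduceFinMk, _root_.Matrix.cons_val]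
    have h2 := Nat.card_le_card_of_injective _ h1
    simpa only [_root_.ge_iff_le, _root_.Nat.succ_eq_add_one, _root_.Nat.reduceAdd, _root_.Nat.card_eq_fintype_card, _root_.Fintype.card_fin] using h2
  noIdx := hG
  norm := by
    intro y hy1 hy2 hy3
    rw [M.PP_eq] at hy2
    have hy1' : y ∈ normalizer (M.T1 : Set G) := hy1
    show y ∈ M.T1
    obtain ⟨c, hc⟩ := M.members hy2
    obtain ⟨t, ht, htc⟩ := M.T1_surj c
    have htE := (M.mem_T1.mp ht).1.1
    have htN : t ∈ normalizer (T : Set G) := htE.1.1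
    -- `Q ^ y = Q ^ t`
    have h1 : ∀ r ∈ Q, y * r * y⁻¹ ∈ cj t Q := by
      intro r hr
      obtain ⟨s, hs, h⟩ := (hc _).mp (mem_cj_mul hr)
      rw [h, ← htc, ← M.ac_spec htE.1 hs]
      exact mem_cj_mul hs
    set μ := t⁻¹ * y with hμ
    have hμN : μ ∈ normalizer (T : Set G) := mul_mem (inv_mem htN) hy2
    obtain ⟨r, hr, -, -, -, -, hr1, -, -⟩ := M.two
    have hμM : μ ∈ normalizer (K : Set G) := by
      apply M.tight.tight μ r (M.base.sylQ.le hr) (orderOf_eq_two_of_mul_self (M.sq_Q hr) hr1)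
      have h2 := mem_cj.mp (h1 r hr)
      have e : μ * r * μ⁻¹ = t⁻¹ * (y * r * y⁻¹) * t := by rw [hμ]; group
      rw [e]
      exact M.base.sylQ.le h2
    -- `μ` is a 2-element
    have hμ2 : ∃ k : ℕ, μ ^ 2 ^ k = 1 := by
      have h3 := two_sup M.T1_two hy1' hy3
      have h4 : μ ∈ M.T1 ⊔ zpowers y :=
        mul_mem (inv_mem (le_sup_left (a := M.T1) ht)) (le_sup_right (a := M.T1) (mem_zpowers y))
      obtain ⟨k, hk⟩ := h3 ⟨μ, h4⟩
      exact ⟨k, by simpa only [_root_.SubmonoidClass.mk_pow, _root_.OneMemClass.coe_one] using congrArg Subtype.val hk⟩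
    have hμT : μ ∈ T := by
      have h3 := two_sup M.base.sylT.two hμN hμ2
      exact M.base.sylT.max _ h3 le_sup_left (sup_le M.base.sylT.le (by rwa [zpowers_le]))
        (le_sup_right (a := T) (mem_zpowers μ))
    have e : y = t * μ := by rw [hμ]; group
    rw [e]
    exact mul_mem ht (M.T_T1 hμT)
  notSyl := by
    intro S hS
    have hS' : ∀ x, x ∈ (S : Subgroup G) ↔ x ∈ M.toPre.T := fun x => by rw [hS]
    refine hcl S ?_ ?_
    · -- nonabelian
      obtain ⟨r, hr, -, -, -, -, hr1, -, -⟩ := M.two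
      obtain ⟨t, ht, htc⟩ := M.T1_surj 1
      refine ⟨t, (hS' t).mpr ht, r, (hS' r).mpr (M.toPre.T_Q hr), fun h => ?_⟩
      have h1 := M.ac_spec (M.mem_T1.mp ht).1.1.1 hr
      rw [h, mul_inv_cancel_right, htc, one_mul] at h1
      have h2 : D.p 0 (fB D Q g r) = 1 := (mul_eq_left.mp h1.symm)
      rw [← D.p_zero] at h2
      exact hr1 (M.fB_inj hr (D.z_inj h2))
    · intro a ha b hb c hc
      rw [hS'] at ha hb hc
      obtain ⟨z, hz⟩ := M.toPre.exists_comm ha hb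
      have e : a * b * a⁻¹ * b⁻¹ = M.toPre.p 0 z := by rw [hz]; group
      rw [e, M.toPre.T_Z c hc z]

/-- **case (b) is impossible** -/
theorem false (M : CaseB D Q T g) (hG : ∀ H : Subgroup G, H.index ≠ 2) (hcl : NoClassTwo G) : False :=
  M.toPre.false (M.glob hG hcl)

end CaseB

end Cfsg.Agent.OddHalf.D4.Sz

end

-- merged: Cfsg.Agent.OddHalf.D4.Sz.CaseA
section

/-!
# ODD, D4, `K = Sz(q)`, `q ≥ 32`: case A over the frame `Mv`
-/

set_option autoImplicit false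
set_option linter.unusedSectionVars false

namespace Cfsg.Agent.OddHalf.D4.Sz

open Subgroup Cfsg.Agent.OddHalf.D4 Cfsg.Agent.OddHalf.D4.Sz.PairDefs
open Cfsg.Agent.OddHalf.D4.CommConj (Tight cj mem_cj)

variable {G : Type*} [Group G] [Finite G] {F : Type*} [Field F] [Fintype F] [CharP F 2] {m : ℕ} {K : Subgroup G}
  {D : KFr F m K} {Q T : Subgroup G} {g : G}

namespace Mv

variable (M : Mv D Q T g)

include M

omit [Finite G] [CharP F 2] in
theorem le : T ≤ normalizer ((cj g K : Subgroup G) : Set G) := by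
  intro t ht
  rw [normalizer_cj, mem_cj]
  exact M.base.sylT.le ((mem_normalizer_iff''.mp M.gT t).mp ht)

theorem mem_inf_iff (x : G) :
    x ∈ T ⊓ centralizer ((cj g K : Subgroup G) : Set G) ↔ g⁻¹ * x * g ∈ Q := by
  rw [M.base.eq_inf, mem_inf, mem_inf, centralizer_cj, mem_cj, ← mem_normalizer_iff''.mp M.gT x]

theorem conj_mem {r : G} (hr : r ∈ Q) :
    g * r * g⁻¹ ∈ T ⊓ centralizer ((cj g K : Subgroup G) : Set G) := by
  rw [M.mem_inf_iff]
  have e : g⁻¹ * (g * r * g⁻¹) * g = r := by group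
  rwa [e]

/-- `Q` is elementary abelian and `g Q g⁻¹` is a graph -/
theorem graph (hG : ∀ H : Subgroup G, H.index ≠ 2) (hcl : NoClassTwo G) :
    (∀ r ∈ Q, r * r = 1) ∧ ∃ f : G → F, (∀ r ∈ Q, ∀ s ∈ Q, f (r * s) = f r + f s) ∧
      (∀ r ∈ Q, f r = 0 → r = 1) ∧ ∀ x, x ∈ cj g Q ↔ ∃ r ∈ Q, x = r * D.p 0 (f r) := by
  obtain ⟨h1, f, h2, h3, h4⟩ := M.base.graph M.tight hG hcl M.gM M.le
  refine ⟨h1, f, h2, h3, fun x => ?_⟩
  rw [← h4, M.mem_inf_iff, mem_cj]

/-- **case A is impossible** -/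
theorem caseA (hG : ∀ H : Subgroup G, H.index ≠ 2) (hcl : NoClassTwo G)
    (h : ∃ r ∈ Q, ∀ s ∈ Q, ∀ b, g * r * g⁻¹ ≠ s * D.p 0 b) : False := by
  obtain ⟨r, hr, hrs⟩ := h
  obtain ⟨-, f, -, -, h4⟩ := M.graph hG hcl
  obtain ⟨s, hs, hrs'⟩ := (h4 _).mp (CommConj.mem_cj_mul hr)
  exact hrs s hs (f s) hrs'

end Mv

end Cfsg.Agent.OddHalf.D4.Sz

end

-- merged: Cfsg.Agent.OddHalf.D4.Sz.End
section

/-!
# ODD, D4, `K = Sz(q)`, `q ≥ 32`: `Mv` is contradictory
-/

set_option autoImplicit false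

namespace Cfsg.Agent.OddHalf.D4.Sz

open Subgroup Cfsg.Agent.OddHalf.D4 Cfsg.Agent.OddHalf.D4.Sz.PairDefs

/-- **`K = Sz(q)`, `q ≥ 32`: no `g ∈ N(T) - N(K)`** -/
theorem Mv.false {G : Type*} [Group G] [Finite G] {F : Type*} [Field F] [Fintype F] [CharP F 2] {m : ℕ}
    {K : Subgroup G} {D : KFr F m K} {Q T : Subgroup G} {g : G} (M : Mv D Q T g)
    (hG : ∀ H : Subgroup G, H.index ≠ 2) (hcl : NoClassTwo G) : False := by
  by_cases h : ∃ r ∈ Q, ∀ s ∈ Q, ∀ b, g * r * g⁻¹ ≠ s * D.p 0 b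
  · exact M.caseA hG hcl h
  · push Not at h
    exact CaseB.false (D := D) (Q := Q) (T := T) (g := g) ⟨M, h⟩ hG hcl

end Cfsg.Agent.OddHalf.D4.Sz

end

private theorem dce_cabbdd9f93ab : _root_.True := by
  try have : _root_.True := by simp only [_root_.Cfsg.Agent.OddHalf.D4.Sz.Pre.aP.congr_simp]
  try have : _root_.True := by simp only [_root_.Cfsg.Agent.OddHalf.D4.Sz.Pre.fP.congr_simp]
  try have : _root_.True := by simp only [_root_.Cfsg.Agent.OddHalf.D4.Sz.Pre.aC.congr_simp]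
  try have : _root_.True := by simp only [_root_.Cfsg.Agent.OddHalf.D4.Sz.Pre.s.congr_simp]
  try have : _root_.True := by simp only [_root_.Cfsg.Agent.OddHalf.D4.Sz.Pre.cm.congr_simp]
  try have : _root_.True := by simp only [_root_.Cfsg.Agent.OddHalf.D4.Sz.CaseB.toPre.congr_simp]
  try have : _root_.True := by simp only [_root_.Cfsg.Agent.OddHalf.D4.Sz.Pre.fC.congr_simp]
  try have : _root_.True := by simp only [_root_.Cfsg.Agent.OddHalf.D4.Sz.Pre.lam.congr_simp]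
  try have : _root_.True := by simp only [_root_.Cfsg.Agent.OddHalf.D4.Sz.Pre.ee.congr_simp]
  try have : _root_.True := by simp only [_root_.Cfsg.Agent.OddHalf.D4.Sz.Pre.PP.congr_simp]
  try have : _root_.True := by simp only [_root_.Cfsg.Agent.OddHalf.D4.Sz.Pre.qq.congr_simp]
  exact _root_.True.intro
end

-- part: OddHalf/NI3/Ex/OEight
section
prune_inst 0x4e1201800096212000000059291001c4696000492004a0401cc6103420680ef620d02af20bd1013134800a284403d0028100000100000000000200000011901a090015206937cad0436008f810880000000000000000000000000000000000000000000000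
set_option linter.all false
open scoped Cfsg.Agent.FastGrp

-- merged: Cfsg.Agent.OddHalf.NI3.Ex.OEightGrp
section

/-!
# Centralizers of the outer involutions of `Ω₈⁺(2)` (helper88)

`C0`: the common centralizer in `Om` of the reflection `sw` and the root element `xb 0 1`.

* `card_C0`: `2 ^ 8 ∣ |C0|`; `E0 ≤ C0` is elementary abelian, `16 ≤ |E0|`;
* `main`: an involutory automorphism of `Om` is inner or centralises the image of `C0` under an automorphism.
-/

set_option autoImplicit false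

namespace Cfsg.Agent.OddHalf.NI3.Ex.OEight

open Cfsg.Agent.StdO8.Model Cfsg.Agent.StdO8.Bas Cfsg.Agent.StdO8.Graph Cfsg.Agent.StdO8.Aut
open Cfsg.Agent.StdO8.EvenLin

instance : Finite (V ≃ₗ[ZMod 2] V) := Finite.of_injective (fun e => (e : V → V)) DFunLike.coe_injective

/-- the nonsingular vector of the reflection -/
abbrev n0 : V := bv 3 + bv 7

theorem sw_app (w : V) : sw w = w + B n0 w • n0 := by
  rw [sw_eq, refl_eq]

/-- The common centralizer of `sw` and `xb 0 1` in `Om`. -/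
def C0 : Subgroup Om where
  carrier := {g | (g : V ≃ₗ[ZMod 2] V) * sw = sw * g ∧ (g : V ≃ₗ[ZMod 2] V) * xb 0 1 = xb 0 1 * g}
  one_mem' := ⟨by rw [Subgroup.coe_one, one_mul, mul_one], by rw [Subgroup.coe_one, one_mul, mul_one]⟩
  mul_mem' := by
    rintro a b ⟨h1, h2⟩ ⟨h3, h4⟩
    refine ⟨?_, ?_⟩
    · rw [Subgroup.coe_mul, mul_assoc, h3, ← mul_assoc, h1, mul_assoc]
    · rw [Subgroup.coe_mul, mul_assoc, h4, ← mul_assoc, h2, mul_assoc]
  inv_mem' := by
    rintro a ⟨h1, h2⟩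
    refine ⟨?_, ?_⟩
    · rw [Subgroup.coe_inv, inv_mul_eq_iff_eq_mul, ← mul_assoc, h1, mul_assoc, mul_inv_cancel, mul_one]
    · rw [Subgroup.coe_inv, inv_mul_eq_iff_eq_mul, ← mul_assoc, h2, mul_assoc, mul_inv_cancel, mul_one]

/-- The group of the transformations `X a w`, `w ∈ P`. -/
def Eg (a : V) (ha : q a = 0) (P : AddSubgroup V) (hP : ∀ w ∈ P, B a w = 0) : Subgroup Om where
  carrier := {g | ∃ w ∈ P, (g : V ≃ₗ[ZMod 2] V) = X a w}
  one_mem' := ⟨0, P.zero_mem, (X_zero_right a).symm⟩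
  mul_mem' := by
    rintro g h ⟨w, hw, e⟩ ⟨w', hw', e'⟩
    exact ⟨w + w', P.add_mem hw hw', by rw [Subgroup.coe_mul, e, e', X_mul ha (hP _ hw) (hP _ hw')]⟩
  inv_mem' := by
    rintro g ⟨w, hw, e⟩
    exact ⟨w, hw, by rw [Subgroup.coe_inv, e, X_inv]⟩

theorem Eg_sq {a : V} {ha : q a = 0} {P : AddSubgroup V} {hP : ∀ w ∈ P, B a w = 0} {g : Om}
    (hg : g ∈ Eg a ha P hP) : g * g = 1 := by
  obtain ⟨w, -, e⟩ := hg
  apply Subtype.ext
  rw [Subgroup.coe_mul, e, X_mul_self, Subgroup.coe_one]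

/-- `⟨bv 0, n0⟩^⊥` -/
def P0 : AddSubgroup V where
  carrier := {w | B (bv 0) w = 0 ∧ B n0 w = 0}
  zero_mem' := ⟨B_zero_right _, B_zero_right _⟩
  add_mem' := by
    rintro a b ⟨h1, h2⟩ ⟨h3, h4⟩
    exact ⟨by rw [B_add_right, h1, h3, add_zero], by rw [B_add_right, h2, h4, add_zero]⟩
  neg_mem' := by
    rintro a h
    rw [neg_eq]
    exact h

/-- `⟨bv 0, bv 1, n0⟩^⊥` -/
def P1 : AddSubgroup V where
  carrier := {w | B (bv 1) w = 0 ∧ B (bv 0) w = 0 ∧ B n0 w = 0}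
  zero_mem' := ⟨B_zero_right _, B_zero_right _, B_zero_right _⟩
  add_mem' := by
    rintro a b ⟨h1, h2, h5⟩ ⟨h3, h4, h6⟩
    exact ⟨by rw [B_add_right, h1, h3, add_zero], by rw [B_add_right, h2, h4, add_zero],
      by rw [B_add_right, h5, h6, add_zero]⟩
  neg_mem' := by
    rintro a h
    rw [neg_eq]
    exact h

def E0 : Subgroup Om := Eg (bv 0) (q_bv 0) P0 fun _ h => h.1
def E1 : Subgroup Om := Eg (bv 1) (q_bv 1) P1 fun _ h => h.1

theorem B01 : B (bv 0) (bv 1) = 0 := by rw [B_bv]; decide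
theorem B10 : B (bv 1) (bv 0) = 0 := by rw [B_bv]; decide

theorem X_sw {i : Fin 8} (hi : σ i = i) {w : V} (hw : B n0 w = 0) : X (bv i) w * sw = sw * X (bv i) w := by
  have h := X_conj sw_mem (bv i) w
  rw [sw_bv, hi, sw_app, hw, zero_smul, add_zero, mul_inv_eq_iff_eq_mul] at h
  exact h.symm

theorem E0_le : E0 ≤ C0 := by
  rintro g ⟨w, hw, e⟩
  refine ⟨?_, ?_⟩
  · rw [e]
    exact X_sw (by decide) hw.2
  · rw [e]
    show X (bv 0) w * X (bv 0) (bv 1) = X (bv 0) (bv 1) * X (bv 0) w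
    rw [X_mul (q_bv 0) hw.1 B01, X_mul (q_bv 0) B01 hw.1, add_comm]

theorem E1_le : E1 ≤ C0 := by
  rintro g ⟨w, hw, e⟩
  refine ⟨?_, ?_⟩
  · rw [e]
    exact X_sw (by decide) hw.2.2
  · rw [e]
    show X (bv 1) w * X (bv 0) (bv 1) = X (bv 0) (bv 1) * X (bv 1) w
    rw [X_comm (q_bv 0) (q_bv 1), X_mul (q_bv 1) hw.1 B10, X_mul (q_bv 1) B10 hw.1, add_comm]

theorem isPGroup_of_sq {G : Type*} [Group G] {H : Subgroup G} (h : ∀ g ∈ H, g * g = 1) : IsPGroup 2 ↥H := by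
  rintro ⟨g, hg⟩
  exact ⟨1, Subtype.ext (by rw [pow_one, pow_two]; exact h g hg)⟩

theorem norm : E1 ≤ Subgroup.normalizer (E0 : Set Om) := by
  have key : ∀ g ∈ E1, ∀ h ∈ E0, g * h * g⁻¹ ∈ E0 := by
    rintro g ⟨w, hw, e⟩ h ⟨w', hw', e'⟩
    refine ⟨X (bv 1) w w', ⟨?_, ?_⟩, ?_⟩
    · have h1 : X (bv 1) w (bv 0) = bv 0 := by
        rw [X_apply' (q_bv 1) hw.1, B10, B_comm w, hw.2.1]
        simp
      rw [← h1, O8_B (X_mem_O8 _ _)]
      exact hw'.1
    · have h1 : X (bv 1) w n0 = n0 := by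
        have h2 : B (bv 1) n0 = 0 := by rw [B_add_right, B_bv, B_bv]; decide
        rw [X_apply' (q_bv 1) hw.1, h2, B_comm w, hw.2.2]
        simp
      rw [← h1, O8_B (X_mem_O8 _ _)]
      exact hw'.2
    · have h1 : X (bv 1) w (bv 0) = bv 0 := by
        rw [X_apply' (q_bv 1) hw.1, B10, B_comm w, hw.2.1]
        simp
      rw [Subgroup.coe_mul, Subgroup.coe_mul, Subgroup.coe_inv, e, e', X_conj (X_mem_O8 _ _), h1]
  intro g hg
  rw [Subgroup.mem_normalizer_iff]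
  intro h
  refine ⟨key g hg h, fun h1 => ?_⟩
  have h2 := key g⁻¹ (inv_mem hg) _ h1
  rwa [inv_inv, show g⁻¹ * (g * h * g⁻¹) * g = h by group] at h2

/-- the parameters -/
def w0 (c : Fin 5 → ZMod 2) : V := c 0 • bv 1 + c 1 • bv 2 + c 2 • bv 5 + c 3 • bv 6 + c 4 • n0
def w1 (c : Fin 3 → ZMod 2) : V := c 0 • bv 2 + c 1 • bv 6 + c 2 • n0

theorem w0_mem (c : Fin 5 → ZMod 2) : w0 c ∈ P0 := by
  have h : ∀ j : Fin 8, B (bv j) n0 = if j = 3 ∨ j = 7 then 1 else 0 := by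
    intro j
    rw [B_add_right, B_bv, B_bv]
    revert j
    decide
  refine ⟨?_, ?_⟩
  · unfold w0
    simp only [B_add_right, B_smul_right, B_bv, h]
    revert c
    decide +kernel
  · unfold w0
    simp only [n0, B_add_left, B_add_right, B_smul_right, B_bv]
    revert c
    decide +kernel

theorem w1_mem (c : Fin 3 → ZMod 2) : w1 c ∈ P1 := by
  refine ⟨?_, ?_, ?_⟩ <;>
  · unfold w1
    simp only [n0, B_add_left, B_add_right, B_smul_right, B_bv]
    revert c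
    decide +kernel

theorem coX {i k : Fin 8} {w : V} (hw : B (bv i) w = 0) (h1 : k ≠ i) (h2 : i ≠ k + 4) :
    B (bv k) (X (bv i) w (bv (i + 4))) = B (bv k) w := by
  have e1 : B (bv i) (bv (i + 4)) = 1 := by rw [B_bv, if_pos rfl]
  have e2 : B (bv k) (bv (i + 4)) = 0 := by
    rw [B_bv, if_neg]
    intro h
    exact h1 (add_right_cancel h).symm
  have e3 : B (bv k) (bv i) = 0 := by rw [B_bv, if_neg h2]
  rw [X_apply' (q_bv i) hw, e1, one_smul, B_add_right, B_add_right, B_add_right, B_smul_right, B_smul_right, e2, e3,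
    mul_zero, mul_zero, zero_add, add_zero, add_zero]

theorem fix4 (d : Fin 3 → ZMod 2) : X (bv 1) (w1 d) (bv 4) = bv 4 := by
  have e1 : B (bv 1) (bv 4) = 0 := by rw [B_bv]; decide
  have e2 : B (w1 d) (bv 4) = 0 := by
    unfold w1
    simp only [n0, B_add_left, B_smul_left, B_bv]
    revert d
    decide +kernel
  rw [X_apply' (q_bv 1) (w1_mem d).1, e1, e2]
  simp

theorem co0 (c : Fin 5 → ZMod 2) : B (bv 5) (w0 c) = c 0 ∧ B (bv 6) (w0 c) = c 1 ∧ B (bv 1) (w0 c) = c 2 ∧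
    B (bv 2) (w0 c) = c 3 ∧ B (bv 7) (w0 c) = c 4 := by
  unfold w0
  simp only [n0, B_add_right, B_smul_right, B_bv]
  revert c
  decide +kernel

theorem co1 (c : Fin 3 → ZMod 2) : B (bv 6) (w1 c) = c 0 ∧ B (bv 2) (w1 c) = c 1 ∧ B (bv 7) (w1 c) = c 2 := by
  unfold w1
  simp only [n0, B_add_right, B_smul_right, B_bv]
  revert c
  decide +kernel

theorem inj0 {c c' : Fin 5 → ZMod 2} (h : X (bv 0) (w0 c) (bv 4) = X (bv 0) (w0 c') (bv 4)) : c = c' := by
  have key : ∀ k : Fin 8, k ≠ 0 → (0 : Fin 8) ≠ k + 4 → B (bv k) (w0 c) = B (bv k) (w0 c') := by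
    intro k h1 h2
    have h3 := congrArg (B (bv k)) h
    have h4 := coX (w0_mem c).1 h1 h2
    have h5 := coX (w0_mem c').1 h1 h2
    have e : (0 : Fin 8) + 4 = 4 := by decide
    rw [e] at h4 h5
    rw [← h4, ← h5, h3]
  obtain ⟨a0, a1, a2, a3, a4⟩ := co0 c
  obtain ⟨b0, b1, b2, b3, b4⟩ := co0 c'
  have k0 := key 5 (by decide) (by decide)
  have k1 := key 6 (by decide) (by decide)
  have k2 := key 1 (by decide) (by decide)
  have k3 := key 2 (by decide) (by decide)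
  have k4 := key 7 (by decide) (by decide)
  rw [a0, b0] at k0
  rw [a1, b1] at k1
  rw [a2, b2] at k2
  rw [a3, b3] at k3
  rw [a4, b4] at k4
  funext i
  fin_cases i
  · exact k0
  · exact k1
  · exact k2
  · exact k3
  · exact k4

theorem inj1 {c c' : Fin 3 → ZMod 2} (h : X (bv 1) (w1 c) = X (bv 1) (w1 c')) : c = c' := by
  have key : ∀ k : Fin 8, k ≠ 1 → (1 : Fin 8) ≠ k + 4 → B (bv k) (w1 c) = B (bv k) (w1 c') := by
    intro k h1 h2
    have h4 := coX (w1_mem c).1 h1 h2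
    have h5 := coX (w1_mem c').1 h1 h2
    rw [← h4, ← h5, h]
  obtain ⟨a0, a1, a2⟩ := co1 c
  obtain ⟨b0, b1, b2⟩ := co1 c'
  have k0 := key 6 (by decide) (by decide)
  have k1 := key 2 (by decide) (by decide)
  have k2 := key 7 (by decide) (by decide)
  rw [a0, b0] at k0
  rw [a1, b1] at k1
  rw [a2, b2] at k2
  funext i
  fin_cases i
  · exact k0
  · exact k1
  · exact k2

/-- the elements -/
noncomputable def g0 (c : Fin 5 → ZMod 2) : Om := ⟨X (bv 0) (w0 c), X_mem _ _⟩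
noncomputable def g1 (c : Fin 3 → ZMod 2) : Om := ⟨X (bv 1) (w1 c), X_mem _ _⟩

theorem g0_mem (c : Fin 5 → ZMod 2) : g0 c ∈ E0 := ⟨w0 c, w0_mem c, rfl⟩
theorem g1_mem (c : Fin 3 → ZMod 2) : g1 c ∈ E1 := ⟨w1 c, w1_mem c, rfl⟩

seal _root_.Function.update in
theorem card_E0 : 32 ≤ Nat.card E0 := by
  have h := Nat.card_le_card_of_injective (fun c : Fin 5 → ZMod 2 => (⟨g0 c, g0_mem c⟩ : E0)) (fun c c' h => by
    have h1 : X (bv 0) (w0 c) = X (bv 0) (w0 c') := congrArg (fun x : E0 => ((x : Om) : V ≃ₗ[ZMod 2] V)) h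
    exact inj0 (by rw [h1]))
  have h2 : Nat.card (Fin 5 → ZMod 2) = 32 := by
    rw [Nat.card_eq_fintype_card, Fintype.card_fun, ZMod.card, Fintype.card_fin]
    norm_num
  rwa [h2] at h

seal _root_.Function.update in
theorem card_sup : 256 ≤ Nat.card (E0 ⊔ E1 : Subgroup Om) := by
  have h := Nat.card_le_card_of_injective (fun c : (Fin 5 → ZMod 2) × (Fin 3 → ZMod 2) =>
      (⟨g0 c.1 * g1 c.2, mul_mem ((le_sup_left : E0 ≤ E0 ⊔ E1) (g0_mem _)) ((le_sup_right : E1 ≤ E0 ⊔ E1) (g1_mem _))⟩ :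
        (E0 ⊔ E1 : Subgroup Om))) (fun c c' h => by
    have h1 : X (bv 0) (w0 c.1) * X (bv 1) (w1 c.2) = X (bv 0) (w0 c'.1) * X (bv 1) (w1 c'.2) :=
      (congrArg (fun x : (E0 ⊔ E1 : Subgroup Om) => ((x : Om) : V ≃ₗ[ZMod 2] V)) h :)
    have h2 := DFunLike.congr_fun h1 (bv 4)
    rw [LinearEquiv.mul_apply, LinearEquiv.mul_apply, fix4, fix4] at h2
    have h3 := inj0 h2
    rw [h3] at h1
    exact Prod.ext h3 (inj1 (mul_left_cancel h1)))
  have h2 : Nat.card ((Fin 5 → ZMod 2) × (Fin 3 → ZMod 2)) = 256 := by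
    rw [Nat.card_prod, Nat.card_eq_fintype_card, Nat.card_eq_fintype_card, Fintype.card_fun, Fintype.card_fun,
      ZMod.card, Fintype.card_fin, Fintype.card_fin]
    norm_num
  rwa [h2] at h

theorem sup_isPGroup : IsPGroup 2 ↥(E0 ⊔ E1 : Subgroup Om) := by
  have h0 : IsPGroup 2 ↥E0 := isPGroup_of_sq fun g hg => Eg_sq hg
  have h1 : IsPGroup 2 ↥E1 := isPGroup_of_sq fun g hg => Eg_sq hg
  exact IsPGroup.to_sup_of_normal_left' h0 h1 norm

theorem card_C0 : 2 ^ 8 ∣ Nat.card C0 := by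
  have : Fact (Nat.Prime 2) := ⟨Nat.prime_two⟩
  refine dvd_trans ?_ (Subgroup.card_dvd_of_le (sup_le E0_le E1_le))
  obtain ⟨k, hk⟩ := IsPGroup.iff_card.1 sup_isPGroup
  have h1 := card_sup
  rw [hk] at h1 ⊢
  refine pow_dvd_pow 2 ?_
  by_contra h
  push Not at h
  have h2 : 2 ^ k ≤ 2 ^ 7 := Nat.pow_le_pow_right (by norm_num) (by omega)
  omega

/-- **Involutory automorphisms of `Ω₈⁺(2)`.** -/
theorem main {α : MulAut Om} (hα : α * α = 1) :
    (∃ x, α = MulAut.conj x) ∨ ∃ β : MulAut Om, ∀ y ∈ C0, α (β y) = β y := by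
  have : Fact (Nat.Prime 2) := ⟨Nat.prime_two⟩
  have hfin : Finite (MulAut Om) := inferInstance
  obtain ⟨β, hβ⟩ : ∃ β : MulAut Om, β⁻¹ * α * β ∈ cj.range := by
    have hP : IsPGroup 2 (Subgroup.zpowers α) := by
      rintro ⟨a, ha⟩
      obtain ⟨i, rfl⟩ := Subgroup.mem_zpowers_iff.1 ha
      refine ⟨1, Subtype.ext ?_⟩
      show (α ^ i) ^ (2 ^ 1) = 1
      rw [pow_one, pow_two, ← (Commute.refl α).mul_zpow, hα, one_zpow]
    have h1 := hP.card_modEq_card_fixedPoints (MulAut Om ⧸ cj.range)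
    have h2 : Nat.card (MulAut Om ⧸ cj.range) = 3 := index_range
    rw [h2] at h1
    have h3 : Nat.card (MulAction.fixedPoints (Subgroup.zpowers α) (MulAut Om ⧸ cj.range)) ≠ 0 := by
      intro h
      rw [h] at h1
      exact absurd h1 (by decide)
    obtain ⟨⟨x, hx⟩⟩ := (Nat.card_ne_zero.1 h3).1
    obtain ⟨β, rfl⟩ := QuotientGroup.mk_surjective x
    refine ⟨β, ?_⟩
    have h4 := hx ⟨α, Subgroup.mem_zpowers α⟩
    have h5 : ((α * β : MulAut Om) : MulAut Om ⧸ cj.range) = (β : MulAut Om ⧸ cj.range) := h4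
    have h6 := QuotientGroup.eq.1 h5.symm
    rwa [← mul_assoc] at h6
  obtain ⟨M, hM⟩ := hβ
  have hM2 : M * M = 1 := by
    apply StdO8.Frame.Ctx.cj_injective
    rw [map_mul, map_one, hM]
    calc β⁻¹ * α * β * (β⁻¹ * α * β) = β⁻¹ * (α * α) * β := by group
      _ = 1 := by rw [hα]; group
  have hαM : α = β * cj M * β⁻¹ := by rw [hM]; group
  by_cases hMO : (M : V ≃ₗ[ZMod 2] V) ∈ Om
  · left
    refine ⟨β ⟨M, hMO⟩, ?_⟩
    have h1 : cj M = MulAut.conj (⟨M, hMO⟩ : Om) := by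
      ext y : 1
      exact Subtype.ext rfl
    rw [hαM, h1]
    ext y : 1
    rw [MulAut.mul_apply, MulAut.mul_apply, MulAut.conj_apply, MulAut.conj_apply, map_mul, map_mul, map_inv,
      MulAut.apply_inv_self]
  · right
    obtain ⟨g, hg, h⟩ := lin M.2 hMO (by
      have := congrArg Subtype.val hM2
      exact this)
    refine ⟨β * MulAut.conj (⟨g, hg⟩ : Om)⁻¹, ?_⟩
    intro y hy
    have hT : (y : V ≃ₗ[ZMod 2] V) * (g * M * g⁻¹) = (g * M * g⁻¹) * y := by
      rcases h with h | h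
      · rw [h]; exact hy.1
      · rw [h, ← mul_assoc, hy.1, mul_assoc, hy.2, mul_assoc]
    have h2 : cj M (MulAut.conj (⟨g, hg⟩ : Om)⁻¹ y) = MulAut.conj (⟨g, hg⟩ : Om)⁻¹ y := by
      apply Subtype.ext
      rw [cj_coe, MulAut.conj_apply, inv_inv, Subgroup.coe_mul, Subgroup.coe_mul, Subgroup.coe_inv]
      show (M : V ≃ₗ[ZMod 2] V) * (g⁻¹ * y * g) * (M : V ≃ₗ[ZMod 2] V)⁻¹ = g⁻¹ * y * g
      rw [mul_inv_eq_iff_eq_mul]
      calc (M : V ≃ₗ[ZMod 2] V) * (g⁻¹ * y * g) = g⁻¹ * ((g * M * g⁻¹) * y) * g := by group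
        _ = g⁻¹ * (y * (g * M * g⁻¹)) * g := by rw [hT]
        _ = _ := by group
    rw [hαM, MulAut.mul_apply, MulAut.mul_apply, MulAut.mul_apply, MulAut.inv_apply_self, h2]

end Cfsg.Agent.OddHalf.NI3.Ex.OEight

end

-- merged: Cfsg.Agent.OddHalf.NI.Ex.RankAut
section

/-!
# Elementary abelian 2-groups of automorphisms of `L₂(q)`, `q` odd (helper604)

* `card_le_four` : an elementary abelian 2-subgroup of `L ≅ PSL(2,F)`, `2 ≠ 0` in `F`, has order at most 4;
* `card_le_eight` : an elementary abelian 2-subgroup of `Aut(L)`, `F` finite, has order at most 8.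
-/

set_option autoImplicit false

namespace Cfsg.Agent.OddHalf.NI.Ex.RankAut

open Cfsg.Agent.GH.L2Aut

section Four

variable {F : Type*} [Field F] {L : Type*} [Group L] (R : Cfsg.Agent.GH.L2Aut.Rep F L)

local notation "SL2" => Matrix.SpecialLinearGroup (Fin 2) F

include R

theorem exists_lift {a : L} (ha : a * a = 1) (ha1 : a ≠ 1) : ∃ x : SL2, R.π x = a ∧ x * x = -1 := by
  obtain ⟨x, rfl⟩ := R.surj a
  refine ⟨x, rfl, ?_⟩
  rw [← map_mul, R.ker] at ha
  rcases ha with h | h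
  · exfalso
    apply ha1
    exact (R.ker x).2 (Cfsg.Agent.Lib.PSL2Inv.sq_eq_one R.two h)
  · exact h

theorem eq_of_comm {x y : SL2} (hx : x * x = -1) (hy : y * y = -1) (h : x * y = y * x) : R.π x * R.π y = 1 := by
  have h1 : (x * y) * (x * y) = 1 := by
    calc (x * y) * (x * y) = x * (y * x) * y := by group
      _ = x * (x * y) * y := by rw [h]
      _ = (x * x) * (y * y) := by group
      _ = 1 := by rw [hx, hy, neg_mul_neg, one_mul]
  rw [← map_mul]
  exact (R.ker _).2 (Cfsg.Agent.Lib.PSL2Inv.sq_eq_one R.two h1)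

theorem anti {x y : SL2} (hx : x * x = -1) (hy : y * y = -1) (h : R.π x * R.π y = R.π y * R.π x)
    (hne : R.π x * R.π y ≠ 1) : x * y = -(y * x) := by
  rw [← map_mul, ← map_mul, R.π_eq_iff] at h
  rcases h with h | h
  · exact absurd (eq_of_comm R hx hy h) hne
  · exact h

/-- Three pairwise commuting, pairwise different involutions of `PSL(2,F)` have product 1. -/
theorem mul_eq_one {a b c : L} (ha : a * a = 1) (hb : b * b = 1) (hc : c * c = 1) (ha1 : a ≠ 1) (hb1 : b ≠ 1)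
    (hc1 : c ≠ 1) (hab : a * b = b * a) (hac : a * c = c * a) (hbc : b * c = c * b) (h1 : a * b ≠ 1)
    (h2 : a * c ≠ 1) (h3 : b * c ≠ 1) : a * (b * c) = 1 := by
  obtain ⟨x, rfl, hx⟩ := exists_lift R ha ha1
  obtain ⟨y, rfl, hy⟩ := exists_lift R hb hb1
  obtain ⟨z, rfl, hz⟩ := exists_lift R hc hc1
  have e1 := anti R hx hy hab h1
  have e2 := anti R hx hz hac h2
  have e3 := anti R hy hz hbc h3
  have hw : (y * z) * (y * z) = -1 := by
    calc (y * z) * (y * z) = y * (z * y) * z := by group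
      _ = y * (-(y * z)) * z := by rw [e3, neg_neg]
      _ = -((y * y) * (z * z)) := by
          rw [mul_neg, neg_mul]; (with_reducible congr 1); group
      _ = -1 := by rw [hy, hz, neg_mul_neg, one_mul]
  have hc' : x * (y * z) = (y * z) * x := by
    calc x * (y * z) = (x * y) * z := by group
      _ = -(y * x) * z := by rw [e1]
      _ = -(y * (x * z)) := by rw [neg_mul]; (with_reducible congr 1); group
      _ = y * z * x := by rw [e2, mul_neg, neg_neg]; group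
  have := eq_of_comm R hx hw hc'
  rw [map_mul] at this
  exact this

/-- An elementary abelian 2-subgroup of `PSL(2,F)` has order at most 4. -/
theorem card_le_four [Finite L] (E : Subgroup L) (hE : ∀ a ∈ E, a * a = 1) : Nat.card E ≤ 4 := by
  classical
  haveI := Fintype.ofFinite L
  by_contra hcon
  push Not at hcon
  rw [Nat.card_eq_fintype_card] at hcon
  have hcomm : ∀ a ∈ E, ∀ b ∈ E, a * b = b * a := by
    intro a ha b hb
    have h1 := hE _ (mul_mem ha hb)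
    have h2 : a⁻¹ = a := inv_eq_of_mul_eq_one_right (hE a ha)
    have h3 : b⁻¹ = b := inv_eq_of_mul_eq_one_right (hE b hb)
    calc a * b = (a * b)⁻¹ := (inv_eq_of_mul_eq_one_right h1).symm
      _ = b * a := by rw [mul_inv_rev, h2, h3]
  have key : ∀ S : Finset E, S.card ≤ 4 → ∃ c : E, c ∉ S := by
    intro S hS
    by_contra h
    push Not at h
    have : S = Finset.univ := Finset.eq_univ_iff_forall.2 h
    rw [this, Finset.card_univ] at hS
    omega
  obtain ⟨a, ha⟩ := key {1} (by simp)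
  obtain ⟨b, hb⟩ := key {1, a} (le_trans Finset.card_le_two (by norm_num))
  obtain ⟨c, hc⟩ := key {1, a, b, a * b} Finset.card_le_four
  simp only [Finset.mem_singleton, Finset.mem_insert, not_or] at ha hb hc
  obtain ⟨hb1, hb2⟩ := hb
  obtain ⟨hc1, hc2, hc3, hc4⟩ := hc
  have inv : ∀ g : E, g⁻¹ = g := fun g => inv_eq_of_mul_eq_one_right (Subtype.ext (hE _ g.2))
  have ne : ∀ g h : E, g ≠ h → (g : L) * h ≠ 1 := by
    intro g h hgh h1
    apply hgh
    have h2 : g * h = 1 := Subtype.ext h1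
    rw [← inv h]
    exact eq_inv_of_mul_eq_one_left h2
  have ne1 : ∀ g : E, g ≠ 1 → (g : L) ≠ 1 := fun g hg h => hg (Subtype.ext h)
  have h := mul_eq_one R (hE _ a.2) (hE _ b.2) (hE _ c.2) (ne1 _ ha) (ne1 _ hb1) (ne1 _ hc1)
    (hcomm _ a.2 _ b.2) (hcomm _ a.2 _ c.2) (hcomm _ b.2 _ c.2) (ne _ _ (Ne.symm hb2)) (ne _ _ (Ne.symm hc2))
    (ne _ _ (Ne.symm hc3))
  apply hc4
  have h2 : (a * b) * c = 1 := by
    apply Subtype.ext
    change (a : L) * b * c = 1
    rw [mul_assoc]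
    exact h
  rw [← inv (a * b)]
  exact (inv_eq_of_mul_eq_one_right h2).symm

/-- An elementary abelian 2-subgroup of `Aut(PSL(2,F))` has order at most 8. -/
theorem card_le_eight [Finite F] [Finite L] (E : Subgroup (MulAut L)) (hE : ∀ a ∈ E, a * a = 1) : Nat.card E ≤ 8 := by
  classical
  haveI : Finite (MulAut L) := inferInstance
  have hcomm : ∀ a ∈ E, ∀ b ∈ E, a * b = b * a := by
    intro a ha b hb
    have h1 := hE _ (mul_mem ha hb)
    have h2 : a⁻¹ = a := inv_eq_of_mul_eq_one_right (hE a ha)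
    have h3 : b⁻¹ = b := inv_eq_of_mul_eq_one_right (hE b hb)
    calc a * b = (a * b)⁻¹ := (inv_eq_of_mul_eq_one_right h1).symm
      _ = b * a := by rw [mul_inv_rev, h2, h3]
  set E0 : Subgroup (MulAut L) := E ⊓ Inn L with hE0
  -- the inner part
  have h4 : Nat.card E0 ≤ 4 := by
    have h1 : E0 = (E0.comap (MulAut.conj : L →* MulAut L)).map (MulAut.conj : L →* MulAut L) := by
      rw [Subgroup.map_comap_eq]
      exact (inf_eq_right.2 inf_le_right).symm
    rw [h1]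
    have h2 : Nat.card ((E0.comap (MulAut.conj : L →* MulAut L)).map (MulAut.conj : L →* MulAut L)) =
        Nat.card (E0.comap (MulAut.conj : L →* MulAut L)) :=
      (Nat.card_congr ((E0.comap (MulAut.conj : L →* MulAut L)).equivMapOfInjective _ R.conj_injective).toEquiv).symm
    rw [h2]
    refine card_le_four R _ ?_
    intro a ha
    apply R.conj_injective
    rw [map_mul, map_one]
    exact hE _ (Subgroup.mem_inf.1 (Subgroup.mem_comap.1 ha)).1
  -- the index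
  by_cases hall : ∀ a ∈ E, a ∈ Inn L
  · have : E0 = E := le_antisymm inf_le_left fun a ha => ⟨ha, hall a ha⟩
    rw [← this]
    omega
  · push Not at hall
    obtain ⟨a, ha, ha'⟩ := hall
    let f : E → E0 × Bool := fun b =>
      if h : (b : MulAut L) ∈ Inn L then (⟨b, b.2, h⟩, true)
      else (⟨a * b, mul_mem ha b.2,
        UGT.SL.outer_mul_mem R (hE a ha) (hE b b.2) (hcomm a ha b b.2) ha' h⟩, false)
    have hf : Function.Injective f := by
      intro b c hbc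
      by_cases hb : (b : MulAut L) ∈ Inn L <;> by_cases hc : (c : MulAut L) ∈ Inn L <;>
        simp only [f, hb, hc, dif_pos, dif_neg, not_false_eq_true, Prod.mk.injEq, and_true,
          reduceCtorEq, and_false] at hbc
      · exact Subtype.ext (congrArg (fun x : E0 => (x : MulAut L)) hbc)
      · exact Subtype.ext (mul_left_cancel (congrArg (fun x : E0 => (x : MulAut L)) hbc))
    have h5 := Nat.card_le_card_of_injective f hf
    rw [Nat.card_prod] at h5
    have h6 : Nat.card Bool = 2 := by simp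
    rw [h6] at h5
    omega

end Four

end Cfsg.Agent.OddHalf.NI.Ex.RankAut

end

-- merged: Cfsg.Agent.OddHalf.NI3.Ex.OEight
section

/-!
# (EX), (EX3): the row `Ω₈⁺(2)` (helper88)

* `rank_false`: `X` of characteristic 2 type, `α² = 1`, `E ≤ C_X(α)` elementary abelian, `|E| > 8`: no component `L₂(q)`,
  `q` odd, of `C_X(α)`;
* `noL2_o82`, `no3_o82`: the rows.
-/

set_option autoImplicit false

namespace Cfsg.Agent.OddHalf.NI3.Ex

open Subgroup Cfsg Cfsg.Agent.OddHalf.Iface Cfsg.Agent.OddHalf.NI Cfsg.Agent.OddHalf.NI.Ex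
open Cfsg.Agent.OddHalf.D9.Cut

universe u v

/-- `|L₂(q)|` is even for `q` odd -/
theorem two_dvd_of_isL2 {J : Type*} [Group J] (h : IsL2 J) : 2 ∣ Nat.card J := by
  obtain ⟨F, i, j, hodd, -, ⟨e⟩⟩ := h
  have h1 := S0243.result (F := F) rfl 2 le_rfl
  rw [Nat.card_congr e.toEquiv]
  obtain ⟨k, hk⟩ := hodd
  rw [Fin.prod_univ_two] at h1
  simp only [Fin.val_zero, Fin.val_one, pow_zero, pow_one] at h1
  rw [hk] at h1
  have h2 : Nat.gcd 2 (2 * k + 1 - 1) = 2 := by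
    rw [Nat.add_sub_cancel]
    exact Nat.gcd_eq_left ⟨k, rfl⟩
  rw [h2, Nat.add_sub_cancel] at h1
  have hk0 : 0 < k := by
    rcases Nat.eq_zero_or_pos k with h0 | h0
    · exfalso
      rw [h0] at hk
      have := Fintype.one_lt_card (α := F)
      omega
    · exact h0
  have h3 : (2 * k + 1) ^ 2 - 1 = 4 * k * (k + 1) := by
    have : (2 * k + 1) ^ 2 = 4 * k * (k + 1) + 1 := by ring
    omega
  have h4 : (2 * k + 1) ^ 2 - (2 * k + 1) = 2 * k * (2 * k + 1) := by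
    have : (2 * k + 1) ^ 2 = 2 * k * (2 * k + 1) + (2 * k + 1) := by ring
    omega
  rw [h3, h4] at h1
  have h5 : Nat.card (Matrix.ProjectiveSpecialLinearGroup (Fin 2) F) = 2 * (k * (k + 1) * (2 * k + 1)) := by
    have h6 : (4 * k) * Nat.card (Matrix.ProjectiveSpecialLinearGroup (Fin 2) F) =
        (4 * k) * (2 * (k * (k + 1) * (2 * k + 1))) := by
      calc (4 * k) * Nat.card (Matrix.ProjectiveSpecialLinearGroup (Fin 2) F)
          = 2 * (2 * k * Nat.card (Matrix.ProjectiveSpecialLinearGroup (Fin 2) F)) := by ring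
        _ = _ := by rw [h1]; ring
    exact Nat.eq_of_mul_eq_mul_left (by omega) h6
  exact ⟨_, h5⟩

/-- **The rank criterion.** -/
theorem rank_false {X : Type u} [Group X] [Finite X] (hC : IsCharacteristicTwoType X) (hZ : center X = ⊥)
    {α : MulAut X} (hα : α * α = 1) {J : Subgroup X} (hJ : CompIn (fix α) J) (h2 : IsL2 ↥J) {E : Subgroup X}
    (hE : E ≤ fix α) (he : ∀ a ∈ E, a * a = 1) (hc : 8 < Nat.card ↥E) : False := by
  have hn := normal hC hZ hα hJ (two_dvd_of_isL2 h2)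
  obtain ⟨-, hodd⟩ := act_ker hC hZ hα hJ hn
  obtain ⟨F, i, j, hF, -, ⟨e⟩⟩ := h2
  have e1 : ↥(J.subgroupOf (fix α)) ≃* ↥J := subgroupOfEquivOfLe hJ.le
  let R0 := GH.L2Aut.Rep.ofEquiv (GH.L2Aut.two_ne_zero_of_odd hF) (e1.trans e)
  have hZ0 : center ↥(J.subgroupOf (fix α)) = ⊥ := R0.center_eq_bot
  let e2 : ↥(J.subgroupOf (fix α)) ⧸ center ↥(J.subgroupOf (fix α)) ≃*
      Matrix.ProjectiveSpecialLinearGroup (Fin 2) F :=
    ((QuotientGroup.quotientMulEquivOfEq hZ0).trans QuotientGroup.quotientBot).trans (e1.trans e)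
  let R := GH.L2Aut.Rep.ofEquiv (GH.L2Aut.two_ne_zero_of_odd hF) e2
  have hfin : Finite (↥(J.subgroupOf (fix α)) ⧸ center ↥(J.subgroupOf (fix α))) := inferInstance
  have h3 := RankAut.card_le_eight R ((E.subgroupOf (fix α)).map (act hn)) (by
    rintro _ ⟨a, ha, rfl⟩
    rw [← map_mul]
    have : a * a = 1 := Subtype.ext (he _ ha)
    rw [this, map_one])
  have h4 : Nat.card ↥((E.subgroupOf (fix α)).map (act hn)) = Nat.card ↥E := by
    rw [← Nat.card_congr (subgroupOfEquivOfLe hE).toEquiv]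
    let f := (act hn).subgroupMap (E.subgroupOf (fix α))
    have hf : Function.Bijective f := by
      refine ⟨?_, (act hn).subgroupMap_surjective _⟩
      rw [injective_iff_map_eq_one]
      rintro ⟨a, ha⟩ h
      have h5 : a ∈ (act hn).ker := congrArg Subtype.val h
      apply Subtype.ext
      have h6 : (⟨a, h5⟩ : ↥(act hn).ker) ^ 2 = 1 := by
        apply Subtype.ext
        apply Subtype.ext
        rw [pow_two]
        exact he _ ha
      have h7 : orderOf (⟨a, h5⟩ : ↥(act hn).ker) ∣ 2 := orderOf_dvd_of_pow_eq_one h6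
      have h8 : orderOf (⟨a, h5⟩ : ↥(act hn).ker) ∣ Nat.card ↥(act hn).ker := _root_.orderOf_dvd_natCard _
      have h9 : orderOf (⟨a, h5⟩ : ↥(act hn).ker) = 1 :=
        Nat.eq_one_of_dvd_coprimes (Nat.coprime_two_left.2 hodd) h7 h8
      have h10 : (⟨a, h5⟩ : ↥(act hn).ker) = 1 := orderOf_eq_one_iff.1 h9
      exact congrArg (fun y : ↥(act hn).ker => (y : ↥(fix α))) h10
    exact (Nat.card_congr (Equiv.ofBijective f hf)).symm
  omega

/-- Involutory automorphisms. -/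
theorem exists_C0 {X : Type u} [Group X] [Finite X] (h : XO82 X) {α : MulAut X} (hα : α * α = 1) :
    (∃ x, α = MulAut.conj x) ∨ ∃ φ : ↥StdO8.Model.Om ≃* X, ∀ y ∈ OEight.C0, α (φ y) = φ y := by
  obtain ⟨F, i, j, hF, ⟨e⟩⟩ := h
  obtain ⟨e'⟩ := StdO8.Model.exists_equiv hF
  let ψ : ↥StdO8.Model.Om ≃* X := (e.trans e').symm
  let α' : MulAut ↥StdO8.Model.Om := (MulAut.congr ψ).symm α
  have hα' : α' * α' = 1 := by rw [← map_mul, hα, map_one]
  have h1 : ∀ y, α (ψ y) = ψ (α' y) := fun y => by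
    show α (ψ y) = ψ (ψ.symm (α (ψ y)))
    rw [MulEquiv.apply_symm_apply]
  rcases OEight.main hα' with ⟨m, hm⟩ | ⟨β, hβ⟩
  · left
    refine ⟨ψ m, ?_⟩
    ext x
    obtain ⟨y, rfl⟩ := ψ.surjective x
    rw [h1, hm, MulAut.conj_apply, MulAut.conj_apply, map_mul, map_mul, map_inv]
  · right
    refine ⟨β.trans ψ, fun y hy => ?_⟩
    show α (ψ (β y)) = ψ (β y)
    rw [h1, hβ y hy]

theorem ct_o82 {X : Type u} [Group X] [Finite X] (hs : IsSimpleGroup X) (hna : ¬ IsMulCommutative X)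
    (h : XO82 X) : CT X := by
  obtain ⟨F, i, j, hF, ⟨e⟩⟩ := h
  have h2 := charP_two (F := F) (f := 1) (by rw [hF]; norm_num)
  exact CT.of_filt hs hna (Or.inr (Or.inr (Or.inr (Or.inr (Or.inl ⟨F, i, j, h2, 4, le_rfl, ⟨e⟩⟩)))))

theorem card_o82 {X : Type u} [Group X] (h : XO82 X) : Nat.card X = 2 ^ 12 * 42525 := by
  obtain ⟨F, i, j, hF, ⟨e⟩⟩ := h
  obtain ⟨e'⟩ := StdO8.Model.exists_equiv hF
  rw [Nat.card_congr (e.trans e').toEquiv, StdO8.Uni.card_Om]

/-- **(EX), the row `Ω₈⁺(2)`.** -/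
theorem noL2_o82 {X : Type u} [Group X] [Finite X] (hs : IsSimpleGroup X) (hna : ¬ IsMulCommutative X)
    (h : XO82 X) : NoL2 X := by
  intro α hα J hJ h2
  have hct := ct_o82 hs hna h
  have h1 : α * α = 1 := by rw [← pow_two, ← hα, pow_orderOf_eq_one]
  rcases exists_C0 h h1 with ⟨x, rfl⟩ | ⟨φ, hφ⟩
  · exact inner_false hct.char hct.center hα hJ
  · refine rank_false hct.char hct.center h1 hJ h2 (E := OEight.E0.map φ.toMonoidHom) ?_ ?_ ?_
    · rintro _ ⟨y, hy, rfl⟩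
      exact hφ y (OEight.E0_le hy)
    · rintro _ ⟨y, hy, rfl⟩
      show φ y * φ y = 1
      rw [← map_mul, OEight.Eg_sq hy, map_one]
    · have h3 : Nat.card ↥(OEight.E0.map φ.toMonoidHom) = Nat.card ↥OEight.E0 :=
        (Nat.card_congr (OEight.E0.equivMapOfInjective _ φ.injective).toEquiv).symm
      rw [h3]
      have := OEight.card_E0
      omega

/-- **(EX3), the row `Ω₈⁺(2)`.** -/
theorem no3_o82 {X : Type u} [Group X] [Finite X] (hs : IsSimpleGroup X) (hna : ¬ IsMulCommutative X)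
    (h : XO82 X) : No3 X := by
  intro α hα J hJ h81 hR
  by_contra hg
  have hct := ct_o82 hs hna h
  have h1 : α * α = 1 := by rw [← pow_two, ← hα, pow_orderOf_eq_one]
  have hcard := card_o82 h
  have hdvd : Nat.card (↥J ⧸ center ↥J) ∣ 2 ^ 12 * 42525 := by
    rw [← hcard]
    exact (Subgroup.card_quotient_dvd_card _).trans (card_subgroup_dvd_card J)
  rcases exists_C0 h h1 with ⟨x, rfl⟩ | ⟨φ, hφ⟩
  · exact inner_false hct.char hct.center hα hJ
  · rcases Three.cases hR h81 hg with ⟨-, h3, h4⟩ | ⟨h3, -⟩ | ⟨h3, -⟩ | ⟨h3, -⟩ | h3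
    · have he : 2 ∣ Nat.card ↥J := by
        have h5 : Nat.card (↥J ⧸ center ↥J) ∣ Nat.card ↥J := Subgroup.card_quotient_dvd_card _
        rw [h3] at h5
        exact dvd_trans (by norm_num) h5
      have h5 : 2 ^ 8 ∣ Nat.card ↥(fix α) := by
        refine dvd_trans OEight.card_C0 ?_
        have h6 : Nat.card ↥(OEight.C0.map φ.toMonoidHom) = Nat.card ↥OEight.C0 :=
          (Nat.card_congr (OEight.C0.equivMapOfInjective _ φ.injective).toEquiv).symm
        rw [← h6]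
        refine card_dvd_of_le ?_
        rintro _ ⟨y, hy, rfl⟩
        exact hφ y hy
      have h6 := pow_dvd hct.char hct.center h1 hJ he h5
      rw [h4] at h6
      exact absurd h6 (by norm_num)
    · rw [h3] at hdvd
      exact absurd hdvd (by norm_num)
    · rw [h3] at hdvd
      exact absurd hdvd (by norm_num)
    · rw [h3] at hdvd
      exact absurd hdvd (by norm_num)
    · have h4 := h3.trans hdvd
      exact absurd h4 (by norm_num)

end Cfsg.Agent.OddHalf.NI3.Ex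

end
end

-- part: OddHalf/D4/SpN/LocGen_mg
section
prune_inst 0x4c1203004404000000000058231001c4696000490004804000c01004004888c620d002820b12011135808000400350008100000900000000000200000011800800000000681480000000086010080000000000000000000000000000000000004000000000
set_option linter.all false
open scoped Cfsg.Agent.FastGrp

-- part: OddHalf/D4/SpN/LocGen
section
-- merged: Cfsg.Agent.OddHalf.SpN.OutCore
section

/-!
# D7, `K = Sp_2n(q)`, `q` even, `q ≥ 4`: `O_2` of the perfect groups `pA`, `pB`, `pM` (helper979)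

`pA = C(Y_1)^∞`, `pB = C(X_12)^∞`, `pM = C(X_12 Y_1)^∞` (in `Sp`).

* `OO_pA_comm`: `O_2(pA)` is abelian; `exists_noncomm_pB`: `O_2(pB)` is not;
* `comm_OO_pM`: `O_2(pM)' = X_12`.
-/

set_option autoImplicit false

namespace Cfsg.Agent.OddHalf.SpN.Out

open Cfsg Cfsg.Agent.ClassicalGeometry.SympBasic Cfsg.Agent.ClassicalGeometry.SympAutSemi
open Cfsg.Agent.OddHalf.SpN Cfsg.Agent.OddHalf.SpN.Start Cfsg.Agent.Lib
open scoped Matrix commutatorElement

/-! ### `O_2` of a subgroup -/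

section OO

variable {G : Type*} [Group G]

end OO

variable {n : ℕ} {F : Type*} [Field F] [CharP F 2]

/-! ### the radicals -/

section rad

variable [Finite F]

end rad

/-! ### the radicals `Q_1`, `Q_12` -/

/-- `⟨e_1, e_2⟩` -/
def W2 (F : Type*) [Field F] (hn : 3 ≤ n) : Submodule F (Ix n → F) :=
  Submodule.span F {be n F (Sum.inl (c0 hn)), be n F (Sum.inl (c1 hn))}

omit [CharP F 2] in
theorem mem_W2 (hn : 3 ≤ n) {w : Ix n → F} :
    w ∈ W2 F hn ↔ ∃ a b : F, w = a • be n F (Sum.inl (c0 hn)) + b • be n F (Sum.inl (c1 hn)) := by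
  rw [W2, Submodule.mem_span_pair]
  constructor
  · rintro ⟨a, b, h⟩; exact ⟨a, b, h.symm⟩
  · rintro ⟨a, b, h⟩; exact ⟨a, b, h.symm⟩

omit [CharP F 2] in
theorem mem_W2_of (hn : 3 ≤ n) {w : Ix n → F} (h : ∀ k, k ≠ Sum.inl (c0 hn) → k ≠ Sum.inl (c1 hn) → w k = 0) :
    w ∈ W2 F hn := by
  rw [mem_W2]
  refine ⟨w (Sum.inl (c0 hn)), w (Sum.inl (c1 hn)), ?_⟩
  ext k
  have e := c01 hn
  by_cases h0 : k = Sum.inl (c0 hn)
  · subst h0; simp [be_apply, e]
  by_cases h1 : k = Sum.inl (c1 hn)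
  · subst h1; simp [be_apply, e.symm]
  · rw [h k h0 h1]; simp [be_apply, h0, h1]

omit [CharP F 2] in
theorem W2_coord (hn : 3 ≤ n) {w : Ix n → F} (h : w ∈ W2 F hn) {k : Ix n} (h0 : k ≠ Sum.inl (c0 hn))
    (h1 : k ≠ Sum.inl (c1 hn)) : w k = 0 := by
  obtain ⟨a, b, rfl⟩ := (mem_W2 hn).1 h
  simp [be_apply, h0, h1]

omit [CharP F 2] in
theorem be0_mem (hn : 3 ≤ n) : be n F (Sum.inl (c0 hn)) ∈ W2 F hn := Submodule.subset_span (Or.inl rfl)

omit [CharP F 2] in
theorem be1_mem (hn : 3 ≤ n) : be n F (Sum.inl (c1 hn)) ∈ W2 F hn := Submodule.subset_span (Or.inr rfl)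

/-- `u ⊥ ⟨e_1, e_2⟩` -/
def Pp (hn : 3 ≤ n) (u : Ix n → F) : Prop := u (Sum.inr (c0 hn)) = 0 ∧ u (Sum.inr (c1 hn)) = 0

/-- `Q_12` -/
def Q12 (F : Type*) [Field F] (hn : 3 ≤ n) : Subgroup (Sy n F) where
  carrier := {A | (∀ w ∈ W2 F hn, rho n F A w = w) ∧ ∀ u, Pp hn u → rho n F A u - u ∈ W2 F hn}
  mul_mem' := by
    rintro A B ⟨hA1, hA2⟩ ⟨hB1, hB2⟩
    refine ⟨fun w hw => ?_, fun u hu => ?_⟩
    · rw [map_mul, Equiv.Perm.mul_apply, hB1 w hw, hA1 w hw]
    · rw [map_mul, Equiv.Perm.mul_apply]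
      have h1 := hA1 _ (hB2 u hu)
      rw [(SI.of_rho A).sub] at h1
      have h2 : rho n F A (rho n F B u) - u = (rho n F B u - u) + (rho n F A u - u) := by
        rw [← h1]; abel
      rw [h2]
      exact add_mem (hB2 u hu) (hA2 u hu)
  one_mem' := ⟨fun w _ => by rw [map_one]; rfl, fun u _ => by
    rw [map_one, Equiv.Perm.one_apply, sub_self]; exact zero_mem _⟩
  inv_mem' := by
    rintro A ⟨hA1, hA2⟩
    refine ⟨fun w hw => ?_, fun u hu => ?_⟩
    · rw [map_inv]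
      conv_lhs => rw [← hA1 w hw]
      exact perm_inv_apply_self _ _
    · rw [map_inv]
      have h1 : rho n F A ((rho n F A)⁻¹ u - u) = u - rho n F A u := by
        rw [(SI.of_rho A).sub, perm_apply_inv_self]
      have h2 : u - rho n F A u ∈ W2 F hn := by
        have := neg_mem (hA2 u hu)
        rwa [neg_sub] at this
      have h3 : (rho n F A)⁻¹ u - u = u - rho n F A u := by
        apply (rho n F A).injective
        rw [h1, hA1 _ h2]
      rw [h3]; exact h2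

omit [CharP F 2] in
theorem Q12_le [Finite F] (hn : 3 ≤ n) : Q12 F hn ≤ Up n F := by
  rintro A ⟨hA1, hA2⟩
  have key : ∀ i : Fin n, rho n F A (be n F (Sum.inl i)) - be n F (Sum.inl i) ∈ W2 F hn := fun i =>
    hA2 _ ⟨by rw [be_apply, if_neg (by simp)], by rw [be_apply, if_neg (by simp)]⟩
  have h0 := hA1 _ (be0_mem hn)
  have h1 := hA1 _ (be1_mem hn)
  have c : ∀ (i : Fin n) (k : Ix n), k ≠ Sum.inl (c0 hn) → k ≠ Sum.inl (c1 hn) →
      rho n F A (be n F (Sum.inl i)) k = be n F (Sum.inl i) k := by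
    intro i k hk0 hk1
    have := W2_coord hn (key i) hk0 hk1
    exact sub_eq_zero.1 this
  have c' : ∀ (i j : Fin n), i ≤ j → rho n F A (be n F (Sum.inl i)) (Sum.inl j) = be n F (Sum.inl i) (Sum.inl j) := by
    intro i j hij
    by_cases hi0 : i = c0 hn
    · rw [hi0, h0]
    by_cases hi1 : i = c1 hn
    · rw [hi1, h1]
    have a0 : i.1 ≠ 0 := fun e => hi0 (Fin.ext e)
    have a1 : i.1 ≠ 1 := fun e => hi1 (Fin.ext e)
    have a2 : i.1 ≤ j.1 := hij
    refine c i _ (fun e => ?_) fun e => ?_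
    · have := congrArg Fin.val (Sum.inl_injective e)
      have e2 : (c0 hn).1 = 0 := rfl
      omega
    · have := congrArg Fin.val (Sum.inl_injective e)
      have e2 : (c1 hn).1 = 1 := rfl
      omega
  refine ⟨fun i => ?_, fun i j hij => ?_, fun i j => ?_⟩
  · rw [c' i i le_rfl, be_apply, if_pos rfl]; rfl
  · rw [c' i j hij.le, be_apply, if_neg (fun e => hij.ne' (Sum.inl_injective e))]
  · rw [c i _ (by simp) (by simp), be_apply, if_neg (by simp)]

/-! ### the perfect groups -/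

/-- `C(X_12)` preserves `⟨e_1, e_2⟩` and its orthogonal space -/
theorem pres_W2 (hn : 3 ≤ n) {s : Sy n F} (hs : Commute s (zz hn (1 : F) 0)) :
    (∀ w ∈ W2 F hn, rho n F s w ∈ W2 F hn) ∧ ∀ u, Pp hn u → Pp hn (rho n F s u) := by
  have hD : ∀ u : Ix n → F, rho n F s (u (Sum.inr (c1 hn)) • be n F (Sum.inl (c0 hn)) +
      u (Sum.inr (c0 hn)) • be n F (Sum.inl (c1 hn))) =
      rho n F s u (Sum.inr (c1 hn)) • be n F (Sum.inl (c0 hn)) +
        rho n F s u (Sum.inr (c0 hn)) • be n F (Sum.inl (c1 hn)) := by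
    intro u
    have h1 : rho n F s (rho n F (zz hn 1 0) u) = rho n F (zz hn 1 0) (rho n F s u) := by
      rw [← Equiv.Perm.mul_apply, ← Equiv.Perm.mul_apply, ← map_mul, ← map_mul, hs.eq]
    rw [rho_zz, rho_zz, zero_mul, zero_mul, add_zero, add_zero, one_mul, one_mul, one_mul, one_mul, add_assoc,
      (SI.of_rho s).add, add_assoc] at h1
    exact add_left_cancel h1
  have h01 := c01 hn
  constructor
  · intro w hw
    obtain ⟨a, b, rfl⟩ := (mem_W2 hn).1 hw
    have e : a • be n F (Sum.inl (c0 hn)) + b • be n F (Sum.inl (c1 hn)) =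
        (a • be n F (Sum.inr (c1 hn)) + b • be n F (Sum.inr (c0 hn))) (Sum.inr (c1 hn)) • be n F (Sum.inl (c0 hn)) +
        (a • be n F (Sum.inr (c1 hn)) + b • be n F (Sum.inr (c0 hn))) (Sum.inr (c0 hn)) • be n F (Sum.inl (c1 hn)) := by
      simp [be_apply, h01, h01.symm]
    rw [e, hD, mem_W2]
    exact ⟨_, _, rfl⟩
  · intro u hu
    have h1 := hD u
    rw [hu.1, hu.2, zero_smul, zero_smul, add_zero, (SI.of_rho s).zero] at h1
    have g0 := congrFun h1 (Sum.inl (c0 hn))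
    have g1 := congrFun h1 (Sum.inl (c1 hn))
    simp only [Pi.zero_apply, Pi.add_apply, Pi.smul_apply, be_apply, smul_eq_mul, if_true, mul_one, Sum.inl.injEq, h01,
      h01.symm, if_false, mul_zero, add_zero, zero_add] at g0 g1
    exact ⟨g1.symm, g0.symm⟩

/-- `C(X_12)` normalises `Q_12` -/
theorem norm_Q12 (hn : 3 ≤ n) {s A : Sy n F} (hs : Commute s (zz hn (1 : F) 0)) (hA : A ∈ Q12 F hn) :
    s * A * s⁻¹ ∈ Q12 F hn := by
  obtain ⟨hA1, hA2⟩ := hA
  obtain ⟨p1, p2⟩ := pres_W2 hn hs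
  obtain ⟨q1, q2⟩ := pres_W2 hn hs.inv_left
  refine ⟨fun w hw => ?_, fun u hu => ?_⟩
  · rw [map_mul, map_mul, Equiv.Perm.mul_apply, Equiv.Perm.mul_apply, hA1 _ (q1 w hw), map_inv, perm_apply_inv_self]
  · rw [map_mul, map_mul, Equiv.Perm.mul_apply, Equiv.Perm.mul_apply]
    have h1 := p1 _ (hA2 _ (q2 u hu))
    rw [(SI.of_rho s).sub] at h1
    have h2 : rho n F s (rho n F s⁻¹ u) = u := by rw [map_inv, perm_apply_inv_self]
    rwa [h2] at h1

end Cfsg.Agent.OddHalf.SpN.Out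

end

-- merged: Cfsg.Agent.OddHalf.D4.SpN.LocGen
section

/-!
# `Sp_2n(q)`, `q` even: generation by root elements (helper297)

* `RI I` : generated by the root elements with all indices in `I`;
* `gen_fix` : an element fixing `e_k` for `k ∉ I` (`I = -I`) is in `RI I`;
* `mem_LM'`, `mem_LA`, `mem_LB`, `mem_LM` : the stabilizer of `e_1, e_2` is `LM`, that of `e_1` is `LA`, the centralizer of
  `x_12(1)` is `LB`, the centralizer of `x_12(1) y_1(1)` is `LM X_{1,-2}`.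
-/

set_option autoImplicit false
set_option linter.unusedSectionVars false

namespace Cfsg.Agent.OddHalf.D4.SpN.Loc

open Cfsg Cfsg.Agent.ClassicalGeometry.SympBasic Cfsg.Agent.ClassicalGeometry.SympAutSemi
open Cfsg.Agent.OddHalf.SpN Cfsg.Agent.OddHalf.SpN.Out
open scoped Matrix commutatorElement

variable {n : ℕ} {F : Type*} [Field F]

theorem act_mul (A B : Sy n F) (v : Ix n → F) : rho n F (A * B) v = rho n F A (rho n F B v) := by rw [map_mul]; rfl

theorem act_one (v : Ix n → F) : rho n F (1 : Sy n F) v = v := by rw [map_one]; rfl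

theorem act_inv {A : Sy n F} {v w : Ix n → F} (h : rho n F A v = w) : rho n F A⁻¹ w = v := by
  rw [← h, ← act_mul, inv_mul_cancel, act_one]

/-- the stabilizer of a vector -/
def St (v : Ix n → F) : Subgroup (Sy n F) where
  carrier := {A | rho n F A v = v}
  one_mem' := act_one v
  mul_mem' {A B} (hA : rho n F A v = v) (hB : rho n F B v = v) := by
    show rho n F (A * B) v = v
    rw [act_mul, hB, hA]
  inv_mem' {A} (hA : rho n F A v = v) := act_inv hA

variable [CharP F 2]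

theorem fix_RG {P : Ix n → Prop} {Q : Ix n → Ix n → Prop} {v : Ix n → F} (h1 : ∀ i, P i → v (neg i) = 0)
    (h2 : ∀ i j, Q i j → v (neg i) = 0 ∧ v (neg j) = 0) {g : Sy n F} (hg : g ∈ RG F P Q) : rho n F g v = v := by
  have h : RG F P Q ≤ St v := by
    refine RG_le (fun i hi a => ?_) fun i j hij a => ?_
    · show rho n F (sy i a) v = v
      rw [rho_sy, h1 i hi, mul_zero, zero_smul, add_zero]
    · show rho n F (sx i j a) v = v
      by_cases hd : Dj i j
      · rw [rho_sx hd, (h2 i j hij).1, (h2 i j hij).2, mul_zero, zero_smul, zero_smul, add_zero, add_zero]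
      · rw [sx_of_not hd, act_one]
  exact h hg

/-- generated by the root elements with indices in `I` -/
noncomputable def RI (F : Type*) [Field F] [CharP F 2] (I : Ix n → Prop) : Subgroup (Sy n F) := RG F I fun k l => I k ∧ I l

variable {I : Ix n → Prop}

theorem sy_RI {k : Ix n} (hk : I k) (a : F) : sy k a ∈ RI F I := sy_mem hk a

theorem sx_RI {k l : Ix n} (hk : I k) (hl : I l) (a : F) : sx k l a ∈ RI F I := sx_mem (Q := fun k l => I k ∧ I l) ⟨hk, hl⟩ a

theorem RI_mono {I' : Ix n → Prop} (h : ∀ k, I k → I' k) : RI F I ≤ RI F I' :=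
  RG_le (fun i hi a => sy_RI (h i hi) a) fun _ _ hij a => sx_RI (h _ hij.1) (h _ hij.2) a

theorem exists_tr (hI : ∀ k, I k → I (neg k)) {k l : Ix n} (hk : I k) (hl : I l) :
    ∃ h ∈ RI F I, rho n F h (be n F k) = be n F l := by
  by_cases h1 : l = k
  · subst h1; exact ⟨1, one_mem _, act_one _⟩
  by_cases h2 : l = neg k
  · subst h2
    refine ⟨sy k 1 * sy (neg k) 1, mul_mem (sy_RI hk 1) (sy_RI (hI k hk) 1), ?_⟩
    rw [act_mul]
    ext m
    simp only [rho_sy, Pi.add_apply, Pi.smul_apply, smul_eq_mul, be_apply, neg_neg, neg_ne, if_false, if_true, mul_one,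
      one_mul, zero_add]
    have e1 := CharTwo.add_self_eq_zero (if m = k then (1 : F) else 0)
    linear_combination e1
  · have hd1 : Dj l (neg k) := ⟨h2, by rw [neg_neg]; exact h1⟩
    have hd2 : Dj k (neg l) := ⟨fun e => h2 (by rw [e, neg_neg]), by rw [neg_neg]; exact Ne.symm h1⟩
    have g3 : neg k ≠ l := Ne.symm h2
    have g4 : neg l ≠ k := Ne.symm hd2.1
    refine ⟨sx k (neg l) 1 * sx l (neg k) 1, mul_mem (sx_RI hk (hI l hl) 1) (sx_RI hl (hI k hk) 1), ?_⟩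
    rw [act_mul]
    ext m
    simp only [rho_sx hd1, rho_sx hd2, Pi.add_apply, Pi.smul_apply, smul_eq_mul, be_apply, neg_neg, neg_ne, if_false,
      if_true, mul_one, one_mul, zero_add, mul_zero, add_zero, zero_mul, h1, g3, g4]
    have e1 := CharTwo.add_self_eq_zero (if m = k then (1 : F) else 0)
    linear_combination e1

/-- clearing a vector with the root elements `k`, `k l` -/
theorem exists_red {k : Ix n} {w : Ix n → F} (hw : w (neg k) = 1) (hs : ∀ l, l ≠ k → l ≠ neg k → w l ≠ 0 → I l) :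
    ∃ g ∈ RG F (fun i => i = k) (fun i l => i = k ∧ I l ∧ Dj k l), rho n F g w = be n F (neg k) := by
  classical
  have key : ∀ s : Finset (Ix n), ∃ g ∈ RG F (fun i => i = k) (fun i l => i = k ∧ I l ∧ Dj k l),
      rho n F g w (neg k) = 1 ∧ ∀ l, l ≠ k → l ≠ neg k → rho n F g w l ≠ 0 → I l ∧ l ∉ s := by
    intro s
    induction s using Finset.induction_on with
    | empty =>
      exact ⟨1, one_mem _, by rw [act_one]; exact hw, fun l h1 h2 h3 => ⟨hs l h1 h2 (by rwa [act_one] at h3), by simp⟩⟩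
    | insert m s hm ih =>
      obtain ⟨g, hg, h1, h2⟩ := ih
      by_cases hmk : m = k ∨ m = neg k ∨ rho n F g w m = 0
      · refine ⟨g, hg, h1, fun l h3 h4 h5 => ⟨(h2 l h3 h4 h5).1, fun h6 => ?_⟩⟩
        rw [Finset.mem_insert] at h6
        rcases h6 with rfl | h6
        · rcases hmk with h | h | h
          · exact h3 h
          · exact h4 h
          · exact h5 h
        · exact (h2 l h3 h4 h5).2 h6
      · rw [not_or, not_or] at hmk
        obtain ⟨m1, m2, m3⟩ := hmk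
        have hd : Dj k m := ⟨Ne.symm m1, fun e => m2 (by rw [e, neg_neg])⟩
        have hIm := (h2 m m1 m2 m3).1
        set v := rho n F g w with hv
        have ev : ∀ l, rho n F (sx k m (v m) * g) w l = v l + v m * v (neg m) * (if l = k then 1 else 0) +
            v m * (if l = m then 1 else 0) := by
          intro l
          rw [act_mul, ← hv, rho_sx hd]
          simp only [Pi.add_apply, Pi.smul_apply, smul_eq_mul, be_apply, h1, mul_one]
        refine ⟨sx k m (v m) * g, mul_mem (sx_mem (P := fun i => i = k) ⟨rfl, hIm, hd⟩ _) hg, ?_, fun l h3 h4 h5 => ?_⟩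
        · rw [ev, h1, if_neg (neg_ne k), if_neg (Ne.symm m2)]; ring
        · rw [ev, if_neg h3, mul_zero, add_zero] at h5
          by_cases hlm : l = m
          · subst hlm
            rw [if_pos rfl, mul_one, CharTwo.add_self_eq_zero] at h5
            exact absurd rfl h5
          · rw [if_neg hlm, mul_zero, add_zero] at h5
            refine ⟨(h2 l h3 h4 h5).1, fun h6 => ?_⟩
            rw [Finset.mem_insert] at h6
            rcases h6 with h6 | h6
            · exact hlm h6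
            · exact (h2 l h3 h4 h5).2 h6
  obtain ⟨g, hg, h1, h2⟩ := key Finset.univ
  set v := rho n F g w with hv
  refine ⟨sy k (v k) * g, mul_mem (sy_mem (P := fun i => i = k) rfl _) hg, ?_⟩
  rw [act_mul, ← hv, rho_sy, h1, mul_one]
  ext l
  rw [Pi.add_apply, Pi.smul_apply, smul_eq_mul, be_apply, be_apply]
  by_cases hk : l = k
  · subst hk
    rw [if_pos rfl, mul_one, CharTwo.add_self_eq_zero, if_neg (ne_neg l)]
  by_cases hk' : l = neg k
  · subst hk'
    rw [h1, if_neg (neg_ne k), if_pos rfl, mul_zero, add_zero]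
  · rw [if_neg hk, if_neg hk', mul_zero, add_zero]
    by_contra h
    exact (h2 l hk hk' h).2 (Finset.mem_univ l)

/-- `RI I` is transitive on the nonzero vectors supported on `I` -/
theorem exists_trans (hI : ∀ k, I k → I (neg k)) {k : Ix n} (hk : I k) {v : Ix n → F} (hv : v ≠ 0)
    (hs : ∀ l, v l ≠ 0 → I l) : ∃ g ∈ RI F I, rho n F g v = be n F k := by
  -- a nonzero coordinate at `-k`
  obtain ⟨h, hh, h1, h2⟩ : ∃ h ∈ RI F I, rho n F h v (neg k) ≠ 0 ∧ ∀ l, rho n F h v l ≠ 0 → I l := by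
    by_cases h0 : v (neg k) = 0
    · obtain ⟨m, hm⟩ : ∃ m, v m ≠ 0 := by
        by_contra h
        push Not at h
        exact hv (funext h)
      by_cases hmk : m = k
      · subst hmk
        refine ⟨sy (neg m) 1, sy_RI (hI m hk) 1, ?_, fun l hl => ?_⟩
        · rw [rho_sy, neg_neg, one_mul, Pi.add_apply, h0, zero_add, Pi.smul_apply, be_apply, if_pos rfl, smul_eq_mul,
            mul_one]
          exact hm
        · rw [rho_sy, neg_neg, one_mul, Pi.add_apply, Pi.smul_apply, be_apply] at hl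
          by_cases hlm : l = neg m
          · rw [hlm]; exact hI m hk
          · rw [if_neg hlm, smul_zero, add_zero] at hl
            exact hs l hl
      · have hmk' : m ≠ neg k := fun e => hm (by rw [e]; exact h0)
        have hd : Dj (neg k) (neg m) := ⟨fun e => hmk (neg_inj.1 e).symm, by rw [neg_neg]; exact hmk'.symm⟩
        refine ⟨sx (neg k) (neg m) 1, sx_RI (hI k hk) (hI m (hs m hm)) 1, ?_, fun l hl => ?_⟩
        · rw [rho_sx hd, neg_neg, neg_neg, one_mul, one_mul, Pi.add_apply, Pi.add_apply, h0, zero_add, Pi.smul_apply,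
            Pi.smul_apply, be_apply, be_apply, if_pos rfl, if_neg (fun e => hmk (neg_inj.1 e).symm), smul_eq_mul,
            smul_zero, add_zero, mul_one]
          exact hm
        · rw [rho_sx hd, neg_neg, neg_neg, one_mul, one_mul, Pi.add_apply, Pi.add_apply, Pi.smul_apply,
            Pi.smul_apply, be_apply, be_apply] at hl
          by_cases hlk : l = neg k
          · rw [hlk]; exact hI k hk
          by_cases hlm : l = neg m
          · rw [hlm]; exact hI m (hs m hm)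
          · rw [if_neg hlk, if_neg hlm, smul_zero, smul_zero, add_zero, add_zero] at hl
            exact hs l hl
    · exact ⟨1, one_mem _, by rwa [act_one], fun l hl => hs l (by rwa [act_one] at hl)⟩
  set w := rho n F h v with hw
  set a := w (neg k) with ha
  have e1 : (a⁻¹ • w) (neg k) = 1 := by
    rw [Pi.smul_apply, smul_eq_mul]; exact inv_mul_cancel₀ h1
  obtain ⟨g, hg, eg⟩ := exists_red (I := I) e1 fun l _ _ hl => h2 l fun e => hl (by
    rw [Pi.smul_apply, e, smul_zero])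
  have hg' : g ∈ RI F I := RG_le (fun i hi a => by rw [hi]; exact sy_RI hk a)
    (fun i j hij a => by rw [hij.1]; exact sx_RI hk hij.2.1 a) hg
  have e2 : rho n F g w = a • be n F (neg k) := by
    have : w = a • (a⁻¹ • w) := by rw [smul_smul, mul_inv_cancel₀ h1, one_smul]
    rw [this, (SI.of_rho g).smul, eg]; rfl
  have hyI : hy (neg k) a⁻¹ ∈ RI F I := by
    have k1 : I (neg k) := hI k hk
    have k2 : I (neg (neg k)) := by rw [neg_neg]; exact hk
    exact mul_mem (mul_mem (mul_mem (sy_RI k1 _) (sy_RI k2 _)) (sy_RI k1 _))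
      (mul_mem (mul_mem (sy_RI k1 _) (sy_RI k2 _)) (sy_RI k1 _))
  obtain ⟨r, hr, er⟩ := exists_tr (F := F) hI (hI k hk) hk
  refine ⟨r * (hy (neg k) a⁻¹ * (g * h)), mul_mem hr (mul_mem hyI (mul_mem hg' hh)), ?_⟩
  have e3 : (1 : F ≃+* F) a = a := rfl
  rw [act_mul, act_mul, act_mul, ← hw, e2, (SI.of_rho _).smul, rho_hy _ (inv_ne_zero h1), e3,
    smul_smul, mul_inv_cancel₀ h1, one_smul, er]

theorem coord_act (A : Sy n F) (u : Ix n → F) (k : Ix n) : rho n F A u k = sympForm n F u (rho n F A⁻¹ (be n F (neg k))) := by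
  have h := sympForm_rho A u (rho n F A⁻¹ (be n F (neg k)))
  rw [← h, ← act_mul, mul_inv_cancel, act_one, form_be, neg_neg]

/-- the coordinate at `k` of `A u`, `A e_{-k} = e_{-k}` -/
theorem coord_of_fix {A : Sy n F} {k : Ix n} (h : rho n F A (be n F (neg k)) = be n F (neg k)) (u : Ix n → F) :
    rho n F A u k = u k := by
  rw [coord_act, act_inv h, form_be, neg_neg]

/-- **an element fixing the `e_k`, `k ∉ I`, is generated by root elements with indices in `I`** -/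
theorem gen_fix (N : ℕ) : ∀ (I : Ix n → Prop), (∀ k, I k → I (neg k)) → {k | I k}.ncard ≤ N → ∀ A : Sy n F,
    (∀ k, ¬ I k → rho n F A (be n F k) = be n F k) → A ∈ RI F I := by
  classical
  induction N with
  | zero =>
    intro I hI hN A hA
    have h1 : ∀ k, ¬ I k := fun k hk => by
      have : 0 < {k | I k}.ncard := (Set.ncard_pos (Set.toFinite _)).2 ⟨k, hk⟩
      omega
    have h2 : A = 1 := by
      apply rho_injective
      rw [map_one]
      exact SI.ext (SI.of_rho A) SI.one fun k => by rw [hA k (h1 k)]; rfl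
    rw [h2]; exact one_mem _
  | succ N ih =>
    intro I hI hN A hA
    by_cases hk : ∃ k, I k
    · obtain ⟨k, hk⟩ := hk
      have supp : ∀ (A : Sy n F), (∀ k, ¬ I k → rho n F A (be n F k) = be n F k) → ∀ m, I m → ∀ l,
          rho n F A (be n F m) l ≠ 0 → I l := by
        intro A hA m hm l hl
        by_contra h
        have h1 : ¬ I (neg l) := fun h2 => h (by have := hI _ h2; rwa [neg_neg] at this)
        rw [coord_of_fix (hA _ h1), be_apply] at hl
        rw [if_neg (fun e => h (by rw [e]; exact hm))] at hl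
        exact hl rfl
      obtain ⟨g, hg, eg⟩ := exists_trans (F := F) hI hk (v := rho n F A (be n F k))
        ((SI.of_rho A).ne (be_ne _)) (supp A hA k hk)
      have fixRI : ∀ g ∈ RI F I, ∀ l, ¬ I l → rho n F g (be n F l) = be n F l := by
        intro g hg l hl
        have hne : ∀ i, I i → (be n F l) (neg i) = 0 := fun i hi => by
          rw [be_apply, if_neg]
          rintro rfl
          exact hl (hI i hi)
        exact fix_RG hne (fun i j hij => ⟨hne i hij.1, hne j hij.2⟩) hg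
      set A' := g * A with hA'
      have hA'1 : ∀ l, ¬ I l → rho n F A' (be n F l) = be n F l := fun l hl => by
        rw [hA', act_mul, hA l hl, fixRI g hg l hl]
      have hA'k : rho n F A' (be n F k) = be n F k := by rw [hA', act_mul, eg]
      have h3 : rho n F A' (be n F (neg k)) (neg k) = 1 := by
        rw [coord_of_fix (by rw [neg_neg]; exact hA'k), be_apply, if_pos rfl]
      obtain ⟨g', hg', eg'⟩ := exists_red (I := I) h3 fun l _ _ hl => supp A' hA'1 _ (hI k hk) l hl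
      have hg'I : g' ∈ RI F I := RG_le (fun i hi a => by rw [hi]; exact sy_RI hk a)
        (fun i j hij a => by rw [hij.1]; exact sx_RI hk hij.2.1 a) hg'
      have hg'k : rho n F g' (be n F k) = be n F k := by
        refine fix_RG (fun i hi => ?_) (fun i j hij => ⟨?_, ?_⟩) hg'
        · rw [hi, be_apply, if_neg (neg_ne k)]
        · rw [hij.1, be_apply, if_neg (neg_ne k)]
        · rw [be_apply, if_neg]
          intro e
          exact hij.2.2.2 e.symm
      set A'' := g' * A' with hA''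
      have h5 : A'' ∈ RI F (fun l => I l ∧ l ≠ k ∧ l ≠ neg k) := by
        refine ih _ (fun l hl => ⟨hI l hl.1, fun e => hl.2.2 (by rw [← e, neg_neg]), fun e => hl.2.1 (neg_inj.1 e)⟩) ?_ A'' ?_
        · have h6 : {l | I l ∧ l ≠ k ∧ l ≠ neg k}.ncard < {l | I l}.ncard :=
            Set.ncard_lt_ncard ⟨fun l hl => hl.1, fun h => (h hk).2.1 rfl⟩ (Set.toFinite _)
          omega
        · intro l hl
          by_cases h6 : l = k
          · rw [h6, hA'', act_mul, hA'k, hg'k]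
          by_cases h7 : l = neg k
          · rw [h7, hA'', act_mul, eg']
          · have h8 : ¬ I l := fun h9 => hl ⟨h9, h6, h7⟩
            rw [hA'', act_mul, hA'1 l h8, fixRI g' hg'I l h8]
      have h6 : A'' ∈ RI F I := RI_mono (fun l hl => hl.1) h5
      have h7 : A = g⁻¹ * (g'⁻¹ * A'') := by rw [hA'', hA']; group
      rw [h7]
      exact mul_mem (inv_mem hg) (mul_mem (inv_mem hg'I) h6)
    · push Not at hk
      have h2 : A = 1 := by
        apply rho_injective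
        rw [map_one]
        exact SI.ext (SI.of_rho A) SI.one fun k => by rw [hA k (hk k)]; rfl
      rw [h2]; exact one_mem _

theorem gen_fix' (hI : ∀ k, I k → I (neg k)) {A : Sy n F} (hA : ∀ k, ¬ I k → rho n F A (be n F k) = be n F k) :
    A ∈ RI F I := gen_fix _ I hI le_rfl A hA

/-- all root elements generate -/
theorem RI_top : RI F (fun _ : Ix n => True) = ⊤ := by
  rw [eq_top_iff]
  intro A _
  exact gen_fix' (fun _ _ => trivial) fun k hk => absurd trivial hk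

/-! ### the stabilizers -/

/-- the elements fixing `e_1` and `e_2` -/
theorem mem_LM' (hn : 3 ≤ n) {A : Sy n F} (h0 : rho n F A (be n F (Sum.inl (c0 hn))) = be n F (Sum.inl (c0 hn)))
    (h1 : rho n F A (be n F (Sum.inl (c1 hn))) = be n F (Sum.inl (c1 hn))) : A ∈ LM F hn := by
  have h01 := c01 hn
  have e1 : rho n F A (be n F (Sum.inr (c0 hn))) (neg (Sum.inl (c0 hn))) = 1 := by
    rw [coord_of_fix (by simpa using h0)]; simp [be_apply]
  have e2 : rho n F A (be n F (Sum.inr (c0 hn))) (Sum.inr (c1 hn)) = 0 := by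
    rw [coord_of_fix (by simpa using h1)]; simp [be_apply, h01.symm]
  obtain ⟨g, hg, eg⟩ := exists_red (I := fun l => l ≠ Sum.inr (c1 hn)) e1
    (fun l _ _ hl => by rintro rfl; exact hl e2)
  have hgM : g ∈ LM F hn := RG_le (fun i hi a => by rw [hi]; exact sy_mem (by simp [PM]) a)
    (fun i j hij a => by
      obtain ⟨rfl, h3, h4⟩ := hij
      exact sx_mem ⟨by simp [PM], ⟨fun e => h4.2 (by rw [e]; rfl), h3⟩⟩ a) hg
  have g0 : rho n F g (be n F (Sum.inl (c0 hn))) = be n F (Sum.inl (c0 hn)) := by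
    refine fix_RG (fun i hi => ?_) (fun i j hij => ⟨?_, ?_⟩) hg
    · rw [hi]; simp [be_apply]
    · rw [hij.1]; simp [be_apply]
    · rw [be_apply, if_neg]
      exact fun e => hij.2.2.2 e.symm
  have g1 : rho n F g (be n F (Sum.inl (c1 hn))) = be n F (Sum.inl (c1 hn)) := by
    refine fix_RG (fun i hi => ?_) (fun i j hij => ⟨?_, ?_⟩) hg
    · rw [hi]; simp [be_apply]
    · rw [hij.1]; simp [be_apply]
    · rw [be_apply, if_neg]
      intro e
      rw [neg_eq_iff] at e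
      exact hij.2.1 e
  set A' := g * A with hA'
  have a0 : rho n F A' (be n F (Sum.inl (c0 hn))) = be n F (Sum.inl (c0 hn)) := by rw [hA', act_mul, h0, g0]
  have a1 : rho n F A' (be n F (Sum.inl (c1 hn))) = be n F (Sum.inl (c1 hn)) := by rw [hA', act_mul, h1, g1]
  have a2 : rho n F A' (be n F (Sum.inr (c0 hn))) = be n F (Sum.inr (c0 hn)) := by rw [hA', act_mul, eg]; rfl
  have e3 : rho n F A' (be n F (Sum.inr (c1 hn))) (neg (Sum.inl (c1 hn))) = 1 := by
    rw [coord_of_fix (by simpa using a1)]; simp [be_apply]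
  have e4 : rho n F A' (be n F (Sum.inr (c1 hn))) (Sum.inl (c0 hn)) = 0 := by
    rw [coord_of_fix (by simpa using a2)]; simp [be_apply]
  have e5 : rho n F A' (be n F (Sum.inr (c1 hn))) (Sum.inr (c0 hn)) = 0 := by
    rw [coord_of_fix (by simpa using a0)]; simp [be_apply, h01]
  obtain ⟨g', hg', eg'⟩ := exists_red (I := fun l => l ≠ Sum.inl (c0 hn) ∧ l ≠ Sum.inr (c0 hn)) e3
    (fun l _ _ hl => ⟨by rintro rfl; exact hl e4, by rintro rfl; exact hl e5⟩)
  have hgM' : g' ∈ LM F hn := RG_le (fun i hi a => by rw [hi]; exact sy_mem (by simp [PM]) a)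
    (fun i j hij a => by
      obtain ⟨rfl, h3, h4⟩ := hij
      exact sx_mem ⟨by simp [PM], ⟨h3.2, fun e => h4.2 (by rw [e]; rfl)⟩⟩ a) hg'
  have b0 : rho n F g' (be n F (Sum.inl (c0 hn))) = be n F (Sum.inl (c0 hn)) := by
    refine fix_RG (fun i hi => ?_) (fun i j hij => ⟨?_, ?_⟩) hg'
    · rw [hi]; simp [be_apply]
    · rw [hij.1]; simp [be_apply]
    · rw [be_apply, if_neg]
      intro e
      rw [neg_eq_iff] at e
      exact hij.2.1.2 e
  have b1 : rho n F g' (be n F (Sum.inl (c1 hn))) = be n F (Sum.inl (c1 hn)) := by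
    refine fix_RG (fun i hi => ?_) (fun i j hij => ⟨?_, ?_⟩) hg'
    · rw [hi]; simp [be_apply]
    · rw [hij.1]; simp [be_apply]
    · rw [be_apply, if_neg]
      exact fun e => hij.2.2.2 e.symm
  have b2 : rho n F g' (be n F (Sum.inr (c0 hn))) = be n F (Sum.inr (c0 hn)) := by
    refine fix_RG (fun i hi => ?_) (fun i j hij => ⟨?_, ?_⟩) hg'
    · rw [hi]; simp [be_apply, h01.symm]
    · rw [hij.1]; simp [be_apply, h01.symm]
    · rw [be_apply, if_neg]
      intro e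
      rw [neg_eq_iff] at e
      exact hij.2.1.1 e
  have key : g' * A' ∈ RI F (fun k : Ix n => k ≠ Sum.inl (c0 hn) ∧ k ≠ Sum.inr (c0 hn) ∧ k ≠ Sum.inl (c1 hn) ∧
      k ≠ Sum.inr (c1 hn)) := by
    refine gen_fix' (fun k hk => ?_) fun k hk => ?_
    · refine ⟨fun e => ?_, fun e => ?_, fun e => ?_, fun e => ?_⟩ <;> rw [neg_eq_iff] at e
      · exact hk.2.1 e
      · exact hk.1 e
      · exact hk.2.2.2 e
      · exact hk.2.2.1 e
    · rw [act_mul]
      by_cases k0 : k = Sum.inl (c0 hn)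
      · rw [k0, a0, b0]
      by_cases k1 : k = Sum.inr (c0 hn)
      · rw [k1, a2, b2]
      by_cases k2 : k = Sum.inl (c1 hn)
      · rw [k2, a1, b1]
      by_cases k3 : k = Sum.inr (c1 hn)
      · rw [k3, eg']; rfl
      · exact absurd ⟨k0, k1, k2, k3⟩ hk
  have h3 : g' * A' ∈ LM F hn := RG_le (fun i hi a => sy_mem ⟨hi.2.1, hi.2.2.2⟩ a)
    (fun i j hij a => sx_mem ⟨⟨hij.1.2.1, hij.1.2.2.2⟩, hij.2.2.1, hij.2.2.2.2⟩ a) key
  have h4 : A = g⁻¹ * (g'⁻¹ * (g' * A')) := by rw [hA']; group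
  rw [h4]
  exact mul_mem (inv_mem hgM) (mul_mem (inv_mem hgM') h3)

/-- **the stabilizer of `e_1` is `LA`** -/
theorem mem_LA (hn : 3 ≤ n) {A : Sy n F} (h0 : rho n F A (be n F (Sum.inl (c0 hn))) = be n F (Sum.inl (c0 hn))) :
    A ∈ LA F hn := by
  have e1 : rho n F A (be n F (Sum.inr (c0 hn))) (neg (Sum.inl (c0 hn))) = 1 := by
    rw [coord_of_fix (by simpa using h0)]; simp [be_apply]
  obtain ⟨g, hg, eg⟩ := exists_red (I := fun _ => True) e1 (fun l _ _ _ => trivial)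
  have hgM : g ∈ LA F hn := RG_le (fun i hi a => by rw [hi]; exact sy_mem (by simp [PA]) a)
    (fun i j hij a => by
      obtain ⟨rfl, -, h4⟩ := hij
      exact sx_mem ⟨by simp [PA], fun e => h4.2 (by rw [e]; rfl)⟩ a) hg
  have g0 : rho n F g (be n F (Sum.inl (c0 hn))) = be n F (Sum.inl (c0 hn)) := by
    refine fix_RG (fun i hi => ?_) (fun i j hij => ⟨?_, ?_⟩) hg
    · rw [hi]; simp [be_apply]
    · rw [hij.1]; simp [be_apply]
    · rw [be_apply, if_neg]
      exact fun e => hij.2.2.2 e.symm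
  have key : g * A ∈ RI F (fun k : Ix n => k ≠ Sum.inl (c0 hn) ∧ k ≠ Sum.inr (c0 hn)) := by
    refine gen_fix' (fun k hk => ?_) fun k hk => ?_
    · refine ⟨fun e => ?_, fun e => ?_⟩ <;> rw [neg_eq_iff] at e
      · exact hk.2 e
      · exact hk.1 e
    · rw [act_mul]
      by_cases k0 : k = Sum.inl (c0 hn)
      · rw [k0, h0, g0]
      by_cases k1 : k = Sum.inr (c0 hn)
      · rw [k1, eg]; rfl
      · exact absurd ⟨k0, k1⟩ hk
  have h3 : g * A ∈ LA F hn := RG_le (fun i hi a => sy_mem (P := PA hn) (Q := QA hn) hi.2 a)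
    (fun i j hij a => sx_mem (P := PA hn) (Q := QA hn) ⟨hij.1.2, hij.2.2⟩ a) key
  have h4 : A = g⁻¹ * (g * A) := by group
  rw [h4]
  exact mul_mem (inv_mem hgM) h3

/-- an element which fixes `e_1` and commutes with `x_12(1)` -/
theorem exists_e1 (hn : 3 ≤ n) {A : Sy n F} (h0 : rho n F A (be n F (Sum.inl (c0 hn))) = be n F (Sum.inl (c0 hn)))
    (h : Commute A (zz hn (1 : F) 0)) : ∃ c : F, rho n F A (be n F (Sum.inl (c1 hn))) =
      c • be n F (Sum.inl (c0 hn)) + (1 : F) • be n F (Sum.inl (c1 hn)) := by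
  have h01 := c01 hn
  have h1 : rho n F A (rho n F (zz hn 1 0) (be n F (Sum.inr (c0 hn)))) =
      rho n F (zz hn 1 0) (rho n F A (be n F (Sum.inr (c0 hn)))) := by rw [← act_mul, ← act_mul, h.eq]
  have e1 : rho n F A (be n F (Sum.inr (c0 hn))) (Sum.inr (c0 hn)) = 1 := by
    rw [coord_of_fix (by simpa using h0)]; simp [be_apply]
  rw [rho_zz, rho_zz, e1] at h1
  have e2 : be n F (Sum.inr (c0 hn)) (Sum.inr (c1 hn)) = 0 := by simp [be_apply, h01.symm]
  have e3 : be n F (Sum.inr (c0 hn)) (Sum.inr (c0 hn)) = 1 := by simp [be_apply]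
  simp only [e2, e3, mul_zero, mul_one, add_zero, zero_smul, one_mul, one_smul] at h1
  rw [(SI.of_rho A).add, add_assoc] at h1
  refine ⟨rho n F A (be n F (Sum.inr (c0 hn))) (Sum.inr (c1 hn)), ?_⟩
  rw [one_smul]
  exact add_left_cancel h1

theorem sp_mem_LB (hn : 3 ≤ n) (t : F) : sx (Sum.inl (c0 hn)) (Sum.inr (c1 hn)) t ∈ LB F hn :=
  sx_mem (P := PM hn) (Q := QB hn) (Or.inr (Or.inl ⟨rfl, rfl⟩)) t

theorem sm_mem_LB (hn : 3 ≤ n) (t : F) : sx (Sum.inr (c0 hn)) (Sum.inl (c1 hn)) t ∈ LB F hn :=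
  sx_mem (P := PM hn) (Q := QB hn) (Or.inr (Or.inr ⟨rfl, rfl⟩)) t

theorem sp_act (hn : 3 ≤ n) (t x y : F) : rho n F (sx (Sum.inl (c0 hn)) (Sum.inr (c1 hn)) t)
    (x • be n F (Sum.inl (c0 hn)) + y • be n F (Sum.inl (c1 hn))) =
      (x + t * y) • be n F (Sum.inl (c0 hn)) + y • be n F (Sum.inl (c1 hn)) :=
  rho_sx_pair (dj_lr (c01 hn)) t x y

theorem sm_act (hn : 3 ≤ n) (t x y : F) : rho n F (sx (Sum.inr (c0 hn)) (Sum.inl (c1 hn)) t)
    (x • be n F (Sum.inl (c0 hn)) + y • be n F (Sum.inl (c1 hn))) =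
      x • be n F (Sum.inl (c0 hn)) + (y + t * x) • be n F (Sum.inl (c1 hn)) :=
  rho_sx_pair' (dj_lr (c01 hn)) t x y

/-- `LB` is transitive on the nonzero vectors of `⟨e_1, e_2⟩` -/
theorem exists_LB (hn : 3 ≤ n) {w : Ix n → F} (hw : w ∈ W2 F hn) (h : w ≠ 0) :
    ∃ g ∈ LB F hn, rho n F g w = be n F (Sum.inl (c0 hn)) := by
  obtain ⟨x, y, rfl⟩ := (mem_W2 hn).1 hw
  have key : ∀ x y : F, y ≠ 0 → ∃ g ∈ LB F hn, rho n F g
      (x • be n F (Sum.inl (c0 hn)) + y • be n F (Sum.inl (c1 hn))) = be n F (Sum.inl (c0 hn)) := by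
    intro x y hy
    refine ⟨_, mul_mem (sm_mem_LB hn y) (sp_mem_LB hn ((1 + x) * y⁻¹)), ?_⟩
    have e1 : x + (1 + x) * y⁻¹ * y = 1 := by
      rw [mul_assoc, inv_mul_cancel₀ hy]
      linear_combination x * (two0 : (2 : F) = 0)
    rw [act_mul, sp_act, e1, sm_act, mul_one, CharTwo.add_self_eq_zero, zero_smul, add_zero, one_smul]
  by_cases hy : y = 0
  · subst hy
    have hx : x ≠ 0 := by
      rintro rfl
      exact h (by rw [zero_smul, zero_smul, add_zero])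
    obtain ⟨g, hg, e⟩ := key x (0 + 1 * x) (by rwa [zero_add, one_mul])
    exact ⟨_, mul_mem hg (sm_mem_LB hn 1), by rw [act_mul, sm_act, e]⟩
  · exact key x y hy

/-- **the centralizer of `x_12(1)` is `LB`** -/
theorem mem_LB (hn : 3 ≤ n) {A : Sy n F} (h : Commute A (zz hn (1 : F) 0)) : A ∈ LB F hn := by
  obtain ⟨g, hg, eg⟩ := exists_LB hn ((pres_W2 hn h).1 _ (be0_mem hn)) ((SI.of_rho A).ne (be_ne _))
  have h1 : Commute (g * A) (zz hn (1 : F) 0) := (LB_comm hn hg 1).mul_left h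
  have h0 : rho n F (g * A) (be n F (Sum.inl (c0 hn))) = be n F (Sum.inl (c0 hn)) := by rw [act_mul, eg]
  obtain ⟨c, hc⟩ := exists_e1 hn h0 h1
  have h2 : sx (Sum.inl (c0 hn)) (Sum.inr (c1 hn)) c * (g * A) ∈ LM F hn := by
    refine mem_LM' hn ?_ ?_
    · rw [act_mul, h0]
      have := sp_act hn c 1 0
      rwa [mul_zero, add_zero, zero_smul, add_zero, one_smul] at this
    · rw [act_mul, hc, sp_act, mul_one, CharTwo.add_self_eq_zero, zero_smul, zero_add, one_smul]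
  have e : A = g⁻¹ * ((sx (Sum.inl (c0 hn)) (Sum.inr (c1 hn)) c)⁻¹ *
      (sx (Sum.inl (c0 hn)) (Sum.inr (c1 hn)) c * (g * A))) := by group
  rw [e]
  exact mul_mem (inv_mem hg) (mul_mem (inv_mem (sp_mem_LB hn c)) (LM_le_LB hn h2))

end Cfsg.Agent.OddHalf.D4.SpN.Loc

end
end

-- part: OddHalf/D4/SpN/Blk
section
/-!
# ODD, D4, row `spe`: the subgroup `Sp₄(F)` of `Sp_2n(F)` attached to two indices (helper48)

`em i j : Ix 2 → Ix n` : `±1 ↦ ±i`, `±2 ↦ ±j`.

* `blk h : Sy 2 F →* Sy n F` (`h : Dj i j`), injective, `blk_sx`, `blk_sy`;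
* `exists_blk` : an element which fixes the basis vectors `e_k`, `k ≠ ±i, ±j`, is in the range of `blk`.
-/

set_option autoImplicit false
set_option linter.unusedSectionVars false
set_option linter.unusedSimpArgs false

namespace Cfsg.Agent.OddHalf.D4.SpN.Blk

open Cfsg Cfsg.Agent.ClassicalGeometry.SympBasic Cfsg.Agent.ClassicalGeometry.SympAutSemi
  Cfsg.Agent.OddHalf.SpN
open scoped Matrix

variable {n : ℕ} {F : Type*} [Field F] {i j : Ix n}

/-- the indices `±i, ±j` -/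
def em (i j : Ix n) : Ix 2 → Ix n := Sum.elim ![i, j] ![neg i, neg j]

theorem em_neg (l : Ix 2) : em i j (neg l) = neg (em i j l) := by
  rcases l with l | l <;> fin_cases l <;> simp [em]

theorem em_inj (h : Dj i j) : Function.Injective (em i j) := by
  have h1 : neg j ≠ i := fun e => h.2 e.symm
  have h2 : neg i ≠ j := fun e => h.2 (by rw [← e, neg_neg])
  intro a b
  rcases a with a | a <;> rcases b with b | b <;> (revert a b; simp only [em, h.1, h.1.symm, h.2, h.2.symm, h1, h2, h1.symm, h2.symm, neg_ne, ne_neg, _root_.Fin.forall_fin_succ, _root_.Sum.elim_inl, _root_.Sum.inl.injEq, Fin.isValue, _root_.Matrix.cons_val_zero, _root_.Matrix.cons_val_succ, _root_.Matrix.cons_val_fin_one, _root_.Fin.succ_zero_eq_one, _root_.IsEmpty.forall_iff, _root_.and_true, _root_.imp_self, _root_.zero_ne_one, _root_.and_self, _root_.Fin.succ_ne_zero, _root_.forall_const, _root_.true_and, _root_.Sum.elim_inr, reduceCtorEq, _root_.imp_false,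 _root_.not_false_eq_true, _root_.implies_true, _root_.Sum.inr.injEq, _root_.Cfsg.Agent.OddHalf.SpN.neg_inj])

theorem em_or (i j k : Ix n) : (∃ l, em i j l = k) ∨ (Dj i k ∧ Dj j k) := by
  by_cases h1 : k = i
  · exact Or.inl ⟨Sum.inl 0, h1.symm⟩
  by_cases h2 : k = j
  · exact Or.inl ⟨Sum.inl 1, h2.symm⟩
  by_cases h3 : k = neg i
  · exact Or.inl ⟨Sum.inr 0, h3.symm⟩
  by_cases h4 : k = neg j
  · exact Or.inl ⟨Sum.inr 1, h4.symm⟩
  exact Or.inr ⟨⟨Ne.symm h1, fun e => h3 (by rw [e, neg_neg])⟩, ⟨Ne.symm h2, fun e => h4 (by rw [e, neg_neg])⟩⟩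

theorem em_ne {k : Ix n} (h1 : Dj i k) (h2 : Dj j k) (l : Ix 2) : em i j l ≠ k := by
  rcases l with l | l <;> fin_cases l
  · exact h1.1
  · exact h2.1
  · intro e
    have e : neg i = k := e
    exact h1.2 (by rw [← e, neg_neg])
  · intro e
    have e : neg j = k := e
    exact h2.2 (by rw [← e, neg_neg])

theorem em_dj (h : Dj i j) {l m : Ix 2} (hl : Dj l m) : Dj (em i j l) (em i j m) :=
  ⟨fun e => hl.1 (em_inj h e), fun e => hl.2 (em_inj h (by rw [em_neg]; exact e))⟩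

/-! ### The form -/

open Classical in
theorem sum_split (h : Dj i j) (f : Ix n → F) :
    ∑ k, f k = ∑ l, f (em i j l) + ∑ k ∈ Finset.univ.filter (fun k => ¬ ∃ l, em i j l = k), f k := by
  rw [← Finset.sum_filter_add_sum_filter_not Finset.univ (fun k => ∃ l, em i j l = k)]
  congr 1
  have e : Finset.univ.filter (fun k => ∃ l, em i j l = k) = Finset.univ.image (em i j) := by
    ext k; simp only [_root_.Sum.exists, _root_.Fin.exists_fin_two, _root_.Fin.isValue, _root_.Finset.mem_filter, _root_.Finset.mem_univ, _root_.true_and, _root_.Finset.mem_image]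
  rw [e, Finset.sum_image fun a _ b _ hab => em_inj h hab]

/-- the coordinates `±i, ±j` -/
def rs (i j : Ix n) (v : Ix n → F) : Ix 2 → F := fun l => v (em i j l)

variable [CharP F 2]

open Classical in
theorem form_split (h : Dj i j) (u v : Ix n → F) : sympForm n F u v = sympForm 2 F (rs i j u) (rs i j v) +
    ∑ k ∈ Finset.univ.filter (fun k => ¬ ∃ l, em i j l = k), u (neg k) * v k := by
  rw [form_eq, form_eq, sum_split h]
  congr 1
  exact Finset.sum_congr rfl fun l _ => by rw [rs, rs, em_neg]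

/-! ### The embedding -/

open Classical in
omit [CharP F 2] in
/-- `A` acts on the coordinates `±i, ±j` -/
noncomputable def bf (i j : Ix n) (A : Sy 2 F) (v : Ix n → F) : Ix n → F :=
  fun k => if h : ∃ l, em i j l = k then rho 2 F A (rs i j v) h.choose else v k

omit [CharP F 2] in
theorem bf_em (h : Dj i j) (A : Sy 2 F) (v : Ix n → F) (l : Ix 2) : bf i j A v (em i j l) = rho 2 F A (rs i j v) l := by
  have h1 : ∃ l', em i j l' = em i j l := ⟨l, rfl⟩
  rw [bf, dif_pos h1, em_inj h h1.choose_spec]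

omit [CharP F 2] in
theorem bf_of {k : Ix n} (h1 : Dj i k) (h2 : Dj j k) (A : Sy 2 F) (v : Ix n → F) : bf i j A v k = v k := by
  have h3 : ¬ ∃ l', em i j l' = k := fun ⟨l, hl⟩ => em_ne h1 h2 l hl
  rw [bf, dif_neg h3]

omit [CharP F 2] in
theorem rs_bf (h : Dj i j) (A : Sy 2 F) (v : Ix n → F) : rs i j (bf i j A v) = rho 2 F A (rs i j v) := by
  ext l
  exact bf_em h A v l

omit [CharP F 2] in
theorem bf_mul (h : Dj i j) (A B : Sy 2 F) (v : Ix n → F) : bf i j A (bf i j B v) = bf i j (A * B) v := by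
  ext k
  rcases em_or i j k with ⟨l, rfl⟩ | ⟨h1, h2⟩
  · rw [bf_em h, bf_em h, rs_bf h, map_mul]; rfl
  · rw [bf_of h1 h2, bf_of h1 h2, bf_of h1 h2]

omit [CharP F 2] in
theorem bf_one (h : Dj i j) (v : Ix n → F) : bf i j (1 : Sy 2 F) v = v := by
  ext k
  rcases em_or i j k with ⟨l, rfl⟩ | ⟨h1, h2⟩
  · rw [bf_em h, map_one]; rfl
  · rw [bf_of h1 h2]

theorem exists_blk' (h : Dj i j) (A : Sy 2 F) : ∃ B : Sy n F, ∀ v, rho n F B v = bf i j A v := by
  let p : Equiv.Perm (Ix n → F) :=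
    { toFun := bf i j A
      invFun := bf i j A⁻¹
      left_inv := fun v => by rw [bf_mul h, inv_mul_cancel, bf_one h]
      right_inv := fun v => by rw [bf_mul h, mul_inv_cancel, bf_one h] }
  obtain ⟨B, hB⟩ := exists_rho_eq (m := n) (F := F) p (fun u v => by
      change bf i j A (u + v) = bf i j A u + bf i j A v
      ext k
      rw [Pi.add_apply]
      rcases em_or i j k with ⟨l, rfl⟩ | ⟨h1, h2⟩
      · rw [bf_em h, bf_em h, bf_em h]
        have e : rs i j (u + v) = rs i j u + rs i j v := rfl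
        rw [e, rho_add]; rfl
      · rw [bf_of h1 h2, bf_of h1 h2, bf_of h1 h2]; rfl) (fun a v => by
      change bf i j A (a • v) = a • bf i j A v
      ext k
      rw [Pi.smul_apply]
      rcases em_or i j k with ⟨l, rfl⟩ | ⟨h1, h2⟩
      · rw [bf_em h, bf_em h]
        have e : rs i j (a • v) = a • rs i j v := rfl
        rw [e, rho_smul]; rfl
      · rw [bf_of h1 h2, bf_of h1 h2]; rfl) (fun u v => by
      change sympForm n F (bf i j A u) (bf i j A v) = _
      classical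
      rw [form_split h, form_split h u v, rs_bf h, rs_bf h, sympForm_rho]
      congr 1
      refine Finset.sum_congr rfl fun k hk => ?_
      rw [Finset.mem_filter] at hk
      rcases em_or i j k with h3 | ⟨h1, h2⟩
      · exact absurd h3 hk.2
      · rw [bf_of h1 h2, bf_of (dj_neg_right.2 h1) (dj_neg_right.2 h2)])
  exact ⟨B, fun v => by rw [hB]; rfl⟩

/-- **`Sp₄(F) → Sp_2n(F)`**, acting on the coordinates `±i, ±j` -/
noncomputable def blk (h : Dj i j) : Sy 2 F →* Sy n F where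
  toFun A := Classical.choose (exists_blk' h A)
  map_one' := by
    apply rho_injective
    ext1 v
    rw [Classical.choose_spec (exists_blk' h (1 : Sy 2 F)), map_one, bf_one h]
    rfl
  map_mul' A B := by
    apply rho_injective
    ext1 v
    rw [map_mul, Equiv.Perm.mul_apply, Classical.choose_spec (exists_blk' h (A * B)),
      Classical.choose_spec (exists_blk' h A), Classical.choose_spec (exists_blk' h B), bf_mul h]

theorem rho_blk (h : Dj i j) (A : Sy 2 F) (v : Ix n → F) : rho n F (blk h A) v = bf i j A v :=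
  Classical.choose_spec (exists_blk' h A) v

theorem rho_blk_em (h : Dj i j) (A : Sy 2 F) (v : Ix n → F) (l : Ix 2) :
    rho n F (blk h A) v (em i j l) = rho 2 F A (rs i j v) l := by rw [rho_blk, bf_em h]

theorem rho_blk_of (h : Dj i j) {k : Ix n} (h1 : Dj i k) (h2 : Dj j k) (A : Sy 2 F) (v : Ix n → F) :
    rho n F (blk h A) v k = v k := by rw [rho_blk, bf_of h1 h2]

theorem be_em (h : Dj i j) (l m : Ix 2) : be n F (em i j l) (em i j m) = be 2 F l m := by
  rw [be_apply, be_apply]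
  congr 1
  exact propext (em_inj h).eq_iff

theorem be_em_of {k : Ix n} (h1 : Dj i k) (h2 : Dj j k) (l : Ix 2) : be n F (em i j l) k = 0 := by
  rw [be_apply, if_neg fun e => em_ne h1 h2 l e.symm]

theorem blk_sy (h : Dj i j) (l : Ix 2) (a : F) : blk h (sy l a) = sy (em i j l) a := by
  apply rho_injective
  ext v k
  rw [rho_sy, Pi.add_apply, Pi.smul_apply]
  rcases em_or i j k with ⟨m, rfl⟩ | ⟨h1, h2⟩
  · rw [rho_blk_em, rho_sy, Pi.add_apply, Pi.smul_apply, be_em h, ← em_neg]; rfl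
  · rw [rho_blk_of h h1 h2, be_em_of h1 h2, smul_zero, add_zero]

theorem blk_sx (h : Dj i j) {l m : Ix 2} (hl : Dj l m) (a : F) :
    blk h (sx l m a) = sx (em i j l) (em i j m) a := by
  apply rho_injective
  ext v k
  rw [rho_sx (em_dj h hl), Pi.add_apply, Pi.add_apply, Pi.smul_apply, Pi.smul_apply]
  rcases em_or i j k with ⟨r, rfl⟩ | ⟨h1, h2⟩
  · rw [rho_blk_em, rho_sx hl, Pi.add_apply, Pi.add_apply, Pi.smul_apply, Pi.smul_apply, be_em h, be_em h, ← em_neg,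
      ← em_neg]; rfl
  · rw [rho_blk_of h h1 h2, be_em_of h1 h2, be_em_of h1 h2, smul_zero, smul_zero, add_zero, add_zero]

omit [CharP F 2] in
open Classical in
theorem rs_surj (h : Dj i j) (w : Ix 2 → F) : ∃ v : Ix n → F, rs i j v = w :=
  ⟨fun k => if h : ∃ l, em i j l = k then w h.choose else 0, by
    ext l
    have h1 : ∃ l', em i j l' = em i j l := ⟨l, rfl⟩
    rw [rs, dif_pos h1, em_inj h h1.choose_spec]⟩

theorem blk_injective (h : Dj i j) : Function.Injective (blk (F := F) h) := by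
  intro A B hAB
  apply rho_injective
  ext1 w
  obtain ⟨v, rfl⟩ := rs_surj h w
  ext l
  rw [← rho_blk_em h, ← rho_blk_em h, hAB]

/-! ### The range -/

/-- the coordinates of `v` outside `±i, ±j` do not change -/
theorem rho_of_fix {A : Sy n F} (hA : ∀ k, Dj i k → Dj j k → rho n F A (be n F k) = be n F k) {k : Ix n}
    (h1 : Dj i k) (h2 : Dj j k) (v : Ix n → F) : rho n F A v k = v k := by
  have e1 : rho n F A v k = sympForm n F (rho n F A v) (be n F (neg k)) := by rw [form_be, neg_neg]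
  have e2 := hA (neg k) (dj_neg_right.2 h1) (dj_neg_right.2 h2)
  rw [e1, ← e2, sympForm_rho, form_be, neg_neg]

theorem fix_inv {A : Sy n F} (hA : ∀ k, Dj i k → Dj j k → rho n F A (be n F k) = be n F k) :
    ∀ k, Dj i k → Dj j k → rho n F A⁻¹ (be n F k) = be n F k := by
  intro k h1 h2
  have e := hA k h1 h2
  rw [map_inv]
  exact (Equiv.Perm.inv_eq_iff_eq).2 e.symm

/-- extension by zero -/
noncomputable def ex (i j : Ix n) (w : Ix 2 → F) : Ix n → F := ∑ l, w l • be n F (em i j l)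

theorem rs_ex (h : Dj i j) (w : Ix 2 → F) : rs i j (ex i j w) = w := by
  ext m
  rw [rs, ex, Finset.sum_apply, Finset.sum_eq_single m]
  · rw [Pi.smul_apply, be_em h, be_apply, if_pos rfl, smul_eq_mul, mul_one]
  · intro l _ hl
    rw [Pi.smul_apply, be_em h, be_apply, if_neg hl.symm, smul_zero]
  · intro hm
    exact absurd (Finset.mem_univ m) hm

theorem ex_of {k : Ix n} (h1 : Dj i k) (h2 : Dj j k) (w : Ix 2 → F) : ex i j w k = 0 := by
  rw [ex, Finset.sum_apply]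
  exact Finset.sum_eq_zero fun l _ => by rw [Pi.smul_apply, be_em_of h1 h2, smul_zero]

theorem ex_rs (h : Dj i j) {v : Ix n → F} (hv : ∀ k, Dj i k → Dj j k → v k = 0) : ex i j (rs i j v) = v := by
  ext k
  rcases em_or i j k with ⟨l, rfl⟩ | ⟨h1, h2⟩
  · exact congrFun (rs_ex h (rs i j v)) l
  · rw [ex_of h1 h2, hv k h1 h2]

theorem form_ex (h : Dj i j) (u v : Ix 2 → F) : sympForm n F (ex i j u) (ex i j v) = sympForm 2 F u v := by
  classical
  rw [form_split h, rs_ex h, rs_ex h, Finset.sum_eq_zero, add_zero]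
  intro k hk
  rw [Finset.mem_filter] at hk
  rcases em_or i j k with h3 | ⟨h1, h2⟩
  · exact absurd h3 hk.2
  · rw [ex_of h1 h2, mul_zero]

theorem ex_rho (h : Dj i j) {A : Sy n F} (hA : ∀ k, Dj i k → Dj j k → rho n F A (be n F k) = be n F k)
    (w : Ix 2 → F) : ex i j (rs i j (rho n F A (ex i j w))) = rho n F A (ex i j w) :=
  ex_rs h fun k h1 h2 => by rw [rho_of_fix hA h1 h2, ex_of h1 h2]

/-- **The elements fixing the other basis vectors.** -/
theorem exists_blk (h : Dj i j) {A : Sy n F} (hA : ∀ k, Dj i k → Dj j k → rho n F A (be n F k) = be n F k) :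
    ∃ B : Sy 2 F, blk h B = A := by
  have hA' := fix_inv hA
  have ex_add : ∀ u v : Ix 2 → F, ex i j (u + v) = ex i j u + ex i j v := fun u v => by
    rw [ex, ex, ex, ← Finset.sum_add_distrib]
    exact Finset.sum_congr rfl fun l _ => by rw [Pi.add_apply, add_smul]
  have ex_smul : ∀ (a : F) (u : Ix 2 → F), ex i j (a • u) = a • ex i j u := fun a u => by
    rw [ex, ex, Finset.smul_sum]
    exact Finset.sum_congr rfl fun l _ => by rw [Pi.smul_apply, smul_eq_mul, mul_smul]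
  let p : Equiv.Perm (Ix 2 → F) :=
    { toFun := fun w => rs i j (rho n F A (ex i j w))
      invFun := fun w => rs i j (rho n F A⁻¹ (ex i j w))
      left_inv := fun w => by
        show rs i j (rho n F A⁻¹ (ex i j (rs i j (rho n F A (ex i j w))))) = w
        rw [ex_rho h hA, ← Equiv.Perm.mul_apply, ← map_mul, inv_mul_cancel, map_one]
        exact rs_ex h w
      right_inv := fun w => by
        show rs i j (rho n F A (ex i j (rs i j (rho n F A⁻¹ (ex i j w))))) = w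
        rw [ex_rho h hA', ← Equiv.Perm.mul_apply, ← map_mul, mul_inv_cancel, map_one]
        exact rs_ex h w }
  obtain ⟨B, hB⟩ := exists_rho_eq (m := 2) (F := F) p (fun u v => by
      show rs i j (rho n F A (ex i j (u + v))) = _
      rw [ex_add, rho_add]; rfl) (fun a v => by
      show rs i j (rho n F A (ex i j (a • v))) = _
      rw [ex_smul, rho_smul]; rfl) (fun u v => by
      show sympForm 2 F (rs i j (rho n F A (ex i j u))) (rs i j (rho n F A (ex i j v))) = _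
      rw [← form_ex h, ex_rho h hA, ex_rho h hA, sympForm_rho, form_ex h])
  have hB' : ∀ w l, rho 2 F B w l = rho n F A (ex i j w) (em i j l) := fun w l => by rw [hB]; rfl
  refine ⟨B, ?_⟩
  apply rho_injective
  ext v k
  rcases em_or i j k with ⟨l, rfl⟩ | ⟨h1, h2⟩
  · rw [rho_blk_em, hB']
    have e1 : v = ex i j (rs i j v) + (v - ex i j (rs i j v)) := by abel
    have e2 : rho n F A (v - ex i j (rs i j v)) (em i j l) = 0 := by
      rw [rho_eq_sum]
      refine Finset.sum_eq_zero fun m _ => ?_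
      rcases em_or i j m with ⟨r, rfl⟩ | ⟨h1, h2⟩
      · have e3 : (v - ex i j (rs i j v)) (em i j r) = 0 := by
          rw [Pi.sub_apply]
          have e4 := congrFun (rs_ex h (rs i j v)) r
          change ex i j (rs i j v) (em i j r) = v (em i j r) at e4
          rw [e4, sub_self]
        rw [e3, zero_mul]
      · rw [ent, hA m h1 h2, be_apply, if_neg (em_ne h1 h2 l), mul_zero]
    conv_rhs => rw [e1, rho_add, Pi.add_apply, e2, add_zero]
  · rw [rho_blk_of h h1 h2, rho_of_fix hA h1 h2]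

end Cfsg.Agent.OddHalf.D4.SpN.Blk
end

-- part: OddHalf/D4/SpN/FourStd
section
/-!
# ODD, D4, row `spe`: the standard root elements of `Sp₄(F) ≤ Sp_2n(F)` as a `B₂` package (helper48)

* `maps i j : B2Maps (stdSp F) (Sy n F)` : `x = X_{i-j}`, `y = X_{i+j}` (short), `z₁ = Y_i`, `z₂ = Y_j` (long);
* `maps_rel` : it satisfies `B2Rel`;
* `S2 : Std (stdSp F) (Sy 2 F)` : for `n = 2` it generates.
-/

set_option autoImplicit false
set_option linter.unusedSectionVars false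

namespace Cfsg.Agent.OddHalf.D4.SpN.FourStd

open Cfsg Cfsg.Agent.ClassicalGeometry.SympBasic Cfsg.Agent.ClassicalGeometry.SympAutSemi
  Cfsg.Agent.OddHalf.SpN
open Cfsg.Agent.TitsThree.B2Pkg Cfsg.Agent.TitsThree.StdData Cfsg.Agent.TitsThree.RankTwoIdentB2
  Cfsg.Agent.StdRank2.B2Std
open scoped Matrix commutatorElement

variable {n : ℕ} {F : Type*} [Field F] {i j : Ix n}

/-- the root elements on `±i, ±j` -/
noncomputable def maps (F : Type*) [Field F] (i j : Ix n) : B2Maps (stdSp F) (Sy n F) where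
  x a := sx i (neg j) a
  x' a := sx (neg i) j a
  y a := sx i j a
  y' a := sx (neg i) (neg j) a
  z₁ p := sy i p.c
  z₂ p := sy j p.c
  z₁' p := sy (neg i) p.c
  z₂' p := sy (neg j) p.c

variable [CharP F 2]

omit [CharP F 2] in
theorem ev_inv' (lam : Fin n → Fˣ) (k : Ix n) : ev lam⁻¹ k = (ev lam k)⁻¹ := map_inv (evM k) lam

/-- conjugation by `h w h⁻¹` -/
theorem cj_sx (lam : Fin n → Fˣ) (s : W n) (k l : Ix n) (a : F) :
    (sh lam * sw s * (sh lam)⁻¹) * sx k l a * (sh lam * sw s * (sh lam)⁻¹)⁻¹ =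
      sx (s.1 k) (s.1 l) (ev lam (s.1 k) * ev lam (s.1 l) * (((ev lam k)⁻¹ : Fˣ) * ((ev lam l)⁻¹ : Fˣ) * a)) := by
  have h1 : (sh lam)⁻¹ * sx k l a * ((sh lam)⁻¹)⁻¹ = sx k l (((ev lam k)⁻¹ : Fˣ) * ((ev lam l)⁻¹ : Fˣ) * a) := by
    rw [← map_inv, sh_sx, ev_inv', ev_inv']
  calc _ = sh lam * (sw s * ((sh lam)⁻¹ * sx k l a * ((sh lam)⁻¹)⁻¹) * (sw s)⁻¹) * (sh lam)⁻¹ := by group
    _ = _ := by rw [h1, sw_sx, sh_sx]

theorem cj_sy (lam : Fin n → Fˣ) (s : W n) (k : Ix n) (a : F) :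
    (sh lam * sw s * (sh lam)⁻¹) * sy k a * (sh lam * sw s * (sh lam)⁻¹)⁻¹ =
      sy (s.1 k) ((ev lam (s.1 k) : F) ^ 2 * ((((ev lam k)⁻¹ : Fˣ) : F) ^ 2 * a)) := by
  have h1 : (sh lam)⁻¹ * sy k a * ((sh lam)⁻¹)⁻¹ = sy k ((((ev lam k)⁻¹ : Fˣ) : F) ^ 2 * a) := by
    rw [← map_inv, sh_sy, ev_inv']
  calc _ = sh lam * (sw s * ((sh lam)⁻¹ * sy k a * ((sh lam)⁻¹)⁻¹) * (sw s)⁻¹) * (sh lam)⁻¹ := by group
    _ = _ := by rw [h1, sw_sy, sh_sy]

theorem cjs_sx (lam : Fin n → Fˣ) {e : Equiv.Perm (Ix n)} (he : e ∈ W n) (k l : Ix n) (a : F) :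
    (sh lam * sw ⟨e, he⟩ * (sh lam)⁻¹) * sx k l a * (sh lam * sw ⟨e, he⟩ * (sh lam)⁻¹)⁻¹ =
      sx (e k) (e l) (ev lam (e k) * ev lam (e l) * (((ev lam k)⁻¹ : Fˣ) * ((ev lam l)⁻¹ : Fˣ) * a)) :=
  cj_sx lam ⟨e, he⟩ k l a

theorem cjs_sy (lam : Fin n → Fˣ) {e : Equiv.Perm (Ix n)} (he : e ∈ W n) (k : Ix n) (a : F) :
    (sh lam * sw ⟨e, he⟩ * (sh lam)⁻¹) * sy k a * (sh lam * sw ⟨e, he⟩ * (sh lam)⁻¹)⁻¹ =
      sy (e k) ((ev lam (e k) : F) ^ 2 * ((((ev lam k)⁻¹ : Fˣ) : F) ^ 2 * a)) :=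
  cj_sy lam ⟨e, he⟩ k a

theorem sws_sx {e : Equiv.Perm (Ix n)} (he : e ∈ W n) (k l : Ix n) (a : F) :
    sw ⟨e, he⟩ * sx k l a * (sw ⟨e, he⟩)⁻¹ = sx (e k) (e l) a := sw_sx ⟨e, he⟩ k l a

theorem sws_sy {e : Equiv.Perm (Ix n)} (he : e ∈ W n) (k : Ix n) (a : F) :
    sw ⟨e, he⟩ * sy k a * (sw ⟨e, he⟩)⁻¹ = sy (e k) a := sw_sy ⟨e, he⟩ k a

omit [CharP F 2] in
theorem sg_neg' (j : Ix n) : sg (neg j) j = neg j := by
  rw [sg, neg_neg]; exact Equiv.swap_apply_right _ _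

theorem nI_eq (h : Dj i j) : (maps F i j).nI = sw ⟨tr i j, tr_mem h⟩ := by
  rw [sw_tr h, B2Maps.nI]
  show sx i (neg j) 1 * sx (neg i) j (-1) * sx i (neg j) 1 = _
  rw [CharTwo.neg_eq]

theorem nII_eq (p : (stdSp F).T) {d : Fˣ} (hd : (d : F) ^ 2 = p.c) :
    (maps F i j).nII p = sh (one j d) * sw ⟨sg (neg j), sg_mem (neg j)⟩ * (sh (one j d))⁻¹ := by
  have h0 : p.c ≠ 0 := by rw [← hd]; exact pow_ne_zero 2 d.ne_zero
  have e1 : ((stdSp F).sc (-((stdSp F).σ p.c)⁻¹) p).c = (((d⁻¹ : Fˣ) : F)) ^ 2 * 1 := by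
    show -(p.c)⁻¹ * -(p.c)⁻¹ * p.c = _
    rw [← hd, Units.val_inv_eq_inv_val]
    have := d.ne_zero
    field_simp
  have e2 : ((stdSp F).sc (-((stdSp F).ε * p.c⁻¹)) p).c = (((d⁻¹ : Fˣ) : F)) ^ 2 * 1 := by
    show -(-1 * (p.c)⁻¹) * -(-1 * (p.c)⁻¹) * p.c = _
    rw [← hd, Units.val_inv_eq_inv_val]
    have := d.ne_zero
    field_simp
  have h1 : sy (neg j) ((((d⁻¹ : Fˣ) : F)) ^ 2 * 1) = sh (one j d) * sy (neg j) 1 * (sh (one j d))⁻¹ := by
    rw [sh_sy, ev_one_neg]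
  have h2 : sy j p.c = sh (one j d) * sy j 1 * (sh (one j d))⁻¹ := by
    rw [sh_sy, ev_one_self, mul_one, hd]
  rw [B2Maps.nII, sw_sg, neg_neg]
  show sy (neg j) _ * sy j p.c * sy (neg j) _ = _
  rw [e1, e2, h1, h2]
  group

set_option maxHeartbeats 1000000 in
theorem maps_rel [Finite F] (h : Dj i j) : B2Rel (maps F i j) := by
  have hsq : ∀ c : F, c ≠ 0 → ∃ d : Fˣ, (d : F) ^ 2 = c := fun c hc => by
    obtain ⟨d, hd⟩ := (Finite.injective_iff_surjective.1 (frobenius_inj F 2)) c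
    have hd' : d ^ 2 = c := hd
    refine ⟨Units.mk0 d ?_, hd'⟩
    rintro rfl
    exact hc (by rw [← hd']; simp)
  have nn : ∀ a : F, -a = a := fun a => CharTwo.neg_eq a
  have ti : tr i j i = j := tr_left h
  have tj : tr i j j = i := by
    rw [tr, Equiv.Perm.mul_apply, Equiv.swap_apply_of_ne_of_ne (fun e => h.2 (by rw [e, neg_neg])) (ne_neg j),
      Equiv.swap_apply_right]
  have tni : tr i j (neg i) = neg j := by
    have := tr_mem h i
    rw [this, ti]
  have tnj : tr i j (neg j) = neg i := by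
    have := tr_mem h j
    rw [this, tj]
  have si : sg (neg j) i = i := sg_fix (dj_neg_right.2 h)
  have sni : sg (neg j) (neg i) = neg i := sg_fix (dj_neg_left.2 (dj_neg_right.2 h))
  have sj : sg (neg j) j = neg j := sg_neg' j
  have snj : sg (neg j) (neg j) = j := by rw [sg_left, neg_neg]
  have oi : ∀ d : Fˣ, ev (one j d) i = 1 := fun d => ev_one_ne h d
  have oni : ∀ d : Fˣ, ev (one j d) (neg i) = 1 := fun d => ev_one_ne (dj_neg_left.2 h) d
  exact
  { x_add := fun a b => sx_add _ _ a b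
    x'_add := fun a b => sx_add _ _ a b
    y_add := fun a b => sx_add _ _ a b
    y'_add := fun a b => sx_add _ _ a b
    z₁_mul := fun p q => by
      show sy i (p.c + q.c - 0) = _
      rw [sub_zero, sy_add]; rfl
    z₂_mul := fun p q => by
      show sy j (p.c + q.c - 0) = _
      rw [sub_zero, sy_add]; rfl
    z₁'_mul := fun p q => by
      show sy (neg i) (p.c + q.c - 0) = _
      rw [sub_zero, sy_add]; rfl
    z₂'_mul := fun p q => by
      show sy (neg j) (p.c + q.c - 0) = _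
      rw [sub_zero, sy_add]; rfl
    x_z₂ := fun a p => by
      show ⁅sx i (neg j) a, sy j p.c⁆ = sy i (a * a * p.c) * sx i j (-(-1 * a * p.c))
      have h1 := sy_rel h.symm p.c a
      have e1 : sx i (neg j) a = sx (neg j) i a := sx_symm _ _ _
      have hc : Commute (sx i j (p.c * a)) (sy i (p.c * a ^ 2)) :=
        (sy_sx_comm (ne_neg i) (fun e => h.2 (by rw [e, neg_neg])) _ _).symm
      have i1 : (sx i j (p.c * a))⁻¹ = sx i j (p.c * a) := inv_eq_of_mul_eq_one_left (sx_sq _ _ _)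
      have i2 : (sy i (p.c * a ^ 2))⁻¹ = sy i (p.c * a ^ 2) := inv_eq_of_mul_eq_one_left (sy_sq _ _)
      have e2 : a * a * p.c = p.c * a ^ 2 := by ring
      have e3 : -(-1 * a * p.c) = p.c * a := by ring
      rw [e2, e3, e1, commutatorElement_def]
      rw [sx_symm j i] at h1
      calc sx (neg j) i a * sy j p.c * (sx (neg j) i a)⁻¹ * (sy j p.c)⁻¹
          = (sx i j (p.c * a) * sy i (p.c * a ^ 2))⁻¹ *
            (sx i j (p.c * a) * sy i (p.c * a ^ 2) * (sx (neg j) i a * sy j p.c)) *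
            (sx (neg j) i a)⁻¹ * (sy j p.c)⁻¹ := by group
        _ = (sx i j (p.c * a) * sy i (p.c * a ^ 2))⁻¹ * (sy j p.c * sx (neg j) i a) *
            (sx (neg j) i a)⁻¹ * (sy j p.c)⁻¹ := by rw [h1]
        _ = (sx i j (p.c * a) * sy i (p.c * a ^ 2))⁻¹ := by group
        _ = _ := by rw [mul_inv_rev, i1, i2]
    z₁_z₂ := fun p q => by
      show ⁅sy i p.c, sy j q.c⁆ = sx i j (-0)
      rw [neg_zero, sx_zero, commutatorElement_eq_one_iff_commute]
      exact sy_comm (fun e => h.2 (by rw [e, neg_neg])) _ _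
    x_y := fun a b => by
      show ⁅sx i (neg j) a, sx i j b⁆ = sy i (a * b - -1 * a * b)
      have e : a * b - -1 * a * b = 0 := by
        have := two0 (F := F)
        linear_combination (a * b) * this
      rw [e, sy_zero, commutatorElement_eq_one_iff_commute, sx_symm i (neg j), sx_symm i j]
      exact (sx_comm' b a).symm
    x_z₁ := fun a p => (sy_sx_comm (ne_neg i) (fun e => h.1 (by rw [← _root_.Cfsg.Agent.OddHalf.SpN.neg_neg j, e, neg_neg])) _ _).symm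
    y_z₁ := fun a p => (sy_sx_comm (ne_neg i) (fun e => h.2 (by rw [e, neg_neg])) _ _).symm
    y_z₂ := fun a p => (sy_sx_comm h.2 (ne_neg j) _ _).symm
    nI_x := fun a => by
      rw [nI_eq h]
      show sw ⟨tr i j, tr_mem h⟩ * sx i (neg j) a * (sw ⟨tr i j, tr_mem h⟩)⁻¹ = sx (neg i) j (-a)
      rw [sws_sx, nn, ti, tnj, sx_symm]
    nI_x' := fun a => by
      rw [nI_eq h]
      show sw ⟨tr i j, tr_mem h⟩ * sx (neg i) j a * (sw ⟨tr i j, tr_mem h⟩)⁻¹ = sx i (neg j) (-a)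
      rw [sws_sx, nn, tni, tj, sx_symm]
    nI_y := fun a => by
      rw [nI_eq h]
      show sw ⟨tr i j, tr_mem h⟩ * sx i j a * (sw ⟨tr i j, tr_mem h⟩)⁻¹ = sx i j (-1 * a)
      rw [sws_sx, neg_one_mul, nn, ti, tj, sx_symm]
    nI_y' := fun a => by
      rw [nI_eq h]
      show sw ⟨tr i j, tr_mem h⟩ * sx (neg i) (neg j) a * (sw ⟨tr i j, tr_mem h⟩)⁻¹ = sx (neg i) (neg j) ((-1)⁻¹ * a)
      have e : ((-1 : F)⁻¹) = 1 := by rw [nn, inv_one]
      rw [sws_sx, e, one_mul, tni, tnj, sx_symm]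
    nI_z₁ := fun p => by
      rw [nI_eq h]
      show sw ⟨tr i j, tr_mem h⟩ * sy i p.c * (sw ⟨tr i j, tr_mem h⟩)⁻¹ = sy j (-1 * -1 * p.c)
      have e : (-1 * -1 * p.c : F) = p.c := by ring
      rw [sws_sy, e, ti]
    nI_z₂ := fun p => by
      rw [nI_eq h]
      show sw ⟨tr i j, tr_mem h⟩ * sy j p.c * (sw ⟨tr i j, tr_mem h⟩)⁻¹ = sy i p.c
      rw [sws_sy, tj]
    nI_z₁' := fun p => by
      rw [nI_eq h]
      show sw ⟨tr i j, tr_mem h⟩ * sy (neg i) p.c * (sw ⟨tr i j, tr_mem h⟩)⁻¹ = sy (neg j) (-1 * -1 * p.c)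
      have e : (-1 * -1 * p.c : F) = p.c := by ring
      rw [sws_sy, e, tni]
    nI_z₂' := fun p => by
      rw [nI_eq h]
      show sw ⟨tr i j, tr_mem h⟩ * sy (neg j) p.c * (sw ⟨tr i j, tr_mem h⟩)⁻¹ = sy (neg i) p.c
      rw [sws_sy, tnj]
    nII_x := fun p hp a => by
      obtain ⟨d, hd⟩ := hsq p.c hp
      rw [nII_eq p hd]
      show sh (one j d) * sw ⟨sg (neg j), sg_mem (neg j)⟩ * (sh (one j d))⁻¹ * sx i (neg j) a *
        (sh (one j d) * sw ⟨sg (neg j), sg_mem (neg j)⟩ * (sh (one j d))⁻¹)⁻¹ = sx i j (-1 * p.c * a)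
      rw [cjs_sx, si, snj, oi, ev_one_self, ev_one_neg, neg_one_mul, nn, ← hd]
      congr 1
      simp only [inv_one, Units.val_one, one_mul, inv_inv]
      ring
    nII_y := fun p hp b => by
      obtain ⟨d, hd⟩ := hsq p.c hp
      rw [nII_eq p hd]
      show sh (one j d) * sw ⟨sg (neg j), sg_mem (neg j)⟩ * (sh (one j d))⁻¹ * sx i j b *
        (sh (one j d) * sw ⟨sg (neg j), sg_mem (neg j)⟩ * (sh (one j d))⁻¹)⁻¹ = sx i (neg j) (p.c⁻¹ * b)
      rw [cjs_sx, si, sj, oi, ev_one_self, ev_one_neg, ← hd]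
      congr 1
      have := d.ne_zero
      simp only [inv_one, Units.val_one, one_mul, Units.val_inv_eq_inv_val]
      field_simp
    nII_x' := fun p hp a => by
      obtain ⟨d, hd⟩ := hsq p.c hp
      rw [nII_eq p hd]
      show sh (one j d) * sw ⟨sg (neg j), sg_mem (neg j)⟩ * (sh (one j d))⁻¹ * sx (neg i) j a *
        (sh (one j d) * sw ⟨sg (neg j), sg_mem (neg j)⟩ * (sh (one j d))⁻¹)⁻¹ = sx (neg i) (neg j) (-(p.c⁻¹ * a))
      rw [cjs_sx, sni, sj, oni, ev_one_self, ev_one_neg, ← hd, nn]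
      congr 1
      have := d.ne_zero
      simp only [inv_one, Units.val_one, one_mul, Units.val_inv_eq_inv_val]
      field_simp
    nII_y' := fun p hp b => by
      obtain ⟨d, hd⟩ := hsq p.c hp
      rw [nII_eq p hd]
      show sh (one j d) * sw ⟨sg (neg j), sg_mem (neg j)⟩ * (sh (one j d))⁻¹ * sx (neg i) (neg j) b *
        (sh (one j d) * sw ⟨sg (neg j), sg_mem (neg j)⟩ * (sh (one j d))⁻¹)⁻¹ = sx (neg i) j (-((-1)⁻¹ * p.c * b))
      have e : ((-1 : F)⁻¹) = 1 := by rw [nn, inv_one]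
      rw [cjs_sx, sni, snj, oni, ev_one_self, ev_one_neg, ← hd, e, nn]
      congr 1
      simp only [inv_one, Units.val_one, one_mul, inv_inv]
      ring
    nII_z₁ := fun p hp q => by
      obtain ⟨d, hd⟩ := hsq p.c hp
      rw [nII_eq p hd]
      show sh (one j d) * sw ⟨sg (neg j), sg_mem (neg j)⟩ * (sh (one j d))⁻¹ * sy i q.c *
        (sh (one j d) * sw ⟨sg (neg j), sg_mem (neg j)⟩ * (sh (one j d))⁻¹)⁻¹ = sy i q.c
      rw [cjs_sy, si, oi]
      simp
    nII_z₁' := fun p hp q => by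
      obtain ⟨d, hd⟩ := hsq p.c hp
      rw [nII_eq p hd]
      show sh (one j d) * sw ⟨sg (neg j), sg_mem (neg j)⟩ * (sh (one j d))⁻¹ * sy (neg i) q.c *
        (sh (one j d) * sw ⟨sg (neg j), sg_mem (neg j)⟩ * (sh (one j d))⁻¹)⁻¹ = sy (neg i) q.c
      rw [cjs_sy, sni, oni]
      simp
    nII_z₂ := fun p hp q => by
      obtain ⟨d, hd⟩ := hsq p.c hp
      rw [nII_eq p hd]
      show sh (one j d) * sw ⟨sg (neg j), sg_mem (neg j)⟩ * (sh (one j d))⁻¹ * sy j q.c *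
        (sh (one j d) * sw ⟨sg (neg j), sg_mem (neg j)⟩ * (sh (one j d))⁻¹)⁻¹ = sy (neg j) (p.c⁻¹ * p.c⁻¹ * q.c)
      rw [cjs_sy, sj, ev_one_self, ev_one_neg, ← hd]
      congr 1
      have := d.ne_zero
      simp only [Units.val_inv_eq_inv_val]
      field_simp
    nII_z₂' := fun p hp q => by
      obtain ⟨d, hd⟩ := hsq p.c hp
      rw [nII_eq p hd]
      show sh (one j d) * sw ⟨sg (neg j), sg_mem (neg j)⟩ * (sh (one j d))⁻¹ * sy (neg j) q.c *
        (sh (one j d) * sw ⟨sg (neg j), sg_mem (neg j)⟩ * (sh (one j d))⁻¹)⁻¹ = sy j ((-1)⁻¹ * p.c * ((-1)⁻¹ * p.c) * q.c)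
      have e : ((-1 : F)⁻¹) = 1 := by rw [nn, inv_one]
      rw [cjs_sy, snj, ev_one_self, ev_one_neg, ← hd, e]
      congr 1
      simp only [inv_inv]
      ring }

/-! ### Nondegeneracy -/

theorem be_ne' (k : Ix n) : be n F k ≠ 0 := fun h => by
  have := congrFun h k
  rw [be_apply, if_pos rfl] at this
  exact one_ne_zero this

/-- the positive part preserves `e_i` and `e_j + ⟨e_i⟩` -/
theorem pos_fix (h : Dj i j) {g : Sy n F} (hg : g ∈ UU (maps F i j)) :
    rho n F g (be n F i) = be n F i ∧ ∃ a : F, rho n F g (be n F j) = be n F j + a • be n F i := by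
  have hij : neg i ≠ j := fun e => h.2 (by rw [← e, neg_neg])
  have hji : neg j ≠ i := fun e => h.2 e.symm
  refine Subgroup.closure_induction (p := fun g _ => rho n F g (be n F i) = be n F i ∧
    ∃ a : F, rho n F g (be n F j) = be n F j + a • be n F i) ?_ ?_ ?_ ?_ hg
  · rintro g (⟨a, rfl | rfl⟩ | ⟨p, rfl | rfl⟩)
    · show rho n F (sx i (neg j) a) _ = _ ∧ ∃ b : F, rho n F (sx i (neg j) a) _ = _
      have hd : Dj i (neg j) := dj_neg_right.2 h
      refine ⟨?_, a, ?_⟩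
      · rw [rho_sx hd, be_apply, be_apply, neg_neg, if_neg h.1.symm, if_neg (neg_ne i)]; simp
      · rw [rho_sx hd, be_apply, be_apply, neg_neg, if_pos rfl, if_neg hij]; simp
    · show rho n F (sx i j a) _ = _ ∧ ∃ b : F, rho n F (sx i j a) _ = _
      refine ⟨?_, 0, ?_⟩
      · rw [rho_sx h, be_apply, be_apply, if_neg hji, if_neg (neg_ne i)]; simp
      · rw [rho_sx h, be_apply, be_apply, if_neg (neg_ne j), if_neg hij]; simp
    · show rho n F (sy i p.c) _ = _ ∧ ∃ b : F, rho n F (sy i p.c) _ = _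
      refine ⟨?_, 0, ?_⟩
      · rw [rho_sy, be_apply, if_neg (neg_ne i)]; simp
      · rw [rho_sy, be_apply, if_neg hij]; simp
    · show rho n F (sy j p.c) _ = _ ∧ ∃ b : F, rho n F (sy j p.c) _ = _
      refine ⟨?_, 0, ?_⟩
      · rw [rho_sy, be_apply, if_neg hji]; simp
      · rw [rho_sy, be_apply, if_neg (neg_ne j)]; simp
  · rw [map_one]
    exact ⟨rfl, 0, by rw [zero_smul, add_zero]; rfl⟩
  · rintro g k - - ⟨h1, a, h2⟩ ⟨h3, b, h4⟩
    rw [map_mul, Equiv.Perm.mul_apply, Equiv.Perm.mul_apply, h3, h4]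
    refine ⟨h1, a + b, ?_⟩
    rw [rho_add, rho_smul, h1, h2, add_smul, add_assoc]
  · rintro g - ⟨h1, a, h2⟩
    rw [map_inv]
    have h3 : (rho n F g)⁻¹ (be n F i) = be n F i := by
      rw [Equiv.Perm.inv_eq_iff_eq]; exact h1.symm
    refine ⟨h3, a, ?_⟩
    rw [Equiv.Perm.inv_eq_iff_eq, rho_add, rho_smul, h1, h2, add_assoc, ← add_smul, CharTwo.add_self_eq_zero,
      zero_smul, add_zero]

theorem ndI (h : Dj i j) : ∃ a, (maps F i j).x' a ∉ UU (maps F i j) := by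
  refine ⟨1, fun hm => ?_⟩
  have h1 := (pos_fix h hm).1
  change rho n F (sx (neg i) j 1) _ = _ at h1
  have hij : neg i ≠ j := fun e => h.2 (by rw [← e, neg_neg])
  have hji : neg j ≠ i := fun e => h.2 e.symm
  rw [rho_sx (dj_neg_left.2 h), be_apply, be_apply, neg_neg, if_neg hji, if_pos rfl, mul_zero, zero_smul, add_zero,
    mul_one, one_smul] at h1
  exact be_ne' j (left_eq_add.1 h1.symm)

theorem ndJ (h : Dj i j) : ∃ p, (maps F i j).z₂' p ∉ UU (maps F i j) := by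
  refine ⟨⟨(), 1, trivial⟩, fun hm => ?_⟩
  obtain ⟨a, h1⟩ := (pos_fix h hm).2
  change rho n F (sy (neg j) 1) _ = _ at h1
  have hij : neg i ≠ j := fun e => h.2 (by rw [← e, neg_neg])
  have hji : neg j ≠ i := fun e => h.2 e.symm
  rw [rho_sy, be_apply, neg_neg, if_pos rfl, mul_one, one_smul] at h1
  have h2 := add_left_cancel h1
  have h3 := congrFun h2 (neg j)
  rw [be_apply, if_pos rfl, Pi.smul_apply, be_apply, if_neg hji, smul_zero] at h3
  exact one_ne_zero h3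

/-! ### Generation for `n = 2` -/

section gen

/-- the subgroup generated by the negative and positive root elements -/
def Cg (F : Type*) [Field F] : Subgroup (Sy 2 F) :=
  Subgroup.closure (genSet (maps F (Sum.inl 0 : Ix 2) (Sum.inl 1)))

omit [CharP F 2] in
theorem ij : Dj (Sum.inl 0 : Ix 2) (Sum.inl 1) := ⟨by decide, by decide⟩

theorem x_mem (a : F) : sx (Sum.inl 0 : Ix 2) (neg (Sum.inl 1)) a ∈ Cg F :=
  Subgroup.subset_closure (Or.inl ⟨a, Or.inl rfl⟩)

theorem x'_mem (a : F) : sx (neg (Sum.inl 0 : Ix 2)) (Sum.inl 1) a ∈ Cg F :=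
  Subgroup.subset_closure (Or.inl ⟨a, Or.inr rfl⟩)

theorem z₂_mem (a : F) : sy (Sum.inl 1 : Ix 2) a ∈ Cg F :=
  Subgroup.subset_closure (Or.inr ⟨⟨(), a, trivial⟩, Or.inl rfl⟩)

theorem z₂'_mem (a : F) : sy (neg (Sum.inl 1 : Ix 2)) a ∈ Cg F :=
  Subgroup.subset_closure (Or.inr ⟨⟨(), a, trivial⟩, Or.inr rfl⟩)

theorem nI_mem : sw (F := F) ⟨tr (Sum.inl 0 : Ix 2) (Sum.inl 1), tr_mem ij⟩ ∈ Cg F := by
  rw [sw_tr ij]
  exact mul_mem (mul_mem (x_mem 1) (x'_mem 1)) (x_mem 1)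

theorem z₁_mem (a : F) : sy (Sum.inl 0 : Ix 2) a ∈ Cg F := by
  have h := sws_sy (F := F) (tr_mem (ij)) (Sum.inl 1 : Ix 2) a
  have e : tr (Sum.inl 0 : Ix 2) (Sum.inl 1) (Sum.inl 1) = Sum.inl 0 := by decide
  rw [e] at h
  rw [← h]
  exact mul_mem (mul_mem nI_mem (z₂_mem a)) (inv_mem nI_mem)

theorem z₁'_mem (a : F) : sy (neg (Sum.inl 0 : Ix 2)) a ∈ Cg F := by
  have h := sws_sy (F := F) (tr_mem (ij)) (neg (Sum.inl 1 : Ix 2)) a
  have e : tr (Sum.inl 0 : Ix 2) (Sum.inl 1) (neg (Sum.inl 1)) = neg (Sum.inl 0) := by decide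
  rw [e] at h
  rw [← h]
  exact mul_mem (mul_mem nI_mem (z₂'_mem a)) (inv_mem nI_mem)

/-- kill the coordinate `-k` -/
theorem kill {k : Ix 2} (hk : ∀ a : F, sy k a ∈ Cg F) (hk' : ∀ a : F, sy (neg k) a ∈ Cg F) (v : Ix 2 → F) :
    ∃ g ∈ Cg F, rho 2 F g v (neg k) = 0 ∧ (∀ l, l ≠ k → l ≠ neg k → rho 2 F g v l = v l) := by
  by_cases h1 : v (neg k) = 0
  · exact ⟨1, one_mem _, by rw [map_one]; exact h1, fun l _ _ => by rw [map_one]; rfl⟩
  have key : ∀ w : Ix 2 → F, w k ≠ 0 → ∃ g ∈ Cg F, rho 2 F g w (neg k) = 0 ∧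
      (∀ l, l ≠ k → l ≠ neg k → rho 2 F g w l = w l) := by
    intro w hw
    refine ⟨sy (neg k) (w (neg k) / w k), hk' _, ?_, ?_⟩
    · rw [rho_sy, neg_neg, Pi.add_apply, Pi.smul_apply, be_apply, if_pos rfl, div_mul_cancel₀ _ hw, smul_eq_mul,
        mul_one, CharTwo.add_self_eq_zero]
    · intro l _ h3
      rw [rho_sy, Pi.add_apply, Pi.smul_apply, be_apply, if_neg h3, smul_zero, add_zero]
  by_cases h2 : v k = 0
  · obtain ⟨g, hg, h3, h4⟩ := key (rho 2 F (sy k 1) v) (by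
      rw [rho_sy, Pi.add_apply, Pi.smul_apply, be_apply, if_pos rfl, h2, zero_add, one_mul, smul_eq_mul, mul_one]
      exact h1)
    refine ⟨g * sy k 1, mul_mem hg (hk 1), ?_, ?_⟩
    · rw [map_mul, Equiv.Perm.mul_apply]; exact h3
    · intro l h5 h6
      rw [map_mul, Equiv.Perm.mul_apply, h4 l h5 h6, rho_sy, Pi.add_apply, Pi.smul_apply, be_apply, if_neg h5,
        smul_zero, add_zero]
  · exact key v h2

theorem exists_move (v : Ix 2 → F) : ∃ g ∈ Cg F, ∃ a : F, rho 2 F g v = a • be 2 F (Sum.inl 0) := by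
  obtain ⟨g, hg, h1, h2⟩ := kill z₁_mem z₁'_mem v
  obtain ⟨k, hk, h3, h4⟩ := kill z₂_mem z₂'_mem (rho 2 F g v)
  obtain ⟨w, hw⟩ : ∃ w, w = rho 2 F k (rho 2 F g v) := ⟨_, rfl⟩
  have w0 : w (Sum.inr 0) = 0 := by
    have h5 := h4 (Sum.inr 0) (by decide) (by decide)
    rw [hw, h5]; exact h1
  have w1 : w (Sum.inr 1) = 0 := by rw [hw]; exact h3
  have hkg : k * g ∈ Cg F := mul_mem hk hg
  have hw' : rho 2 F (k * g) v = w := by rw [hw, map_mul]; rfl
  by_cases ha : w (Sum.inl 0) = 0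
  · refine ⟨sw ⟨tr (Sum.inl 0 : Ix 2) (Sum.inl 1), tr_mem ij⟩ * (k * g), mul_mem nI_mem hkg, w (Sum.inl 1), ?_⟩
    rw [map_mul, Equiv.Perm.mul_apply, hw']
    ext l
    rw [rho_sw, Pi.smul_apply, be_apply]
    have e : ∀ l : Ix 2, (tr (Sum.inl 0 : Ix 2) (Sum.inl 1))⁻¹ l = tr (Sum.inl 0 : Ix 2) (Sum.inl 1) l := by decide
    change w ((tr (Sum.inl 0 : Ix 2) (Sum.inl 1))⁻¹ l) = _
    rw [e]
    have e0 : tr (Sum.inl 0 : Ix 2) (Sum.inl 1) (Sum.inl 0) = Sum.inl 1 := by decide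
    have e1 : tr (Sum.inl 0 : Ix 2) (Sum.inl 1) (Sum.inl 1) = Sum.inl 0 := by decide
    have e2 : tr (Sum.inl 0 : Ix 2) (Sum.inl 1) (Sum.inr 0) = Sum.inr 1 := by decide
    have e3 : tr (Sum.inl 0 : Ix 2) (Sum.inl 1) (Sum.inr 1) = Sum.inr 0 := by decide
    rcases l with l | l <;> fin_cases l
    · show w (tr (Sum.inl 0 : Ix 2) (Sum.inl 1) (Sum.inl 0)) = _
      rw [e0]; simp
    · show w (tr (Sum.inl 0 : Ix 2) (Sum.inl 1) (Sum.inl 1)) = _
      rw [e1, ha]; simp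
    · show w (tr (Sum.inl 0 : Ix 2) (Sum.inl 1) (Sum.inr 0)) = _
      rw [e2, w1]; simp
    · show w (tr (Sum.inl 0 : Ix 2) (Sum.inl 1) (Sum.inr 1)) = _
      rw [e3, w0]; simp
  · refine ⟨sx (neg (Sum.inl 0 : Ix 2)) (Sum.inl 1) (w (Sum.inl 1) / w (Sum.inl 0)) * (k * g),
      mul_mem (x'_mem _) hkg, w (Sum.inl 0), ?_⟩
    rw [map_mul, Equiv.Perm.mul_apply, hw', rho_sx (dj_neg_left.2 ij), neg_neg]
    have n1 : neg (Sum.inl 1 : Ix 2) = Sum.inr 1 := rfl
    rw [n1, w1, mul_zero, zero_smul, add_zero, div_mul_cancel₀ _ ha]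
    ext l
    rw [Pi.add_apply, Pi.smul_apply, Pi.smul_apply, be_apply, be_apply]
    rcases l with l | l <;> fin_cases l
    · simp
    · simp [CharTwo.add_self_eq_zero]
    · simpa using w0
    · simpa using w1

theorem gen_top : Cg F = ⊤ := by
  rw [eq_top_iff, ← Cfsg.Agent.S0765.result 2, Subgroup.closure_le]
  rintro A ⟨w, c, hA⟩
  have hA' : A = transv w c := Subtype.ext hA
  show A ∈ Cg F
  obtain ⟨g, hg, a, h1⟩ := exists_move w
  have h2 : g * A * g⁻¹ = sy (Sum.inl 0) (a ^ 2 * c) := by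
    rw [hA', Cfsg.Agent.ClassicalGeometry.SympSiegel.conj_transv, sy,
      ← Cfsg.Agent.ClassicalGeometry.SympSiegel.transv_smul_vec]
    congr 1
  have h3 : A = g⁻¹ * (g * A * g⁻¹) * g := by group
  rw [h3, h2]
  exact mul_mem (mul_mem (inv_mem hg) (z₁_mem _)) hg

end gen

theorem mem_UU_of {Z : Type*} [Group Z] {f : Sy 2 F →* Z} (hf : Function.Injective f) {m : B2Maps (stdSp F) (Sy 2 F)}
    {g : Sy 2 F} (h : f.rangeRestrict g ∈ UU (m.map f.rangeRestrict)) : g ∈ UU m := by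
  have h1 : UU (m.map f.rangeRestrict) = (UU m).map f.rangeRestrict := by
    rw [UU, UU, MonoidHom.map_closure]
    congr 1
    ext g
    constructor
    · rintro (⟨a, rfl | rfl⟩ | ⟨p, rfl | rfl⟩)
      · exact ⟨_, Or.inl ⟨a, Or.inl rfl⟩, rfl⟩
      · exact ⟨_, Or.inl ⟨a, Or.inr rfl⟩, rfl⟩
      · exact ⟨_, Or.inr ⟨p, Or.inl rfl⟩, rfl⟩
      · exact ⟨_, Or.inr ⟨p, Or.inr rfl⟩, rfl⟩
    · rintro ⟨_, ⟨a, rfl | rfl⟩ | ⟨p, rfl | rfl⟩, rfl⟩
      · exact Or.inl ⟨a, Or.inl rfl⟩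
      · exact Or.inl ⟨a, Or.inr rfl⟩
      · exact Or.inr ⟨p, Or.inl rfl⟩
      · exact Or.inr ⟨p, Or.inr rfl⟩
  rw [h1] at h
  obtain ⟨k, hk, e⟩ := h
  have h2 : k = g := hf (congrArg Subtype.val e)
  rwa [← h2]

/-- **The standard datum of `Sp₄(F)`.** -/
noncomputable def S2 (F : Type*) [Field F] [CharP F 2] [Finite F] : Std (stdSp F) (Sy 2 F) where
  m := maps F (Sum.inl 0) (Sum.inl 1)
  rel := maps_rel ij
  p₀ := ⟨(), 1, trivial⟩
  hp₀ := one_ne_zero
  gen := gen_top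
  ndI := ndI ij
  ndJ := ndJ ij

/-- transport to the range of an injective homomorphism -/
noncomputable def ofInj [Finite F] {Z : Type*} [Group Z] {f : Sy 2 F →* Z} (hf : Function.Injective f) :
    Std (stdSp F) ↥f.range where
  m := (S2 F).m.map f.rangeRestrict
  rel := (S2 F).rel.map f.rangeRestrict
  p₀ := (S2 F).p₀
  hp₀ := (S2 F).hp₀
  gen := by
    have h1 : genSet ((S2 F).m.map f.rangeRestrict) = f.rangeRestrict '' genSet (S2 F).m := by
      ext g
      constructor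
      · rintro (⟨a, rfl | rfl⟩ | ⟨p, rfl | rfl⟩)
        · exact ⟨_, Or.inl ⟨a, Or.inl rfl⟩, rfl⟩
        · exact ⟨_, Or.inl ⟨a, Or.inr rfl⟩, rfl⟩
        · exact ⟨_, Or.inr ⟨p, Or.inl rfl⟩, rfl⟩
        · exact ⟨_, Or.inr ⟨p, Or.inr rfl⟩, rfl⟩
      · rintro ⟨_, ⟨a, rfl | rfl⟩ | ⟨p, rfl | rfl⟩, rfl⟩
        · exact Or.inl ⟨a, Or.inl rfl⟩
        · exact Or.inl ⟨a, Or.inr rfl⟩
        · exact Or.inr ⟨p, Or.inl rfl⟩
        · exact Or.inr ⟨p, Or.inr rfl⟩
    rw [h1, ← MonoidHom.map_closure, (S2 F).gen, ← MonoidHom.range_eq_map, MonoidHom.range_eq_top]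
    exact f.rangeRestrict_surjective
  ndI := by
    obtain ⟨a, ha⟩ := (S2 F).ndI
    exact ⟨a, fun h => ha (mem_UU_of hf h)⟩
  ndJ := by
    obtain ⟨p, hp⟩ := (S2 F).ndJ
    exact ⟨p, fun h => hp (mem_UU_of hf h)⟩

end Cfsg.Agent.OddHalf.D4.SpN.FourStd
end

-- part: OddHalf/D4/SpN/Kf
section
/-!
# ODD, D4, row `Sp_2n(q)`, `n ≥ 3`, `q ≥ 4` even: the facts on `K` (helper550; bb ODD #14529)

`S` is a Sylow 2-subgroup of `K`, `X = Z(S) = X_l × X_s`; `P_l`, `P_s` the largest perfect subgroups of the centralizers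
of `X_l`, `X_s`; `H` the largest perfect subgroup of `C_K(X)` (it does not contain `S`); `A ≤ H` a `p`-group, `p` odd.

* `LocX K w H` : `H` is the largest perfect subgroup of `C_K(w)`;
* `Rt K S X Xr Pr A` : the facts on one of the two root groups;
* `SpX K S X H Xl Xs Pl Ps A p` : all facts used in the K-free part (`D4/SpN/Mover.lean`);
* `A0 hn F p` : the elements `h(1, 1, t₃, …, tₙ)`, `tᵢ ^ p = 1`.

For `K = ι(Sp_2n(F))`: `S = ι(Up)`, `X = ι(Zz)`, `X_l = ι(Y1)`, `X_s = ι(X12)`, `P_l = ι(LA)`, `P_s = ι(LB)`, `H = ι(LM)`,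
`A = ι(A0)`.
-/

set_option autoImplicit false

namespace Cfsg.Agent.OddHalf.D4.SpN.Kf

open Cfsg Subgroup Cfsg.Agent.OddHalf.D4 Cfsg.Agent.OddHalf.D4.Basic
open Cfsg.Agent.OddHalf.SpN Cfsg.Agent.OddHalf.SpN.Out
open Cfsg.Agent.OddHalf.D4.CommConj (cj)

variable {G : Type*} [Group G]

/-- `H` is the largest perfect subgroup of `C_K(w)`, and contains `w`. -/
structure LocX (K : Subgroup G) (w : G) (H : Subgroup G) : Prop where
  HK : H ≤ K
  Hw : ∀ y ∈ H, y * w = w * y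
  mem : w ∈ H
  perf : H ≤ ⁅H, H⁆
  two : H ≤ _root_.Subgroup.closure {x | x ∈ H ∧ ∃ k : ℕ, x ^ 2 ^ k = 1}
  res : ∀ P : Subgroup G, P ≤ K → P ≤ ⁅P, P⁆ → (∀ y ∈ P, y * w = w * y) → P ≤ H
  /-- `H` is directly indecomposable -/
  ind : ∀ A B : Subgroup G, A ≤ H → B ≤ H → (∀ a ∈ A, ∀ b ∈ B, a * b = b * a) → A ⊓ B = ⊥ →
    (∀ y ∈ H, ∃ a ∈ A, ∃ b ∈ B, y = a * b) → A = ⊥ ∨ B = ⊥
  /-- the centralizers of the involutions of `H` generate `K` -/
  gen : ∀ J : Subgroup G, (∀ x ∈ H, x * x = 1 → x ≠ 1 → ∀ k ∈ K, k * x = x * k → k ∈ J) → K ≤ J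

/-- The facts on one of the two root groups `X_r` of `X = Z(S)`. -/
structure Rt (K S X Xr Pr A : Subgroup G) : Prop where
  XX : Xr ≤ X
  ne : Xr ≠ ⊥
  SP : S ≤ Pr
  loc : ∀ w ∈ Xr, w ≠ 1 → LocX K w Pr
  AP : A ≤ Pr
  /-- a torus element of `P_r` centralises only `X_r` in `X` -/
  tor : ∃ y ∈ Pr, (∀ x ∈ X, y * x * y⁻¹ ∈ X) ∧ ∀ x ∈ X, y * x = x * y → x ∈ Xr
  /-- a torus element `h` of `K` centralises `P_r` modulo a normal 2-subgroup `V`, and acts fixed point freely on `X_r` -/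
  mov : ∃ h ∈ K, ∃ V ≤ Pr, IsPGroup 2 ↥V ∧ (∀ y ∈ Pr, ∀ v ∈ V, y * v * y⁻¹ ∈ V) ∧
    (∀ y ∈ Pr, h * y * h⁻¹ * y⁻¹ ∈ V) ∧ (∀ x ∈ Xr, h * x * h⁻¹ ∈ Xr) ∧ ∀ x ∈ Xr, h * x = x * h → x = 1

/-- All facts on `K` used in the K-free part. -/
structure SpX (K S X H Xl Xs Pl Ps A : Subgroup G) (p : ℕ) : Prop where
  syl : IsSyl S K
  tight : TightAt K
  even : Even (Nat.card ↥(centralizer (K : Set G)))
  ctr : ∀ x ∈ K, x ∈ centralizer (K : Set G) → x = 1
  /-- `K` does not commute with its conjugates -/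
  std : ∀ g : G, ¬ ∀ k ∈ K, ∀ l ∈ cj g K, k * l = l * k
  simp : ∀ N : Subgroup G, N ≤ K → (∀ k ∈ K, ∀ y ∈ N, k * y * k⁻¹ ∈ N) → N = ⊥ ∨ N = K
  XS : X ≤ S
  Xc : ∀ s ∈ S, ∀ x ∈ X, s * x = x * s
  sq : ∀ x ∈ X, x * x = 1
  /-- (F1) -/
  cen : ∀ y ∈ normalizer (K : Set G), (∃ n : ℕ, y ^ 2 ^ n = 1) → (∀ s ∈ S, s * y = y * s) →
    ∃ c ∈ centralizer (K : Set G), ∃ x ∈ X, y = c * x
  /-- `N(K) / K C(K)` is abelian -/
  out : ∀ a ∈ normalizer (K : Set G), ∀ b ∈ normalizer (K : Set G), a * b * a⁻¹ * b⁻¹ ∈ K ⊔ centralizer (K : Set G)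
  /-- `N(K) / K C(K)` contains at most one involution -/
  cyc : ∀ a ∈ normalizer (K : Set G), ∀ b ∈ normalizer (K : Set G), a * a ∈ K ⊔ centralizer (K : Set G) →
    b * b ∈ K ⊔ centralizer (K : Set G) → a ∈ K ⊔ centralizer (K : Set G) ∨ b ∈ K ⊔ centralizer (K : Set G) ∨
      a * b ∈ K ⊔ centralizer (K : Set G)
  /-- `|S : C_S(x)| ≥ 4` for `x ∈ S`, `x ∉ X` -/
  line : ∀ x ∈ S, x * x = 1 → x ∉ X → ∃ a ∈ S, ∃ b ∈ S, a * x ≠ x * a ∧ b * x ≠ x * b ∧ a⁻¹ * b * x ≠ x * (a⁻¹ * b)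
  XH : X ≤ H
  HX : ∀ y ∈ H, ∀ x ∈ X, y * x = x * y
  loc : ∀ w ∈ X, w ∉ Xl → w ∉ Xs → LocX K w H
  /-- `S / (S ∩ H)` is elementary abelian -/
  ele : ∀ s ∈ S, s * s ∈ H
  Hn : ∀ s ∈ S, ∀ y ∈ H, s * y * s⁻¹ ∈ H
  l : Rt K S X Xl Pl A
  s : Rt K S X Xs Ps A
  disj : ∀ x ∈ Xl, x ∈ Xs → x = 1
  /-- the torus of `K` is transitive on the mixed elements of `X` -/
  mix : ∀ x ∈ X, ∀ y ∈ X, x ∉ Xl → x ∉ Xs → y ∉ Xl → y ∉ Xs → ∃ k ∈ K, cj k S = S ∧ k * x * k⁻¹ = y
  prime : p.Prime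
  odd : p ≠ 2
  pgrp : IsPGroup p ↥A

variable {n : ℕ}

/-- the elements `h(1, 1, t₃, …, tₙ)`, `tᵢ ^ p = 1` -/
noncomputable def A0 (hn : 3 ≤ n) (F : Type*) [Field F] (p : ℕ) : Subgroup (Sy n F) where
  carrier := {A | ∃ lam : Fin n → Fˣ, lam (c0 hn) = 1 ∧ lam (c1 hn) = 1 ∧ (∀ i, lam i ^ p = 1) ∧ A = sh lam}
  one_mem' := ⟨1, rfl, rfl, fun i => one_pow _, (map_one _).symm⟩
  mul_mem' := by
    rintro _ _ ⟨l, h0, h1, hp, rfl⟩ ⟨m, h0', h1', hp', rfl⟩
    refine ⟨l * m, ?_, ?_, fun i => ?_, (map_mul _ _ _).symm⟩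
    · rw [Pi.mul_apply, h0, h0', one_mul]
    · rw [Pi.mul_apply, h1, h1', one_mul]
    · rw [Pi.mul_apply, mul_pow, hp, hp', one_mul]
  inv_mem' := by
    rintro _ ⟨l, h0, h1, hp, rfl⟩
    refine ⟨l⁻¹, ?_, ?_, fun i => ?_, (map_inv _ _).symm⟩
    · rw [Pi.inv_apply, h0, inv_one]
    · rw [Pi.inv_apply, h1, inv_one]
    · rw [Pi.inv_apply, inv_pow, hp, inv_one]

end Cfsg.Agent.OddHalf.D4.SpN.Kf
end

-- part: OddHalf/D4/SpN/RedFour
section
/-!
# ODD, D4, row `Sp_2n(q)`, `n ≥ 3`, `q ≥ 4` even: the reduction to `Sp₄(q)` (helper48; bb ODD #14529, (6))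

`K = ι(Sp_2n(F))`, `Q` a Sylow 2-subgroup of `C(K)`, elementary abelian of order `> 2`; `A0` the elements `h(1,1,t₃,…,tₙ)`
of `K` with `tᵢ ^ p = 1`; `y ∈ C(A0)` moves every `q ∈ Q`, `q ≠ 1`, to `q z`, `z ≠ 1` in a fixed root group of `Z(S)`.
In `Y = C(A0)` the subgroup `K₁ = ι(Sp₄(F))` satisfies the hypotheses of `SpFourEnd.endS`, `endL`.

* **`red`**
-/

set_option autoImplicit false
set_option linter.unusedSectionVars false

namespace Cfsg.Agent.OddHalf.D4.SpN.RedFour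

open Cfsg Subgroup Cfsg.Agent.ClassicalGeometry.SympBasic Cfsg.Agent.ClassicalGeometry.SympAutSemi
  Cfsg.Agent.OddHalf.SpN Cfsg.Agent.OddHalf.SpN.Out
open Cfsg.Agent.OddHalf.D4 Cfsg.Agent.OddHalf.D4.Basic
open Cfsg.Agent.OddHalf.D4.SpN.Blk Cfsg.Agent.OddHalf.D4.SpN.Kf

universe u

variable {n : ℕ} {F : Type*} [Field F]

/-! ### Facts on `Sp_2n(F)` -/

theorem one_pow_eq {k : Ix n} {c : Fˣ} {p : ℕ} (hc : c ^ p = 1) (i : Fin n) : _root_.Cfsg.Agent.OddHalf.SpN.one k c i ^ p = 1 := by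
  have hc' : (c⁻¹) ^ p = 1 := by rw [inv_pow, hc, inv_one]
  rcases k with k | k
  · by_cases h : i = k
    · subst h
      show (Function.update (1 : Fin n → Fˣ) i c i) ^ p = 1
      rw [Function.update_self, hc]
    · show (Function.update (1 : Fin n → Fˣ) k c i) ^ p = 1
      rw [Function.update_of_ne h, Pi.one_apply, one_pow]
  · by_cases h : i = k
    · subst h
      show (Function.update (1 : Fin n → Fˣ) i c⁻¹ i) ^ p = 1
      rw [Function.update_self, hc']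
    · show (Function.update (1 : Fin n → Fˣ) k c⁻¹ i) ^ p = 1
      rw [Function.update_of_ne h, Pi.one_apply, one_pow]

/-- the indices -/
theorem dj01 (hn : 3 ≤ n) : Dj (Sum.inl (c0 hn) : Ix n) (Sum.inl (c1 hn)) := dj_ll (c01 hn)

/-- the embedding of `Sp₄(F)` -/
noncomputable def bl (hn : 3 ≤ n) [CharP F 2] : Sy 2 F →* Sy n F := blk (dj01 hn)

variable [CharP F 2]

theorem bl_comm {hn : 3 ≤ n} {p : ℕ} {a : Sy n F} (ha : a ∈ A0 hn F p) (B : Sy 2 F) : bl hn B * a = a * bl hn B := by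
  obtain ⟨lam, h0, h1, -, rfl⟩ := ha
  have hev : ∀ l : Ix 2, ev lam (_root_.Cfsg.Agent.OddHalf.D4.SpN.Blk.em (Sum.inl (c0 hn)) (Sum.inl (c1 hn)) l) = 1 := by
    intro l
    rcases l with l | l <;> fin_cases l
    · exact h0
    · exact h1
    · show (lam (c0 hn))⁻¹ = 1
      rw [h0, inv_one]
    · show (lam (c1 hn))⁻¹ = 1
      rw [h1, inv_one]
  apply rho_injective
  ext v k
  rw [map_mul, map_mul, Equiv.Perm.mul_apply, Equiv.Perm.mul_apply]
  rcases em_or (Sum.inl (c0 hn)) (Sum.inl (c1 hn)) k with ⟨l, rfl⟩ | ⟨h1, h2⟩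
  · rw [rho_sh, hev, Units.val_one, one_mul, bl, rho_blk_em, rho_blk_em]
    have e : rs (Sum.inl (c0 hn)) (Sum.inl (c1 hn)) (rho n F (sh lam) v) = rs (Sum.inl (c0 hn)) (Sum.inl (c1 hn)) v := by
      ext m
      rw [rs, rs, rho_sh, hev, Units.val_one, one_mul]
    rw [e]
  · rw [rho_sh, bl, rho_blk_of _ h1 h2, rho_blk_of _ h1 h2, rho_sh]

/-- an element commuting with `A0` is diagonal outside `±c₀, ±c₁` -/
theorem diag_of {hn : 3 ≤ n} {p : ℕ} {ζ : Fˣ} (hζ : ζ ≠ 1) (hζp : ζ ^ p = 1) {A : Sy n F}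
    (hA : ∀ a ∈ A0 hn F p, A * a = a * A) {k : Ix n} (h1 : Dj (Sum.inl (c0 hn)) k) (h2 : Dj (Sum.inl (c1 hn)) k) :
    rho n F A (be n F k) = ent A k k • be n F k := by
  have hm : sh (_root_.Cfsg.Agent.OddHalf.SpN.one k ζ) ∈ A0 hn F p :=
    ⟨_root_.Cfsg.Agent.OddHalf.SpN.one k ζ, ev_one_ne h1 ζ, ev_one_ne h2 ζ, one_pow_eq hζp, rfl⟩
  have hc : Commute A (sh (_root_.Cfsg.Agent.OddHalf.SpN.one k ζ)) := hA _ hm
  ext l
  rw [Pi.smul_apply, be_apply, smul_eq_mul]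
  by_cases hl : l = k
  · rw [if_pos hl, mul_one, hl]; rfl
  · rw [if_neg hl, mul_zero]
    exact (ent_off hζ hc hl).1

theorem fix_of_comm {A : Sy n F} {k : Ix n} (h : Commute A (sy k 1)) : rho n F A (be n F k) = be n F k := by
  have cy := cy_of_comm h
  ext l
  rw [be_apply]
  by_cases hl : l = k
  · rw [if_pos hl, hl]; exact cy.diag
  · rw [if_neg hl]; exact cy.col l hl

/-- an element commuting with `Sp₄(F)` and `A0` has odd order -/
theorem pow_eq_one [Finite F] {hn : 3 ≤ n} {p : ℕ} {ζ : Fˣ} (hζ : ζ ≠ 1) (hζp : ζ ^ p = 1) {A : Sy n F}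
    (hA : ∀ a ∈ A0 hn F p, A * a = a * A) (hB : ∀ B : Sy 2 F, A * bl hn B = bl hn B * A) :
    A ^ (Nat.card F - 1) = 1 := by
  have := Fintype.ofFinite F
  have h1 : ∀ k, rho n F A (be n F k) = ent A k k • be n F k := by
    intro k
    rcases em_or (Sum.inl (c0 hn)) (Sum.inl (c1 hn)) k with ⟨l, rfl⟩ | ⟨h1, h2⟩
    · have h3 : Commute A (sy (_root_.Cfsg.Agent.OddHalf.D4.SpN.Blk.em (Sum.inl (c0 hn)) (Sum.inl (c1 hn)) l) 1) := by
        rw [← blk_sy (dj01 hn)]; exact hB _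
      have h4 := fix_of_comm h3
      rw [h4, ent, h4, be_apply, if_pos rfl, one_smul]
    · exact diag_of hζ hζp hA h1 h2
  have h2 : ∀ k, ent A k k ≠ 0 := by
    intro k h
    have h3 := h1 k
    rw [h, zero_smul] at h3
    have h4 : rho n F A (be n F k) = rho n F A 0 := by rw [h3, rho_zero]
    exact be_ne k ((rho n F A).injective h4)
  have h3 : ∀ (m : ℕ) k, rho n F (A ^ m) (be n F k) = (ent A k k) ^ m • be n F k := by
    intro m k
    induction m with
    | zero => rw [pow_zero, map_one, pow_zero, one_smul]; rfl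
    | succ m ih => rw [pow_succ, map_mul, Equiv.Perm.mul_apply, h1, rho_smul, ih, smul_smul, pow_succ']
  apply rho_injective
  ext1 v
  rw [map_one, Equiv.Perm.one_apply, eq_sum_be v, rho_sum]
  refine Finset.sum_congr rfl fun k _ => ?_
  rw [rho_smul, h3, Nat.card_eq_fintype_card, FiniteField.pow_card_sub_one_eq_one _ (h2 k), one_smul]

/-- the commutators of `C(A0)` lie in `Sp₄(F)` -/
theorem comm_mem {hn : 3 ≤ n} {p : ℕ} {ζ : Fˣ} (hζ : ζ ≠ 1) (hζp : ζ ^ p = 1) {A B : Sy n F}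
    (hA : ∀ a ∈ A0 hn F p, A * a = a * A) (hB : ∀ a ∈ A0 hn F p, B * a = a * B) :
    A * B * A⁻¹ * B⁻¹ ∈ (bl (F := F) hn).range := by
  apply exists_blk (dj01 hn)
  intro k h1 h2
  have hA' := diag_of hζ hζp hA h1 h2
  have hB' := diag_of hζ hζp hB h1 h2
  have e1 : rho n F (A * B) (be n F k) = rho n F (B * A) (be n F k) := by
    rw [map_mul, map_mul, Equiv.Perm.mul_apply, Equiv.Perm.mul_apply, hB', rho_smul, hA', rho_smul, hB', smul_smul,
      smul_smul, mul_comm]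
  have hne : ent A k k * ent B k k ≠ 0 := by
    intro h
    have h3 : rho n F (A * B) (be n F k) = 0 := by
      rw [map_mul, Equiv.Perm.mul_apply, hB', rho_smul, hA', smul_smul, mul_comm, h, zero_smul]
    have h4 : rho n F (A * B) (be n F k) = rho n F (A * B) 0 := by rw [h3, rho_zero]
    exact be_ne k ((rho n F (A * B)).injective h4)
  have e2 : rho n F (B * A) (be n F k) = (ent A k k * ent B k k) • be n F k := by
    rw [map_mul, Equiv.Perm.mul_apply, hA', rho_smul, hB', smul_smul]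
  have e3 : rho n F (A * B * A⁻¹ * B⁻¹) (rho n F (B * A) (be n F k)) = rho n F (B * A) (be n F k) := by
    rw [← Equiv.Perm.mul_apply, ← map_mul]
    have e : A * B * A⁻¹ * B⁻¹ * (B * A) = A * B := by group
    rw [e, e1]
  rw [e2, rho_smul] at e3
  exact smul_right_injective _ hne e3

/-! ### Facts on `Sp₄(F)` -/

theorem simple_two [Finite F] (hF : 3 ≤ Nat.card F) : IsSimpleGroup (Sy 2 F) := by
  have := Fintype.ofFinite F
  have h1 : IsSimpleGroup (PSp 2 F) := Cfsg.Agent.S0270.result 2 le_rfl fun _ => by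
    rw [← Nat.card_eq_fintype_card]; exact hF
  have hZ : center (Sy 2 F) = ⊥ := center_Sy (by norm_num)
  let e : PSp 2 F ≃* Sy 2 F := (QuotientGroup.quotientMulEquivOfEq hZ).trans QuotientGroup.quotientBot
  have := e.toEquiv.symm.nontrivial
  exact IsSimpleGroup.isSimpleGroup_of_surjective e.toMonoidHom e.surjective

theorem sch_two [Finite F] (hF : 3 ≤ Nat.card F) : Cfsg.Agent.Schreier.Basic.Sch (Sy 2 F) := by
  have hZ : center (Sy 2 F) = ⊥ := center_Sy (by norm_num)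
  let e : PSp 2 F ≃* Sy 2 F := (QuotientGroup.quotientMulEquivOfEq hZ).trans QuotientGroup.quotientBot
  exact Cfsg.Agent.Schreier.Basic.Sch.of_equiv e (Cfsg.Agent.Schreier.ClassPSp.sch le_rfl fun _ => hF)

theorem nc_two [Finite F] : ¬ ∀ a b : Sy 2 F, a * b = b * a := by
  intro h
  obtain ⟨a, ha⟩ := (FourStd.S2 F).ndI
  apply ha
  have h1 := (FourStd.S2 F).rel.nI_x (-a)
  rw [h, inv_mul_cancel_left, _root_.neg_neg] at h1
  rw [← h1]
  exact Cfsg.Agent.StdRank2.B2Std.x_mem _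

theorem perf_two [Finite F] (hF : 3 ≤ Nat.card F) : ⁅(⊤ : Subgroup (Sy 2 F)), (⊤ : Subgroup (Sy 2 F))⁆ = ⊤ := by
  have hs := simple_two (F := F) hF
  have hn : (⁅(⊤ : Subgroup (Sy 2 F)), (⊤ : Subgroup (Sy 2 F))⁆).Normal := inferInstance
  rcases hn.eq_bot_or_eq_top with h | h
  · exfalso
    apply nc_two (F := F)
    intro a b
    rw [commutator_eq_bot_iff_le_centralizer] at h
    exact mem_centralizer_iff.1 (h (mem_top b)) a (mem_top a)
  · exact h

/-! ### Automorphisms of `K` induced by `N(K)` -/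

variable {G : Type u} [Group G] {ι : Sy n F →* G}

/-- conjugation by `x ∈ N(K)` -/
theorem exists_aut (hi : Function.Injective ι) {x : G} (hx : x ∈ normalizer (ι.range : Set G)) :
    ∃ α : MulAut (Sy n F), ∀ A, ι (α A) = x * ι A * x⁻¹ := by
  let e : Sy n F ≃* ↥ι.range := MonoidHom.ofInjective hi
  let φ : MulAut ↥ι.range := ι.range.normalizerMonoidHom ⟨x, hx⟩
  refine ⟨(e.trans φ).trans e.symm, fun A => ?_⟩
  have h1 : ((e (e.symm (φ (e A))) : ↥ι.range) : G) = x * ι A * x⁻¹ := by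
    rw [e.apply_symm_apply]; rfl
  exact h1

/-- elements of `N(K)` commuting with a long root group are in `K C(K)` -/
theorem exists_inner [Finite F] (hn : 3 ≤ n) (hi : Function.Injective ι) {x : G}
    (hx : x ∈ normalizer (ι.range : Set G)) {k : Ix n} (hc : ∀ b, x * ι (sy k b) = ι (sy k b) * x) :
    ∃ A : Sy n F, (ι A)⁻¹ * x ∈ centralizer (ι.range : Set G) := by
  obtain ⟨α, hα⟩ := exists_aut hi hx
  obtain ⟨s, hs⟩ := exists_semi_Sy hn α
  obtain ⟨φ, l, hl, hφ⟩ := s.2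
  have h1 : φ = RingEquiv.refl F := phi_eq_refl hφ (isRoot_y k) fun b => by
    apply hi
    rw [← hs, hα, hc, mul_inv_cancel_right]
  subst h1
  obtain ⟨A, hA⟩ := inner_of_sim hl hφ
  refine ⟨A, ?_⟩
  rw [mem_centralizer_iff]
  rintro _ ⟨B, rfl⟩
  have h2 := hα B
  rw [hs, hA, map_mul, map_mul, map_inv] at h2
  calc ι B * ((ι A)⁻¹ * x) = (ι A)⁻¹ * (ι A * ι B * (ι A)⁻¹) * x := by group
    _ = (ι A)⁻¹ * (x * ι B * x⁻¹) * x := by rw [h2]
    _ = _ := by group

/-- 2-elements of `N(K)` commuting with `Sp₄(F)` and `A0` are in `C(K)` -/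
theorem mem_cent [Finite F] {hn : 3 ≤ n} (hi : Function.Injective ι)
    (ctr : ∀ x ∈ ι.range, x ∈ centralizer (ι.range : Set G) → x = 1) {p : ℕ} {ζ : Fˣ} (hζ : ζ ≠ 1) (hζp : ζ ^ p = 1)
    {x : G} (hx : x ∈ normalizer (ι.range : Set G)) (h2 : ∃ m : ℕ, x ^ 2 ^ m = 1)
    (hA : ∀ a ∈ A0 hn F p, x * ι a = ι a * x) (hB : ∀ B : Sy 2 F, x * ι (bl hn B) = ι (bl hn B) * x) :
    x ∈ centralizer (ι.range : Set G) := by
  obtain ⟨A, hc⟩ := exists_inner hn hi hx (k := Sum.inl (c0 hn)) fun b => by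
    have h := hB (sy (Sum.inl 0) b)
    rwa [bl, blk_sy] at h
  have hcc : ∀ B : Sy n F, ι B * ((ι A)⁻¹ * x) = ((ι A)⁻¹ * x) * ι B := fun B => mem_centralizer_iff.1 hc _ ⟨B, rfl⟩
  have tr : ∀ B : Sy n F, x * ι B = ι B * x → A * B = B * A := by
    intro B hB
    apply hi
    rw [map_mul, map_mul]
    have h3 := hcc B
    calc ι A * ι B = ι A * (ι B * ((ι A)⁻¹ * x)) * x⁻¹ * ι A := by group
      _ = ι A * (((ι A)⁻¹ * x) * ι B) * x⁻¹ * ι A := by rw [h3]
      _ = (x * ι B) * x⁻¹ * ι A := by group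
      _ = ι B * ι A := by rw [hB]; group
  have hq := pow_eq_one hζ hζp (A := A) (fun a ha => tr a (hA a ha)) (fun B => tr _ (hB B))
  obtain ⟨m, hm⟩ := h2
  have hcomm : Commute (ι A) ((ι A)⁻¹ * x) := hcc A
  have h3 : x = ι A * ((ι A)⁻¹ * x) := by group
  have h4 : (ι A) ^ 2 ^ m * ((ι A)⁻¹ * x) ^ 2 ^ m = 1 := by rw [← hcomm.mul_pow, ← h3, hm]
  have h5 : (ι A) ^ 2 ^ m = 1 := by
    apply ctr
    · exact ι.range.pow_mem (MonoidHom.mem_range.2 ⟨A, rfl⟩) _
    · have : (ι A) ^ 2 ^ m = (((ι A)⁻¹ * x) ^ 2 ^ m)⁻¹ := eq_inv_of_mul_eq_one_left h4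
      rw [this]
      exact inv_mem (pow_mem hc _)
  have h6 : A ^ 2 ^ m = 1 := hi (by rw [map_pow, h5, map_one])
  have h7 : orderOf A ∣ 2 ^ m := orderOf_dvd_of_pow_eq_one h6
  have h8 : orderOf A ∣ Nat.card F - 1 := orderOf_dvd_of_pow_eq_one hq
  have hcop : Nat.Coprime (2 ^ m) (Nat.card F - 1) := by
    have := Fintype.ofFinite F
    rw [Nat.card_eq_fintype_card]
    have heven : 2 ∣ Fintype.card F := by
      obtain ⟨k, hp, hc⟩ := FiniteField.card F 2
      rw [hc]; exact dvd_pow_self 2 k.pos.ne'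
    have hpos : 0 < Fintype.card F := Fintype.card_pos
    have hodd : Odd (Fintype.card F - 1) := by
      obtain ⟨m, hm⟩ := heven
      exact ⟨m - 1, by omega⟩
    exact Nat.Coprime.pow_left _ (Nat.coprime_two_left.mpr hodd)
  have h9 : orderOf A = 1 := Nat.eq_one_of_dvd_coprimes hcop h7 h8
  rw [orderOf_eq_one_iff] at h9
  rw [h9, map_one, inv_one, one_mul] at hc
  exact hc

/-! ### `N(K) ∩ C(A0)` normalises `K₁` -/

theorem conj_mem [Finite F] (hF : 3 ≤ Nat.card F) {hn : 3 ≤ n} (hi : Function.Injective ι) {p : ℕ} {ζ : Fˣ}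
    (hζ : ζ ≠ 1) (hζp : ζ ^ p = 1) {x : G} (hx : x ∈ normalizer (ι.range : Set G))
    (hA : ∀ a ∈ A0 hn F p, x * ι a = ι a * x) (B : Sy 2 F) : ∃ B' : Sy 2 F, x * ι (bl hn B) * x⁻¹ = ι (bl hn B') := by
  obtain ⟨α, hα⟩ := exists_aut hi hx
  let C : Subgroup (Sy n F) := centralizer (A0 hn F p : Set (Sy n F))
  let R : Subgroup (Sy n F) := (bl (F := F) hn).range
  have hRC : R.map α.toMonoidHom ≤ C := by
    rintro _ ⟨_, ⟨B, rfl⟩, rfl⟩
    rw [mem_centralizer_iff]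
    intro a ha
    apply hi
    rw [map_mul, map_mul]
    show ι a * ι (α (bl hn B)) = ι (α (bl hn B)) * ι a
    rw [hα]
    have h1 := hA a ha
    have h2 : ι (bl hn B) * ι a = ι a * ι (bl hn B) := by rw [← map_mul, ← map_mul, bl_comm ha]
    have h3 : x⁻¹ * ι a = ι a * x⁻¹ := by
      calc x⁻¹ * ι a = x⁻¹ * (ι a * x) * x⁻¹ := by group
        _ = x⁻¹ * (x * ι a) * x⁻¹ := by rw [h1]
        _ = _ := by group
    calc ι a * (x * ι (bl hn B) * x⁻¹) = (ι a * x) * ι (bl hn B) * x⁻¹ := by group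
      _ = x * (ι a * ι (bl hn B)) * x⁻¹ := by rw [← h1]; group
      _ = x * ι (bl hn B) * (ι a * x⁻¹) := by rw [← h2]; group
      _ = _ := by rw [← h3]; group
  have hRR : ⁅R, R⁆ = R := by
    show ⁅(bl (F := F) hn).range, (bl (F := F) hn).range⁆ = (bl (F := F) hn).range
    rw [MonoidHom.range_eq_map, ← map_commutator, perf_two hF]
  have hCC : ⁅C, C⁆ ≤ R := by
    rw [commutator_le]
    intro a ha b hb
    rw [mem_centralizer_iff] at ha hb
    exact comm_mem hζ hζp (fun z hz => (ha z hz).symm) (fun z hz => (hb z hz).symm)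
  have h1 : R.map α.toMonoidHom ≤ R := by
    calc R.map α.toMonoidHom = ⁅R.map α.toMonoidHom, R.map α.toMonoidHom⁆ := by rw [← map_commutator, hRR]
      _ ≤ ⁅C, C⁆ := commutator_mono hRC hRC
      _ ≤ R := hCC
  obtain ⟨B', hB'⟩ := h1 ⟨bl hn B, ⟨B, rfl⟩, rfl⟩
  refine ⟨B', ?_⟩
  rw [hB']
  exact (hα _).symm

/-! ### The subgroup `K₁` of `Y = C(A0)` -/

section Y

/-- `C(A0)` -/
def Y (ι : Sy n F →* G) (hn : 3 ≤ n) (p : ℕ) : Subgroup G := centralizer ((A0 hn F p).map ι : Set G)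

theorem mem_Y {hn : 3 ≤ n} {p : ℕ} {x : G} : x ∈ Y ι hn p ↔ ∀ a ∈ A0 hn F p, x * ι a = ι a * x := by
  rw [Y, mem_centralizer_iff]
  constructor
  · intro h a ha
    exact (h _ ⟨a, ha, rfl⟩).symm
  · rintro h _ ⟨a, ha, rfl⟩
    exact (h a ha).symm

theorem bl_mem_Y {hn : 3 ≤ n} {p : ℕ} (B : Sy 2 F) : ι (bl hn B) ∈ Y ι hn p :=
  mem_Y.2 fun a ha => by rw [← map_mul, ← map_mul, bl_comm ha]

/-- `Sp₄(F) → C(A0)` -/
noncomputable def fY (ι : Sy n F →* G) (hn : 3 ≤ n) (p : ℕ) : Sy 2 F →* ↥(Y ι hn p) :=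
  (ι.comp (bl hn)).codRestrict (Y ι hn p) fun B => bl_mem_Y B

theorem fY_inj (hi : Function.Injective ι) {hn : 3 ≤ n} {p : ℕ} : Function.Injective (fY ι hn p) := by
  intro a b h
  have h1 := congrArg (fun z : ↥(Y ι hn p) => (z : G)) h
  exact blk_injective (dj01 hn) (hi h1)

theorem cen_Y {Q : Subgroup G} (hQ : Q ≤ centralizer (ι.range : Set G)) {hn : 3 ≤ n} {p : ℕ} : Q ≤ Y ι hn p := by
  intro q hq
  rw [mem_Y]
  intro a _
  exact (mem_centralizer_iff.1 (hQ hq) _ ⟨a, rfl⟩).symm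

end Y

/-- The hypotheses. -/
structure Hy (ι : Sy n F →* G) (Q : Subgroup G) (hn : 3 ≤ n) (p : ℕ) (ζ : Fˣ) : Prop where
  inj : Function.Injective ι
  tight : TightAt ι.range
  ctr : ∀ x ∈ ι.range, x ∈ centralizer (ι.range : Set G) → x = 1
  syl : IsSyl Q (centralizer (ι.range : Set G))
  sq : ∀ q ∈ Q, q * q = 1
  four : ∃ a ∈ Q, ∃ b ∈ Q, a ≠ 1 ∧ b ≠ 1 ∧ a ≠ b
  ne : ζ ≠ 1
  pow : ζ ^ p = 1

theorem comm_of_sq {Q : Subgroup G} (h : ∀ q ∈ Q, q * q = 1) {a b : G} (ha : a ∈ Q) (hb : b ∈ Q) : a * b = b * a := by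
  have h1 : a⁻¹ = a := inv_eq_of_mul_eq_one_left (h a ha)
  have h2 : b⁻¹ = b := inv_eq_of_mul_eq_one_left (h b hb)
  have h3 : (a * b)⁻¹ = a * b := inv_eq_of_mul_eq_one_left (h _ (Q.mul_mem ha hb))
  rw [mul_inv_rev, h1, h2] at h3
  exact h3.symm

namespace Hy

variable [Finite G] [Finite F] {Q : Subgroup G} {hn : 3 ≤ n} {p : ℕ} {ζ : Fˣ} (h : Hy ι Q hn p ζ)
include h

theorem QY : Q ≤ Y ι hn p := cen_Y h.syl.le

/-- `Q` is a Sylow 2-subgroup of `C_Y(K₁)` -/
theorem sylY : IsSyl (Q.subgroupOf (Y ι hn p)) (centralizer ((fY ι hn p).range : Set ↥(Y ι hn p))) := by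
  refine ⟨h.syl.two.comap_subtype, ?_, ?_⟩
  · intro q hq
    rw [mem_subgroupOf] at hq
    rw [mem_centralizer_iff]
    rintro _ ⟨B, rfl⟩
    apply Subtype.ext
    exact mem_centralizer_iff.1 (h.syl.le hq) _ ⟨bl hn B, rfl⟩
  · intro P hP hQP hPC
    -- elements of `P` in `N(K)` are in `Q`
    have key : ∀ x ∈ P, (x : G) ∈ normalizer (ι.range : Set G) → x ∈ Q.subgroupOf (Y ι hn p) := by
      intro x hx hxN
      have h2 : ∃ m : ℕ, (x : G) ^ 2 ^ m = 1 := by
        obtain ⟨m, hm⟩ := hP ⟨x, hx⟩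
        exact ⟨m, congrArg (fun z : ↥P => ((z : ↥(Y ι hn p)) : G)) hm⟩
      have hxC : (x : G) ∈ centralizer (ι.range : Set G) := by
        refine mem_cent h.inj h.ctr h.ne h.pow hxN h2 (mem_Y.1 x.2) fun B => ?_
        have h3 := mem_centralizer_iff.1 (hPC hx) _ ⟨B, rfl⟩
        exact (congrArg Subtype.val h3).symm
      have hmax : P.map (Y ι hn p).subtype ⊓ centralizer (ι.range : Set G) ≤ Q := by
        apply h.syl.max
        · exact (hP.map _).to_le inf_le_left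
        · intro q hq
          exact ⟨⟨⟨q, h.QY hq⟩, hQP (mem_subgroupOf.2 hq), rfl⟩, h.syl.le hq⟩
        · exact inf_le_right
      exact mem_subgroupOf.2 (hmax ⟨⟨x, hx, rfl⟩, hxC⟩)
    by_contra hne
    have hlt : (Q.subgroupOf (Y ι hn p)).subgroupOf P < ⊤ := by
      rw [lt_top_iff_ne_top]
      intro h
      exact hne (subgroupOf_eq_top.1 h)
    have : Fact (Nat.Prime 2) := ⟨Nat.prime_two⟩
    have hnilp : Group.IsNilpotent ↥P := hP.isNilpotent
    have h1 := Group.normalizerCondition_of_isNilpotent _ hlt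
    obtain ⟨x, hx, hxT⟩ := Set.exists_of_ssubset h1
    apply hxT
    rw [SetLike.mem_coe, mem_subgroupOf]
    apply key _ x.2
    obtain ⟨t, ht, -, -, ht1, -, -⟩ := h.four
    have ht2 : orderOf t = 2 := orderOf_eq_prime (by rw [pow_two, h.sq t ht]) ht1
    have htY : (⟨t, h.QY ht⟩ : ↥(Y ι hn p)) ∈ Q.subgroupOf (Y ι hn p) := mem_subgroupOf.2 ht
    have h4 := (mem_normalizer_iff.1 hx ⟨⟨t, h.QY ht⟩, hQP htY⟩).1 (mem_subgroupOf.2 htY)
    have h5 : ((x : ↥(Y ι hn p)) : G) * t * ((x : ↥(Y ι hn p)) : G)⁻¹ ∈ Q := h4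
    exact h.tight.tight _ t (h.syl.le ht) ht2 (h.syl.le h5)

/-- `N_G(K) ∩ Y ≤ N_Y(K₁)` -/
theorem norm_mem (hF : 3 ≤ Nat.card F) {g : ↥(Y ι hn p)} (hg : (g : G) ∈ normalizer (ι.range : Set G)) :
    g ∈ normalizer ((fY ι hn p).range : Set ↥(Y ι hn p)) := by
  have key : ∀ g : ↥(Y ι hn p), (g : G) ∈ normalizer (ι.range : Set G) → ∀ x ∈ (fY ι hn p).range,
      g * x * g⁻¹ ∈ (fY ι hn p).range := by
    rintro g hg _ ⟨B, rfl⟩
    obtain ⟨B', e⟩ := conj_mem hF h.inj h.ne h.pow hg (mem_Y.1 g.2) B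
    exact ⟨B', Subtype.ext e.symm⟩
  rw [mem_normalizer_iff]
  intro x
  constructor
  · exact key g hg x
  · intro hx
    have h1 := key g⁻¹ (by
      have : ((g⁻¹ : ↥(Y ι hn p)) : G) = (g : G)⁻¹ := rfl
      rw [this]; exact inv_mem hg) _ hx
    have e : g⁻¹ * (g * x * g⁻¹) * g⁻¹⁻¹ = x := by group
    rwa [e] at h1

theorem tightY (hF : 3 ≤ Nat.card F) : TightAt (fY ι hn p).range where
  le := centralizer_le_normalizer _
  norm := fun m hm c hc => centralizer_conj_mem hm hc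
  tight := by
    intro g x hx hx2 hgx
    have hp2 : ∀ z : ↥(Y ι hn p), orderOf z = 2 → IsPGroup 2 ↥(zpowers z) := fun z hz => by
      rw [IsPGroup.iff_card]; exact ⟨1, by rw [Nat.card_zpowers, hz]; norm_num⟩
    obtain ⟨m, hm, hmx⟩ := h.sylY.conj_into (hp2 x hx2) (by rw [zpowers_le]; exact hx)
    obtain ⟨m', hm', hmx'⟩ := h.sylY.conj_into (hp2 (g * x * g⁻¹) (by rw [orderOf_conj, hx2]))
      (by rw [zpowers_le]; exact hgx)
    have h1 := mem_subgroupOf.1 (hmx x (mem_zpowers x))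
    have h2 := mem_subgroupOf.1 (hmx' _ (mem_zpowers (g * x * g⁻¹)))
    have h3 : ((m' * g * m⁻¹ : ↥(Y ι hn p)) : G) ∈ normalizer (ι.range : Set G) := by
      apply h.tight.tight _ _ (h.syl.le h1)
      · have h4 : orderOf (m * x * m⁻¹) = 2 := by rw [orderOf_conj, hx2]
        rw [← orderOf_coe] at h4
        exact h4
      · have e : ((m' * g * m⁻¹ : ↥(Y ι hn p)) : G) * ((m * x * m⁻¹ : ↥(Y ι hn p)) : G) *
            ((m' * g * m⁻¹ : ↥(Y ι hn p)) : G)⁻¹ = ((m' * (g * x * g⁻¹) * m'⁻¹ : ↥(Y ι hn p)) : G) := by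
          have e' : (m' * g * m⁻¹) * (m * x * m⁻¹) * (m' * g * m⁻¹)⁻¹ = m' * (g * x * g⁻¹) * m'⁻¹ := by group
          rw [← e']; rfl
        rw [e]
        exact h.syl.le h2
    have h4 := h.norm_mem hF h3
    have h5 : g = m'⁻¹ * (m' * g * m⁻¹) * m := by group
    rw [h5]
    exact mul_mem (mul_mem (inv_mem (centralizer_le_normalizer _ hm')) h4) (centralizer_le_normalizer _ hm)

theorem cen_eq_one {x : ↥(Y ι hn p)} (hx : x ∈ (fY ι hn p).range)
    (hc : x ∈ centralizer ((fY ι hn p).range : Set ↥(Y ι hn p))) : x = 1 := by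
  obtain ⟨B, rfl⟩ := hx
  have h1 : B ∈ center (Sy 2 F) := by
    rw [mem_center_iff]
    intro C
    apply fY_inj h.inj (hn := hn) (p := p)
    rw [map_mul, map_mul]
    exact mem_centralizer_iff.1 hc _ ⟨C, rfl⟩
  rw [center_Sy (by norm_num), mem_bot] at h1
  rw [h1, map_one]

theorem center_A : center ↥(fY ι hn p).range = ⊥ := by
  rw [eq_bot_iff_forall]
  rintro ⟨x, hx⟩ hc
  apply Subtype.ext
  apply h.cen_eq_one hx
  rw [mem_centralizer_iff]
  intro y hy
  exact congrArg Subtype.val (mem_center_iff.1 hc ⟨y, hy⟩)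

/-- the coordinates of `K₁` -/
noncomputable def base {t : ↥(Y ι hn p)} (htt : t * t = 1)
    (htA : t ∈ centralizer ((fY ι hn p).range : Set ↥(Y ι hn p))) (htn : t ∉ (fY ι hn p).range) :
    StdSpFour.Base F ↥(Y ι hn p) :=
  Cfsg.Agent.StdRank2.SpFrame.base (FourStd.ofInj (fY_inj h.inj)) h.center_A htt htA htn

section coord

variable {t : ↥(Y ι hn p)} (htt : t * t = 1)
    (htA : t ∈ centralizer ((fY ι hn p).range : Set ↥(Y ι hn p))) (htn : t ∉ (fY ι hn p).range)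

theorem kCent (hF : 4 ≤ Nat.card F) : SpFourCent.KCent (h.base htt htA htn) (fY ι hn p).range :=
  SpFourK.kCent _ _ _ _ _ hF

theorem kAut (hF : 4 ≤ Nat.card F) : SpFourDefs.KAut (h.base htt htA htn) (fY ι hn p).range :=
  SpFourK.kAut _ _ _ _ _ hF

end coord

/-- an involution of `Q` gives the coordinates -/
theorem exists_t {t : G} (ht : t ∈ Q) (ht1 : t ≠ 1) : ∃ t' : ↥(Y ι hn p), (t' : G) = t ∧ t' * t' = 1 ∧
    t' ∈ centralizer ((fY ι hn p).range : Set ↥(Y ι hn p)) ∧ t' ∉ (fY ι hn p).range := by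
  have h1 : (⟨t, h.QY ht⟩ : ↥(Y ι hn p)) ∈ centralizer ((fY ι hn p).range : Set ↥(Y ι hn p)) :=
    h.sylY.le (mem_subgroupOf.2 ht)
  refine ⟨⟨t, h.QY ht⟩, rfl, Subtype.ext (h.sq t ht), h1, fun h2 => ht1 ?_⟩
  exact congrArg Subtype.val (h.cen_eq_one h2 h1)

theorem env (hF : 4 ≤ Nat.card F) : SpFourFr.Env (fY ι hn p).range where
  tight := h.tightY (by omega)
  cen := fun x hx hc => h.cen_eq_one hx hc
  simple := by
    intro N hN hn'
    have hs := simple_two (F := F) (by omega)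
    have h1 : (N.comap (fY ι hn p)).Normal := ⟨fun B hB C => by
      rw [mem_comap] at hB ⊢
      rw [map_mul, map_mul, map_inv]
      exact hn' _ ⟨C, rfl⟩ _ hB⟩
    rcases h1.eq_bot_or_eq_top with h2 | h2
    · left
      rw [eq_bot_iff_forall]
      intro x hx
      obtain ⟨B, rfl⟩ := hN hx
      have h3 : B ∈ N.comap (fY ι hn p) := hx
      rw [h2, mem_bot] at h3
      rw [h3, map_one]
    · right
      apply le_antisymm hN
      rintro _ ⟨B, rfl⟩
      have h3 : B ∈ N.comap (fY ι hn p) := by rw [h2]; exact mem_top _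
      exact h3
  ne := by
    intro h1
    have hs := simple_two (F := F) (by omega)
    obtain ⟨B, hB⟩ := exists_ne (1 : Sy 2 F)
    apply hB
    apply fY_inj h.inj (hn := hn) (p := p)
    have h2 : fY ι hn p B ∈ (fY ι hn p).range := ⟨B, rfl⟩
    rw [h1, mem_bot] at h2
    rw [h2, map_one]
  nocomm := by
    intro g _ hcon
    obtain ⟨t, ht, -, -, ht1, -, -⟩ := h.four
    obtain ⟨t', -, htt, htA, htn⟩ := h.exists_t ht ht1
    obtain ⟨B, hB⟩ : ∃ B, B = h.base htt htA htn := ⟨_, rfl⟩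
    have hK := h.kCent htt htA htn hF
    rw [← hB] at hK
    obtain ⟨m, hm, hmq⟩ := h.sylY.conj_into (Q := CommConj.cj g (SpFourU.UU B)) (SpFourU.isPGroup_UU.map _) (by
      intro x hx
      rw [CommConj.mem_cj] at hx
      have hx' : g⁻¹ * x * g ∈ (fY ι hn p).range := SpFourTOne.isU_memK hK.toKBase hx
      rw [mem_centralizer_iff]
      intro a ha
      have h3 := hcon a ha _ hx'
      have e : g * (g⁻¹ * x * g) * g⁻¹ = x := by group
      rwa [e] at h3)
    have key : ∀ u v, u ∈ SpFourU.UU B → v ∈ SpFourU.UU B → u * v = v * u := by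
      intro u v hu hv
      have h1 := mem_subgroupOf.1 (hmq _ (CommConj.mem_cj_mul (g := g) hu))
      have h2 := mem_subgroupOf.1 (hmq _ (CommConj.mem_cj_mul (g := g) hv))
      have h3 : m * (g * u * g⁻¹) * m⁻¹ * (m * (g * v * g⁻¹) * m⁻¹) =
          m * (g * v * g⁻¹) * m⁻¹ * (m * (g * u * g⁻¹) * m⁻¹) := Subtype.ext (comm_of_sq h.sq h1 h2)
      calc u * v = (m * g)⁻¹ * (m * (g * u * g⁻¹) * m⁻¹ * (m * (g * v * g⁻¹) * m⁻¹)) * (m * g) := by group
        _ = _ := by rw [h3]; group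
    have h1 := key _ _ (SpFourU.isU_xa (B := B) 1) (SpFourU.isU_xb (B := B) 1)
    have h2 := B.xa_xb 1 1
    rw [h1] at h2
    have h3 : B.zs (1 * 1) * B.zl (1 ^ 2 * 1) = 1 := by
      have h4 : B.xb 1 * B.xa 1 * 1 = B.xb 1 * B.xa 1 * (B.zs (1 * 1) * B.zl (1 ^ 2 * 1)) := by
        rw [mul_one]; rw [← mul_assoc]; exact h2
      exact (mul_left_cancel h4).symm
    have h4 : B.xa 0 = 1 := by
      have := B.xa_add 0 0
      rw [add_zero] at this
      exact left_eq_mul.1 this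
    have h5 : B.xb 0 = 1 := by
      have := B.xb_add 0 0
      rw [add_zero] at this
      exact left_eq_mul.1 this
    obtain ⟨-, -, h6, -⟩ := B.inj 0 0 (1 * 1) (1 ^ 2 * 1) (by rw [h4, h5, one_mul, one_mul, h3])
    rw [one_mul] at h6
    exact one_ne_zero h6
  sch := by
    intro P hP hPP
    have hsch : Cfsg.Agent.Schreier.Basic.Sch ↥(fY ι hn p).range :=
      Cfsg.Agent.Schreier.Basic.Sch.of_equiv (MonoidHom.ofInjective (fY_inj h.inj)) (sch_two (by omega))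
    obtain ⟨K, hK⟩ : ∃ K, K = (fY ι hn p).range := ⟨_, rfl⟩
    rw [← hK] at hsch hP ⊢
    let f : ↥P →* MulAut ↥K := K.normalizerMonoidHom.comp (inclusion hP)
    have h1 : ⁅f.range, f.range⁆ = f.range := by
      rw [MonoidHom.range_eq_map, ← Subgroup.map_commutator]
      congr 1
      apply Subgroup.map_injective P.subtype_injective
      rw [Subgroup.map_commutator, ← MonoidHom.range_eq_map, Subgroup.range_subtype, hPP]
    have h2 := hsch f.range h1
    intro q hq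
    obtain ⟨k, hk⟩ := h2 ⟨⟨q, hq⟩, rfl⟩
    have h3 : ∀ x ∈ K, q * x * q⁻¹ = (k : ↥(Y ι hn p)) * x * (k : ↥(Y ι hn p))⁻¹ := by
      intro x hx
      have h4 := congrArg (fun f : MulAut ↥K => ((f ⟨x, hx⟩ : ↥K) : ↥(Y ι hn p))) hk
      exact h4.symm
    have h4 : (k : ↥(Y ι hn p))⁻¹ * q ∈ centralizer (K : Set ↥(Y ι hn p)) := by
      rw [mem_centralizer_iff]
      intro x hx
      have h5 := h3 x hx
      calc x * ((k : ↥(Y ι hn p))⁻¹ * q) = (k : ↥(Y ι hn p))⁻¹ * ((k : ↥(Y ι hn p)) * x * (k : ↥(Y ι hn p))⁻¹) * q := by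
            group
        _ = (k : ↥(Y ι hn p))⁻¹ * (q * x * q⁻¹) * q := by rw [h5]
        _ = _ := by group
    have e : q = (k : ↥(Y ι hn p)) * ((k : ↥(Y ι hn p))⁻¹ * q) := by group
    rw [e]
    exact mul_mem_sup k.2 h4
  four := by
    obtain ⟨a, ha, b, hb, ha1, hb1, hab⟩ := h.four
    have key : ∀ a : G, a ∈ Q → a ≠ 1 → ∃ a' : ↥(Y ι hn p), (a' : G) = a ∧
        a' ∈ centralizer ((fY ι hn p).range : Set ↥(Y ι hn p)) ∧ orderOf a' = 2 := by
      intro a ha ha1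
      obtain ⟨a', e, htt, htA, -⟩ := h.exists_t ha ha1
      refine ⟨a', e, htA, orderOf_eq_prime (by rw [pow_two, htt]) ?_⟩
      rintro rfl
      exact ha1 e.symm
    obtain ⟨a', e1, h1, h2⟩ := key a ha ha1
    obtain ⟨b', e2, h3, h4⟩ := key b hb hb1
    refine ⟨a', b', h1, h3, h2, h4, ?_, ?_⟩
    · apply Subtype.ext
      show (a' : G) * b' = b' * a'
      rw [e1, e2]
      exact comm_of_sq h.sq ha hb
    · rintro rfl
      exact hab (e1.symm.trans e2)

theorem qc {t : ↥(Y ι hn p)} (htt : t * t = 1)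
    (htA : t ∈ centralizer ((fY ι hn p).range : Set ↥(Y ι hn p))) (htn : t ∉ (fY ι hn p).range)
    (htQ : (t : G) ∈ Q) (hF : 4 ≤ Nat.card F) :
    SpFourDefs.QC (h.base htt htA htn) (Q.subgroupOf (Y ι hn p)) := by
  obtain ⟨B, hB⟩ : ∃ B, B = h.base htt htA htn := ⟨_, rfl⟩
  have hK := h.kCent htt htA htn hF
  have htB : (h.base htt htA htn).t = t := rfl
  rw [← hB] at hK htB ⊢
  have hc : ∀ q ∈ Q.subgroupOf (Y ι hn p), ∀ k ∈ (fY ι hn p).range, Commute q k := fun q hq k hk =>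
    (mem_centralizer_iff.1 (h.sylY.le hq) k hk).symm
  exact
  { t_mem := by rw [htB]; exact mem_subgroupOf.2 htQ
    sq := fun q hq => Subtype.ext (h.sq q (mem_subgroupOf.1 hq))
    xa := fun q hq u => hc q hq _ (hK.xa_mem u)
    xb := fun q hq u => hc q hq _ (hK.xb_mem u)
    zs := fun q hq u => hc q hq _ (hK.zs_mem u)
    zl := fun q hq u => hc q hq _ (hK.zl_mem u)
    h := fun q hq α β => hc q hq _ (hK.h_mem α β)
    na := fun q hq => hc q hq _ hK.na_mem
    nb := fun q hq => hc q hq _ hK.nb_mem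
    disj := fun q hq u s m r e => h.cen_eq_one (by
      rw [← e]
      exact mul_mem (mul_mem (mul_mem (hK.xa_mem u) (hK.xb_mem s)) (hK.zs_mem m)) (hK.zl_mem r)) (h.sylY.le hq) }

end Hy

/-- **The reduction to `Sp₄(q)`.** -/
theorem red' {n : ℕ} (hn : 3 ≤ n) {F : Type*} [Field F] [Fintype F] [CharP F 2] (hF : 4 ≤ Fintype.card F)
    {G : Type u} [Group G] [Finite G] {ι : Sy n F →* G} (hi : Function.Injective ι) (tight : TightAt ι.range)
    (ctr : ∀ x ∈ ι.range, x ∈ centralizer (ι.range : Set G) → x = 1)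
    {Q : Subgroup G} (hQ : IsSyl Q (centralizer (ι.range : Set G))) (hsq : ∀ q ∈ Q, q * q = 1)
    (h4 : ∃ a ∈ Q, ∃ b ∈ Q, a ≠ 1 ∧ b ≠ 1 ∧ a ≠ b) {p : ℕ} (hp : p.Prime) (hpF : p ∣ Fintype.card F - 1)
    {y : G} (hy : ∀ a ∈ (A0 hn F p).map ι, y * a = a * y)
    (h : (∀ q ∈ Q, q ≠ 1 → ∃ b, b ≠ 0 ∧ y * q * y⁻¹ = q * ι (zz hn 0 b)) ∨
      (∀ q ∈ Q, q ≠ 1 → ∃ a, a ≠ 0 ∧ y * q * y⁻¹ = q * ι (zz hn a 0))) : False := by
  obtain ⟨ζ, hζ⟩ : ∃ ζ : Fˣ, orderOf ζ = p := by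
    have : Fact p.Prime := ⟨hp⟩
    apply exists_prime_orderOf_dvd_card' p
    rw [Nat.card_units, Nat.card_eq_fintype_card]
    exact hpF
  have hζ1 : ζ ≠ 1 := by
    rintro rfl
    rw [orderOf_one] at hζ
    exact hp.one_lt.ne hζ
  have H : Hy ι Q hn p ζ := ⟨hi, tight, ctr, hQ, hsq, h4, hζ1, by rw [← hζ, pow_orderOf_eq_one]⟩
  have hF' : 4 ≤ Nat.card F := by rw [Nat.card_eq_fintype_card]; exact hF
  obtain ⟨t, ht, -, -, ht1, -, -⟩ := h4
  obtain ⟨t', e, htt, htA, htn⟩ := H.exists_t ht ht1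
  have hyY : y ∈ Y ι hn p := mem_Y.2 fun a ha => hy _ ⟨a, ha, rfl⟩
  have hK := H.kCent htt htA htn hF'
  have h4' : ∃ t1 ∈ Q.subgroupOf (Y ι hn p), ∃ t2 ∈ Q.subgroupOf (Y ι hn p), t1 ≠ 1 ∧ t2 ≠ 1 ∧ t1 ≠ t2 := by
    obtain ⟨a, ha, b, hb, ha1, hb1, hab⟩ := H.four
    exact ⟨⟨a, H.QY ha⟩, mem_subgroupOf.2 ha, ⟨b, H.QY hb⟩, mem_subgroupOf.2 hb, fun e => ha1 (congrArg Subtype.val e),
      fun e => hb1 (congrArg Subtype.val e), fun e => hab (congrArg Subtype.val e)⟩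
  have htQ : (t' : G) ∈ Q := by rw [e]; exact ht
  have hdisj : ∀ q ∈ Q.subgroupOf (Y ι hn p), q ∈ (fY ι hn p).range → q = 1 := fun q hq hqA =>
    H.cen_eq_one hqA (H.sylY.le hq)
  -- the general form
  have key : ∀ (g : F → Sy 2 F), g 0 = 1 → (∀ a, g a = 1 → a = 0) →
      (∀ q ∈ Q, q ≠ 1 → ∃ a, a ≠ 0 ∧ y * q * y⁻¹ = q * ι (bl hn (g a))) →
      (∀ t ∈ Q.subgroupOf (Y ι hn p), ∃ t' ∈ Q.subgroupOf (Y ι hn p), ∃ w,
        (⟨y, hyY⟩ : ↥(Y ι hn p)) * t * (⟨y, hyY⟩ : ↥(Y ι hn p))⁻¹ = t' * fY ι hn p (g w)) ∧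
      (∀ t ∈ Q.subgroupOf (Y ι hn p), ∀ w,
        (⟨y, hyY⟩ : ↥(Y ι hn p)) * t * (⟨y, hyY⟩ : ↥(Y ι hn p))⁻¹ = fY ι hn p (g w) → t = 1) ∧
      ∃ t ∈ Q.subgroupOf (Y ι hn p), (⟨y, hyY⟩ : ↥(Y ι hn p)) * t * (⟨y, hyY⟩ : ↥(Y ι hn p))⁻¹ ∉
        Q.subgroupOf (Y ι hn p) := by
    intro g g0 g1 hg
    have hg' : ∀ t ∈ Q.subgroupOf (Y ι hn p), t ≠ 1 → ∃ a, a ≠ 0 ∧
        (⟨y, hyY⟩ : ↥(Y ι hn p)) * t * (⟨y, hyY⟩ : ↥(Y ι hn p))⁻¹ = t * fY ι hn p (g a) := by
      intro t ht ht1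
      obtain ⟨a, ha, e⟩ := hg _ (mem_subgroupOf.1 ht) (fun e => ht1 (Subtype.ext e))
      exact ⟨a, ha, Subtype.ext e⟩
    refine ⟨?_, ?_, ?_⟩
    · intro t ht
      by_cases ht1 : t = 1
      · refine ⟨1, one_mem _, 0, ?_⟩
        rw [ht1, g0, map_one]; group
      · obtain ⟨a, -, e⟩ := hg' t ht ht1
        exact ⟨t, ht, a, e⟩
    · intro t ht w e
      by_contra ht1
      obtain ⟨a, -, e'⟩ := hg' t ht ht1
      apply ht1
      apply hdisj t ht
      have h1 : t = fY ι hn p (g w) * (fY ι hn p (g a))⁻¹ := by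
        rw [eq_mul_inv_iff_mul_eq, ← e', e]
      rw [h1]
      exact mul_mem ⟨_, rfl⟩ (inv_mem ⟨_, rfl⟩)
    · obtain ⟨t, ht, -, -, ht1, -, -⟩ := h4'
      refine ⟨t, ht, fun h1 => ?_⟩
      obtain ⟨a, ha, e⟩ := hg' t ht ht1
      rw [e] at h1
      have h2 : fY ι hn p (g a) ∈ Q.subgroupOf (Y ι hn p) := by
        have h3 := mul_mem (inv_mem ht) h1
        rwa [inv_mul_cancel_left] at h3
      have h3 := hdisj _ h2 ⟨_, rfl⟩
      apply ha
      apply g1
      apply fY_inj hi (hn := hn) (p := p)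
      rw [h3, map_one]
  rcases h with h | h
  · obtain ⟨k1, k2, k3⟩ := key (fun a => sy (Sum.inl 0) a) (sy_zero _)
      (fun a ha => sy_inj (ha.trans (sy_zero _).symm)) (by
        intro q hq hq1
        obtain ⟨b, hb, e⟩ := h q hq hq1
        refine ⟨b, hb, ?_⟩
        rw [e, zz_b, bl, blk_sy]; rfl)
    exact SpFourEnd.endL hF hK (H.kAut htt htA htn hF') (H.env hF') H.sylY (H.qc htt htA htn htQ hF') h4'
      (g := ⟨y, hyY⟩) ⟨k1, k2, k3⟩
  · obtain ⟨k1, k2, k3⟩ := key (fun a => sx (Sum.inl 0) (Sum.inl 1) a) (sx_zero _ _)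
      (fun a ha => sx_inj FourStd.ij (ha.trans (sx_zero _ _).symm)) (by
        intro q hq hq1
        obtain ⟨a, ha, e⟩ := h q hq hq1
        refine ⟨a, ha, ?_⟩
        rw [e, zz_a, bl, blk_sx _ FourStd.ij]; rfl)
    exact SpFourEnd.endS hF hK (H.kAut htt htA htn hF') (H.env hF') H.sylY (H.qc htt htA htn htQ hF') h4'
      (g := ⟨y, hyY⟩) ⟨k1, k2, k3⟩

end Cfsg.Agent.OddHalf.D4.SpN.RedFour
end

private theorem dce_f7f171a25b49 : _root_.True := by
  try have : _root_.True := by simp only [_root_.Cfsg.Agent.OddHalf.SpN.Out.W2.eq_1]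
  try have : _root_.True := by simp only [_root_.Cfsg.Agent.OddHalf.D4.SpN.Blk.ex.eq_1]
  try have : _root_.True := by simp only [_root_.Cfsg.Agent.OddHalf.D4.SpN.RedFour.Y.eq_1]
  try have : _root_.True := by simp only [_root_.Cfsg.Agent.OddHalf.D4.SpN.Blk.rs.eq_1]
  try have : _root_.True := by simp only [_root_.Cfsg.Agent.OddHalf.D4.SpN.RedFour.bl.eq_1]
  try have : _root_.True := by simp only [_root_.Cfsg.Agent.StdRank2.B2Std.UU.eq_1]
  try have : _root_.True := by simp only [_root_.Cfsg.Agent.OddHalf.D4.SpN.Blk.bf.eq_1]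
  try have : _root_.True := by simp only [_root_.Cfsg.Agent.OddHalf.D4.SpN.RedFour.bl.congr_simp]
  try have : _root_.True := by simp only [_root_.Cfsg.Agent.OddHalf.D4.SpN.Blk.em.eq_1]
  exact _root_.True.intro
end

-- part: OddHalf/NI3/Ex/USixRow
section
prune_inst 0x4f0007d042522100000000510820000203000040200400000802003000200a0400002880002000112100000000005006000000000400000000a000000000001001000000080480000020000000000000000000000000000000000000000000000000000000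
set_option linter.all false
open scoped Cfsg.Agent.FastGrp

-- part: OddHalf/NI3/Ex/USix
section
/-!
# (EX), (EX3): the row `U₆(2)` (helper5)

`α` an involutory automorphism of `U₆(2)`. Then `α` is inner, or induced by a semilinear isometry `t`, `t² = 1`, of
`V = F₄⁶`. `V₀ = C_V(t)` is a space over the field `k` with two elements with a symmetric form, and `C(α)` is its
isometry group: it has order prime to 27 if the form is not alternating, and contains `Sp₆(2)` if it is alternating.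
-/

set_option autoImplicit false

namespace Cfsg.Agent.OddHalf.NI3.Ex.USix

open Cfsg Cfsg.Agent.LieClassical.HermBasic Cfsg.Agent.LieClassical.HermSiegel
  Cfsg.Agent.LieClassical.HermGen Cfsg.Agent.LieClassical.SUBasic
  Cfsg.Agent.ClassicalGeometry.UnitAutBasic Cfsg.Agent.LieClassical.FieldTransfer
  Cfsg.Agent.ClassicalGeometry.PSUAutCount
  Cfsg.Agent.ClassicalGeometry.PSUAutMain Matrix

/-- the action on vectors -/
local notation "ac" => Cfsg.Agent.LieClassical.HermSiegel.act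

section Field4

variable {F : Type*} [Field F] [Fintype F]

theorem add_self (hF : Fintype.card F = 2 ^ 2) (x : F) : x + x = 0 := by
  have := charP_two (F := F) (f := 2) hF
  exact CharTwo.add_self_eq_zero x

theorem pow4 (hF : Fintype.card F = 2 ^ 2) (x : F) : x ^ 4 = x := by
  have h := FiniteField.pow_card x
  rwa [hF] at h

theorem cube (hF : Fintype.card F = 2 ^ 2) {c : F} (hc : c ≠ 0) : c ^ 3 = 1 := by
  have h := pow4 hF c
  have h2 : c * (c ^ 3 - 1) = 0 := by linear_combination h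
  rcases mul_eq_zero.mp h2 with h3 | h3
  · exact absurd h3 hc
  · exact sub_eq_zero.mp h3

/-- the cases for an element -/
theorem cases4 (hF : Fintype.card F = 2 ^ 2) (x : F) : x = 0 ∨ x = 1 ∨ x ^ 2 + x + 1 = 0 := by
  by_cases h0 : x = 0
  · exact Or.inl h0
  · have h := cube hF h0
    have h2 : (x - 1) * (x ^ 2 + x + 1) = 0 := by linear_combination h
    rcases mul_eq_zero.mp h2 with h3 | h3
    · exact Or.inr (Or.inl (sub_eq_zero.mp h3))
    · exact Or.inr (Or.inr h3)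

theorem two_roots (hF : Fintype.card F = 2 ^ 2) {x y : F} (hx : x ^ 2 + x + 1 = 0) (hy : y ^ 2 + y + 1 = 0) :
    y = x ∨ y = x ^ 2 := by
  have h1 := add_self hF (1 : F)
  have h2 : (y - x) * (y - x ^ 2) = 0 := by
    have h3 : x ^ 3 = 1 := by linear_combination (x - 1) * hx
    linear_combination hy + h3 - y * hx + (0 : F) * h1
  rcases mul_eq_zero.mp h2 with h3 | h3
  · exact Or.inl (sub_eq_zero.mp h3)
  · exact Or.inr (sub_eq_zero.mp h3)

/-- The nontrivial automorphism of the field with four elements. -/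
theorem frob (hF : Fintype.card F = 2 ^ 2) {ρ : F ≃+* F} (hρ : ρ ≠ RingEquiv.refl F) (x : F) : ρ x = x ^ 2 := by
  obtain ⟨z, hz⟩ : ∃ z, ρ z ≠ z := by
    by_contra hcon
    push Not at hcon
    exact hρ (RingEquiv.ext hcon)
  have hz2 : z ^ 2 + z + 1 = 0 := by
    rcases cases4 hF z with h | h | h
    · exact absurd (by rw [h, map_zero]) hz
    · exact absurd (by rw [h, map_one]) hz
    · exact h
  have hρz : ρ z = z ^ 2 := by
    have h1 : (ρ z) ^ 2 + ρ z + 1 = 0 := by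
      rw [← map_pow, ← map_add, ← map_one ρ, ← map_add, hz2, map_zero]
    exact (two_roots hF hz2 h1).resolve_left hz
  rcases cases4 hF x with h | h | h
  · rw [h, map_zero]; norm_num
  · rw [h, map_one]; norm_num
  · rcases two_roots hF hz2 h with h | h
    · rw [h, hρz]
    · rw [h, map_pow, hρz]

theorem exists_omega (hF : Fintype.card F = 2 ^ 2) : ∃ w : F, w ^ 2 + w + 1 = 0 := by
  obtain ⟨x, hx⟩ := exists_not_fixed hF
  refine ⟨x, ?_⟩
  rcases cases4 hF x with h | h | h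
  · exact absurd (by rw [h]; norm_num) hx
  · exact absurd (by rw [h]; norm_num) hx
  · exact h

end Field4

section Comp

variable {F : Type*} [Field F] [Fintype F] {q n : ℕ}

omit [Fintype F] in
theorem gmR_isom (ρ : F ≃+* F) (A : GU n F q) (u v : Fin n → F) :
    hermForm n F q (((GeneralLinearGroup.map (ρ : F →+* F) (A : GL (Fin n) F) : GL (Fin n) F) :
      Matrix (Fin n) (Fin n) F) *ᵥ u) (((GeneralLinearGroup.map (ρ : F →+* F) (A : GL (Fin n) F) : GL (Fin n) F) :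
      Matrix (Fin n) (Fin n) F) *ᵥ v) = hermForm n F q u v := by
  have key : ∀ w : Fin n → F, (((GeneralLinearGroup.map (ρ : F →+* F) (A : GL (Fin n) F) : GL (Fin n) F) :
      Matrix (Fin n) (Fin n) F) *ᵥ w) = fun i => ρ ((gm A *ᵥ fun j => ρ.symm (w j)) i) := by
    intro w
    funext i
    simp only [Matrix.mulVec, dotProduct, gm_def, map_sum, _root_.Matrix.GeneralLinearGroup.map_apply, _root_.RingHom.coe_coe, _root_.map_mul, _root_.RingEquiv.apply_symm_apply]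
  rw [key, key, herm_map, herm_gm, ← herm_map]
  congr 1 <;> · funext i; simp

/-- the image of `A` under a field automorphism -/
def guR (ρ : F ≃+* F) (A : GU n F q) : GU n F q :=
  ⟨GeneralLinearGroup.map (ρ : F →+* F) (A : GL (Fin n) F), fun u v => gmR_isom ρ A u v⟩

omit [Fintype F] in
theorem gm_guR (ρ : F ≃+* F) (A : GU n F q) : gm (guR ρ A) = (gm A).map ρ := rfl

omit [Fintype F] in
theorem guR_mulVec (ρ : F ≃+* F) (A : GU n F q) (x : Fin n → F) :
    (gm (guR ρ A) *ᵥ fun i => ρ (x i)) = fun i => ρ ((gm A *ᵥ x) i) := by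
  funext i
  simp only [Matrix.mulVec, dotProduct, gm_guR, map_sum, _root_.Matrix.map_apply, _root_.map_mul]

omit [Fintype F] in
/-- Composition. -/
theorem toAut_mul (A B : GU n F q) (ρ ψ : F ≃+* F) :
    toAut A ρ * toAut B ψ = toAut (A * guR ρ B) (ψ.trans ρ) := by
  ext x
  obtain ⟨g, rfl⟩ := pr_surjective x
  rw [MulAut.mul_apply, toAut_pr, toAut_pr, toAut_pr]
  congr 1
  apply ext_act
  intro x
  have hx : x = gm (A * guR ρ B) *ᵥ fun i => (ψ.trans ρ)
      ((fun j => (ψ.trans ρ).symm ((gm (A * guR ρ B)⁻¹ *ᵥ x) j)) i) := by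
    have : (fun i => (ψ.trans ρ) ((fun j => (ψ.trans ρ).symm ((gm (A * guR ρ B)⁻¹ *ᵥ x) j)) i)) =
        gm (A * guR ρ B)⁻¹ *ᵥ x := by
      funext i
      exact (ψ.trans ρ).apply_symm_apply _
    rw [this, gm_mulVec_inv]
  rw [hx]
  generalize (fun j => (ψ.trans ρ).symm ((gm (A * guR ρ B)⁻¹ *ᵥ x) j)) = y
  rw [act_semiConj, gm_mul, ← mulVec_mulVec, ← mulVec_mulVec]
  have h1 : ∀ z : Fin n → F, (gm (guR ρ B) *ᵥ fun i => (ψ.trans ρ) (z i)) =
      fun i => ρ ((gm B *ᵥ fun i => ψ (z i)) i) := fun z => guR_mulVec ρ B (fun i => ψ (z i))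
  rw [h1, h1, act_semiConj]
  congr 1
  funext i
  congr 1
  exact congrFun (act_semiConj B ψ g y) i

omit [Fintype F] in
theorem toAut_one : toAut (1 : GU n F q) (RingEquiv.refl F) = 1 := by
  ext x
  obtain ⟨g, rfl⟩ := pr_surjective x
  rw [toAut_pr, MulAut.one_apply]
  congr 1
  apply ext_act
  intro x
  have h := act_semiConj (1 : GU n F q) (RingEquiv.refl F) g x
  rw [gm_one, one_mulVec, one_mulVec] at h
  exact h

end Comp

/-- An outer diagonal times inner involution is inner. -/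
theorem inner_of_refl {F : Type*} [Field F] [Fintype F] (hF : Fintype.card F = 2 ^ 2) {A : GU 6 F 2}
    (h : toAut A (RingEquiv.refl F) * toAut A (RingEquiv.refl F) = 1) :
    ∃ x, toAut A (RingEquiv.refl F) = MulAut.conj x := by
  rw [toAut_mul, ← toAut_one] at h
  obtain ⟨-, c, hc, h2⟩ := eq_of_toAut_eq hF (by norm_num) h
  have hd : (gm A).det ≠ 0 := by
    have h3 := congrArg Matrix.det (gm_mul_inv A)
    rw [det_mul, det_one] at h3
    intro h4
    rw [h4, zero_mul] at h3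
    exact zero_ne_one h3
  have hc3 : c ^ 3 = 1 := by linear_combination hc
  have h3 : (gm A).det ^ 2 = 1 := by
    have h4 := congrArg Matrix.det h2
    rw [gm_one, det_one, det_smul, gm_mul, det_mul, gm_guR] at h4
    have h5 : (gm A).map (RingEquiv.refl F) = gm A := by ext i j; rfl
    rw [h5, Fintype.card_fin] at h4
    have h6 : c ^ 6 = 1 := by
      have : c ^ 6 = (c ^ 3) ^ 2 := by ring
      rw [this, hc3, one_pow]
    rw [h6] at h4
    linear_combination -h4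
  have h4 := cube hF hd
  have h5 : (gm A).det = 1 := by linear_combination h4 - (gm A).det * h3
  let a : SU 6 F 2 := mkSU (gm A) h5 (herm_gm A)
  refine ⟨pr 6 F 2 a, ?_⟩
  ext x
  obtain ⟨g, rfl⟩ := pr_surjective x
  rw [toAut_pr, MulAut.conj_apply, ← map_mul, ← map_inv, ← map_mul]
  congr 1
  apply ext_act
  intro x
  have hx : x = gm A *ᵥ (gm A⁻¹ *ᵥ x) := (gm_mulVec_inv A x).symm
  rw [hx]
  generalize gm A⁻¹ *ᵥ x = y
  have h6 := act_semiConj A (RingEquiv.refl F) g y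
  have h7 : ∀ z : Fin 6 → F, (fun i => (RingEquiv.refl F) (z i)) = z := fun z => rfl
  rw [h7, h7] at h6
  rw [h6]
  have h8 : ∀ z, gm A *ᵥ z = ac a z := fun z => rfl
  rw [h8, h8, act_mul, act_mul, act_inv_act]

/-! ### Semilinear involutions -/

section Semi

variable {F : Type*} [Field F] [Fintype F]

/-- the semilinear map `x ↦ A ρ(x)` -/
def tt (A : GU 6 F 2) (ρ : F ≃+* F) (x : Fin 6 → F) : Fin 6 → F := gm A *ᵥ fun i => ρ (x i)

/-- a semilinear involution -/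
structure Inv (A : GU 6 F 2) (ρ : F ≃+* F) : Prop where
  card : Fintype.card F = 2 ^ 2
  frob : ∀ x : F, ρ x = x ^ 2
  sq : ∀ x : Fin 6 → F, tt A ρ (tt A ρ x) = x

omit [Fintype F] in
theorem tt_add (A : GU 6 F 2) (ρ : F ≃+* F) (x y : Fin 6 → F) : tt A ρ (x + y) = tt A ρ x + tt A ρ y := by
  rw [tt, tt, tt, ← mulVec_add]
  congr 1
  funext i
  simp

omit [Fintype F] in
theorem tt_smul (A : GU 6 F 2) (ρ : F ≃+* F) (c : F) (x : Fin 6 → F) : tt A ρ (c • x) = ρ c • tt A ρ x := by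
  rw [tt, tt, ← mulVec_smul]
  congr 1
  funext i
  simp

omit [Fintype F] in
theorem tt_zero (A : GU 6 F 2) (ρ : F ≃+* F) : tt A ρ 0 = 0 := by
  have h := tt_smul A ρ 0 (0 : Fin 6 → F)
  rw [map_zero, zero_smul, zero_smul] at h
  exact h

omit [Fintype F] in
theorem herm_tt (A : GU 6 F 2) (ρ : F ≃+* F) (x y : Fin 6 → F) :
    hermForm 6 F 2 (tt A ρ x) (tt A ρ y) = ρ (hermForm 6 F 2 x y) := herm_semi A ρ x y

omit [Fintype F] in
theorem tt_injective (A : GU 6 F 2) (ρ : F ≃+* F) : Function.Injective (tt A ρ) := by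
  intro x y h
  have h1 := congrArg (fun z => gm A⁻¹ *ᵥ z) h
  simp only [tt, gm_inv_mulVec] at h1
  funext i
  exact ρ.injective (congrFun h1 i)

theorem inv_of (hF : Fintype.card F = 2 ^ 2) {A : GU 6 F 2} {ρ : F ≃+* F} (hρ : ρ ≠ RingEquiv.refl F)
    (h : toAut A ρ * toAut A ρ = 1) : Inv A ρ := by
  have hfrob := frob hF hρ
  have hρρ : ∀ x : F, ρ (ρ x) = x := by
    intro x
    rw [hfrob, hfrob, ← pow_mul]
    exact pow4 hF x
  refine ⟨hF, hfrob, ?_⟩
  rw [toAut_mul, ← toAut_one] at h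
  obtain ⟨-, c, hc, h2⟩ := eq_of_toAut_eq hF (by norm_num) h
  have hc0 : c ≠ 0 := by
    rintro rfl
    rw [zero_mul] at hc
    exact zero_ne_one hc
  have h3 : ∀ x : Fin 6 → F, tt A ρ (tt A ρ x) = c⁻¹ • x := by
    intro x
    have h4 : x = c • tt A ρ (tt A ρ x) := by
      have h5 : gm (1 : GU 6 F 2) *ᵥ x = (c • gm (A * guR ρ A)) *ᵥ x := by rw [← h2]
      rw [gm_one, one_mulVec, smul_mulVec, gm_mul, ← mulVec_mulVec] at h5
      have h6 : x = fun i => ρ (ρ (x i)) := by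
        funext i
        rw [hρρ]
      rw [h6, guR_mulVec] at h5
      rw [← h6] at h5
      exact h5
    rw [eq_comm, inv_smul_eq_iff₀ hc0]
    exact h4
  have h4 : ρ c⁻¹ = c⁻¹ := by
    have h5 : ∀ x : Fin 6 → F, ρ c⁻¹ • tt A ρ x = c⁻¹ • tt A ρ x := by
      intro x
      rw [← tt_smul, ← h3, h3 (tt A ρ x)]
    obtain ⟨x, hx⟩ : ∃ x : Fin 6 → F, tt A ρ x ≠ 0 := by
      refine ⟨Pi.single 0 1, fun h => ?_⟩
      have h6 := tt_injective A ρ (h.trans (tt_zero A ρ).symm)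
      have h7 := congrFun h6 0
      rw [Pi.single_eq_same, Pi.zero_apply] at h7
      exact one_ne_zero h7
    have h6 := sub_eq_zero.mpr (h5 x)
    rw [← sub_smul] at h6
    exact sub_eq_zero.mp ((smul_eq_zero.mp h6).resolve_right hx)
  rw [hfrob] at h4
  have h5 : c⁻¹ = 1 := by
    have h6 : c⁻¹ * (c⁻¹ - 1) = 0 := by linear_combination h4
    exact sub_eq_zero.mp ((mul_eq_zero.mp h6).resolve_left (inv_ne_zero hc0))
  intro x
  rw [h3, h5, one_smul]

end Semi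

end Cfsg.Agent.OddHalf.NI3.Ex.USix
end

-- part: OddHalf/NI3/Ex/USixGeom
section
/-!
# (EX), (EX3): the row `U₆(2)`, the fixed points of a semilinear involution (helper5)
-/

set_option autoImplicit false
set_option linter.unusedSectionVars false

namespace Cfsg.Agent.OddHalf.NI3.Ex.USix

open Cfsg Cfsg.Agent.LieClassical.HermBasic Cfsg.Agent.LieClassical.HermSiegel
  Cfsg.Agent.LieClassical.HermGen Cfsg.Agent.LieClassical.SUBasic
  Cfsg.Agent.ClassicalGeometry.UnitAutBasic Cfsg.Agent.LieClassical.FieldTransfer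
  Cfsg.Agent.ClassicalGeometry.PSUAutCount
  Cfsg.Agent.ClassicalGeometry.PSUAutMain Matrix

/-- the action on vectors -/
local notation "ac" => Cfsg.Agent.LieClassical.HermSiegel.act

/-! ### The order of the general linear group -/

theorem card_aut {K V : Type*} [Field K] [Fintype K] [AddCommGroup V] [Module K V] [FiniteDimensional K V] {n : ℕ}
    (hn : Module.finrank K V = n) :
    Nat.card (V ≃ₗ[K] V) = ∏ i : Fin n, (Fintype.card K ^ n - Fintype.card K ^ (i : ℕ)) := by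
  classical
  have b : Module.Basis (Fin n) K V := Module.finBasisOfFinrankEq K V hn
  rw [← Matrix.card_GL_field]
  exact (Nat.card_congr ((Matrix.GeneralLinearGroup.toLin' b).trans
    (LinearMap.GeneralLinearGroup.generalLinearEquiv K V)).toEquiv).symm

section Geom

variable {F : Type*} [Field F] [Fintype F]

/-- the field with two elements -/
def k2 (ρ : F ≃+* F) : Subfield F := RingHom.eqLocusField (ρ : F →+* F) (RingHom.id F)

omit [Fintype F] in
theorem mem_k2 {ρ : F ≃+* F} {x : F} : x ∈ k2 ρ ↔ ρ x = x := Iff.rfl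

variable {A : GU 6 F 2} {ρ : F ≃+* F} (I : Inv A ρ)

include I in
theorem card_k2 : Nat.card (k2 ρ) = 2 := by
  rw [← card_fixed I.card]
  refine Nat.card_congr (Equiv.subtypeEquivRight fun x => ?_)
  rw [← I.frob x]
  exact mem_k2

/-- the fixed points -/
def V0 (A : GU 6 F 2) (ρ : F ≃+* F) : Submodule (k2 ρ) (Fin 6 → F) where
  carrier := {x | tt A ρ x = x}
  add_mem' := by
    intro x y hx hy
    rw [Set.mem_ofPred_eq] at hx hy ⊢
    rw [tt_add, hx, hy]
  zero_mem' := tt_zero A ρ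
  smul_mem' := by
    intro c x hx
    rw [Set.mem_ofPred_eq] at hx ⊢
    have h1 : c • x = (c : F) • x := rfl
    rw [h1, tt_smul, mem_k2.mp c.2, hx]

omit [Fintype F] in
theorem mem_V0 {x : Fin 6 → F} : x ∈ V0 A ρ ↔ tt A ρ x = x := Iff.rfl

include I in
theorem s_mem (x : Fin 6 → F) : x + tt A ρ x ∈ V0 A ρ := by
  rw [mem_V0, tt_add, I.sq, add_comm]

include I in
/-- `V` is spanned by `V₀` -/
theorem exists_decomp {w : F} (hw : w ^ 2 + w + 1 = 0) (x : Fin 6 → F) :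
    ∃ a b : V0 A ρ, x = (a : Fin 6 → F) + w • (b : Fin 6 → F) := by
  refine ⟨⟨w • x + tt A ρ (w • x), s_mem I _⟩ + ⟨x + tt A ρ x, s_mem I _⟩, ⟨x + tt A ρ x, s_mem I _⟩, ?_⟩
  rw [Submodule.coe_add]
  simp only
  rw [tt_smul, I.frob]
  funext i
  simp only [Pi.add_apply, Pi.smul_apply, smul_eq_mul]
  have h2 := add_self I.card (tt A ρ x i)
  have h3 := add_self I.card (x i)
  have h4 := add_self I.card (w * x i)
  linear_combination (-(1 : F)) * tt A ρ x i * hw - h4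

include I in
theorem decomp_unique {w : F} (hw : w ^ 2 + w + 1 = 0) {a b : V0 A ρ}
    (h : (a : Fin 6 → F) + w • (b : Fin 6 → F) = 0) : a = 0 ∧ b = 0 := by
  have h1 := congrArg (tt A ρ) h
  rw [tt_add, tt_smul, tt_zero, mem_V0.mp a.2, mem_V0.mp b.2, I.frob] at h1
  have h2 : (b : Fin 6 → F) = 0 := by
    funext i
    have h3 := congrFun h i
    have h4 := congrFun h1 i
    simp only [Pi.add_apply, Pi.smul_apply, smul_eq_mul, Pi.zero_apply] at h3 h4 ⊢
    linear_combination ((b : Fin 6 → F) i :) * hw - h4 - h3 + add_self I.card ((a : Fin 6 → F) i)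
  have h3 : (a : Fin 6 → F) = 0 := by
    rw [h2, smul_zero, add_zero] at h
    exact h
  exact ⟨Subtype.ext h3, Subtype.ext h2⟩

include I in
theorem card_V0 : Nat.card (V0 A ρ) = 64 := by
  obtain ⟨w, hw⟩ := exists_omega I.card
  have h1 : (Function.Bijective (fun p : V0 A ρ × V0 A ρ => (p.1 : Fin 6 → F) + w • (p.2 : Fin 6 → F)) :) := by
    constructor
    · rintro ⟨a, b⟩ ⟨c, d⟩ h
      have h2 : ((a - c : V0 A ρ) : Fin 6 → F) + w • ((b - d : V0 A ρ) : Fin 6 → F) = 0 := by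
        rw [Submodule.coe_sub, Submodule.coe_sub, smul_sub]
        have h3 : (a : Fin 6 → F) + w • (b : Fin 6 → F) = (c : Fin 6 → F) + w • (d : Fin 6 → F) := h
        linear_combination (exp := 1) h3
      obtain ⟨h3, h4⟩ := decomp_unique I hw h2
      rw [sub_eq_zero.mp h3, sub_eq_zero.mp h4]
    · intro x
      obtain ⟨a, b, h⟩ := exists_decomp I hw x
      exact ⟨(a, b), h.symm⟩
  have h2 := Nat.card_congr (Equiv.ofBijective _ h1)
  rw [Nat.card_prod, Nat.card_fun, Nat.card_eq_fintype_card (α := F), I.card] at h2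
  norm_num only [_root_.Nat.card_eq_fintype_card, _root_.Fintype.card_fin] at h2
  nlinarith [h2]

include I in
theorem finrank_V0 : Module.finrank (k2 ρ) (V0 A ρ) = 6 := by
  have : Finite (Fin 6 → F) := inferInstance
  have h1 : Nat.card (V0 A ρ) = Nat.card (k2 ρ) ^ Module.finrank (k2 ρ) (V0 A ρ) := by
    have : Fintype (k2 ρ) := Fintype.ofFinite _
    have : Fintype (V0 A ρ) := Fintype.ofFinite _
    rw [Nat.card_eq_fintype_card, Nat.card_eq_fintype_card]
    exact Module.card_eq_pow_finrank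
  rw [card_V0 I, card_k2 I] at h1
  have h2 : (64 : ℕ) = 2 ^ 6 := by norm_num
  rw [h2] at h1
  exact (Nat.pow_right_injective le_rfl h1).symm

/-! ### The form -/

include I in
theorem herm_mem {x y : Fin 6 → F} (hx : x ∈ V0 A ρ) (hy : y ∈ V0 A ρ) : hermForm 6 F 2 x y ∈ k2 ρ := by
  rw [mem_k2, ← herm_tt, mem_V0.mp hx, mem_V0.mp hy]

include I in
theorem herm_comm {x y : Fin 6 → F} (hx : x ∈ V0 A ρ) (hy : y ∈ V0 A ρ) :
    hermForm 6 F 2 y x = hermForm 6 F 2 x y := by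
  rw [herm_swap I.card, ← I.frob]
  exact mem_k2.mp (herm_mem I hx hy)

/-- the symmetric form on `V₀` -/
noncomputable def form (I : Inv A ρ) : LinearMap.BilinForm (k2 ρ) (V0 A ρ) :=
  LinearMap.mk₂ (k2 ρ) (fun x y => ⟨(hermForm 6 F 2 x y :), herm_mem I x.2 y.2⟩)
    (fun x x' y => Subtype.ext (herm_add_left _ _ _))
    (fun c x y => Subtype.ext (herm_smul_left _ _ _))
    (fun x y y' => Subtype.ext (herm_add_right I.card _ _ _))
    (fun c x y => Subtype.ext (by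
      have h1 := herm_smul_right (q := 2) (c : F) (x : Fin 6 → F) y
      rw [← I.frob, mem_k2.mp c.2] at h1
      exact h1))

theorem coe_form (x y : V0 A ρ) : ((form I x y : k2 ρ) : F) = hermForm 6 F 2 x y := rfl

include I in
theorem nondeg {x : V0 A ρ} (h : ∀ y : V0 A ρ, hermForm 6 F 2 (x : Fin 6 → F) y = 0) : x = 0 := by
  obtain ⟨w, hw⟩ := exists_omega I.card
  apply Subtype.ext
  refine herm_nondeg I.card fun v => ?_
  obtain ⟨a, b, rfl⟩ := exists_decomp I hw v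
  rw [herm_add_right I.card, herm_smul_right, h, h, mul_zero, add_zero]

/-- `x ↦ (x, x)` -/
noncomputable def lam (I : Inv A ρ) : V0 A ρ →ₗ[k2 ρ] k2 ρ where
  toFun x := form I x x
  map_add' x y := by
    apply Subtype.ext
    rw [Subfield.coe_add, coe_form, coe_form, coe_form, Submodule.coe_add, herm_add_left, herm_add_right I.card,
      herm_add_right I.card, herm_comm I x.2 y.2]
    linear_combination add_self I.card ((hermForm 6 F 2 (x : Fin 6 → F) y :))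
  map_smul' c x := by
    apply Subtype.ext
    rw [coe_form]
    have h1 : ((c • x : V0 A ρ) : Fin 6 → F) = (c : F) • (x : Fin 6 → F) := rfl
    have hc := mem_k2.mp c.2
    rw [I.frob] at hc
    rw [h1, herm_smul_left, herm_smul_right, ← mul_assoc, hc]
    have h2 : (c : F) * c = c := by linear_combination hc
    rw [h2]
    rfl

theorem coe_lam (x : V0 A ρ) : ((lam I x : k2 ρ) : F) = hermForm 6 F 2 x x := rfl

/-! ### The centralizer -/

/-- the centralizer of `t` in `SU` -/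
def Gam (A : GU 6 F 2) (ρ : F ≃+* F) : Subgroup (SU 6 F 2) where
  carrier := {g | ∀ x, ac g (tt A ρ x) = tt A ρ (ac g x)}
  mul_mem' := by
    intro g h hg hh
    rw [Set.mem_ofPred_eq] at hg hh ⊢
    intro x
    rw [act_mul, act_mul, hh, hg]
  one_mem' := by
    rw [Set.mem_ofPred_eq]
    intro x
    rw [act_one, act_one]
  inv_mem' := by
    intro g hg
    rw [Set.mem_ofPred_eq] at hg ⊢
    intro x
    apply act_injective g
    rw [act_act_inv, hg, act_act_inv]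

omit [Fintype F] in
theorem mem_Gam {g : SU 6 F 2} : g ∈ Gam A ρ ↔ ∀ x, ac g (tt A ρ x) = tt A ρ (ac g x) := Iff.rfl

omit [Fintype F] in
theorem act_mem {g : SU 6 F 2} (hg : g ∈ Gam A ρ) {x : Fin 6 → F} (hx : x ∈ V0 A ρ) : ac g x ∈ V0 A ρ := by
  rw [mem_V0, ← mem_Gam.mp hg, mem_V0.mp hx]

/-- the action of `C(t)` on `V₀` -/
def rep (A : GU 6 F 2) (ρ : F ≃+* F) : Gam A ρ →* (V0 A ρ ≃ₗ[k2 ρ] V0 A ρ) where
  toFun g :=
    { toFun := fun x => ⟨(ac (g : SU 6 F 2) x :), act_mem g.2 x.2⟩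
      map_add' := fun x y => Subtype.ext (act_add _ _ _)
      map_smul' := fun c x => Subtype.ext (act_smul _ _ _)
      invFun := fun x => ⟨ac ((g⁻¹ : Gam A ρ) : SU 6 F 2) x, act_mem (g⁻¹ : Gam A ρ).2 x.2⟩
      left_inv := fun x => Subtype.ext (act_inv_act _ _)
      right_inv := fun x => Subtype.ext (act_act_inv _ _) }
  map_one' := by
    ext x : 1
    exact Subtype.ext (act_one _)
  map_mul' g h := by
    ext x : 1
    exact Subtype.ext (act_mul _ _ _)

omit [Fintype F] in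
theorem coe_rep (g : Gam A ρ) (x : V0 A ρ) : ((rep A ρ g x : V0 A ρ) : Fin 6 → F) = ac (g : SU 6 F 2) x := rfl

include I in
theorem rep_injective : Function.Injective (rep A ρ) := by
  rw [injective_iff_map_eq_one]
  intro g hg
  obtain ⟨w, hw⟩ := exists_omega I.card
  have h1 : ∀ x : V0 A ρ, ac (g : SU 6 F 2) x = x := by
    intro x
    rw [← coe_rep, hg]
    rfl
  apply Subtype.ext
  apply ext_act
  intro v
  obtain ⟨a, b, rfl⟩ := exists_decomp I hw v
  rw [act_add, act_smul, h1, h1]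
  exact (act_one _).symm

include I in
theorem card_GL : Nat.card (V0 A ρ ≃ₗ[k2 ρ] V0 A ρ) = 20158709760 := by
  have : Fintype (k2 ρ) := Fintype.ofFinite _
  have h := card_k2 I
  rw [Nat.card_eq_fintype_card] at h
  rw [card_aut ((finrank_V0 I :)), h]
  decide

include I in
theorem not_729 : ¬ 729 ∣ Nat.card (Gam A ρ) := by
  intro h
  have h1 := h.trans (Subgroup.card_dvd_of_injective (rep A ρ) (rep_injective I))
  rw [card_GL I] at h1
  revert h1
  norm_num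

end Geom

end Cfsg.Agent.OddHalf.NI3.Ex.USix
end

-- part: OddHalf/NI3/Ex/USixRow
section
-- merged: Cfsg.Agent.OddHalf.NI3.Ex.USixOdd
section

/-!
# (EX), (EX3): the row `U₆(2)`, the form is not alternating (helper5)
-/

set_option autoImplicit false
set_option linter.unusedSectionVars false

namespace Cfsg.Agent.OddHalf.NI3.Ex.USix

open Cfsg Cfsg.Agent.LieClassical.HermBasic Cfsg.Agent.LieClassical.HermSiegel
  Cfsg.Agent.LieClassical.HermGen Cfsg.Agent.LieClassical.SUBasic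
  Cfsg.Agent.ClassicalGeometry.UnitAutBasic Cfsg.Agent.LieClassical.FieldTransfer
  Cfsg.Agent.ClassicalGeometry.PSUAutCount
  Cfsg.Agent.ClassicalGeometry.PSUAutMain Matrix

/-- the action on vectors -/
local notation "ac" => Cfsg.Agent.LieClassical.HermSiegel.act

section Odd

variable {F : Type*} [Field F] [Fintype F] {A : GU 6 F 2} {ρ : F ≃+* F} (I : Inv A ρ)

theorem lam_rep (g : Gam A ρ) (x : V0 A ρ) : lam I (rep A ρ g x) = lam I x := by
  apply Subtype.ext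
  rw [coe_lam, coe_lam, coe_rep]
  exact herm_act _ _ _

/-- the vectors `x` with `(x, x) ≠ 0` -/
abbrev Out (I : Inv A ρ) : Type _ := {x : V0 A ρ // lam I x ≠ 0}

/-- the action on them -/
@[instance_reducible]
noncomputable def actOut (I : Inv A ρ) : MulAction (Gam A ρ) (Out I) where
  smul g x := ⟨rep A ρ g x.1, by rw [lam_rep]; exact x.2⟩
  one_smul x := by
    apply Subtype.ext
    change rep A ρ 1 x.1 = x.1
    rw [map_one]
    rfl
  mul_smul g h x := by
    apply Subtype.ext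
    change rep A ρ (g * h) x.1 = rep A ρ g (rep A ρ h x.1)
    rw [map_mul]
    rfl

include I in
theorem k2_cases (c : k2 ρ) : c = 0 ∨ c = 1 := by
  have h1 := mem_k2.mp c.2
  rw [I.frob] at h1
  have h2 : (c : F) * ((c : F) - 1) = 0 := by linear_combination h1
  rcases mul_eq_zero.mp h2 with h3 | h3
  · exact Or.inl (Subtype.ext h3)
  · exact Or.inr (Subtype.ext (sub_eq_zero.mp h3))

theorem finrank_ker {v : V0 A ρ} (hv : lam I v ≠ 0) : Module.finrank (k2 ρ) (LinearMap.ker (lam I)) = 5 := by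
  have : FiniteDimensional (k2 ρ) (V0 A ρ) := FiniteDimensional.of_finrank_eq_succ (finrank_V0 I)
  have h1 := LinearMap.finrank_range_add_finrank_ker ((lam I :))
  have h2 : LinearMap.range (lam I) = ⊤ := by
    rw [LinearMap.range_eq_top]
    intro c
    refine ⟨(c * (lam I v)⁻¹) • v, ?_⟩
    rw [map_smul, smul_eq_mul, mul_assoc, inv_mul_cancel₀ hv, mul_one]
  ((conv at h1 => enter [@2, @5]; rw [h2]); simp only [finrank_top] at h1; simp only [Module.finrank_self] at h1; simp only [finrank_V0 I] at h1)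
  omega

theorem card_ker {v : V0 A ρ} (hv : lam I v ≠ 0) : Nat.card (LinearMap.ker (lam I)) = 32 := by
  have : FiniteDimensional (k2 ρ) (V0 A ρ) := FiniteDimensional.of_finrank_eq_succ (finrank_V0 I)
  have h1 := Module.natCard_eq_pow_finrank (K := k2 ρ) (V := LinearMap.ker (lam I))
  have h2 := finrank_ker I hv
  rw [h1, card_k2 I, h2]
  norm_num

theorem card_out {v : V0 A ρ} (hv : lam I v ≠ 0) : Nat.card (Out I) = 32 := by
  classical
  have : Finite (Fin 6 → F) := inferInstance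
  have h1 : Nat.card (V0 A ρ) = Nat.card {x : V0 A ρ // lam I x = 0} + Nat.card {x : V0 A ρ // ¬ lam I x = 0} := by
    rw [← Nat.card_sum]
    exact (Nat.card_congr (Equiv.sumCompl (fun x : V0 A ρ => lam I x = 0))).symm
  have h2 : Nat.card {x : V0 A ρ // lam I x = 0} = 32 := card_ker I hv
  rw [card_V0 I, h2] at h1
  have h3 : Nat.card (Out I) = Nat.card {x : V0 A ρ // ¬ lam I x = 0} := rfl
  omega

/-- **The form is not alternating: `27 ∤ |C(t)|`.** -/
theorem odd_case {v : V0 A ρ} (hv : lam I v ≠ 0) : ¬ 27 ∣ Nat.card (Gam A ρ) := by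
  intro h81
  have : Fact (Nat.Prime 3) := ⟨Nat.prime_three⟩
  have hfin : Finite (Gam A ρ) := inferInstance
  obtain ⟨P, hP⟩ := Sylow.exists_subgroup_card_pow_prime (G := Gam A ρ) 3 (n := 3) (by norm_num only []; exact h81)
  have hPg : IsPGroup 3 P := IsPGroup.of_card hP
  let _ := actOut I
  obtain ⟨x, hx⟩ := hPg.nonempty_fixed_point_of_prime_not_dvd_card (Out I) (by rw [card_out I hv]; norm_num)
  have hx' : ∀ g : P, rep A ρ (g : Gam A ρ) x.1 = x.1 := fun g => congrArg Subtype.val (hx g)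
  -- `P` is faithful on the kernel
  let f : P →* (LinearMap.ker (lam I) ≃ₗ[k2 ρ] LinearMap.ker (lam I)) :=
    { toFun := fun g =>
        { toFun := fun y => ⟨rep A ρ (g : Gam A ρ) y, by
            rw [LinearMap.mem_ker, lam_rep]; exact y.2⟩
          map_add' := fun y z => Subtype.ext ((map_add _ _ _ : _))
          map_smul' := fun c y => Subtype.ext (map_smul _ _ _)
          invFun := fun y => ⟨rep A ρ ((g⁻¹ : P) : Gam A ρ) y, by
            rw [LinearMap.mem_ker, lam_rep]; exact y.2⟩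
          left_inv := fun y => by
            apply Subtype.ext
            change rep A ρ ((g⁻¹ : P) : Gam A ρ) (rep A ρ (g : Gam A ρ) y) = y
            simp only [← LinearEquiv.mul_apply, ← map_mul, ← Subgroup.coe_mul, inv_mul_cancel, Subgroup.coe_one, map_one]
            rfl
          right_inv := fun y => by
            apply Subtype.ext
            change rep A ρ (g : Gam A ρ) (rep A ρ ((g⁻¹ : P) : Gam A ρ) y) = y
            simp only [← LinearEquiv.mul_apply, ← map_mul, ← Subgroup.coe_mul, mul_inv_cancel, Subgroup.coe_one, map_one]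
            rfl }
      map_one' := by
        ext y : 1
        apply Subtype.ext
        change rep A ρ ((1 : P) : Gam A ρ) y = y
        rw [Subgroup.coe_one, map_one]
        rfl
      map_mul' := fun g h => by
        ext y : 1
        apply Subtype.ext
        change rep A ρ ((g * h : P) : Gam A ρ) y = rep A ρ (g : Gam A ρ) (rep A ρ (h : Gam A ρ) y)
        simp only [Subgroup.coe_mul, map_mul]
        rfl }
  have hf : Function.Injective f := by
    rw [injective_iff_map_eq_one]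
    intro g hg
    apply Subtype.ext
    apply rep_injective I
    rw [Subgroup.coe_one, map_one]
    ext z : 1
    change rep A ρ (g : Gam A ρ) z = z
    have hk : ∀ y : V0 A ρ, lam I y = 0 → rep A ρ (g : Gam A ρ) y = y := by
      intro y hy
      have h1 : f g ⟨y, hy⟩ = ⟨y, hy⟩ := by rw [hg]; rfl
      exact congrArg Subtype.val h1
    rcases k2_cases I (lam I z) with h1 | h1
    · exact hk z h1
    · have h2 : lam I x.1 = 1 := (k2_cases I (lam I x.1)).resolve_left x.2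
      have h3 : lam I (z - x.1) = 0 := by rw [map_sub, h1, h2, sub_self]
      have h4 := hk _ h3
      simp only [map_sub, hx' g, sub_left_inj] at h4
      exact h4
  have h1 := Subgroup.card_dvd_of_injective f hf
  have : Fintype (k2 ρ) := Fintype.ofFinite _
  have h2 := card_k2 I
  rw [Nat.card_eq_fintype_card] at h2
  have : FiniteDimensional (k2 ρ) (V0 A ρ) := FiniteDimensional.of_finrank_eq_succ (finrank_V0 I)
  have h3 := card_aut (K := k2 ρ) (V := LinearMap.ker (lam I)) (n := 5) (finrank_ker I hv)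
  rw [h2] at h3
  rw [hP] at h1
  have h4 := h1.trans (dvd_of_eq h3)
  revert h4
  decide

end Odd

end Cfsg.Agent.OddHalf.NI3.Ex.USix

end

-- merged: Cfsg.Agent.OddHalf.NI3.Ex.USixAlt
section

/-!
# (EX), (EX3): the row `U₆(2)`, the form is alternating (helper5)
-/

set_option autoImplicit false
set_option linter.unusedSectionVars false

namespace Cfsg.Agent.OddHalf.NI3.Ex.USix

open Cfsg Cfsg.Agent.LieClassical.HermBasic Cfsg.Agent.LieClassical.HermSiegel
  Cfsg.Agent.LieClassical.HermGen Cfsg.Agent.LieClassical.SUBasic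
  Cfsg.Agent.ClassicalGeometry.UnitAutBasic Cfsg.Agent.LieClassical.FieldTransfer
  Cfsg.Agent.ClassicalGeometry.PSUAutCount
  Cfsg.Agent.ClassicalGeometry.PSUAutMain Matrix

/-- the action on vectors -/
local notation "ac" => Cfsg.Agent.LieClassical.HermSiegel.act

section Alt

variable {F : Type*} [Field F] [Fintype F] {A : GU 6 F 2} {ρ : F ≃+* F} (I : Inv A ρ)

/-- A symplectic basis of `V₀` -/
theorem exists_basis (h : ∀ x : V0 A ρ, lam I x = 0) :
    ∃ v : Fin 3 ⊕ Fin 3 → (Fin 6 → F), (∀ s, v s ∈ V0 A ρ) ∧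
      ∀ s s', hermForm 6 F 2 (v s) (v s') = Matrix.J (Fin 3) F s s' := by
  have hfd : FiniteDimensional (k2 ρ) (V0 A ρ) := FiniteDimensional.of_finrank_eq_succ (finrank_V0 I)
  have hAlt : (form I).IsAlt := fun x => h x
  obtain ⟨m, n, b, h1, h2, h3, h4⟩ := S0752.result ((form I :)) hAlt
  have hn : n = 0 := by
    by_contra hn
    have h5 : b (Sum.inr ⟨0, by omega⟩) = 0 := by
      refine nondeg I fun y => ?_
      have h6 := h4 ⟨0, by omega⟩ y
      rw [← coe_form I, h6]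
      rfl
    exact b.ne_zero _ h5
  subst hn
  have hm : m = 3 := by
    have h5 := Module.finrank_eq_card_basis b
    rw [finrank_V0 I] at h5
    simp only [_root_.Fintype.card_sum, _root_.Fintype.card_fin, _root_.Fintype.card_eq_zero, _root_.add_zero] at h5
    omega
  subst hm
  have hneg : (-1 : F) = 1 := by linear_combination -(add_self I.card (1 : F))
  refine ⟨fun s => (b (Sum.inl s) : Fin 6 → F), fun s => (b (Sum.inl s)).2, ?_⟩
  have key : ∀ s s' : Fin 3 ⊕ Fin 3, ((form I (b (Sum.inl s)) (b (Sum.inl s')) : k2 ρ) : F) =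
      Matrix.J (Fin 3) F s s' := by
    rintro (i | i) (j | j)
    · rw [h2]
      simp [Matrix.J]
    · rw [h1]
      simp only [Matrix.J, Matrix.fromBlocks_apply₁₂, Matrix.neg_apply, Matrix.one_apply]
      split_ifs
      · exact hneg.symm
      · simp
    · have h5 : form I (b (Sum.inl (Sum.inr i))) (b (Sum.inl (Sum.inl j))) =
          form I (b (Sum.inl (Sum.inl j))) (b (Sum.inl (Sum.inr i))) := by
        apply Subtype.ext
        rw [coe_form, coe_form]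
        exact herm_comm I (b (Sum.inl (Sum.inl j))).2 (b (Sum.inl (Sum.inr i))).2
      rw [h5, h1]
      simp only [Matrix.J, Matrix.fromBlocks_apply₂₁, Matrix.one_apply]
      by_cases hij : i = j
      · subst hij
        simp
      · rw [if_neg hij, if_neg (Ne.symm hij)]
        rfl
    · rw [h3]
      simp [Matrix.J]
  intro s s'
  rw [← coe_form I]
  exact key s s'

/-- the columns are a symplectic basis -/
structure Sb (A : GU 6 F 2) (ρ : F ≃+* F) (P : Matrix (Fin 6) (Fin 3 ⊕ Fin 3) F) : Prop where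
  mem : ∀ s, (fun i => P i s) ∈ V0 A ρ
  gram : Pᵀ * P.map (fun x => x ^ 2) = Matrix.J (Fin 3) F

theorem exists_sb (h : ∀ x : V0 A ρ, lam I x = 0) : ∃ P, Sb A ρ P := by
  obtain ⟨v, h1, h2⟩ := exists_basis I h
  refine ⟨fun i s => v s i, h1, ?_⟩
  ext s s'
  rw [Matrix.mul_apply, ← h2 s s']
  rfl

variable {P : Matrix (Fin 6) (Fin 3 ⊕ Fin 3) F} (S : Sb A ρ P)

/-- the inverse of `P` -/
def Q (P : Matrix (Fin 6) (Fin 3 ⊕ Fin 3) F) : Matrix (Fin 3 ⊕ Fin 3) (Fin 6) F :=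
  Matrix.J (Fin 3) F * (P.map (fun x => x ^ 2))ᵀ

include S in
theorem Q_mul : Q P * P = 1 := by
  have h1 : (P.map (fun x => x ^ 2))ᵀ * P = -Matrix.J (Fin 3) F := by
    rw [← Matrix.J_transpose, ← S.gram, Matrix.transpose_mul, Matrix.transpose_transpose]
  rw [Q, Matrix.mul_assoc, h1, Matrix.mul_neg, Matrix.J_squared, neg_neg]

include S in
theorem mul_Q : P * Q P = 1 := (Matrix.mul_eq_one_comm_of_card_eq _ _ _ (by simp)).mp (Q_mul S)

include S in
theorem tt_P (y : Fin 3 ⊕ Fin 3 → F) : tt A ρ (P *ᵥ y) = P *ᵥ (fun s => ρ (y s)) := by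
  have h1 : ∀ z : Fin 3 ⊕ Fin 3 → F, P *ᵥ z = ∑ s, z s • (fun i => P i s) := by
    intro z
    funext i
    simp only [Matrix.mulVec, dotProduct, mul_comm, _root_.Fintype.sum_sum_type, _root_.Finset.sum_apply, _root_.Pi.smul_apply, _root_.smul_eq_mul]
  have h2 : ∀ (T : Finset (Fin 3 ⊕ Fin 3)) (f : Fin 3 ⊕ Fin 3 → (Fin 6 → F)),
      tt A ρ (∑ s ∈ T, f s) = ∑ s ∈ T, tt A ρ (f s) := by
    intro T f
    induction T using Finset.induction_on with
    | empty => simp [tt_zero]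
    | insert a T ha ih => rw [Finset.sum_insert ha, Finset.sum_insert ha, tt_add, ih]
  rw [h1, h2, h1]
  refine Finset.sum_congr rfl fun s _ => ?_
  rw [tt_smul, mem_V0.mp (S.mem s)]

include S in
theorem herm_P (y z : Fin 3 ⊕ Fin 3 → F) (hF : Fintype.card F = 2 ^ 2) :
    hermForm 6 F 2 (P *ᵥ y) (P *ᵥ z) = y ⬝ᵥ (Matrix.J (Fin 3) F *ᵥ (fun s => z s ^ 2)) := by
  have h1 : hermForm 6 F 2 (P *ᵥ y) (P *ᵥ z) = (P *ᵥ y) ⬝ᵥ (fun i => ((P *ᵥ z) i) ^ 2) := rfl
  have h2 : (fun i => ((P *ᵥ z) i) ^ 2) = P.map (fun x => x ^ 2) *ᵥ (fun s => z s ^ 2) := by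
    funext i
    simp only [Matrix.mulVec, dotProduct, Matrix.map_apply]
    rw [sum_pow_q hF]
    exact Finset.sum_congr rfl fun s _ => mul_pow _ _ _
  rw [h1, h2, ← S.gram, ← Matrix.mulVec_mulVec, Matrix.dotProduct_mulVec _ Pᵀ, Matrix.vecMul_transpose]

/-- the matrix of `M` on `V` -/
def fm (P : Matrix (Fin 6) (Fin 3 ⊕ Fin 3) F) (M : Matrix (Fin 3 ⊕ Fin 3) (Fin 3 ⊕ Fin 3) (k2 ρ)) :
    Matrix (Fin 6) (Fin 6) F := P * M.map (fun x => (x : F)) * Q P

include S in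
theorem fm_mul (M N : Matrix (Fin 3 ⊕ Fin 3) (Fin 3 ⊕ Fin 3) (k2 ρ)) : fm P (M * N) = fm P M * fm P N := by
  have h1 : (M * N).map (fun x : k2 ρ => (x : F)) = M.map (fun x => (x : F)) * N.map (fun x => (x : F)) :=
    Matrix.map_mul (f := (k2 ρ).subtype)
  rw [fm, fm, fm, h1]
  generalize M.map (fun x : k2 ρ => (x : F)) = M'
  generalize N.map (fun x : k2 ρ => (x : F)) = N'
  have h2 : P * M' * Q P * (P * N' * Q P) = P * M' * (Q P * P) * N' * Q P := by simp only [Matrix.mul_assoc]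
  rw [h2, Q_mul S, Matrix.mul_one]
  simp only [Matrix.mul_assoc]

include S in
theorem fm_one : fm P (1 : Matrix (Fin 3 ⊕ Fin 3) (Fin 3 ⊕ Fin 3) (k2 ρ)) = 1 := by
  have h1 : (1 : Matrix (Fin 3 ⊕ Fin 3) (Fin 3 ⊕ Fin 3) (k2 ρ)).map (fun x : k2 ρ => (x : F)) = 1 :=
    Matrix.map_one (k2 ρ).subtype (map_zero _) (map_one _)
  rw [fm, h1, Matrix.mul_one, mul_Q S]

include S in
theorem fm_P (M : Matrix (Fin 3 ⊕ Fin 3) (Fin 3 ⊕ Fin 3) (k2 ρ)) (y : Fin 3 ⊕ Fin 3 → F) :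
    fm P M *ᵥ (P *ᵥ y) = P *ᵥ (M.map (fun x => (x : F)) *ᵥ y) := by
  rw [fm, ← Matrix.mulVec_mulVec, ← Matrix.mulVec_mulVec, Matrix.mulVec_mulVec y (Q P) P, Q_mul S, Matrix.one_mulVec]

include S in
theorem exists_P (x : Fin 6 → F) : ∃ y, x = P *ᵥ y :=
  ⟨Q P *ᵥ x, by rw [Matrix.mulVec_mulVec, mul_Q S, Matrix.one_mulVec]⟩

include S in
theorem fm_tt (M : Matrix (Fin 3 ⊕ Fin 3) (Fin 3 ⊕ Fin 3) (k2 ρ)) (x : Fin 6 → F) :
    fm P M *ᵥ tt A ρ x = tt A ρ (fm P M *ᵥ x) := by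
  obtain ⟨y, rfl⟩ := exists_P S x
  rw [tt_P S, fm_P S, fm_P S, tt_P S]
  congr 1
  funext s
  simp only [Matrix.mulVec, dotProduct, Matrix.map_apply, map_sum, map_mul]
  exact Finset.sum_congr rfl fun s' _ => by rw [mem_k2.mp (M s s').2]

include S I in
theorem fm_herm {M : Matrix (Fin 3 ⊕ Fin 3) (Fin 3 ⊕ Fin 3) (k2 ρ)}
    (hM : M ∈ Matrix.symplecticGroup (Fin 3) (k2 ρ)) (u v : Fin 6 → F) :
    hermForm 6 F 2 (fm P M *ᵥ u) (fm P M *ᵥ v) = hermForm 6 F 2 u v := by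
  obtain ⟨y, rfl⟩ := exists_P S u
  obtain ⟨z, rfl⟩ := exists_P S v
  rw [fm_P S, fm_P S, herm_P S _ _ I.card, herm_P S _ _ I.card]
  have h1 : (fun s => (M.map (fun x : k2 ρ => (x : F)) *ᵥ z) s ^ 2) =
      M.map (fun x : k2 ρ => (x : F)) *ᵥ (fun s => z s ^ 2) := by
    funext s
    simp only [Matrix.mulVec, dotProduct, Matrix.map_apply]
    rw [sum_pow_q I.card]
    refine Finset.sum_congr rfl fun s' _ => ?_
    rw [mul_pow, ← I.frob (M s s' : F), mem_k2.mp (M s s').2]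
  have h3 : M.map (fun x : k2 ρ => (x : F)) ∈ Matrix.symplecticGroup (Fin 3) F :=
    SymplecticGroup.map_mem hM (k2 ρ).subtype
  have h2 := SymplecticGroup.mem_iff'.mp h3
  rw [h1, ← Matrix.vecMul_transpose, Matrix.dotProduct_mulVec, Matrix.vecMul_vecMul, Matrix.dotProduct_mulVec,
    Matrix.vecMul_vecMul, h2, ← Matrix.dotProduct_mulVec]

include S I in
theorem fm_det {M : Matrix (Fin 3 ⊕ Fin 3) (Fin 3 ⊕ Fin 3) (k2 ρ)}
    (hM : M ∈ Matrix.symplecticGroup (Fin 3) (k2 ρ)) : (fm P M).det = 1 := by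
  have h1 : fm P M * gm A = gm A * (fm P M).map ρ := by
    apply Matrix.ext_of_mulVec_single
    intro i
    rw [← Matrix.mulVec_mulVec, ← Matrix.mulVec_mulVec]
    have h2 := fm_tt S M (Pi.single i 1)
    have h3 : (fun j => ρ ((Pi.single i 1 : Fin 6 → F) j)) = Pi.single i 1 := by
      funext j
      by_cases hj : j = i
      · subst hj; simp
      · rw [Pi.single_eq_of_ne hj, map_zero]
    have h4 : (fun j => ρ ((fm P M *ᵥ Pi.single i 1) j)) = (fm P M).map ρ *ᵥ Pi.single i 1 := by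
      funext j
      rw [Matrix.mulVec_single_one, Matrix.mulVec_single_one]
      rfl
    rw [tt, tt, h3, h4] at h2
    exact h2
  have h2 := congrArg Matrix.det h1
  rw [det_mul, det_mul, mul_comm] at h2
  have hd : (gm A).det ≠ 0 := by
    have h3 := congrArg Matrix.det (gm_mul_inv A)
    rw [det_mul, det_one] at h3
    intro h4
    rw [h4, zero_mul] at h3
    exact zero_ne_one h3
  have h3 := mul_left_cancel₀ hd h2
  have h4 : ((fm P M).map ρ).det = ρ (fm P M).det := (RingHom.map_det (ρ : F →+* F) (fm P M)).symm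
  rw [h4, I.frob] at h3
  have h5 : (fm P M).det ≠ 0 := by
    intro h6
    obtain ⟨v, hv, hv0⟩ := Matrix.exists_mulVec_eq_zero_iff.mpr h6
    apply hv
    refine herm_nondeg I.card fun u => ?_
    rw [← fm_herm I S hM, hv0, herm_zero_left]
  have h6 : (fm P M).det * ((fm P M).det - 1) = 0 := by linear_combination -h3
  exact sub_eq_zero.mp ((mul_eq_zero.mp h6).resolve_left h5)

/-- `Sp₆(2)` in `C(t)` -/
noncomputable def phi (I : Inv A ρ) (S : Sb A ρ P) : Matrix.symplecticGroup (Fin 3) (k2 ρ) →* Gam A ρ where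
  toFun M := ⟨mkSU (fm P M.1) (fm_det I S M.2) (fm_herm I S M.2), fun x => fm_tt S M.1 x⟩
  map_one' := by
    apply Subtype.ext
    apply mat_injective
    rw [mat_mkSU]
    exact fm_one S
  map_mul' M N := by
    apply Subtype.ext
    apply mat_injective
    rw [mat_mkSU, Subgroup.coe_mul, mat_mul, mat_mkSU, mat_mkSU]
    exact fm_mul S M.1 N.1

theorem phi_injective : Function.Injective (phi I S) := by
  intro M N h
  have h1 : fm P M.1 = fm P N.1 := congrArg (fun g : Gam A ρ => mat (g : SU 6 F 2)) h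
  have h2 : ∀ K : Matrix (Fin 3 ⊕ Fin 3) (Fin 3 ⊕ Fin 3) (k2 ρ),
      Q P * fm P K * P = K.map (fun x => (x : F)) := by
    intro K
    rw [fm]
    generalize K.map (fun x : k2 ρ => (x : F)) = K'
    have h3 : Q P * (P * K' * Q P) * P = (Q P * P) * K' * (Q P * P) := by simp only [Matrix.mul_assoc]
    rw [h3, Q_mul S, Matrix.one_mul, Matrix.mul_one]
  have h3 := h2 M.1
  rw [h1, h2 N.1] at h3
  apply Subtype.ext
  ext i j
  exact (congrFun (congrFun h3 i) j).symm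

include I in
/-- **The form is alternating: `2⁹ ∣ |C(t)|`.** -/
theorem alt_case (h : ∀ x : V0 A ρ, lam I x = 0) : 2 ^ 9 ∣ Nat.card (Gam A ρ) := by
  obtain ⟨P, S⟩ := exists_sb I h
  have h1 := Subgroup.card_dvd_of_injective (phi I S) (phi_injective I S)
  have : Fintype (k2 ρ) := Fintype.ofFinite _
  have h2 := card_k2 I
  rw [Nat.card_eq_fintype_card] at h2
  rw [S0245.result h2 3] at h1
  exact (Dvd.intro _ rfl).trans h1

end Alt

end Cfsg.Agent.OddHalf.NI3.Ex.USix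

end

-- merged: Cfsg.Agent.OddHalf.NI3.Ex.USixRow
section

/-!
# (EX), (EX3): the row `U₆(2)` (helper5)

* `psu_cases`: an involutory automorphism of `U₆(2)` is inner, or the order of its centralizer is not divisible by 27,
  or it is divisible by `2⁹` and not by `3⁶`.
* `no3_u62`.
-/

set_option autoImplicit false
set_option linter.unusedSectionVars false

namespace Cfsg.Agent.OddHalf.NI3.Ex.USix

open Cfsg Cfsg.Agent.LieClassical.HermBasic Cfsg.Agent.LieClassical.HermSiegel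
  Cfsg.Agent.LieClassical.HermGen Cfsg.Agent.LieClassical.SUBasic
  Cfsg.Agent.ClassicalGeometry.UnitAutBasic Cfsg.Agent.LieClassical.FieldTransfer
  Cfsg.Agent.ClassicalGeometry.PSUAutCount
  Cfsg.Agent.ClassicalGeometry.PSUAutMain Matrix

/-- the action on vectors -/
local notation "ac" => Cfsg.Agent.LieClassical.HermSiegel.act

/-- the fixed points of an automorphism -/
local notation "fx" => Cfsg.Agent.OddHalf.NI.Ex.fix

section Row

variable {F : Type*} [Field F] [Fintype F] {A : GU 6 F 2} {ρ : F ≃+* F} (I : Inv A ρ)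

theorem tt_surjective (y : Fin 6 → F) : ∃ x, y = tt A ρ x := by
  refine ⟨fun i => ρ.symm ((gm A⁻¹ *ᵥ y) i), ?_⟩
  have h1 : (fun i => ρ (ρ.symm ((gm A⁻¹ *ᵥ y) i))) = gm A⁻¹ *ᵥ y := by
    funext i
    simp
  rw [tt, h1, gm_mulVec_inv]

theorem semiConj_tt (g : SU 6 F 2) (x : Fin 6 → F) : ac (semiConj A ρ g) (tt A ρ x) = tt A ρ (ac g x) :=
  act_semiConj A ρ g x

theorem pr_mem {g : SU 6 F 2} (hg : g ∈ Gam A ρ) : pr 6 F 2 g ∈ fx (toAut A ρ) := by
  rw [NI.Ex.mem_fix, toAut_pr]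
  congr 1
  apply ext_act
  intro y
  obtain ⟨x, rfl⟩ := tt_surjective (A := A) (ρ := ρ) y
  rw [semiConj_tt, mem_Gam.mp hg]

include I in
theorem exists_lift {z : PSU 6 F 2} (hz : z ∈ fx (toAut A ρ)) : ∃ g ∈ Gam A ρ, pr 6 F 2 g = z := by
  obtain ⟨g, rfl⟩ := pr_surjective z
  rw [NI.Ex.mem_fix, toAut_pr] at hz
  obtain ⟨c, hc0, hc⟩ : ∃ c : F, c ≠ 0 ∧ ∀ x, ac (semiConj A ρ g) x = c • ac g x := by
    obtain ⟨c, h1, h2⟩ := exists_scalar_of_pr_eq I.card (by norm_num) hz.symm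
    refine ⟨c, ?_, h2⟩
    rintro rfl
    simp at h1
  have hd0 : c⁻¹ ≠ 0 := inv_ne_zero hc0
  have hd3 := cube I.card hd0
  have hd6 : c⁻¹ ^ 6 = 1 := by
    have : c⁻¹ ^ 6 = (c⁻¹ ^ 3) ^ 2 := by ring
    rw [this, hd3, one_pow]
  have hact : ∀ x, ac (g * suScalar 2 c⁻¹ hd6 hd3) x = c⁻¹ • ac g x := by
    intro x
    rw [act_mul, Cfsg.Agent.ClassicalGeometry.PSUAutBasic.act_suScalar, act_smul]
  refine ⟨g * suScalar 2 c⁻¹ hd6 hd3, ?_, ?_⟩
  · rw [mem_Gam]
    intro x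
    rw [hact, hact, tt_smul, ← semiConj_tt, hc, smul_smul, I.frob]
    congr 1
    field_simp
  · exact (pr_eq_of_scalar hact).symm

include I in
theorem card_fix : Nat.card (fx (toAut A ρ)) = Nat.card (Gam A ρ) := by
  let f : Gam A ρ → fx (toAut A ρ) := fun g => ⟨pr 6 F 2 g.1, pr_mem g.2⟩
  have hf : Function.Bijective f := by
    constructor
    · intro g h hgh
      have h1 : pr 6 F 2 g.1 = pr 6 F 2 h.1 := congrArg Subtype.val hgh
      obtain ⟨c, h2, h3⟩ := exists_scalar_of_pr_eq I.card (by norm_num) h1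
      apply Subtype.ext
      apply ext_act
      -- `c = 1`
      have hc : ρ c = c := by
        obtain ⟨x, hx⟩ : ∃ x : Fin 6 → F, ac g.1 (tt A ρ x) ≠ 0 := by
          refine ⟨Pi.single 0 1, fun h => ?_⟩
          have h6 := tt_injective A ρ (((act_eq_zero g.1).mp h).trans (tt_zero A ρ).symm)
          have h7 := congrFun h6 0
          rw [Pi.single_eq_same, Pi.zero_apply] at h7
          exact one_ne_zero h7
        have h4 := mem_Gam.mp h.2 x
        rw [h3, h3, tt_smul, ← mem_Gam.mp g.2] at h4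
        have h5 := sub_eq_zero.mpr h4
        rw [← sub_smul] at h5
        exact (sub_eq_zero.mp ((smul_eq_zero.mp h5).resolve_right hx)).symm
      have hc0 : c ≠ 0 := by
        rintro rfl
        rw [zero_mul] at h2
        exact zero_ne_one h2
      have hc1 : c = 1 := by
        rw [I.frob] at hc
        have h4 : c * (c - 1) = 0 := by linear_combination hc
        exact sub_eq_zero.mp ((mul_eq_zero.mp h4).resolve_left hc0)
      intro y
      rw [h3, hc1, one_smul]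
    · rintro ⟨z, hz⟩
      obtain ⟨g, hg, rfl⟩ := exists_lift I hz
      exact ⟨⟨g, hg⟩, rfl⟩
  exact (Nat.card_congr (Equiv.ofBijective f hf)).symm

end Row

/-- **The involutory automorphisms of `U₆(2)`.** -/
theorem psu_cases {F : Type*} [Field F] [Fintype F] (hF : Fintype.card F = 2 ^ 2) (α : MulAut (PSU 6 F 2))
    (hα : orderOf α = 2) :
    (∃ x, α = MulAut.conj x) ∨ ¬ 27 ∣ Nat.card (fx α) ∨ (2 ^ 9 ∣ Nat.card (fx α) ∧ ¬ 729 ∣ Nat.card (fx α)) := by
  have h1 : α * α = 1 := by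
    have h2 := pow_orderOf_eq_one α
    rw [hα, pow_two] at h2
    exact h2
  obtain ⟨A, ρ, rfl⟩ := exists_toAut hF (by norm_num) (by norm_num) α
  by_cases hρ : ρ = RingEquiv.refl F
  · subst hρ
    exact Or.inl (inner_of_refl hF h1)
  · have I := inv_of hF hρ h1
    right
    rw [card_fix I]
    by_cases h : ∀ x : V0 A ρ, lam I x = 0
    · exact Or.inr ⟨alt_case I h, not_729 I⟩
    · push Not at h
      obtain ⟨v, hv⟩ := h
      exact Or.inl (odd_case I hv)

open Subgroup Cfsg.Agent.OddHalf.Iface Cfsg.Agent.OddHalf.NI Cfsg.Agent.OddHalf.NI.Ex Cfsg.Agent.OddHalf.D9.Cut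

universe u

theorem ct_u62 {X : Type u} [Group X] [Finite X] (hs : IsSimpleGroup X) (hna : ¬ IsMulCommutative X)
    (h : XU62 X) : CT X := by
  obtain ⟨F, i, j, hF, ⟨e⟩⟩ := h
  have h2 := charP_two (F := F) (f := 2) (by rw [hF]; norm_num)
  exact CT.of_filt hs hna (Or.inr (Or.inr (Or.inl ⟨F, i, j, h2, 6, 2, by rw [hF]; norm_num, by norm_num, by norm_num,
    ⟨e⟩⟩)))

/-- the cases for `X ≃ U₆(2)` -/
theorem u62_cases {X : Type u} [Group X] (h : XU62 X) (α : MulAut X) (hα : orderOf α = 2) :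
    (∃ x, α = MulAut.conj x) ∨ ¬ 27 ∣ Nat.card (fx α) ∨ (2 ^ 9 ∣ Nat.card (fx α) ∧ ¬ 729 ∣ Nat.card (fx α)) := by
  obtain ⟨F, i, j, hF, ⟨e⟩⟩ := h
  have hα' : orderOf (MulAut.congr e α) = 2 := by
    rw [MulEquiv.orderOf_eq]; exact hα
  have hc : Nat.card (fx (MulAut.congr e α)) = Nat.card (fx α) := by
    rw [fix_congr]
    exact (Nat.card_congr ((fix α).equivMapOfInjective e.toMonoidHom e.injective).toEquiv).symm
  rcases psu_cases (by rw [hF]; norm_num) (MulAut.congr e α) hα' with ⟨x, hx⟩ | h | h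
  · left
    refine ⟨e.symm x, ?_⟩
    ext y
    apply e.injective
    have h1 : e (α y) = (MulAut.congr e α) (e y) := by
      change e (α y) = e (α (e.symm (e y)))
      rw [e.symm_apply_apply]
    rw [h1, hx, MulAut.conj_apply, MulAut.conj_apply, map_mul, map_mul, map_inv, e.apply_symm_apply]
  · rw [hc] at h
    exact Or.inr (Or.inl h)
  · rw [hc] at h
    exact Or.inr (Or.inr h)

/-- **The row `U₆(2)`.** -/
theorem no3_u62 {X : Type u} [Group X] [Finite X] (hs : IsSimpleGroup X) (hna : ¬ IsMulCommutative X)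
    (h : XU62 X) : No3 X := by
  intro α hα J hJ h81 hr
  by_contra hg
  have C := ct_u62 hs hna h
  have hd : Nat.card (↥J ⧸ center ↥J) ∣ Nat.card (fix α) := by
    refine dvd_trans ?_ (card_dvd_of_le hJ.le)
    rw [← (center ↥J).card_mul_index]
    exact Dvd.intro_left _ rfl
  rcases u62_cases h α hα with ⟨x, rfl⟩ | h1 | ⟨h1, h2⟩
  · exact inner_false C.char C.center hα hJ
  · exact h1 ((dvd_trans (by norm_num) h81).trans hd)
  · have hdX : Nat.card (↥J ⧸ center ↥J) ∣ 9196830720 := by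
      rw [← D8.Fi22.OrdEven.card_u62 h]
      exact hd.trans (card_subgroup_dvd_card _)
    have hα' : α * α = 1 := by rw [← pow_two, ← hα, pow_orderOf_eq_one]
    rcases Three.cases hr h81 hg with ⟨-, h3, h4⟩ | ⟨h3, h4⟩ | ⟨h3, h4⟩ | ⟨h3, h4⟩ | h3
    · have h5 := pow_dvd C.char C.center hα' hJ (by
        rw [← (center ↥J).card_mul_index]
        refine Dvd.dvd.mul_left ?_ _
        change 2 ∣ Nat.card (↥J ⧸ center ↥J)
        rw [h3]
        norm_num) h1
      rw [h4] at h5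
      revert h5
      norm_num
    · rw [h3] at hdX
      revert hdX
      norm_num
    · exact h2 ((by rw [h3]; norm_num : 729 ∣ _).trans hd)
    · rw [h3] at hdX
      revert hdX
      norm_num
    · have h4 := h3.trans hdX
      revert h4
      norm_num

end Cfsg.Agent.OddHalf.NI3.Ex.USix

end
end

private theorem dce_8da7f26bf1f5 : _root_.True := by
  try have : _root_.True := by simp only [_root_.Cfsg.Agent.OddHalf.NI3.Ex.USix.Q.eq_1]
  try have : _root_.True := by simp only [_root_.Cfsg.Agent.OddHalf.NI3.Ex.USix.fm.eq_1]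
  try have : _root_.True := by simp only [_root_.Cfsg.Agent.OddHalf.NI3.Ex.USix.lam.congr_simp]
  try have : _root_.True := by simp only [_root_.Cfsg.Agent.OddHalf.NI3.Ex.USix.tt.eq_1]
  exact _root_.True.intro
end

-- part: OddHalf/D6/RThree/Rad
section
prune_inst 0xc1203804486212000000058291003c46ce000590002b0401dd610e40068eff230d00af20fda01e0359082a2400390048110000d90010000000200200411901a0902a70849308a10426008f81b883180c00000000000000000000000000041004000000000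
set_option linter.all false
open scoped Cfsg.Agent.FastGrp

-- merged: Cfsg.Agent.OddHalf.D6.RThree.CycW
section

/-!
# ODD half, D6, `L₃(3)`, `U₃(3)`: the front end, after helper971's `Front.CycT` (helper783)

As `Front.CycT` with `P1` only for involutions (`Z(S_K)` cyclic), any `|Q|`.
-/

set_option autoImplicit false

namespace Cfsg.Agent.OddHalf.D6.RThree.CycW

open Subgroup Cfsg.Agent.OddHalf.Front Cfsg.Agent.OddHalf.Front.FE
open Cfsg.Agent.OddHalf.Front.Cyclic hiding Facts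
open Cfsg.Agent.OddHalf.Front.CycT (exists_index_two mem_C mem_sup_comm Q2_le sq_mem_Q2 Q2_or q_notMem_Q2
  q_mem_of conjQ2 mem_M2)

universe u

variable {G : Type u} [Group G]

/-- the position of the nodes with `Z(S_K)` cyclic -/
structure Facts (K : Subgroup G) (t q z : G) (T : Subgroup G) : Prop extends Start K t q where
  pT : IsPGroup 2 ↥T
  tc : ∀ x ∈ T, x * t = t * x
  max : ∀ P : Subgroup G, IsPGroup 2 ↥P → T ≤ P → (∀ x ∈ P, x * t = t * x) → P ≤ T
  z1 : z ≠ 1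
  zT : z ∈ T
  zK : z ∈ K
  zS : ∀ x ∈ T, x ∈ K → x * z = z * x
  zz : z * z = 1
  /-- `z` is the only involution of `Z(S)` -/
  P1 : ∀ y ∈ T, y ∈ K → y * y = 1 → (∀ x ∈ T, x ∈ K → x * y = y * x) → y = 1 ∨ y = z
  /-- no outer 2-element centralizes `S` -/
  T1s : ∀ y : G, y * t = t * y → IsPGroup 2 ↥(zpowers y) → (∀ x ∈ T, x ∈ K → x * y = y * x) →
    y ∈ zpowers q ⊔ K
  /-- `|T : T ∩ QK| ≤ 2` -/
  idx : ∀ a ∈ T, ∀ b ∈ T, a ∉ zpowers q ⊔ K → b ∉ zpowers q ⊔ K → a * b⁻¹ ∈ zpowers q ⊔ K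
  /-- `z` is isolated in `⟨t, z⟩` -/
  iso : ∀ g : G, (g * t * g⁻¹ = t ∨ g * t * g⁻¹ = z ∨ g * t * g⁻¹ = t * z) →
    (g * z * g⁻¹ = t ∨ g * z * g⁻¹ = z ∨ g * z * g⁻¹ = t * z) → g * z * g⁻¹ = z

namespace Facts

variable {K : Subgroup G} {t q z : G} {T : Subgroup G}

/-- `T` as a Sylow subgroup of `C(t)` -/
theorem exists_sylow (F : Facts K t q z T) :
    ∃ TS : Sylow 2 ↥(centralizer ({t} : Set G)),
      (TS : Subgroup ↥(centralizer ({t} : Set G))) = T.subgroupOf (centralizer ({t} : Set G)) := by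
  set C : Subgroup G := centralizer ({t} : Set G) with hC
  have hTC : T ≤ C := fun x hx => mem_centralizer_singleton_iff.2 (F.tc x hx)
  refine ⟨{ toSubgroup := T.subgroupOf C
            isPGroup' := F.pT.comap_of_injective C.subtype C.subtype_injective
            is_maximal' := ?_ }, rfl⟩
  intro R hR hle
  apply le_antisymm _ hle
  have h1 : R.map C.subtype ≤ T := by
    apply F.max
    · exact hR.map C.subtype
    · intro y hy
      exact ⟨⟨y, hTC hy⟩, hle (by exact hy), rfl⟩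
    · rintro _ ⟨y, -, rfl⟩
      exact mem_centralizer_singleton_iff.1 y.2
  intro y hy
  exact h1 ⟨y, hy, rfl⟩

theorem zpowers_le_T (F : Facts K t q z T) : zpowers q ≤ T := by
  have hle : T ≤ normalizer ((zpowers q : Subgroup G) : Set G) := by
    intro x hx
    have hxt := F.tc x hx
    rw [mem_normalizer_iff]
    intro y
    constructor
    · exact fun hy => conjQ F.toStart0 hxt hy
    · intro hy
      have h1 := conjQ F.toStart0 (inv_comm hxt) hy
      have h2 : x⁻¹ * (x * y * x⁻¹) * x⁻¹⁻¹ = y := by group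
      rwa [h2] at h1
  have h1 : IsPGroup 2 ↥(T ⊔ zpowers q : Subgroup G) := F.pT.to_sup_of_normal_right' F.pQ hle
  have h2 : ∀ x ∈ T ⊔ zpowers q, x * t = t * x := by
    have : T ⊔ zpowers q ≤ centralizer ({t} : Set G) := by
      rw [sup_le_iff]
      exact ⟨fun x hx => mem_centralizer_singleton_iff.2 (F.tc x hx),
        fun x hx => mem_centralizer_singleton_iff.2 (F.Qt x hx)⟩
    intro x hx
    exact mem_centralizer_singleton_iff.1 (this hx)
  exact le_sup_right.trans (F.max _ h1 le_sup_left h2)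

theorem tT (F : Facts K t q z T) : t ∈ T := F.zpowers_le_T F.tQ

/-- `z` is central in `T` -/
theorem zc (F : Facts K t q z T) : ∀ x ∈ T, x * z = z * x := by
  intro x hx
  have hxt := F.tc x hx
  have h1 : x * z * x⁻¹ = 1 ∨ x * z * x⁻¹ = z := by
    apply F.P1
    · exact T.mul_mem (T.mul_mem hx F.zT) (T.inv_mem hx)
    · exact conjK F.toStart0 hxt F.zK
    · have : x * z * x⁻¹ * (x * z * x⁻¹) = x * (z * z) * x⁻¹ := by group
      rw [this, F.zz]; group
    · intro y hy hyK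
      have h2 := F.zS (x⁻¹ * y * x) (T.mul_mem (T.mul_mem (T.inv_mem hx) hy) hx)
        (conjK' F.toStart0 hxt hyK)
      calc y * (x * z * x⁻¹) = x * (x⁻¹ * y * x * z) * x⁻¹ := by group
        _ = x * (z * (x⁻¹ * y * x)) * x⁻¹ := by rw [h2]
        _ = x * z * x⁻¹ * y := by group
  rcases h1 with h1 | h1
  · exfalso
    apply F.z1
    have : z = x⁻¹ * (x * z * x⁻¹) * x := by group
    rw [this, h1]; group
  · rwa [mul_inv_eq_iff_eq_mul] at h1

theorem z_ne_t (F : Facts K t q z T) : z ≠ t := by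
  rintro rfl
  exact F.t1 (KQ F.toStart F.zK F.tQ)

/-- `S = T ∩ K` is a Sylow subgroup of `K` -/
theorem inf_max [Finite G] (F : Facts K t q z T) {P : Subgroup G} (hP : IsPGroup 2 ↥P) (hPK : P ≤ K)
    (hSP : T ⊓ K ≤ P) : P ≤ T := by
  set C : Subgroup G := centralizer ({t} : Set G) with hC
  obtain ⟨TS, hTS⟩ : ∃ TS : Sylow 2 ↥C, (TS : Subgroup ↥C) = T.subgroupOf C := F.exists_sylow
  have hTC : T ≤ C := fun x hx => mem_centralizer_singleton_iff.2 (F.tc x hx)
  have hKC : K ≤ C := fun x hx => mem_centralizer_singleton_iff.2 (F.Kt x hx)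
  have hn : (K.subgroupOf C).Normal := by
    refine ⟨fun x hx g => ?_⟩
    rw [mem_subgroupOf] at hx ⊢
    exact conjK F.toStart0 (mem_centralizer_singleton_iff.1 g.2) hx
  have h1 := Cfsg.Agent.Lib.SylowNormalInf.not_dvd_relIndex TS (K.subgroupOf C)
  rw [hTS, relIndex_subgroupOf hKC, ← inf_relIndex_right] at h1
  have h2 := relIndex_mul_relIndex (T ⊓ K) P K hSP hPK
  have h3 : ¬ 2 ∣ (T ⊓ K).relIndex P := fun h => h1 (h2 ▸ h.mul_right _)
  have h4 : (T ⊓ K).relIndex P = 1 := by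
    obtain ⟨n, hn⟩ := IsPGroup.iff_card.1 hP
    have h5 : (T ⊓ K).relIndex P ∣ 2 ^ n := by
      rw [← hn]
      exact relIndex_dvd_card _ _
    obtain ⟨m, -, hm⟩ := (Nat.dvd_prime_pow Nat.prime_two).1 h5
    rw [hm]
    rw [hm] at h3
    rcases Nat.eq_zero_or_pos m with h | h
    · rw [h, pow_zero]
    · exact absurd (dvd_pow_self 2 h.ne') h3
  exact (relIndex_eq_one.1 h4).trans inf_le_left

/-- an involution of `K` that centralizes `S` is `1` or `z` -/
theorem cent_S_K [Finite G] (F : Facts K t q z T) {k : G} (hk : k ∈ K) (hkk : k * k = 1)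
    (hc : ∀ x ∈ T, x ∈ K → x * k = k * x) : k = 1 ∨ k = z := by
  have hp : IsPGroup 2 ↥(zpowers k) := TR.Frame.isPGroup_zpowers hkk
  have hkn : zpowers k ≤ normalizer ((T ⊓ K : Subgroup G) : Set G) := by
    rw [zpowers_le, mem_normalizer_iff]
    intro y
    constructor
    · rintro ⟨hy, hyK⟩
      have h1 : k * y * k⁻¹ = y := by rw [← hc y hy hyK]; group
      rw [h1]; exact ⟨hy, hyK⟩
    · rintro ⟨hy, hyK⟩
      have h1 : k * y * k⁻¹ * k = k * (k * y * k⁻¹) := hc _ hy hyK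
      have h2 : y = k * y * k⁻¹ := by
        have h3 : k * y = k * (k * y * k⁻¹) := by rw [← h1]; group
        exact mul_left_cancel h3
      rw [h2]; exact ⟨hy, hyK⟩
  have hSp : IsPGroup 2 ↥(T ⊓ K : Subgroup G) := F.pT.to_le inf_le_left
  have h1 : IsPGroup 2 ↥(zpowers k ⊔ (T ⊓ K) : Subgroup G) := hp.to_sup_of_normal_right' hSp hkn
  have h2 : zpowers k ⊔ (T ⊓ K) ≤ K := by
    rw [sup_le_iff, zpowers_le]
    exact ⟨hk, inf_le_right⟩
  have h3 := F.inf_max h1 h2 le_sup_right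
  have h4 : k ∈ T := h3 ((le_sup_left : zpowers k ≤ _) (mem_zpowers k))
  exact F.P1 k h4 hk hkk hc

/-- an involution of `QK` that centralizes `S` -/
theorem cent_S_M [Finite G] (F : Facts K t q z T) {y : G} (hy : y ∈ zpowers q ⊔ K) (hyy : y * y = 1)
    (hc : ∀ x ∈ T, x ∈ K → x * y = y * x) : y = 1 ∨ y = t ∨ y = z ∨ y = t * z := by
  obtain ⟨a, ha, k, hk, rfl⟩ := (mem_M F.toStart0).1 hy
  have h1 : (a * a) * (k * k) = 1 * 1 := by
    rw [mul_one]
    calc a * a * (k * k) = a * (a * k) * k := by group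
      _ = a * (k * a) * k := by rw [F.QK a ha k hk]
      _ = a * k * (a * k) := by group
      _ = 1 := hyy
  obtain ⟨h2, h3⟩ := M_unique F.toStart (mul_mem ha ha) (one_mem _) (mul_mem hk hk) (one_mem _) h1
  have h4 : k = 1 ∨ k = z := by
    apply F.cent_S_K hk h3
    intro x hx hxK
    have h5 := hc x hx hxK
    have h6 := F.QK a ha x hxK
    have h7 : a * (x * k) = a * (k * x) := by
      calc a * (x * k) = (a * x) * k := by group
        _ = x * a * k := by rw [h6]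
        _ = x * (a * k) := by group
        _ = a * k * x := h5
        _ = a * (k * x) := by group
    exact mul_left_cancel h7
  have h5 : a = 1 ∨ a = t := by
    by_cases h : a = 1
    · exact Or.inl h
    · exact Or.inr (F.uniq ha h2 h)
  rcases h4 with rfl | rfl <;> rcases h5 with rfl | rfl
  · left; group
  · right; left; group
  · right; right; left; group
  · right; right; right; rfl

theorem cent_S [Finite G] (F : Facts K t q z T) {y : G} (hyt : y * t = t * y) (hyy : y * y = 1)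
    (hc : ∀ x ∈ T, x ∈ K → x * y = y * x) : y = 1 ∨ y = t ∨ y = z ∨ y = t * z :=
  F.cent_S_M (F.T1s y hyt (TR.Frame.isPGroup_zpowers hyy) hc) hyy hc

/-- **the frame** -/
theorem frame [Finite G] (F : Facts K t q z T) : TR.Frame t z T where
  tt := F.tt
  zz := F.zz
  t1 := F.t1
  z1 := F.z1
  ne := F.z_ne_t
  pT := F.pT
  tT := F.tT
  tc := F.tc
  zT := F.zT
  zc := F.zc
  max := F.max
  om := by
    intro y hy hc hyy
    exact F.cent_S (F.tc y hy) hyy fun x hx _ => hc x hx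
  iso := F.iso

end Facts

variable {K : Subgroup G} {t q z : G} {T : Subgroup G}

/-- if `T` is a Sylow subgroup of `G` then `N(T)` centralizes `t` -/
theorem no_swap [Finite G] (F : Facts K t q z T) (S : Sylow 2 G) (hST : (S : Subgroup G) = T) {g : G}
    (hgN : g ∈ normalizer (T : Set G)) : g * t * g⁻¹ = t := by
  have Fr := F.frame
  have hmem : ∀ y, y ∈ (S : Subgroup G) → y ∈ T := by
    intro y hy
    rwa [hST] at hy
  obtain ⟨hz, h1 | h1⟩ := Fr.act hgN
  · exact h1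
  · exfalso
    obtain ⟨k, m, hm, hk⟩ := Nat.exists_eq_two_pow_mul_odd (orderOf_pos g).ne'
    set x := g ^ m with hx
    have hxp : IsPGroup 2 (zpowers x) := by
      apply IsPGroup.of_card (n := k)
      rw [Nat.card_zpowers, hx, orderOf_pow, hk, Nat.gcd_mul_left_left,
        Nat.mul_div_cancel _ hm.pos]
    have hxN : x ∈ normalizer (T : Set G) := pow_mem hgN m
    have hxT : x ∈ T := by
      apply hmem
      have h2 : IsPGroup 2 ((zpowers x ⊔ T : Subgroup G)) :=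
        hxp.to_sup_of_normal_right' F.pT (by rw [zpowers_le]; exact hxN)
      have h3 := S.is_maximal' h2 (by rw [hST]; exact le_sup_right)
      show x ∈ (S : Subgroup G)
      rw [← h3]
      exact (le_sup_left : zpowers x ≤ _) (mem_zpowers x)
    have hxt := F.tc x hxT
    have hg2t : Commute (g * g) t := by
      show g * g * t = t * (g * g)
      rw [← mul_inv_eq_iff_eq_mul]
      calc g * g * t * (g * g)⁻¹ = g * (g * t * g⁻¹) * g⁻¹ := by group
        _ = g * (t * z) * g⁻¹ := by rw [h1]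
        _ = (g * t * g⁻¹) * (g * z * g⁻¹) := by group
        _ = t := by rw [h1, hz, mul_assoc, F.zz, mul_one]
    obtain ⟨j, hj⟩ := hm
    have hx' : x = (g * g) ^ j * g := by
      rw [hx, hj, pow_succ, pow_mul, pow_two]
    have h4 : Commute ((g * g) ^ j) t := hg2t.pow_left j
    have h5 : Commute ((g * g) ^ j * g) t := by
      rw [← hx']; exact hxt
    have h6 : Commute g t := by
      have := h4.inv_left.mul_left h5
      rwa [inv_mul_cancel_left] at this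
    have h7 : g * t * g⁻¹ = t := by rw [h6.eq]; group
    rw [h7] at h1
    exact F.z1 (mul_eq_left.1 h1.symm)

/-- if `T` is a Sylow subgroup of `G`, then `t` is the only conjugate of `t` commuting with `T` -/
theorem burn [Finite G] (F : Facts K t q z T) (S : Sylow 2 G) (hST : (S : Subgroup G) = T) {g : G}
    (hg : ∀ x ∈ T, x * (g * t * g⁻¹) = g * t * g⁻¹ * x) : g * t * g⁻¹ = t := by
  have hmem : ∀ y, y ∈ (S : Subgroup G) → y ∈ T := by
    intro y hy
    rwa [hST] at hy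
  have h1 : t ∈ centralizer ((S : Subgroup G) : Set G) :=
    mem_centralizer_iff.2 fun x hx => F.tc x (hmem x hx)
  have h2 : g⁻¹⁻¹ * t * g⁻¹ ∈ centralizer ((S : Subgroup G) : Set G) := by
    rw [inv_inv]
    exact mem_centralizer_iff.2 fun x hx => hg x (hmem x hx)
  obtain ⟨n, hn, hnt⟩ := S.conj_eq_normalizer_conj_of_mem_centralizer t g⁻¹ h1 h2
  rw [inv_inv] at hnt
  rw [hnt]
  have hn' : n⁻¹ ∈ normalizer (T : Set G) := by
    have h3 : n⁻¹ ∈ normalizer ((S : Subgroup G) : Set G) := inv_mem hn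
    rwa [hST] at h3
  have h4 := no_swap F S hST hn'
  rwa [inv_inv] at h4

/-- in case B an element of `T` commuting with `q` lies in `QK` -/
theorem mem_of_comm (F : Facts K t q z T) (hB : (⟨t, F.tT⟩ : ↥T) ∈ commutator ↥T) {c : G}
    (hc : c ∈ T) (hcq : c * q = q * c) : c ∈ zpowers q ⊔ K := by
  by_contra hcM
  -- `q` is central in `T`
  have hq : ∀ x ∈ T, x * q = q * x := by
    intro x hx
    by_cases hxM : x ∈ zpowers q ⊔ K
    · exact M_comm_q F.toStart0 hxM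
    · have h1 := M_comm_q F.toStart0 (F.idx x hx c hc hxM hcM)
      have h2 := mul_comm' h1 hcq
      rwa [inv_mul_cancel_right] at h2
  have hQ : ∀ a ∈ zpowers q, ∀ x ∈ T, x * a = a * x := by
    intro a ha x hx
    obtain ⟨m, rfl⟩ := mem_zpowers_iff.1 ha
    exact (show Commute x q from hq x hx).zpow_right m
  have hM : ∀ x ∈ T, x ∈ zpowers q ⊔ K → ∀ y ∈ T, x * y * x⁻¹ * y⁻¹ ∈ K := by
    intro x hxT hx y hyT
    obtain ⟨a, ha, k, hk, rfl⟩ := (mem_M F.toStart0).1 hx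
    have hkT : k ∈ T := by
      have : k = a⁻¹ * (a * k) := by group
      rw [this]
      exact mul_mem (inv_mem (F.zpowers_le_T ha)) hxT
    have h1 : a * k * y * (a * k)⁻¹ * y⁻¹ = k * (y * k⁻¹ * y⁻¹) := by
      have h2 : a⁻¹ * y⁻¹ = y⁻¹ * a⁻¹ := (hQ a⁻¹ (inv_mem ha) y⁻¹ (inv_mem hyT)).symm
      have h3 : k * y * k⁻¹ * y⁻¹ * a⁻¹ = a⁻¹ * (k * y * k⁻¹ * y⁻¹) := by
        apply hQ a⁻¹ (inv_mem ha)
        exact mul_mem (mul_mem (mul_mem hkT hyT) (inv_mem hkT)) (inv_mem hyT)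
      calc a * k * y * (a * k)⁻¹ * y⁻¹ = a * k * y * k⁻¹ * (a⁻¹ * y⁻¹) := by group
        _ = a * (k * y * k⁻¹ * y⁻¹ * a⁻¹) := by rw [h2]; group
        _ = a * (a⁻¹ * (k * y * k⁻¹ * y⁻¹)) := by rw [h3]
        _ = k * (y * k⁻¹ * y⁻¹) := by group
    rw [h1]
    exact mul_mem hk (conjK F.toStart0 (F.tc y hyT) (inv_mem hk))
  have hcomm : ∀ x ∈ T, ∀ y ∈ T, x * y * x⁻¹ * y⁻¹ ∈ K := by
    intro x hx y hy
    by_cases hxM : x ∈ zpowers q ⊔ K
    · exact hM x hx hxM y hy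
    by_cases hyM : y ∈ zpowers q ⊔ K
    · have h1 := inv_mem (hM y hy hyM x hx)
      have : (y * x * y⁻¹ * x⁻¹)⁻¹ = x * y * x⁻¹ * y⁻¹ := by group
      rwa [this] at h1
    · have h1 := hM _ (mul_mem hx (inv_mem hy)) (F.idx x hx y hy hxM hyM) y hy
      have : x * y⁻¹ * y * (x * y⁻¹)⁻¹ * y⁻¹ = x * y * x⁻¹ * y⁻¹ := by group
      rwa [this] at h1
  have hle : commutator ↥T ≤ K.subgroupOf T := by
    rw [commutator_def, commutator_le]
    rintro ⟨x, hx⟩ - ⟨y, hy⟩ -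
    rw [mem_subgroupOf]
    exact hcomm x hx y hy
  have h1 : t ∈ K := mem_subgroupOf.1 (hle hB)
  exact F.t1 (KQ F.toStart h1 F.tQ)

/-- commutators with elements of `QK` lie in `⟨q²⟩K` -/
theorem comm_M (F : Facts K t q z T) {c d : G} (hc : c ∈ zpowers q ⊔ K) (hd : d * t = t * d) :
    c * d * c⁻¹ * d⁻¹ ∈ zpowers (q ^ 2) ⊔ K := by
  obtain ⟨a, ha, k, hk, rfl⟩ := (mem_M F.toStart0).1 hc
  have h1 : a * k * d * (a * k)⁻¹ * d⁻¹ =
      (a * (d * a⁻¹ * d⁻¹)) * (k * (d * k⁻¹ * d⁻¹)) := by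
    have h2 : d * a⁻¹ * d⁻¹ ∈ zpowers q := conjQ F.toStart0 hd (inv_mem ha)
    have h3 : k * (d * k⁻¹ * d⁻¹) ∈ K := mul_mem hk (conjK F.toStart0 hd (inv_mem hk))
    have h4 := F.QK _ h2 _ h3
    have h5 : (a * k)⁻¹ = k⁻¹ * a⁻¹ := mul_inv_rev a k
    calc a * k * d * (a * k)⁻¹ * d⁻¹ = a * (k * (d * k⁻¹ * d⁻¹) * (d * a⁻¹ * d⁻¹)) := by
          rw [h5]; group
      _ = a * (d * a⁻¹ * d⁻¹ * (k * (d * k⁻¹ * d⁻¹))) := by rw [h4]
      _ = _ := by group
  rw [h1]
  refine (mem_M2 F.toStart0).2 ⟨_, ?_, _, mul_mem hk (conjK F.toStart0 hd (inv_mem hk)), rfl⟩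
  have h6 : d * a⁻¹ * d⁻¹ = (d * a * d⁻¹)⁻¹ := by group
  rw [h6]
  by_cases ha2 : a ∈ zpowers (q ^ 2)
  · exact mul_mem ha2 (inv_mem (conjQ2 F.toStart0 hd ha2))
  · have h7 : d * a * d⁻¹ ∉ zpowers (q ^ 2) := by
      intro h
      apply ha2
      have h8 := conjQ2 F.toStart0 (inv_comm hd) h
      have h9 : d⁻¹ * (d * a * d⁻¹) * d⁻¹⁻¹ = a := by group
      rwa [h9] at h8
    have h8 := (Q2_or ha).resolve_left ha2
    have h9 := (Q2_or (conjQ F.toStart0 hd ha)).resolve_left h7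
    have h10 : a * (d * a * d⁻¹)⁻¹ = a * q⁻¹ * (d * a * d⁻¹ * q⁻¹)⁻¹ := by group
    rw [h10]
    exact mul_mem h8 (inv_mem h9)

theorem comm_T (F : Facts K t q z T) {c d : G} (hc : c ∈ T) (hd : d ∈ T) :
    c * d * c⁻¹ * d⁻¹ ∈ zpowers (q ^ 2) ⊔ K := by
  by_cases hcM : c ∈ zpowers q ⊔ K
  · exact comm_M F hcM (F.tc d hd)
  by_cases hdM : d ∈ zpowers q ⊔ K
  · have h1 := inv_mem (comm_M F hdM (F.tc c hc))
    have : (d * c * d⁻¹ * c⁻¹)⁻¹ = c * d * c⁻¹ * d⁻¹ := by group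
    rwa [this] at h1
  · have h1 := comm_M F (F.idx c hc d hd hcM hdM) (F.tc d hd)
    have : c * d⁻¹ * d * (c * d⁻¹)⁻¹ * d⁻¹ = c * d * c⁻¹ * d⁻¹ := by group
    rwa [this] at h1

/-- squares of elements of `T` lie in `⟨q²⟩K` (case B) -/
theorem sq_T [Finite G] (F : Facts K t q z T) (hB : (⟨t, F.tT⟩ : ↥T) ∈ commutator ↥T) {c : G}
    (hcT : c ∈ T) : c * c ∈ zpowers (q ^ 2) ⊔ K := by
  have hc := F.tc c hcT
  by_cases hcM : c ∈ zpowers q ⊔ K
  · obtain ⟨a, ha, k, hk, rfl⟩ := (mem_M F.toStart0).1 hcM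
    refine (mem_M2 F.toStart0).2 ⟨a * a, sq_mem_Q2 ha, k * k, mul_mem hk hk, ?_⟩
    calc a * k * (a * k) = a * (k * a) * k := by group
      _ = a * (a * k) * k := by rw [F.QK a ha k hk]
      _ = a * a * (k * k) := by group
  · have hcM' : c⁻¹ ∉ zpowers q ⊔ K := fun h => hcM (inv_mem_iff.1 h)
    have h1 := F.idx c hcT c⁻¹ (inv_mem hcT) hcM hcM'
    rw [inv_inv] at h1
    obtain ⟨a, ha, k, hk, hak⟩ := (mem_M F.toStart0).1 h1
    have h2 : (c * a * c⁻¹) * (c * k * c⁻¹) = a * k := by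
      calc (c * a * c⁻¹) * (c * k * c⁻¹) = c * (a * k) * c⁻¹ := by group
        _ = c * (c * c) * c⁻¹ := by rw [hak]
        _ = a * k := by rw [← hak]; group
    obtain ⟨h3, -⟩ := M_unique F.toStart (conjQ F.toStart0 hc ha) ha (conjK F.toStart0 hc hk) hk h2
    rw [mul_inv_eq_iff_eq_mul] at h3
    have ha2 : a ∈ zpowers (q ^ 2) := by
      by_contra ha2
      have h4 := q_mem_of F.toStart0 ha ha2
      apply hcM
      apply mem_of_comm F hB hcT
      obtain ⟨m, hm⟩ := mem_zpowers_iff.1 h4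
      rw [← hm]
      exact (show Commute c a from h3).zpow_right m
    rw [hak]
    exact (mem_M2 F.toStart0).2 ⟨a, ha2, k, hk, rfl⟩

theorem q_notMem_M2 [Finite G] (F : Facts K t q z T) : q ∉ zpowers (q ^ 2) ⊔ K := by
  intro h
  obtain ⟨a, ha, k, hk, hak⟩ := (mem_M2 F.toStart0).1 h
  have h1 : q * 1 = a * k := by rw [mul_one]; exact hak
  obtain ⟨h2, -⟩ := M_unique F.toStart (mem_zpowers q) (Q2_le ha) (one_mem _) hk h1
  apply q_notMem_Q2 F.toStart0
  have h3 := ha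
  rwa [← h2] at h3

/-- the sign of `C(t)` with value `-1` at `q` (case B) -/
theorem exists_sign [Finite G] (F : Facts K t q z T) (hB : (⟨t, F.tT⟩ : ↥T) ∈ commutator ↥T)
    (hqC : q ∈ centralizer ({t} : Set G)) :
    ∃ φ : ↥(centralizer ({t} : Set G)) →* ℤˣ, φ ⟨q, hqC⟩ = -1 := by
  classical
  have hqT : q ∈ T := F.zpowers_le_T (mem_zpowers q)
  obtain ⟨N, hN, hqN, hle⟩ := exists_index_two (X := ↥T) (N0 := (zpowers (q ^ 2) ⊔ K).subgroupOf T)
    (q := ⟨q, hqT⟩)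
    (fun c => mem_subgroupOf.2 (sq_T F hB c.2))
    (fun c d => mem_subgroupOf.2 (comm_T F c.2 d.2))
    (fun h => q_notMem_M2 F (mem_subgroupOf.1 h))
  have hTC : T ≤ centralizer ({t} : Set G) := fun x hx => mem_centralizer_singleton_iff.2 (F.tc x hx)
  set ψ : ↥T →* ℤˣ := Cfsg.Agent.TwoFusion.IndexTwo.signHom N hN with hψ
  set T' : Subgroup ↥(centralizer ({t} : Set G)) := T.subgroupOf (centralizer ({t} : Set G)) with hT'
  let ψ' : ↥T' →* ℤˣ := ψ.comp (subgroupOfEquivOfLe hTC).toMonoidHom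
  refine ⟨Cfsg.Agent.StdSpSix.TR.tr ψ', ?_⟩
  have : Fintype (↥(centralizer ({t} : Set G)) ⧸ T') := Fintype.ofFinite _
  rw [Cfsg.Agent.StdSpSix.TR.tr_apply]
  have hval : ∀ c : ↥(centralizer ({t} : Set G)) ⧸ T',
      ψ' (Cfsg.Agent.StdSpSix.TR.coc T' ⟨q, hqC⟩ c) = -1 := by
    intro c
    set g : ↥(centralizer ({t} : Set G)) := c.out with hg
    have hgt : (g : G) * t = t * g := mem_centralizer_singleton_iff.1 g.2
    have hy : (g : G)⁻¹ * q * g ∈ zpowers q := by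
      have := conjQ F.toStart0 (inv_comm hgt) (mem_zpowers q)
      rwa [inv_inv] at this
    have hfix : (⟨q, hqC⟩ : ↥(centralizer ({t} : Set G))) • c = c := by
      conv_lhs => rw [← QuotientGroup.out_eq' c]
      conv_rhs => rw [← QuotientGroup.out_eq' c]
      rw [MulAction.Quotient.smul_mk, smul_eq_mul, eq_comm, QuotientGroup.eq]
      refine mem_subgroupOf.2 ?_
      show (g : G)⁻¹ * (q * g) ∈ T
      rw [← mul_assoc]
      exact F.zpowers_le_T hy
    have hcoc : ((Cfsg.Agent.StdSpSix.TR.coc T' ⟨q, hqC⟩ c : ↥(centralizer ({t} : Set G))) : G) =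
        (g : G)⁻¹ * q * g := by
      rw [Cfsg.Agent.StdSpSix.TR.coc_coe, hfix]
      show (g : G)⁻¹ * (q * g) = _
      rw [mul_assoc]
    have hyT : (g : G)⁻¹ * q * g ∈ T := F.zpowers_le_T hy
    have h1 : ψ' (Cfsg.Agent.StdSpSix.TR.coc T' ⟨q, hqC⟩ c) = ψ ⟨(g : G)⁻¹ * q * g, hyT⟩ := by
      show ψ ((subgroupOfEquivOfLe hTC) _) = _
      congr 1
      exact Subtype.ext hcoc
    rw [h1]
    apply Cfsg.Agent.TwoFusion.IndexTwo.signHom_of_not_mem hN
    intro hmem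
    apply hqN
    have h2 : (g : G)⁻¹ * q * g ∉ zpowers (q ^ 2) := by
      intro h
      apply q_notMem_Q2 F.toStart0
      have h3 := conjQ2 F.toStart0 hgt h
      have h4 : (g : G) * ((g : G)⁻¹ * q * g) * (g : G)⁻¹ = q := by group
      rwa [h4] at h3
    have h3 := (Q2_or hy).resolve_left h2
    have h4 : (⟨(g : G)⁻¹ * q * g * q⁻¹, mul_mem hyT (inv_mem hqT)⟩ : ↥T) ∈ N :=
      hle (mem_subgroupOf.2 ((le_sup_left : zpowers (q ^ 2) ≤ _) h3))
    have h5 : (⟨q, hqT⟩ : ↥T) =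
        (⟨(g : G)⁻¹ * q * g * q⁻¹, mul_mem hyT (inv_mem hqT)⟩ : ↥T)⁻¹ * ⟨(g : G)⁻¹ * q * g, hyT⟩ := by
      apply Subtype.ext
      show q = ((g : G)⁻¹ * q * g * q⁻¹)⁻¹ * ((g : G)⁻¹ * q * g)
      group
    rw [h5]
    exact mul_mem (inv_mem h4) hmem
  rw [Finset.prod_congr rfl (fun c _ => hval c), Finset.prod_const]
  obtain ⟨TS, hTS⟩ := F.exists_sylow
  have hodd : Odd (Finset.univ : Finset (↥(centralizer ({t} : Set G)) ⧸ T')).card := by
    rw [Finset.card_univ, ← Nat.card_eq_fintype_card]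
    have h1 := TS.not_dvd_index
    rw [hTS] at h1
    rw [← Nat.not_even_iff_odd, even_iff_two_dvd]
    exact h1
  exact hodd.neg_one_pow

/-- **Case B**: `t ∈ [T, T]`: transfer of the generator `q` of `Q`. -/
theorem not_sylow_B [Finite G] (F : Facts K t q z T) (hG : ∀ H : Subgroup G, H.index ≠ 2)
    (hB : (⟨t, F.tT⟩ : ↥T) ∈ commutator ↥T) (S : Sylow 2 G) : (S : Subgroup G) ≠ T := by
  intro hST
  set C : Subgroup G := centralizer ({t} : Set G) with hC
  have hQC : zpowers q ≤ C := fun x hx => mem_centralizer_singleton_iff.2 (F.Qt x hx)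
  have hqC : q ∈ C := hQC (mem_zpowers q)
  have hTC : T ≤ C := fun x hx => mem_centralizer_singleton_iff.2 (F.tc x hx)
  -- the sign
  obtain ⟨φ, hφq⟩ := exists_sign F hB hqC
  -- the group `D = Q S`
  set D : Subgroup G := zpowers q ⊔ (T ⊓ K) with hD
  have hDT : D ≤ T := sup_le F.zpowers_le_T inf_le_left
  have hDq : ∀ d ∈ D, d * q = q * d := by
    intro d hd
    exact M_comm_q F.toStart0 ((sup_le_sup_left inf_le_right (zpowers q)) hd)
  have h1 := OrbitTransfer.transfer_eq_single C φ q D (F.pT.to_le hDT) hDq hqC (hDT.trans hTC) ?_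
  · rw [hφq, TR.Frame.hom_eq_one hG] at h1
    exact absurd h1 (by decide)
  intro g hg hfix k hk h
  by_cases hqk : q ^ k = 1
  · have : (⟨g⁻¹ * q ^ k * g, h⟩ : ↥C) = 1 := by
      apply Subtype.ext
      show g⁻¹ * q ^ k * g = 1
      rw [hqk]; group
    rw [this, map_one]
  exfalso
  set t' : G := g * t * g⁻¹ with ht'
  have ht't' : t' * t' = 1 := by
    calc t' * t' = g * (t * t) * g⁻¹ := by rw [ht']; group
      _ = 1 := by rw [F.tt]; group
  -- `t'` commutes with `t`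
  have h2 : q ^ k * t' = t' * q ^ k := mem_C.1 h
  have h3 : t ∈ zpowers (q ^ k) := t_mem F.toStart0 (pow_mem (mem_zpowers q) k) hqk
  have h4 : t' * t = t * t' := by
    obtain ⟨m, hm⟩ := mem_zpowers_iff.1 h3
    rw [← hm]
    exact ((show Commute (q ^ k) t' from h2).zpow_left m).eq.symm
  -- `t'` commutes with `S`
  have h5 : ∀ x ∈ T, x ∈ K → x * t' = t' * x := by
    intro x hx hxK
    obtain ⟨m, hm⟩ := hfix x ((le_sup_right : T ⊓ K ≤ D) ⟨hx, hxK⟩)
    have h6 : q ^ m * x * t' = t' * (q ^ m * x) := mem_C.1 hm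
    have h7 : (t' * q ^ m * t'⁻¹) * (t' * x * t'⁻¹) = q ^ m * x := by
      calc (t' * q ^ m * t'⁻¹) * (t' * x * t'⁻¹) = t' * (q ^ m * x) * t'⁻¹ := by group
        _ = q ^ m * x * t' * t'⁻¹ := by rw [h6]
        _ = q ^ m * x := by group
    obtain ⟨-, h8⟩ := M_unique F.toStart (conjQ F.toStart0 h4 (zpow_mem (mem_zpowers q) m))
      (zpow_mem (mem_zpowers q) m) (conjK F.toStart0 h4 hxK) hxK h7
    rw [mul_inv_eq_iff_eq_mul] at h8
    exact h8.symm
  -- so `t' ∈ {t, z, tz}`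
  have h6 := F.cent_S h4 ht't' h5
  have h7 : ∀ x ∈ T, x * t' = t' * x := by
    intro x hx
    have hxt := F.tc x hx
    have hxz := F.zc x hx
    rcases h6 with h6 | h6 | h6 | h6
    · rw [h6, mul_one, one_mul]
    · rw [h6]; exact hxt
    · rw [h6]; exact hxz
    · rw [h6]; exact (mul_comm' hxt.symm hxz.symm).symm
  have h8 := burn F S hST h7
  apply hg
  rw [mul_inv_eq_iff_eq_mul] at h8
  exact mem_centralizer_singleton_iff.2 h8

/-- **FE3**: `T` is not a Sylow subgroup of `G`. -/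
theorem not_sylow [Finite G] (F : Facts K t q z T) (hG : commutator G = ⊤)
    (hG2 : ∀ H : Subgroup G, H.index ≠ 2) (S : Sylow 2 G) : (S : Subgroup G) ≠ T := by
  by_cases h : (⟨t, F.tT⟩ : ↥T) ∈ commutator ↥T
  · exact not_sylow_B F hG2 h S
  · exact F.frame.not_sylow' hG h S

/-- **The output of the front end.** -/
theorem main [Finite G] (F : Facts K t q z T) (hG : commutator G = ⊤)
    (hG2 : ∀ H : Subgroup G, H.index ≠ 2) :
    TR.Frame t z T ∧
    ∃ S : Sylow 2 G, T < (S : Subgroup G) ∧ (∀ s ∈ (S : Subgroup G), s * z = z * s) ∧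
      (∃ x ∈ (S : Subgroup G), x ∈ normalizer (T : Set G) ∧ x ∉ T ∧ x * t * x⁻¹ = t * z ∧
        x * z * x⁻¹ = z) ∧
      (∀ g, g * t * g⁻¹ ≠ z) ∧
      (⟨t, mem_centralizer_singleton_iff.2 F.frame.comm⟩ : centralizer ({z} : Set G)) ∈
        commutator (centralizer ({z} : Set G)) := by
  have Fr := F.frame
  obtain ⟨S, hS⟩ := F.pT.exists_le_sylow
  have hlt : T < (S : Subgroup G) := lt_of_le_of_ne hS fun h => not_sylow F hG hG2 S h.symm
  obtain ⟨x, hxS, hxN, hxT, hxt, hxz⟩ := Fr.exists_swap S hlt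
  have hnc := Fr.not_conj S hlt
  have hnc2 : ∀ g, g * (t * z) * g⁻¹ ≠ z := by
    intro g hg
    apply hnc (g * x)
    calc g * x * t * (g * x)⁻¹ = g * (x * t * x⁻¹) * g⁻¹ := by group
      _ = z := by rw [hxt]; exact hg
  exact ⟨Fr, S, hlt, Fr.z_central S hlt, ⟨x, hxS, hxN, hxT, hxt, hxz⟩, hnc,
    TFormula.mem_commutator hG Fr.tt T Fr.pT Fr.tc Fr.zc Fr.comm
      (fun g hg => Fr.unique_of_not_conj hnc hnc2 g hg)⟩

end Cfsg.Agent.OddHalf.D6.RThree.CycW

end

-- merged: Cfsg.Agent.OddHalf.D6.RThree.Front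
section

/-!
# ODD half, D6, `L₃(3)`, `U₃(3)`: from the facts on `K` to the position (helper783)

`Emb K t q z Q`: the start and the facts on `K`; `Emb.facts`: the hypotheses of the front end `CycW`.
-/

set_option autoImplicit false

namespace Cfsg.Agent.OddHalf.D6.RThree.Front

open Subgroup Cfsg Cfsg.Agent.OddHalf.Front.FE Cfsg.Agent.OddHalf.Front Cfsg.Agent.OddHalf.D8.GlueE
open Cfsg.Agent.OddHalf.Front.Cyclic (mem_M KQ conjK conjK')


/-! ### on `K` -/

section K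

variable {K : Type*} [Group K] {z : K} {Q : Subgroup K}

theorem zQ' (h : Facts.One z Q) {q : K} (hq : q ∈ Q) : q * z = z * q := by
  by_cases h1 : q = 1
  · rw [h1, one_mul, mul_one]
  by_cases h2 : q = z
  · rw [h2]
  · rw [← h.sq q hq h1 h2, mul_assoc]

theorem nQ (h : Facts.One z Q) {x : K} (hx : x * z = z * x) : ∀ q ∈ Q, x * q * x⁻¹ ∈ Q := by
  intro q hq
  exact h.aut (MulAut.conj x) (by rw [MulAut.conj_apply, hx, mul_inv_cancel_right]) q hq

theorem pQ (h : Facts.One z Q) : IsPGroup 2 Q :=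
  IsPGroup.of_card (n := 3) (by rw [h.card]; norm_num)

theorem exists_ne (h : Facts.One z Q) : ∃ q ∈ Q, q ≠ 1 ∧ q ≠ z := by
  classical
  by_contra hcon
  push Not at hcon
  have : Finite Q := Nat.finite_of_card_ne_zero (by rw [h.card]; norm_num)
  have h1 : (Q : Set K) ⊆ ({1, z} : Set K) := by
    intro x hx
    by_cases hx1 : x = 1
    · exact Or.inl hx1
    · exact Or.inr (hcon x hx hx1)
  have h2 : Nat.card Q ≤ 2 := by
    have := Set.ncard_le_ncard h1 (Set.toFinite _)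
    exact this.trans ((Set.ncard_insert_le _ _).trans (by rw [Set.ncard_singleton]))
  rw [h.card] at h2
  omega

theorem zJ (h : Facts.One z Q) : z ∈ Facts.J z := by
  obtain ⟨a, haz, hao, ha⟩ := h.ex
  obtain ⟨q, hq, hq1, hqz⟩ := exists_ne h
  set r := a * q * a⁻¹ with hr
  have hrQ : r ∈ Q := nQ h haz q hq
  have hne := ha q hq hq1 hqz
  have hai : a⁻¹ * z = z * a⁻¹ := (Commute.inv_left (show Commute a z from haz)).eq
  have hqai : (q * a⁻¹ * q⁻¹) * z = z * (q * a⁻¹ * q⁻¹) := by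
    have c1 : Commute q z := zQ' h hq
    have c2 : Commute a⁻¹ z := hai
    exact ((c1.mul_left c2).mul_left c1.inv_left).eq
  have h1 : r * q⁻¹ ∈ Facts.J z := by
    have e : r * q⁻¹ = a * (q * a⁻¹ * q⁻¹) := by rw [hr]; group
    rw [e]
    refine mul_mem (subset_closure ⟨haz, hao⟩) (subset_closure ⟨hqai, ?_⟩)
    have : orderOf (q * a⁻¹ * q⁻¹) = orderOf a⁻¹ :=
      orderOf_injective (MulAut.conj q).toMonoidHom (MulAut.conj q).injective a⁻¹
    rw [this, orderOf_inv]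
    exact hao
  have h2 : r * q⁻¹ ≠ 1 := by
    intro e
    apply hne
    rw [mul_inv_eq_one] at e
    show q * r = r * q
    rw [e]
  have h3 : r * q⁻¹ ≠ z := by
    intro e
    apply hne
    rw [mul_inv_eq_iff_eq_mul] at e
    show q * r = r * q
    rw [e, ← mul_assoc, zQ' h hq]
  have h4 := mul_mem h1 h1
  rwa [h.sq _ (Q.mul_mem hrQ (Q.inv_mem hq)) h2 h3] at h4

/-- a Sylow subgroup of `K` inside `C_K(z)` -/
theorem exists_sylow [Finite K] (h : Facts.One z Q) :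
    ∃ S : Subgroup K, IsPGroup 2 S ∧ (∀ x ∈ S, x * z = z * x) ∧ Q ≤ S ∧
      (∀ P : Subgroup K, IsPGroup 2 P → S ≤ P → P ≤ S) ∧
      ∀ p : K, p * z = z * p → IsPGroup 2 (zpowers p) → ∃ c : K, c * z = z * c ∧ c * p * c⁻¹ ∈ S := by
  have : Fact (Nat.Prime 2) := ⟨Nat.prime_two⟩
  set C := centralizer ({z} : Set K) with hC
  have hRC : Q ≤ C := fun r hr => mem_centralizer_singleton_iff.2 (zQ' h hr)
  obtain ⟨P, hP⟩ := ((pQ h).comap_of_injective C.subtype C.subtype_injective).exists_le_sylow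
  refine ⟨(P : Subgroup C).map C.subtype, P.isPGroup'.map _, ?_, ?_, ?_, ?_⟩
  · rintro _ ⟨y, -, rfl⟩
    exact mem_centralizer_singleton_iff.1 y.2
  · intro r hr
    exact ⟨⟨r, hRC hr⟩, hP hr, rfl⟩
  · intro Q' hQ hle
    have h1 : Nat.card ((P : Subgroup C).map C.subtype) = Nat.card (P : Subgroup C) :=
      Nat.card_congr ((P : Subgroup C).equivMapOfInjective _ C.subtype_injective).toEquiv.symm
    have h2 : Nat.card Q' ≤ Nat.card (P : Subgroup C) := by
      obtain ⟨Q'', hQ'⟩ := hQ.exists_le_sylow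
      have h3 : Nat.card Q' ≤ Nat.card Q'' := Nat.card_le_card_of_injective _ (inclusion_injective hQ')
      have h4 : Nat.card Q'' = Nat.card (P : Subgroup C) := by
        have h5 := Q''.card_eq_multiplicity
        have h6 := P.card_eq_multiplicity
        have h7 : (Nat.card K).factorization 2 = (Nat.card C).factorization 2 := by
          have h8 := C.index_mul_card
          have h11 : Odd C.index := h.odd
          have h9 : C.index ≠ 0 := by
            rintro h0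
            rw [h0] at h11
            exact absurd h11 (by decide)
          have h10 : ¬ 2 ∣ C.index := by
            rw [Nat.odd_iff] at h11
            omega
          rw [← h8, Nat.factorization_mul h9 Nat.card_pos.ne', Finsupp.add_apply,
            Nat.factorization_eq_zero_of_not_dvd h10, zero_add]
        exact h5.trans ((congrArg (2 ^ ·) h7).trans h6.symm)
      omega
    exact (Subgroup.eq_of_le_of_card_ge hle (by omega)).ge
  · intro p hp hpp
    have hpC : p ∈ C := mem_centralizer_singleton_iff.2 hp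
    have h1 : IsPGroup 2 (zpowers (⟨p, hpC⟩ : C)) := by
      have h2 : (zpowers (⟨p, hpC⟩ : C)).map C.subtype = zpowers p := by
        rw [MonoidHom.map_zpowers]; rfl
      have h3 : IsPGroup 2 ((zpowers (⟨p, hpC⟩ : C)).map C.subtype) := by rw [h2]; exact hpp
      intro g
      obtain ⟨k, hk⟩ := h3 ⟨_, ⟨g, g.2, rfl⟩⟩
      have hk' : (((g : C) : K)) ^ 2 ^ k = 1 := congrArg Subtype.val hk
      refine ⟨k, Subtype.ext (Subtype.ext ?_)⟩
      rw [SubmonoidClass.coe_pow, SubmonoidClass.coe_pow, hk']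
      rfl
    obtain ⟨P', hP'⟩ := h1.exists_le_sylow
    obtain ⟨c, hc⟩ := MulAction.exists_smul_eq C P' P
    refine ⟨c, mem_centralizer_singleton_iff.1 c.2, ?_⟩
    have h4 : c * ⟨p, hpC⟩ * c⁻¹ ∈ (P : Subgroup C) := by
      rw [← hc]
      have h5 : (⟨p, hpC⟩ : C) ∈ P' := hP' (mem_zpowers _)
      exact ⟨_, h5, rfl⟩
    exact ⟨_, h4, rfl⟩

end K

/-! ### in `G` -/

universe u

variable {G : Type u} [Group G]

structure Emb (K : Subgroup G) (t q : G) (z : K) (Q : Subgroup K) : Prop where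
  st : Start K t q
  f : Facts.One z Q

variable {K : Subgroup G} {t q : G} {z : K} {Q : Subgroup K}

namespace Emb

theorem tK (h : Emb K t q z Q) : t ∉ K := fun h1 => h.st.t1 (h.st.cen t h1 fun y hy => h.st.Kt y hy)

theorem comm (h : Emb K t q z Q) : t * (z : G) = z * t := (h.st.Kt z z.2).symm

/-- `Z(K) = 1` -/
theorem cen (h : Emb K t q z Q) {x : K} (hx : MulAut.conj x = 1) : x = 1 := by
  apply Subtype.ext
  apply h.st.cen x x.2
  intro y hy
  have h1 := congrArg Subtype.val (DFunLike.congr_fun hx ⟨y, hy⟩)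
  have h2 : (x : G) * y * (x : G)⁻¹ = y := h1
  rw [mul_inv_eq_iff_eq_mul] at h2
  exact h2.symm

/-- elements of odd order of `C(t)` -/
theorem mem_of_odd (h : Emb K t q z Q) {g : G} (hg : g * t = t * g) (ho : Odd (orderOf g)) : g ∈ K := by
  have hinn : (MulAut.conj : K →* MulAut K).range.Normal := OfSheet.inn_normal K
  set I : Subgroup (MulAut K) := (MulAut.conj : K →* MulAut K).range with hI
  set α : MulAut K := K.normalizerMonoidHom ⟨g, h.st.nK g hg⟩ with hα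
  have h2 : α * α ∈ I := by
    rcases (Nat.dvd_prime Nat.prime_two).1 h.f.out with h1 | h1
    · have h3 : I = ⊤ := Subgroup.index_eq_one.1 h1
      rw [h3]; exact mem_top _
    · exact mul_self_mem_of_index_two h1 α
  have hgg : (g * g) * t = t * (g * g) := by
    have c1 : Commute g t := hg
    exact c1.mul_left c1
  have h3 : g * g ∈ zpowers q ⊔ K := by
    apply OfSheet.mem_of_inn h.st hgg
    have e : K.normalizerMonoidHom ⟨g * g, h.st.nK (g * g) hgg⟩ = α * α := by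
      rw [hα, ← map_mul]; rfl
    rw [e]; exact h2
  obtain ⟨n, hn⟩ := ho
  have h4 : g = (g * g) ^ (n + 1) := by
    have h5 : g ^ (2 * n + 1) = 1 := by rw [← hn]; exact pow_orderOf_eq_one g
    calc g = g ^ (2 * n + 1) * g := by rw [h5, one_mul]
      _ = g ^ (2 * (n + 1)) := by rw [← pow_succ]; congr 1
      _ = (g * g) ^ (n + 1) := by rw [pow_mul, pow_two]
  have h5 : g ∈ zpowers q ⊔ K := by
    rw [h4]; exact pow_mem h3 _
  obtain ⟨a, ha, k, hk, e⟩ := (mem_M h.st.toStart0).1 h5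
  have hak : Commute a k := (h.st.QK a ha k hk).symm
  have h6 : a ^ (2 * n + 1) * k ^ (2 * n + 1) = 1 := by
    rw [← hak.mul_pow, ← e, ← hn, pow_orderOf_eq_one]
  have h7 : a ^ (2 * n + 1) = 1 := by
    apply KQ h.st
    · have : a ^ (2 * n + 1) = (k ^ (2 * n + 1))⁻¹ := eq_inv_of_mul_eq_one_left h6
      rw [this]; exact K.inv_mem (K.pow_mem hk _)
    · exact pow_mem ha _
  have h8 : a = 1 := by
    obtain ⟨m, hm⟩ := h.st.pQ ⟨a, ha⟩
    have hm' : a ^ 2 ^ m = 1 := congrArg Subtype.val hm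
    have hcop : Nat.Coprime (2 ^ m) (2 * n + 1) := by
      apply Nat.Coprime.pow_left
      rw [Nat.coprime_two_left]
      exact ⟨n, rfl⟩
    have h9 : orderOf a ∣ Nat.gcd (2 ^ m) (2 * n + 1) :=
      Nat.dvd_gcd (orderOf_dvd_of_pow_eq_one hm') (orderOf_dvd_of_pow_eq_one h7)
    rw [hcop] at h9
    exact orderOf_eq_one_iff.1 (Nat.dvd_one.1 h9)
  rw [e, h8, one_mul]; exact hk

/-- the subgroup generated by the elements of odd order of `C(t) ∩ C(z)` -/
def O (t z : G) : Subgroup G := closure {x : G | x * t = t * x ∧ x * z = z * x ∧ Odd (orderOf x)}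

/-- it is the image of `J` -/
theorem O_le (h : Emb K t q z Q) {x : G} (hx : x ∈ O t z) : ∃ y ∈ Facts.J z, (y : G) = x := by
  have h1 : O t z ≤ (Facts.J z).map K.subtype := by
    rw [O, closure_le]
    rintro x ⟨hxt, hxz, hxo⟩
    have hxK := h.mem_of_odd hxt hxo
    refine ⟨⟨x, hxK⟩, subset_closure ⟨Subtype.ext hxz, ?_⟩, rfl⟩
    show Odd (orderOf (⟨x, hxK⟩ : K))
    rwa [Subgroup.orderOf_mk]
  obtain ⟨y, hy, e⟩ := h1 hx
  exact ⟨y, hy, e⟩

theorem J_le (h : Emb K t q z Q) {y : K} (hy : y ∈ Facts.J z) : (y : G) ∈ O t z := by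
  have h3 : (y : G) ∈ (closure {x : K | x * z = z * x ∧ Odd (orderOf x)}).map K.subtype := ⟨y, hy, rfl⟩
  rw [MonoidHom.map_closure] at h3
  refine closure_mono ?_ h3
  rintro _ ⟨x, ⟨hy1, hy2⟩, rfl⟩
  refine ⟨h.st.Kt x x.2, congrArg Subtype.val hy1, ?_⟩
  show Odd (orderOf (x : G))
  rwa [Subgroup.orderOf_coe]

theorem isolated (h : Emb K t q z Q) (g : G)
    (h1 : g * t * g⁻¹ = t ∨ g * t * g⁻¹ = z ∨ g * t * g⁻¹ = t * z)
    (h2 : g * z * g⁻¹ = t ∨ g * z * g⁻¹ = z ∨ g * z * g⁻¹ = t * z) : g * z * g⁻¹ = z := by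
  have hzO : (z : G) ∈ O t z := h.J_le (zJ h.f)
  have h4 : g⁻¹ * z * g ∈ O t z := by
    have h5 : MulAut.conj g⁻¹ (z : G) ∈ (O t z).map (MulAut.conj g⁻¹).toMonoidHom := ⟨z, hzO, rfl⟩
    rw [O, MonoidHom.map_closure] at h5
    have e : MulAut.conj g⁻¹ (z : G) = g⁻¹ * z * g := by rw [MulAut.conj_apply, inv_inv]
    rw [e] at h5
    refine closure_mono ?_ h5
    rintro _ ⟨x, ⟨hxt, hxz, hxo⟩, rfl⟩
    obtain ⟨h6, h7⟩ := QThree.Sit.Loc.norm_cen (g := g⁻¹) (t := t) (z := z) (by rwa [inv_inv]) (by rwa [inv_inv])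
      x hxt hxz
    refine ⟨h6, h7, ?_⟩
    have : orderOf ((MulAut.conj g⁻¹).toMonoidHom x) = orderOf x :=
      orderOf_injective (MulAut.conj g⁻¹).toMonoidHom (MulAut.conj g⁻¹).injective x
    rw [this]; exact hxo
  obtain ⟨y, hyJ, hy⟩ := h.O_le h4
  have h5 : y * y = 1 := by
    apply Subtype.ext
    show (y : G) * y = 1
    rw [hy]
    have h6 : (z : G) * z = 1 := congrArg Subtype.val h.f.zz
    calc g⁻¹ * z * g * (g⁻¹ * z * g) = g⁻¹ * (z * z) * g := by group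
      _ = 1 := by rw [h6]; group
  rcases h.f.jz y hyJ h5 with e | e
  · exfalso
    apply h.f.z1
    apply Subtype.ext
    show (z : G) = 1
    rw [e] at hy
    have h7 : (z : G) = g * (g⁻¹ * z * g) * g⁻¹ := by group
    rw [h7, ← hy]
    show g * 1 * g⁻¹ = 1
    group
  · rw [e] at hy
    have h7 : g * (g⁻¹ * z * g) * g⁻¹ = z := by group
    rwa [← hy] at h7

/-- `CycW.Facts` -/
theorem facts [Finite G] (E : Emb K t q z Q) : ∃ T : Subgroup G, CycW.Facts K t q (z : G) T := by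
  obtain ⟨S0, hS0p, hzc, hRS, hSmax, hSconj⟩ := exists_sylow E.f
  set S : Sylow 2 K :=
    { toSubgroup := S0
      isPGroup' := hS0p
      is_maximal' := fun {Q} hQ hle => le_antisymm (hSmax Q hQ hle) hle } with hS
  set C : Subgroup G := centralizer ({t} : Set G) with hC
  have hKC : K ≤ C := fun x hx => mem_centralizer_singleton_iff.2 (E.st.Kt x hx)
  have hS' : IsPGroup 2 ↥((S : Subgroup K).map K.subtype) := S.isPGroup'.map _
  have hS'C : (S : Subgroup K).map K.subtype ≤ C := by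
    rintro _ ⟨y, -, rfl⟩
    exact hKC y.2
  obtain ⟨TS, hTS⟩ := (hS'.comap_of_injective C.subtype C.subtype_injective).exists_le_sylow
  have hTC : (TS : Subgroup C).map C.subtype ≤ C := by
    rintro _ ⟨y, -, rfl⟩
    exact y.2
  have hpT : IsPGroup 2 ↥((TS : Subgroup C).map C.subtype) := TS.isPGroup'.map _
  have hST : (S : Subgroup K).map K.subtype ≤ (TS : Subgroup C).map C.subtype := by
    intro x hx
    exact ⟨⟨x, hS'C hx⟩, hTS hx, rfl⟩
  have htc : ∀ x ∈ (TS : Subgroup C).map C.subtype, x * t = t * x := fun x hx =>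
    mem_centralizer_singleton_iff.1 (hTC hx)
  have hTK : ∀ x (hx : x ∈ K), x ∈ (TS : Subgroup C).map C.subtype → (⟨x, hx⟩ : K) ∈ S := by
    have h1 : IsPGroup 2 ↥(((TS : Subgroup C).map C.subtype).subgroupOf K) :=
      hpT.comap_of_injective K.subtype K.subtype_injective
    have h2 := S.is_maximal' h1 (fun y hy => mem_subgroupOf.2 (hST ⟨y, hy, rfl⟩))
    intro x hx hxT
    have h3 : (⟨x, hx⟩ : K) ∈ ((TS : Subgroup C).map C.subtype).subgroupOf K := mem_subgroupOf.2 hxT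
    rw [h2] at h3
    exact h3
  have hKT : ∀ x : K, x ∈ S → (x : G) ∈ (TS : Subgroup C).map C.subtype := fun x hx => hST ⟨x, hx, rfl⟩
  refine ⟨(TS : Subgroup C).map C.subtype,
    { toStart := E.st
      pT := hpT
      tc := htc
      max := ?_
      z1 := fun e => E.f.z1 (Subtype.ext e)
      zT := hKT z (hRS E.f.zQ)
      zK := z.2
      zz := congrArg Subtype.val E.f.zz
      zS := ?_
      P1 := ?_
      T1s := ?_
      idx := ?_
      iso := ?_ }⟩
  · intro R hR hle hRt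
    have h1 : IsPGroup 2 ↥(R.subgroupOf C) := hR.comap_of_injective C.subtype C.subtype_injective
    have h2 := TS.is_maximal' h1 (fun y hy => mem_subgroupOf.2 (hle ⟨y, hy, rfl⟩))
    intro x hx
    have hxC : x ∈ C := mem_centralizer_singleton_iff.2 (hRt x hx)
    have h3 : (⟨x, hxC⟩ : C) ∈ R.subgroupOf C := mem_subgroupOf.2 hx
    rw [h2] at h3
    exact ⟨⟨x, hxC⟩, h3, rfl⟩
  · intro x hxT hxK
    exact congrArg Subtype.val (hzc ⟨x, hxK⟩ (hTK x hxK hxT))
  · intro y hyT hyK hyy hy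
    set y' : K := ⟨y, hyK⟩ with hy'
    have hyy' : y' * y' = 1 := Subtype.ext hyy
    have h1 : Facts.Triv Q (MulAut.conj y') := by
      intro r hr
      rw [MulAut.conj_apply]
      have h2 : r * y' = y' * r := Subtype.ext (hy r (hKT r (hRS hr)) r.2)
      rw [← h2, mul_inv_cancel_right]
    rcases E.f.k1 _ h1 with h2 | h2 | h2
    · exact Or.inl (congrArg Subtype.val (E.cen h2))
    · right
      have h3 : y' * z⁻¹ = 1 := by
        apply E.cen
        rw [map_mul, h2, ← map_mul, mul_inv_cancel, map_one]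
      exact congrArg Subtype.val (mul_inv_eq_one.1 h3)
    · exfalso
      apply E.f.z1
      apply E.cen
      rw [← h2, ← map_mul, hyy', map_one]
  · intro y hyt hy2 hy
    apply OfSheet.mem_of_inn E.st hyt
    set α := K.normalizerMonoidHom ⟨y, E.st.nK y hyt⟩ with hα
    have hαS : ∀ x ∈ S, α x = x := by
      intro x hx
      apply Subtype.ext
      rw [nmh_apply, ← hy x (hKT x hx) x.2]
      group
    by_contra hcon
    obtain ⟨p, hpz, hp2, hpi⟩ := E.f.exp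
    obtain ⟨c, hcz, hcS⟩ := hSconj p hpz hp2
    refine E.f.k5 α (fun r hr => hαS r (hRS hr)) hcon (c * p * c⁻¹) ?_ ?_ ?_ (hαS _ hcS)
    · have c1 : Commute c z := hcz
      have c2 : Commute p z := hpz
      exact ((c1.mul_left c2).mul_left c1.inv_left).eq
    · have e : zpowers (c * p * c⁻¹) = (zpowers p).map (MulAut.conj c).toMonoidHom := by
        rw [MonoidHom.map_zpowers]; rfl
      rw [e]
      exact hp2.map _
    · rintro ⟨r, hr, h1⟩
      apply hpi
      have hci : c⁻¹ * z = z * c⁻¹ := (Commute.inv_left (show Commute c z from hcz)).eq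
      refine ⟨c⁻¹ * r * c, ?_, ?_⟩
      · have := nQ E.f hci r hr
        rwa [inv_inv] at this
      · intro s hs
        have h2 := h1 (c * s * c⁻¹) (nQ E.f hcz s hs)
        rw [MulAut.conj_apply] at h2 ⊢
        calc p * s * p⁻¹ = c⁻¹ * (c * p * c⁻¹ * (c * s * c⁻¹) * (c * p * c⁻¹)⁻¹) * c := by group
          _ = c⁻¹ * (r * (c * s * c⁻¹) * r⁻¹) * c := by rw [h2]
          _ = c⁻¹ * r * c * s * (c⁻¹ * r * c)⁻¹ := by group
  · intro a ha b hb haM hbM
    refine OfSheet.idx_of_out E.st ?_ hpT htc ha hb haM hbM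
    intro h4
    have h5 := h4.trans E.f.out
    omega
  · intro g h1 h2
    exact E.isolated g h1 h2

/-- an element of `C(t) ∩ C(Q)` -/
theorem triv (E : Emb K t q z Q) {g : G} (hg : g * t = t * g) (hQ : ∀ r ∈ Q, g * r = r * g) :
    Facts.Triv Q (K.normalizerMonoidHom ⟨g, E.st.nK g hg⟩) := by
  intro r hr
  apply Subtype.ext
  rw [nmh_apply, hQ r hr]
  group

/-- it is a product of an element of `⟨q⟩` and an element inducing an automorphism `α` -/
theorem cases (E : Emb K t q z Q) {g : G} (hg : g * t = t * g) (hQ : ∀ r ∈ Q, g * r = r * g) :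
    g ∈ zpowers q ∨ (z : G)⁻¹ * g ∈ zpowers q ∨ (z : G)⁻¹ * (g * g) ∈ zpowers q := by
  have hgg : (g * g) * t = t * (g * g) := by
    have c1 : Commute g t := hg
    exact c1.mul_left c1
  have key : ∀ (g : G) (hg : g * t = t * g) (k : K), K.normalizerMonoidHom ⟨g, E.st.nK g hg⟩ = MulAut.conj k →
      (k : G)⁻¹ * g ∈ zpowers q := by
    intro g hg k hk
    apply E.st.cK
    · have h6 := E.st.Kt (k : G)⁻¹ (K.inv_mem k.2)
      calc (k : G)⁻¹ * g * t = (k : G)⁻¹ * (g * t) := by group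
        _ = ((k : G)⁻¹ * t) * g := by rw [hg]; group
        _ = t * ((k : G)⁻¹ * g) := by rw [h6]; group
    · exact exists_of_conj (E.st.nK g hg) hk
  rcases E.f.k1 _ (E.triv hg hQ) with h1 | h1 | h1
  · left
    have := key g hg 1 (by rw [h1, map_one])
    rwa [OneMemClass.coe_one, inv_one, one_mul] at this
  · right; left
    exact key g hg z h1
  · right; right
    apply key (g * g) hgg z
    rw [← h1, ← map_mul]
    rfl

end Emb

end Cfsg.Agent.OddHalf.D6.RThree.Front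

end

-- merged: Cfsg.Agent.OddHalf.D6.RThree.Hyp
section

/-!
# ODD half, D6, `L₃(3)`, `U₃(3)`: the hypotheses on `X = C_G(z)` (helper783)

`Hyp z t a Q`; `Emb.hyp`: it holds in `C_G(z)`.
-/

set_option autoImplicit false

namespace Cfsg.Agent.OddHalf.D6.RThree

open Subgroup Cfsg Cfsg.Agent.OddHalf.Front.FE Cfsg.Agent.OddHalf.Front Cfsg.Agent.OddHalf.D8.GlueE
open Cfsg.Agent.OddHalf.D6.QThree.NISide
open Cfsg.Agent.OddHalf.Front.Cyclic (KQ t_mem)

section X

variable {X : Type*} [Group X]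

/-- the subgroup generated by the elements of odd order of `C_X(t)` -/
def JJ (t : X) : Subgroup X := closure {x : X | x * t = t * x ∧ Odd (orderOf x)}

/-- `y ∈ C_X(t) ∩ C_X(Q)` -/
def In (t : X) (Q : Subgroup X) (y : X) : Prop := y * t = t * y ∧ ∀ q ∈ Q, y * q = q * y

/-- the four elements of `⟨t, z⟩` -/
def Four (z t x : X) : Prop := x = 1 ∨ x = z ∨ x = t ∨ x = t * z

/-- the hypotheses on `X = C_G(z)` -/
structure Hyp (z t a : X) (Q : Subgroup X) : Prop where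
  zc : ∀ x : X, x * z = z * x
  zz : z * z = 1
  z1 : z ≠ 1
  tt : t * t = 1
  t1 : t ≠ 1
  tz : t ≠ z
  O : pPrimeCore 2 X = ⊥
  s : Side z t a Q ⊥
  ao : Odd (orderOf a)
  nQ : ∀ g, g * t = t * g → ∀ q ∈ Q, g * q * g⁻¹ ∈ Q
  Y2 : ∀ y, In t Q y → IsPGroup 2 (zpowers y)
  Yom : ∀ y, In t Q y → y * y = 1 → Four z t y
  YJ : ∀ y, In t Q y → ∀ b, b * t = t * b → Odd (orderOf b) → y * b = b * y
  SS : ∀ S : Subgroup X, (∀ y ∈ S, In t Q y) → t ∉ S → t * z ∉ S →
    (∀ y ∈ S, y = 1 ∨ y = z ∨ y * y = z) ∧ Nat.card S ≤ 8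
  sq16 : ∀ S : Subgroup X, (∀ y ∈ S, In t Q y) → (∀ y ∈ S, y * y = 1 ∨ y * y = z) → Nat.card S ≤ 16
  jz : ∀ x ∈ JJ t, x * x = 1 → x = 1 ∨ x = z
  jQ : ∀ x ∈ JJ t, (∀ q ∈ Q, x * q = q * x) → x = 1 ∨ x = z
  com : t ∈ _root_.commutator X
  sw : ∃ s : X, s * t * s⁻¹ = t * z

end X

namespace Front.Emb

universe u

variable {G : Type u} [Group G] {K : Subgroup G} {t q : G} {z : K} {Q : Subgroup K}

/-- a subgroup of `C(t) ∩ C(Q)` maps to the automorphisms trivial on `Q` -/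
noncomputable def toTriv (E : Emb K t q z Q) (S : Subgroup G) (h1 : ∀ y ∈ S, y * t = t * y)
    (h2 : ∀ y ∈ S, ∀ r ∈ Q, y * r = r * y) (y : S) : {α : MulAut K // Facts.Triv Q α} :=
  ⟨K.normalizerMonoidHom ⟨y, E.st.nK y (h1 y y.2)⟩, E.triv (h1 y y.2) (h2 y y.2)⟩

/-- the fibres of `toTriv` -/
theorem toTriv_fib (E : Emb K t q z Q) (S : Subgroup G) (h1 : ∀ y ∈ S, y * t = t * y)
    (h2 : ∀ y ∈ S, ∀ r ∈ Q, y * r = r * y) {x y : S} (hxy : E.toTriv S h1 h2 x = E.toTriv S h1 h2 y) :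
    (x : G)⁻¹ * y ∈ zpowers q := by
  have h3 : K.normalizerMonoidHom ⟨x, E.st.nK x (h1 x x.2)⟩ = K.normalizerMonoidHom ⟨y, E.st.nK y (h1 y y.2)⟩ :=
    congrArg Subtype.val hxy
  apply E.st.cK
  · have c1 : Commute (x : G) t := h1 x x.2
    have c2 : Commute (y : G) t := h1 y y.2
    exact (c1.inv_left.mul_left c2).eq
  · intro k hk
    have h4 := congrArg Subtype.val (DFunLike.congr_fun h3 ⟨k, hk⟩)
    rw [nmh_apply, nmh_apply] at h4
    have h5 : (x : G) * k * (x : G)⁻¹ = y * k * (y : G)⁻¹ := h4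
    calc k * ((x : G)⁻¹ * y) = (x : G)⁻¹ * (x * k * (x : G)⁻¹) * y := by group
      _ = (x : G)⁻¹ * (y * k * (y : G)⁻¹) * y := by rw [h5]
      _ = (x : G)⁻¹ * y * k := by group

theorem card_le_eight [Finite G] (E : Emb K t q z Q) (S : Subgroup G) (h1 : ∀ y ∈ S, y * t = t * y)
    (h2 : ∀ y ∈ S, ∀ r ∈ Q, y * r = r * y) (h3 : ∀ y ∈ S, y ∈ zpowers q → y = 1) : Nat.card S ≤ 8 := by
  have hfin : Finite (MulAut K) := inferInstance
  refine (Nat.card_le_card_of_injective (E.toTriv S h1 h2) ?_).trans E.f.k2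
  intro x y hxy
  have h4 := h3 ((x : G)⁻¹ * y) (S.mul_mem (S.inv_mem x.2) y.2) (E.toTriv_fib S h1 h2 hxy)
  exact Subtype.ext (inv_mul_eq_one.1 h4)

theorem card_le_sixteen [Finite G] (E : Emb K t q z Q) (S : Subgroup G) (h1 : ∀ y ∈ S, y * t = t * y)
    (h2 : ∀ y ∈ S, ∀ r ∈ Q, y * r = r * y) (h3 : ∀ y ∈ S, y ∈ zpowers q → y = 1 ∨ y = t) :
    Nat.card S ≤ 16 := by
  classical
  have hfin : Finite (MulAut K) := inferInstance
  by_cases htS : t ∈ S
  · -- a transversal of `⟨t⟩`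
    have h5 : Nat.card S ≤ Nat.card ({α : MulAut K // Facts.Triv Q α}) * 2 := by
      have h6 : ∀ y : S, ∃ b : Bool, True := fun _ => ⟨true, trivial⟩
      set f := E.toTriv S h1 h2 with hf
      let r : {α : MulAut K // Facts.Triv Q α} → S := fun α => if h : ∃ y, f y = α then h.choose else 1
      have hr : ∀ y : S, f (r (f y)) = f y := by
        intro y
        have h7 : ∃ x, f x = f y := ⟨y, rfl⟩
        have : r (f y) = h7.choose := dif_pos h7
        rw [this]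
        exact h7.choose_spec
      let g : S → {α : MulAut K // Facts.Triv Q α} × Bool := fun y => (f y, decide ((y : G) = r (f y)))
      have hg : Function.Injective g := by
        intro x y hxy
        have e1 : f x = f y := congrArg Prod.fst hxy
        have e2 : decide ((x : G) = r (f x)) = decide ((y : G) = r (f y)) := congrArg Prod.snd hxy
        rw [← e1] at e2
        have key : ∀ w : S, f w = f x → (w : G) = r (f x) ∨ (w : G) = r (f x) * t := by
          intro w hw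
          have h8 : ((r (f x) : S) : G)⁻¹ * w ∈ zpowers q :=
            E.toTriv_fib S h1 h2 ((hr x).trans hw.symm)
          rcases h3 _ (S.mul_mem (S.inv_mem (r (f x)).2) w.2) h8 with h9 | h9
          · exact Or.inl (inv_mul_eq_one.1 h9).symm
          · right
            rw [← h9, mul_inv_cancel_left]
        have e3 : ((x : G) = r (f x)) ↔ ((y : G) = r (f x)) := by simpa using e2
        apply Subtype.ext
        rcases key x rfl with k1 | k1 <;> rcases key y e1.symm with k2 | k2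
        · rw [k1, k2]
        · exact k1.trans (e3.1 k1).symm
        · exact (e3.2 k2).trans k2.symm
        · rw [k1, k2]
      have h9 := Nat.card_le_card_of_injective g hg
      rwa [Nat.card_prod, Nat.card_eq_two_iff.2 ⟨true, false, by decide, by
        ext b; cases b <;> simp⟩] at h9
    have := E.f.k2
    omega
  · refine (E.card_le_eight S h1 h2 ?_).trans (by norm_num)
    intro y hy hyq
    rcases h3 y hy hyq with e | e
    · exact e
    · exact absurd (e ▸ hy) htS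

/-- the image of `Q` in `C_G(z)` -/
def QX (z : K) (Q : Subgroup K) : Subgroup ↥(centralizer ({(z : G)} : Set G)) :=
  (Q.map K.subtype).subgroupOf (centralizer ({(z : G)} : Set G))

theorem mem_QX {x : ↥(centralizer ({(z : G)} : Set G))} : x ∈ QX z Q ↔ ∃ r ∈ Q, (r : G) = x := by
  rw [QX, mem_subgroupOf, mem_map]
  rfl

theorem in_iff (E : Emb K t q z Q) {ht : t ∈ centralizer ({(z : G)} : Set G)}
    {y : ↥(centralizer ({(z : G)} : Set G))} :
    In (⟨t, ht⟩ : centralizer ({(z : G)} : Set G)) (QX z Q) y ↔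
      (y : G) * t = t * y ∧ ∀ r ∈ Q, (y : G) * r = r * y := by
  constructor
  · rintro ⟨h1, h2⟩
    refine ⟨congrArg Subtype.val h1, fun r hr => ?_⟩
    have hrC : (r : G) ∈ centralizer ({(z : G)} : Set G) :=
      mem_centralizer_singleton_iff.2 (congrArg Subtype.val (zQ' E.f hr))
    exact congrArg Subtype.val (h2 ⟨r, hrC⟩ (mem_QX.2 ⟨r, hr, rfl⟩))
  · rintro ⟨h1, h2⟩
    refine ⟨Subtype.ext h1, fun r hr => ?_⟩
    obtain ⟨r', hr', e⟩ := mem_QX.1 hr
    apply Subtype.ext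
    show (y : G) * r = r * y
    rw [← e]
    exact h2 r' hr'

/-- **the hypotheses hold in `C_G(z)`** -/
theorem hyp [Finite G] (E : Emb K t q z Q)
    (hO : pPrimeCore 2 ↥(centralizer ({(z : G)} : Set G)) = ⊥)
    (hcom : (⟨t, mem_centralizer_singleton_iff.2 E.comm⟩ : centralizer ({(z : G)} : Set G)) ∈
      _root_.commutator (centralizer ({(z : G)} : Set G)))
    (hsw : ∃ s : G, s * t * s⁻¹ = t * z ∧ s * z * s⁻¹ = z) :
    ∃ a, Hyp (⟨z, mem_centralizer_singleton_iff.2 rfl⟩ : centralizer ({(z : G)} : Set G))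
      ⟨t, mem_centralizer_singleton_iff.2 E.comm⟩ a (QX z Q) := by
  set X := centralizer ({(z : G)} : Set G) with hX
  have hmX : ∀ {x : G}, x ∈ X ↔ x * z = z * x := fun {x} => mem_centralizer_singleton_iff
  obtain ⟨a, haz, hao, ha⟩ := E.f.ex
  have hzz : (z : G) * z = 1 := congrArg Subtype.val E.f.zz
  have hz1 : (z : G) ≠ 1 := fun e => E.f.z1 (Subtype.ext e)
  have hzK : ∀ y ∈ zpowers q, y ∈ K → y = 1 := fun y hy hyK => KQ E.st hyK hy
  have htz : t ≠ z := fun e => E.tK (e ▸ z.2)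
  have htzc : t * (z : G) = z * t := E.comm
  have htq := E.st.tQ
  have hzinv : (z : G)⁻¹ = z := inv_eq_of_mul_eq_one_right hzz
  have haX : (a : G) ∈ X := hmX.2 (congrArg Subtype.val haz)
  -- elements of `⟨q⟩` with a trivial square
  have hqsq : ∀ y ∈ zpowers q, y * y = 1 → y = 1 ∨ y = t := by
    intro y hy hyy
    by_cases h1 : y = 1
    · exact Or.inl h1
    · exact Or.inr (E.st.uniq hy hyy h1)
  have hzq : (z : G) ∉ zpowers q := fun h => hz1 (hzK _ h z.2)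
  have hJ : ∀ x : X, x ∈ JJ (⟨t, hmX.2 E.comm⟩ : X) → (x : G) ∈ O t (z : G) := by
    intro x hx
    have h3 : (x : G) ∈ (JJ (⟨t, hmX.2 E.comm⟩ : X)).map X.subtype := ⟨x, hx, rfl⟩
    rw [JJ, MonoidHom.map_closure] at h3
    refine closure_mono ?_ h3
    rintro _ ⟨y, ⟨hy1, hy2⟩, rfl⟩
    refine ⟨congrArg Subtype.val hy1, hmX.1 y.2, ?_⟩
    show Odd (orderOf (y : G))
    rwa [Subgroup.orderOf_coe]
  refine ⟨⟨a, haX⟩,
    { zc := fun x => Subtype.ext (hmX.1 x.2)
      zz := Subtype.ext hzz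
      z1 := fun e => hz1 (congrArg Subtype.val e)
      tt := Subtype.ext E.st.tt
      t1 := fun e => E.st.t1 (congrArg Subtype.val e)
      tz := fun e => htz (congrArg Subtype.val e)
      O := hO
      s := ?_
      ao := by rwa [Subgroup.orderOf_mk, Subgroup.orderOf_coe]
      nQ := ?_
      Y2 := ?_
      Yom := ?_
      YJ := ?_
      SS := ?_
      sq16 := ?_
      jz := ?_
      jQ := ?_
      com := hcom
      sw := ?_ }⟩
  · -- `s`
    have hQX : (Q.map K.subtype) ≤ X := by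
      rintro _ ⟨r, hr, rfl⟩
      exact hmX.2 (congrArg Subtype.val (zQ' E.f hr))
    exact
      { card := by
          rw [QX, Nat.card_congr (subgroupOfEquivOfLe hQX).toEquiv, ← E.f.card]
          exact Nat.card_congr (Q.equivMapOfInjective _ K.subtype_injective).toEquiv.symm
        zQ := mem_QX.2 ⟨z, E.f.zQ, rfl⟩
        sq := by
          intro r hr h1 h2
          obtain ⟨r', hr', e⟩ := mem_QX.1 hr
          apply Subtype.ext
          show (r : G) * r = z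
          rw [← e]
          refine congrArg Subtype.val (E.f.sq r' hr' (fun h => h1 ?_) (fun h => h2 ?_))
          · apply Subtype.ext
            rw [← e, h]; rfl
          · apply Subtype.ext
            rw [← e, h]
        ct := by
          intro r hr
          obtain ⟨r', hr', e⟩ := mem_QX.1 hr
          apply Subtype.ext
          show (r : G) * t = t * r
          rw [← e]
          exact E.st.Kt r' r'.2
        a_t := Subtype.ext (E.st.Kt a a.2)
        aQ := by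
          intro r hr
          obtain ⟨r', hr', e⟩ := mem_QX.1 hr
          refine mem_QX.2 ⟨a * r' * a⁻¹, nQ E.f haz r' hr', ?_⟩
          show (a : G) * r' * (a : G)⁻¹ = a * r * (a : G)⁻¹
          rw [e]
        aD := by
          intro d hd
          rw [mem_bot] at hd
          rw [hd, mul_one, one_mul]
        act := by
          intro r hr h1 h2 h3
          obtain ⟨r', hr', e⟩ := mem_QX.1 hr
          refine ha r' hr' (fun h => h1 ?_) (fun h => h2 ?_) (Subtype.ext ?_)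
          · apply Subtype.ext
            rw [← e, h]; rfl
          · apply Subtype.ext
            rw [← e, h]
          · show (r' : G) * (a * r' * (a : G)⁻¹) = a * r' * (a : G)⁻¹ * r'
            rw [e]
            exact congrArg Subtype.val h3 }
  · -- `nQ`
    intro g hg r hr
    obtain ⟨r', hr', e⟩ := mem_QX.1 hr
    have hgt : (g : G) * t = t * g := congrArg Subtype.val hg
    set α := K.normalizerMonoidHom ⟨g, E.st.nK g hgt⟩ with hα
    have hz : α z = z := by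
      apply Subtype.ext
      rw [nmh_apply, hmX.1 g.2, mul_inv_cancel_right]
    refine mem_QX.2 ⟨α r', E.f.aut α hz r' hr', ?_⟩
    rw [nmh_apply, e]
    rfl
  · -- `Y2`
    intro y hy
    obtain ⟨hyt, hyQ⟩ := E.in_iff.1 hy
    have hq2 : ∀ w ∈ zpowers q, ∃ k : ℕ, w ^ 2 ^ k = 1 := by
      intro w hw
      obtain ⟨k, hk⟩ := E.st.pQ ⟨w, hw⟩
      exact ⟨k, congrArg Subtype.val hk⟩
    obtain ⟨k, hk⟩ : ∃ k : ℕ, (y : G) ^ 2 ^ k = 1 := by
      have hyz : Commute (y : G) z := hmX.1 y.2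
      rcases E.cases hyt hyQ with h1 | h1 | h1
      · exact hq2 _ h1
      · obtain ⟨k, hk⟩ := hq2 _ h1
        refine ⟨k + 1, ?_⟩
        have h2 : (z : G)⁻¹ * y = z * y := by rw [hzinv]
        rw [h2, hyz.symm.mul_pow] at hk
        have h3 : ((z : G) ^ 2 ^ k * (y : G) ^ 2 ^ k) ^ 2 = 1 := by rw [hk, one_pow]
        have c1 : Commute ((z : G) ^ 2 ^ k) ((y : G) ^ 2 ^ k) := (hyz.symm.pow_pow _ _)
        rw [c1.mul_pow, ← pow_mul, ← pow_mul, ← pow_succ, pow_succ', pow_mul (z : G), pow_two, hzz, one_pow,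
          one_mul] at h3
        rwa [pow_succ']
      · obtain ⟨k, hk⟩ := hq2 _ h1
        refine ⟨k + 2, ?_⟩
        have hyz2 : Commute ((y : G) * y) z := hyz.mul_left hyz
        have h2 : (z : G)⁻¹ * (y * y) = z * (y * y) := by rw [hzinv]
        rw [h2, hyz2.symm.mul_pow] at hk
        have h3 : ((z : G) ^ 2 ^ k * ((y : G) * y) ^ 2 ^ k) ^ 2 = 1 := by rw [hk, one_pow]
        have c1 : Commute ((z : G) ^ 2 ^ k) (((y : G) * y) ^ 2 ^ k) := (hyz2.symm.pow_pow _ _)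
        rw [c1.mul_pow, ← pow_mul, ← pow_mul, ← pow_succ, pow_succ', pow_mul (z : G), pow_two (z : G), hzz,
          one_pow, one_mul, ← pow_two, ← pow_mul] at h3
        have e : 2 ^ (k + 2) = 2 * (2 * 2 ^ k) := by rw [pow_succ, pow_succ]; ring
        rw [e]
        exact h3
    have h2 : y ^ 2 ^ k = 1 := Subtype.ext hk
    have : Fact (Nat.Prime 2) := ⟨Nat.prime_two⟩
    have h3 : orderOf y ∣ 2 ^ k := orderOf_dvd_of_pow_eq_one h2
    obtain ⟨m, -, hm⟩ := (Nat.dvd_prime_pow Nat.prime_two).1 h3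
    exact IsPGroup.of_card (n := m) (by rw [Nat.card_zpowers, hm])
  · -- `Yom`
    intro y hy hyy
    obtain ⟨hyt, hyQ⟩ := E.in_iff.1 hy
    have hyy' : (y : G) * y = 1 := congrArg Subtype.val hyy
    have hyz : (y : G) * z = z * y := hmX.1 y.2
    rcases E.cases hyt hyQ with h1 | h1 | h1
    · rcases hqsq _ h1 hyy' with e | e
      · exact Or.inl (Subtype.ext e)
      · exact Or.inr (Or.inr (Or.inl (Subtype.ext e)))
    · have h2 : (z : G)⁻¹ * y * ((z : G)⁻¹ * y) = 1 := by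
        rw [hzinv]
        calc (z : G) * y * (z * y) = z * (y * z) * y := by group
          _ = z * (z * y) * y := by rw [hyz]
          _ = (z * z) * (y * y) := by group
          _ = 1 := by rw [hzz, hyy', one_mul]
      rcases hqsq _ h1 h2 with e | e
      · exact Or.inr (Or.inl (Subtype.ext (inv_mul_eq_one.1 e).symm))
      · refine Or.inr (Or.inr (Or.inr (Subtype.ext ?_)))
        show (y : G) = t * z
        rw [htzc, ← e, mul_inv_cancel_left]
    · exfalso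
      rw [hyy', mul_one, hzinv] at h1
      exact hzq h1
  · -- `YJ`
    intro y hy b hbt hbo
    obtain ⟨hyt, hyQ⟩ := E.in_iff.1 hy
    have hbt' : (b : G) * t = t * b := congrArg Subtype.val hbt
    have hbK : (b : G) ∈ K := E.mem_of_odd hbt' (by rwa [Subgroup.orderOf_coe])
    have h1 : (⟨b, hbK⟩ : K) ∈ Facts.J z :=
      subset_closure ⟨Subtype.ext (hmX.1 b.2), by rwa [Subgroup.orderOf_mk, Subgroup.orderOf_coe]⟩
    have h2 := congrArg Subtype.val (E.f.k3 _ (E.triv hyt hyQ) _ h1)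
    rw [nmh_apply] at h2
    have h3 : (y : G) * b * (y : G)⁻¹ = b := h2
    exact Subtype.ext (mul_inv_eq_iff_eq_mul.1 h3)
  · -- `SS`
    intro S hS htS htzS
    have hm : ∀ y ∈ S.map X.subtype, y * t = t * y ∧ ∀ r ∈ Q, y * r = r * y := by
      rintro _ ⟨y, hy, rfl⟩
      exact E.in_iff.1 (hS y hy)
    have hSq : ∀ y ∈ S.map X.subtype, y ∈ zpowers q → y = 1 := by
      rintro _ ⟨y, hy, rfl⟩ hyq
      by_contra hne
      have h1 := t_mem E.st.toStart0 hyq hne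
      obtain ⟨k, hk⟩ := mem_zpowers_iff.1 h1
      apply htS
      have h2 : y ^ k ∈ S := S.zpow_mem hy k
      have h3 : y ^ k = ⟨t, hmX.2 E.comm⟩ := Subtype.ext hk
      rwa [h3] at h2
    constructor
    · intro y hy
      have hyt := (hm y ⟨y, hy, rfl⟩).1
      have hyQ := (hm y ⟨y, hy, rfl⟩).2
      have hyz : (y : G) * z = z * y := hmX.1 y.2
      have hyy : (y : G) * y ∈ S.map X.subtype := ⟨y * y, S.mul_mem hy hy, rfl⟩
      rcases E.cases hyt hyQ with h1 | h1 | h1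
      · exact Or.inl (Subtype.ext (hSq y ⟨y, hy, rfl⟩ h1))
      · right; left
        have h2 : (z : G)⁻¹ * y * ((z : G)⁻¹ * y) = y * y := by
          rw [hzinv]
          calc (z : G) * y * (z * y) = z * (y * z) * y := by group
            _ = z * (z * y) * y := by rw [hyz]
            _ = (z * z) * (y * y) := by group
            _ = y * y := by rw [hzz, one_mul]
        have h3 : (y : G) * y = 1 := hSq _ hyy (by rw [← h2]; exact mul_mem h1 h1)
        rw [h3] at h2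
        rcases hqsq _ h1 h2 with e | e
        · exact Subtype.ext (inv_mul_eq_one.1 e).symm
        · exfalso
          apply htzS
          have h4 : y = ⟨t, hmX.2 E.comm⟩ * ⟨z, hmX.2 rfl⟩ := by
            apply Subtype.ext
            show (y : G) = t * z
            rw [htzc, ← e, mul_inv_cancel_left]
          rwa [← h4]
      · right; right
        -- `y² = z · r`, `r ∈ ⟨q⟩`
        have hyyS : y * y ∈ S := S.mul_mem hy hy
        have h2 : (z : G)⁻¹ * (y * y) * ((z : G)⁻¹ * (y * y)) = (y * y) * (y * y) := by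
          rw [hzinv]
          have c : Commute ((y : G) * y) z := (show Commute (y : G) z from hyz).mul_left hyz
          calc (z : G) * (y * y) * (z * (y * y)) = z * ((y * y) * z) * (y * y) := by group
            _ = z * (z * (y * y)) * (y * y) := by rw [c.eq]
            _ = (z * z) * ((y * y) * (y * y)) := by group
            _ = (y * y) * (y * y) := by rw [hzz, one_mul]
        have h3 : ((y : G) * y) * (y * y) = 1 :=
          hSq _ ⟨(y * y) * (y * y), S.mul_mem hyyS hyyS, rfl⟩ (by rw [← h2]; exact mul_mem h1 h1)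
        rw [h3] at h2
        rcases hqsq _ h1 h2 with e | e
        · exact Subtype.ext (inv_mul_eq_one.1 e).symm
        · exfalso
          apply htzS
          have h4 : y * y = ⟨t, hmX.2 E.comm⟩ * ⟨z, hmX.2 rfl⟩ := by
            apply Subtype.ext
            show (y : G) * y = t * z
            rw [htzc, ← e, mul_inv_cancel_left]
          rwa [← h4]
    · have h1 : Nat.card S = Nat.card (S.map X.subtype) :=
        Nat.card_congr (S.equivMapOfInjective _ X.subtype_injective).toEquiv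
      rw [h1]
      exact E.card_le_eight _ (fun y hy => (hm y hy).1) (fun y hy => (hm y hy).2) hSq
  · -- `sq16`
    intro S hS hsq
    have hm : ∀ y ∈ S.map X.subtype, y * t = t * y ∧ ∀ r ∈ Q, y * r = r * y := by
      rintro _ ⟨y, hy, rfl⟩
      exact E.in_iff.1 (hS y hy)
    have h1 : Nat.card S = Nat.card (S.map X.subtype) :=
      Nat.card_congr (S.equivMapOfInjective _ X.subtype_injective).toEquiv
    rw [h1]
    apply E.card_le_sixteen _ (fun y hy => (hm y hy).1) (fun y hy => (hm y hy).2)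
    rintro _ ⟨y, hy, rfl⟩ hyq
    apply hqsq _ hyq
    rcases hsq y hy with e | e
    · exact congrArg Subtype.val e
    · exfalso
      apply hzq
      have h2 : (y : G) * y = z := congrArg Subtype.val e
      rw [← h2]
      exact mul_mem hyq hyq
  · -- `jz`
    intro x hx hxx
    obtain ⟨y, hyJ, hy⟩ := E.O_le (hJ x hx)
    have h1 : y * y = 1 := by
      apply Subtype.ext
      show (y : G) * y = 1
      rw [hy]
      exact congrArg Subtype.val hxx
    rcases E.f.jz y hyJ h1 with e | e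
    · left
      apply Subtype.ext
      rw [← hy, e]; rfl
    · right
      apply Subtype.ext
      rw [← hy, e]
  · -- `jQ`
    intro x hx hxQ
    obtain ⟨y, hyJ, hy⟩ := E.O_le (hJ x hx)
    have h1 : ∀ r ∈ Q, y * r = r * y := by
      intro r hr
      have hrC : (r : G) ∈ X := hmX.2 (congrArg Subtype.val (zQ' E.f hr))
      have h2 := congrArg Subtype.val (hxQ ⟨r, hrC⟩ (mem_QX.2 ⟨r, hr, rfl⟩))
      apply Subtype.ext
      show (y : G) * r = r * y
      rw [hy]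
      exact h2
    rcases E.f.jQ y hyJ h1 with e | e
    · left
      apply Subtype.ext
      rw [← hy, e]; rfl
    · right
      apply Subtype.ext
      rw [← hy, e]
  · -- `sw`
    obtain ⟨s, h1, h2⟩ := hsw
    exact ⟨⟨s, hmX.2 (mul_inv_eq_iff_eq_mul.1 h2)⟩, Subtype.ext h1⟩

end Front.Emb

end Cfsg.Agent.OddHalf.D6.RThree

end

-- merged: Cfsg.Agent.OddHalf.D6.RThree.Rad
section

/-!
# ODD half, D6, `L₃(3)`, `U₃(3)`: the normal 2-subgroups of `C_X(t)` (helper783)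

`Hyp.rad`: they lie in `Q Y`, `Y = C_X(t) ∩ C(Q)`.
-/

set_option autoImplicit false

namespace Cfsg.Agent.OddHalf.D6.RThree

open Subgroup Cfsg
open Cfsg.Agent.OddHalf.D6.QThree.NISide

variable {X : Type*} [Group X] {z t a : X} {Q : Subgroup X}

namespace Hyp

theorem zinv (h : Hyp z t a Q) : z⁻¹ = z := inv_eq_of_mul_eq_one_right h.zz

theorem mem_zp (h : Hyp z t a Q) {x : X} : x ∈ zpowers z ↔ x = 1 ∨ x = z := by
  constructor
  · intro hx
    obtain ⟨k, rfl⟩ := mem_zpowers_iff.1 hx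
    rcases Int.even_or_odd k with ⟨m, rfl⟩ | ⟨m, rfl⟩
    · left
      rw [← two_mul, zpow_mul, zpow_ofNat, pow_two, h.zz, one_zpow]
    · right
      rw [zpow_add, zpow_mul, zpow_ofNat, pow_two, h.zz, one_zpow, one_mul, zpow_one]
  · rintro (rfl | rfl)
    · exact one_mem _
    · exact mem_zpowers _

theorem zn (h : Hyp z t a Q) : (zpowers z).Normal := by
  refine ⟨fun n hn g => ?_⟩
  have h1 : g * n * g⁻¹ = n := by
    rcases h.mem_zp.1 hn with rfl | rfl
    · rw [mul_one, mul_inv_cancel]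
    · rw [h.zc g, mul_inv_cancel_right]
  rw [h1]; exact hn

/-- commuting modulo `⟨z⟩` -/
theorem mod_iff (h : Hyp z t a Q) [hn : (zpowers z).Normal] {x y : X} :
    QuotientGroup.mk' (zpowers z) x * QuotientGroup.mk' (zpowers z) y =
      QuotientGroup.mk' (zpowers z) y * QuotientGroup.mk' (zpowers z) x ↔
    x * y * x⁻¹ = y ∨ x * y * x⁻¹ = y * z := by
  rw [← map_mul, ← map_mul]
  have e0 : QuotientGroup.mk' (zpowers z) (x * y) = QuotientGroup.mk' (zpowers z) (y * x) ↔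
      (y * x)⁻¹ * (x * y) = 1 ∨ (y * x)⁻¹ * (x * y) = z := by
    rw [eq_comm, ← h.mem_zp]
    exact QuotientGroup.eq
  rw [e0]
  constructor
  · rintro (e | e)
    · left
      have e1 : x * y = y * x := (inv_mul_eq_one.1 e).symm
      rw [e1, mul_inv_cancel_right]
    · right
      have e1 : x * y = y * x * z := by rw [← e]; group
      rw [e1, mul_assoc (y * x), ← h.zc x⁻¹, ← mul_assoc, mul_inv_cancel_right]
  · rintro (e | e)
    · left
      rw [inv_mul_eq_one]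
      exact (mul_inv_eq_iff_eq_mul.1 e).symm
    · right
      have e1 : x * y = y * z * x := mul_inv_eq_iff_eq_mul.1 e
      rw [e1, mul_assoc y z x, ← h.zc x]
      group

/-- a 2-group acting on `Q` fixes an element of order 4 of `Q` modulo `⟨z⟩` -/
theorem exists_fixed [Finite X] (h : Hyp z t a Q) {W : Subgroup X} (hW : IsPGroup 2 W)
    (hWQ : ∀ w ∈ W, ∀ q ∈ Q, w * q * w⁻¹ ∈ Q) :
    ∃ q ∈ Q, q ≠ 1 ∧ q ≠ z ∧ ∀ w ∈ W, w * q * w⁻¹ = q ∨ w * q * w⁻¹ = q * z := by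
  have : Fact (Nat.Prime 2) := ⟨Nat.prime_two⟩
  have hzn := h.zn
  set π := QuotientGroup.mk' (zpowers z) with hπ
  have hWn : W ≤ normalizer (Q : Set X) := by
    intro w hw
    rw [mem_normalizer_iff]
    intro q
    refine ⟨fun hq => hWQ w hw q hq, fun hq => ?_⟩
    have h1 := hWQ w⁻¹ (W.inv_mem hw) _ hq
    have e : w⁻¹ * (w * q * w⁻¹) * w⁻¹⁻¹ = q := by group
    rwa [e] at h1
  have hP : IsPGroup 2 ↥(W ⊔ Q : Subgroup X) := IsPGroup.to_sup_of_normal_right' hW h.s.pQ hWn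
  set P : Subgroup (X ⧸ zpowers z) := (W ⊔ Q).map π with hPd
  have hPp : IsPGroup 2 P := hP.map π
  set V : Subgroup P := (Q.map π).subgroupOf P with hV
  have hQP : Q.map π ≤ P := map_mono le_sup_right
  have hVn : V.Normal := by
    refine ⟨?_⟩
    rintro ⟨_, x, hx, rfl⟩ hn ⟨_, g, hg, rfl⟩
    rw [hV, mem_subgroupOf] at hn ⊢
    obtain ⟨q, hq, e⟩ := hn
    have hg' : g ∈ normalizer (Q : Set X) := (sup_le hWn le_normalizer) hg
    refine ⟨g * q * g⁻¹, (mem_normalizer_iff.1 hg' q).1 hq, ?_⟩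
    rw [map_mul, map_mul, map_inv, e]
    rfl
  obtain ⟨i, hi, hi1, hiz⟩ := h.s.exists_ne
  have hker : ∀ {x : X}, π x = 1 ↔ x = 1 ∨ x = z := by
    intro x
    rw [← MonoidHom.mem_ker, hπ, QuotientGroup.ker_mk', h.mem_zp]
  have hVne : V ≠ ⊥ := by
    intro e
    have h1 : (⟨π i, hQP ⟨i, hi, rfl⟩⟩ : P) ∈ V := mem_subgroupOf.2 ⟨i, hi, rfl⟩
    rw [e, mem_bot] at h1
    rcases hker.1 (congrArg Subtype.val h1) with e1 | e1
    · exact hi1 e1
    · exact hiz e1
  have hnil : Group.IsNilpotent P := hPp.isNilpotent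
  have h2 := Cfsg.Agent.Lib.NormalAbelian.normal_inf_center_ne_bot V hVne
  obtain ⟨v, hv1⟩ := Subgroup.ne_bot_iff_exists_ne_one.1 h2
  obtain ⟨q, hq, hqv⟩ := mem_subgroupOf.1 (mem_inf.1 v.2).1
  have hvne : π q ≠ 1 := by
    intro e
    apply hv1
    apply Subtype.ext
    apply Subtype.ext
    show (((v : P)) : X ⧸ zpowers z) = 1
    rw [← hqv, e]
  refine ⟨q, hq, fun e => hvne (by rw [e, map_one]), fun e => hvne (hker.2 (Or.inr e)), ?_⟩
  intro w hw
  rw [← h.mod_iff]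
  have hwP : π w ∈ P := ⟨w, (le_sup_left : W ≤ W ⊔ Q) hw, rfl⟩
  have h3 := congrArg Subtype.val (mem_center_iff.1 (mem_inf.1 v.2).2 ⟨π w, hwP⟩)
  have h4 : π w * ((v : P) : X ⧸ zpowers z) = (v : P) * π w := h3
  rw [← hqv] at h4
  exact h4

/-- **normal 2-subgroups of `C_X(t)`** -/
theorem rad [Finite X] (h : Hyp z t a Q) {N : Subgroup X} (hNt : ∀ n ∈ N, n * t = t * n) (hN : IsPGroup 2 N)
    (hNn : ∀ g, g * t = t * g → ∀ n ∈ N, g * n * g⁻¹ ∈ N) : ∀ n ∈ N, ∃ r ∈ Q, In t Q (n * r) := by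
  have hzn := h.zn
  obtain ⟨q, hq, hq1, hqz, hfix⟩ := h.exists_fixed hN fun w hw => h.nQ w (hNt w hw)
  set j := a * q * a⁻¹ with hj
  have hjQ : j ∈ Q := h.s.aQ q hq
  have hqj : q * j ≠ j * q := h.s.act q hq hq1 hqz
  intro n hn
  have hnj : n * j * n⁻¹ = j ∨ n * j * n⁻¹ = j * z := by
    have hai : a⁻¹ * t = t * a⁻¹ := (Commute.inv_left (show Commute a t from h.s.a_t)).eq
    have h1 := hNn a⁻¹ hai n hn
    have e : n * j * n⁻¹ = a * ((a⁻¹ * n * a⁻¹⁻¹) * q * (a⁻¹ * n * a⁻¹⁻¹)⁻¹) * a⁻¹ := by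
      rw [hj]; group
    rcases hfix _ h1 with h2 | h2
    · left; rw [e, h2]
    · right
      rw [e, h2, hj]
      calc a * (q * z) * a⁻¹ = a * q * (z * a⁻¹) := by group
        _ = a * q * a⁻¹ * z := by rw [← h.zc a⁻¹]; group
  set H : Subgroup X := Q ⊓ (centralizer ({QuotientGroup.mk' (zpowers z) n} : Set (X ⧸ zpowers z))).comap
    (QuotientGroup.mk' (zpowers z)) with hH
  have hmH : ∀ x, x ∈ H ↔ x ∈ Q ∧ (n * x * n⁻¹ = x ∨ n * x * n⁻¹ = x * z) := by
    intro x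
    rw [hH, mem_inf, mem_comap, mem_centralizer_singleton_iff, ← h.mod_iff, eq_comm (a := _ * _)]
  have h1 : Q ≤ H := by
    refine h.s.le_of_two h.zc h.zz h.z1 inf_le_left ((hmH z).2 ⟨h.s.zQ, ?_⟩) ((hmH q).2 ⟨hq, hfix n hn⟩)
      ((hmH j).2 ⟨hjQ, hnj⟩) hqj
    left
    rw [h.zc n, mul_inv_cancel_right]
  obtain ⟨r, hr, hrq⟩ := h.s.exists_inner h.zc h.zz h.z1 (g := n) fun x hx => ((hmH x).1 (h1 hx)).2
  refine ⟨r, hr, ?_, hrq⟩
  have c1 : Commute n t := hNt n hn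
  have c2 : Commute r t := h.s.ct r hr
  exact (c1.mul_left c2).eq

end Hyp

end Cfsg.Agent.OddHalf.D6.RThree

end

private theorem dce_606c68228aac : _root_.True := by
  try have : _root_.True := by simp only [_root_.Cfsg.Agent.OddHalf.D6.RThree.JJ.eq_1]
  try have : _root_.True := by simp only [_root_.Cfsg.Agent.OddHalf.D6.RThree.Front.Emb.O.eq_1]
  try have : _root_.True := by simp only [_root_.Cfsg.Agent.OddHalf.D6.RThree.Front.Emb.QX.eq_1]
  exact _root_.True.intro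
end
end
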